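import Mathlib

set_option autoImplicit false
universe u

namespace Groth.Agent.H23

open IsLocalRing

section
variable {R : Type u} [CommRing R] [IsLocalRing R] [IsNoetherianRing R]

/-- Extend a family of elements of the maximal ideal with linearly independent images in the
cotangent space to a minimal generating family of the maximal ideal. -/
theorem exists_extension {r : ℕ} (x : Fin r → maximalIdeal R)
    (hx : LinearIndependent (ResidueField R) (fun i => (maximalIdeal R).toCotangent (x i))) :
    ∃ (k : ℕ) (y : Fin k → maximalIdeal R),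
      r + k = Module.finrank (ResidueField R) (CotangentSpace R) ∧
      maximalIdeal R =
        Ideal.span (Set.range (fun i => (x i : R)) ∪ Set.range (fun j => (y j : R))) := by
  classical
  set W₀ : Submodule (ResidueField R) (CotangentSpace R) :=
    Submodule.span (ResidueField R) (Set.range fun i => (maximalIdeal R).toCotangent (x i)) with hW₀
  have hW₀r : Module.finrank (ResidueField R) W₀ = r := by
    rw [hW₀, finrank_span_eq_card hx, Fintype.card_fin]
  obtain ⟨W', hc⟩ := W₀.exists_isCompl
  refine ⟨Module.finrank (ResidueField R) W', ?_⟩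
  have hsum : r + Module.finrank (ResidueField R) W' =
      Module.finrank (ResidueField R) (CotangentSpace R) := by
    rw [← hW₀r]; exact Submodule.finrank_add_eq_of_isCompl hc
  let c := Module.finBasisOfFinrankEq (ResidueField R) W' rfl
  have hsurj : ∀ j, ∃ y : maximalIdeal R, (maximalIdeal R).toCotangent y = (c j : CotangentSpace R) :=
    fun j => (maximalIdeal R).toCotangent_surjective _
  choose y hy using hsurj
  refine ⟨y, hsum, ?_⟩
  have hW' : Submodule.span (ResidueField R)
      (Set.range fun j => (maximalIdeal R).toCotangent (y j)) = W' := by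
    have h1 : (Set.range fun j => (maximalIdeal R).toCotangent (y j)) =
        W'.subtype '' Set.range c := by
      rw [← Set.range_comp]; congr 1; ext j; simp [hy]
    rw [h1, ← Submodule.map_span, c.span_eq, Submodule.map_top, Submodule.range_subtype]
  have htop : Submodule.span (ResidueField R) ((maximalIdeal R).toCotangent ''
      (Set.range x ∪ Set.range y)) = ⊤ := by
    rw [Set.image_union, ← Set.range_comp, ← Set.range_comp, Submodule.span_union]
    change W₀ ⊔ Submodule.span (ResidueField R)
      (Set.range fun j => (maximalIdeal R).toCotangent (y j)) = ⊤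
    rw [hW', hc.sup_eq_top]
  have htop' := CotangentSpace.span_image_eq_top_iff.mp htop
  have h2 := congrArg (Submodule.map (maximalIdeal R).subtype) htop'
  rw [Submodule.map_span, Submodule.map_top, Submodule.range_subtype, Set.image_union,
    ← Set.range_comp, ← Set.range_comp] at h2
  exact h2.symm

/-- Quotient of a local noetherian ring by part of a generating family of the maximal ideal of
length `dim R`: the quotient is regular of the expected dimension. -/
theorem quotient_regular {r k : ℕ} (x : Fin r → R) (y : Fin k → R)
    (hm : maximalIdeal R = Ideal.span (Set.range x ∪ Set.range y))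
    (hd : ((r + k : ℕ) : WithBot ℕ∞) ≤ ringKrullDim R) :
    IsRegularLocalRing (R ⧸ Ideal.span (Set.range x)) ∧
      ringKrullDim (R ⧸ Ideal.span (Set.range x)) = k := by
  set I := Ideal.span (Set.range x) with hI
  have hIm : I ≤ maximalIdeal R := by rw [hm]; exact Ideal.span_mono Set.subset_union_left
  have hItop : I ≠ ⊤ := fun h => (maximalIdeal.isMaximal R).ne_top (top_le_iff.mp (h ▸ hIm))
  have : Nontrivial (R ⧸ I) := Ideal.Quotient.nontrivial_iff.mpr hItop
  have : IsLocalRing (R ⧸ I) :=
    IsLocalRing.of_surjective' (Ideal.Quotient.mk I) Ideal.Quotient.mk_surjective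
  have : IsLocalHom (Ideal.Quotient.mk I) :=
    IsLocalHom.of_surjective _ Ideal.Quotient.mk_surjective
  have hmap : (maximalIdeal R).map (Ideal.Quotient.mk I) = maximalIdeal (R ⧸ I) := by
    ext z
    obtain ⟨z, rfl⟩ := Ideal.Quotient.mk_surjective z
    simp [sup_eq_left.mpr (le_maximalIdeal hItop)]
  have hmQ : maximalIdeal (R ⧸ I) =
      Ideal.span (Set.range fun j => Ideal.Quotient.mk I (y j)) := by
    rw [← hmap, hm, Ideal.map_span, Set.image_union, ← Set.range_comp, ← Set.range_comp]
    apply le_antisymm
    · rw [Ideal.span_le]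
      rintro _ (⟨i, rfl⟩ | ⟨j, rfl⟩)
      · have : Ideal.Quotient.mk I (x i) = 0 :=
          Ideal.Quotient.eq_zero_iff_mem.mpr (Ideal.subset_span ⟨i, rfl⟩)
        simp [this]
      · exact Ideal.subset_span ⟨j, rfl⟩
    · exact Ideal.span_mono Set.subset_union_right
  have h1 : (maximalIdeal (R ⧸ I)).spanFinrank ≤ k := by
    rw [hmQ]
    refine (Submodule.spanFinrank_span_le_ncard_of_finite (Set.finite_range _)).trans ?_
    rw [← Set.image_univ]
    exact (Set.ncard_image_le Set.finite_univ).trans (by simp)
  have h2 : I.spanFinrank ≤ r := by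
    refine (Submodule.spanFinrank_span_le_ncard_of_finite (Set.finite_range _)).trans ?_
    rw [← Set.image_univ]
    exact (Set.ncard_image_le Set.finite_univ).trans (by simp)
  have hkrull : ringKrullDim R ≤ ringKrullDim (R ⧸ I) + I.spanFinrank :=
    ringKrullDim_le_ringKrullDim_quotient_add_spanFinrank I (by
      rw [IsLocalRing.ringJacobson_eq_maximalIdeal]; exact hIm)
  have h3 : ((r + k : ℕ) : WithBot ℕ∞) ≤ ringKrullDim (R ⧸ I) + (r : ℕ) :=
    hd.trans (hkrull.trans (by gcongr))
  have h4 : (k : WithBot ℕ∞) ≤ ringKrullDim (R ⧸ I) := by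
    rw [Nat.cast_add, add_comm] at h3
    exact ENat.WithBot.add_le_add_natCast_right_iff.mp h3
  have h5 : ringKrullDim (R ⧸ I) ≤ (maximalIdeal (R ⧸ I)).spanFinrank :=
    ringKrullDim_le_spanFinrank_maximalIdeal _
  have h6 : ((maximalIdeal (R ⧸ I)).spanFinrank : WithBot ℕ∞) ≤ k := by exact_mod_cast h1
  exact ⟨IsRegularLocalRing.of_spanFinrank_maximalIdeal_le _ (h6.trans h4),
    le_antisymm (h5.trans h6) h4⟩

end

theorem isDomain_of_bot_isPrime {R : Type u} [CommRing R] [Nontrivial R]
    (h : (⊥ : Ideal R).IsPrime) : IsDomain R := by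
  have : NoZeroDivisors R := ⟨fun {a b} hab => by
    have := h.mem_or_mem (show a * b ∈ (⊥ : Ideal R) from hab)
    simpa using this⟩
  exact NoZeroDivisors.to_isDomain R

theorem noZeroDiv_of_spanFinrank : ∀ (d : ℕ) (R : Type u) [CommRing R] [IsRegularLocalRing R],
    (maximalIdeal R).spanFinrank = d → ∀ a b : R, a * b = 0 → a = 0 ∨ b = 0 := by
  intro d
  induction d with
  | zero =>
    intro R _ _ h0
    have hbot : maximalIdeal R = ⊥ :=
      (Submodule.spanFinrank_eq_zero_iff_eq_bot (maximalIdeal R).fg_of_isNoetherianRing).mp h0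
    have hf : IsField R := IsLocalRing.isField_iff_maximalIdeal_eq.mpr hbot
    have := hf.isDomain
    exact fun a b hab => mul_eq_zero.mp hab
  | succ d ih =>
    intro R _ _ hd
    classical
    have hreg : ((maximalIdeal R).spanFinrank : WithBot ℕ∞) = ringKrullDim R :=
      IsRegularLocalRing.spanFinrank_maximalIdeal
    have hfr : Module.finrank (ResidueField R) (CotangentSpace R) = d + 1 := by
      rw [← spanFinrank_maximalIdeal_eq_finrank_cotangentSpace, hd]
    obtain ⟨x, hxm, hx2, hxmin⟩ : ∃ x ∈ maximalIdeal R, x ∉ maximalIdeal R ^ 2 ∧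
        ∀ P ∈ minimalPrimes R, x ∉ P := by
      by_contra hcon
      push Not at hcon
      have hfin := minimalPrimes.finite_of_isNoetherianRing R
      have hsub : ((maximalIdeal R : Ideal R) : Set R) ⊆
          ⋃ i ∈ ((insert (maximalIdeal R ^ 2) hfin.toFinset : Finset (Ideal R)) : Set (Ideal R)),
            ((fun i : Ideal R => i) i : Set R) := by
        intro z hz
        by_cases hz2 : z ∈ maximalIdeal R ^ 2
        · exact Set.mem_biUnion (by simp) hz2
        · obtain ⟨P, hP, hzP⟩ := hcon z hz hz2
          exact Set.mem_biUnion (by simp [hP]) hzP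
      obtain ⟨J, hJ, hmJ⟩ := (Ideal.subset_union_prime (f := fun i : Ideal R => i)
        (maximalIdeal R ^ 2) (maximalIdeal R ^ 2) (fun i hi h1 _ => by
          have : i ∈ minimalPrimes R := by simpa [h1] using hi
          exact Ideal.IsMinimalPrime.isPrime this)).mp hsub
      rcases Finset.mem_insert.mp hJ with rfl | hJ
      · -- m ≤ m^2
        have hidem : IsIdempotentElem (maximalIdeal R) := by
          change maximalIdeal R * maximalIdeal R = maximalIdeal R
          rw [← pow_two]
          exact le_antisymm (Ideal.pow_le_self two_ne_zero) hmJ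
        have := (maximalIdeal R).cotangent_subsingleton_iff.mpr hidem
        have hF : IsField R := subsingleton_cotangentSpace_iff.mp this
        have h0 : Module.finrank (ResidueField R) (CotangentSpace R) = 0 :=
          finrank_cotangentSpace_eq_zero_iff.mpr hF
        omega
      · have hJmin : J ∈ minimalPrimes R := by simpa using hJ
        have hJprime := Ideal.IsMinimalPrime.isPrime hJmin
        have hJm : maximalIdeal R = J :=
          (maximalIdeal.isMaximal R).eq_of_le hJprime.ne_top hmJ
        have hh : (maximalIdeal R).height = 0 := by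
          rw [Ideal.height_eq_zero_iff, hJm]; exact hJmin
        have hdim : ringKrullDim R = 0 := by
          rw [← IsLocalRing.maximalIdeal_height_eq_ringKrullDim, hh]; rfl
        rw [hdim, hd] at hreg
        exact absurd hreg (by norm_cast)
    let x' : Fin 1 → maximalIdeal R := fun _ => ⟨x, hxm⟩
    have hli : LinearIndependent (ResidueField R)
        (fun i => (maximalIdeal R).toCotangent (x' i)) := by
      rw [linearIndependent_unique_iff]
      intro h0
      exact hx2 ((Ideal.toCotangent_eq_zero _ _).mp h0)
    obtain ⟨k, y, hk, hm⟩ := exists_extension x' hli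
    have hkd : k = d := by omega
    obtain ⟨hQreg, hQdim⟩ := quotient_regular (fun i => (x' i : R)) (fun j => (y j : R)) hm (by
      rw [← hreg, hd]; exact_mod_cast (by omega))
    have hrange : Set.range (fun i : Fin 1 => ((x' i : maximalIdeal R) : R)) = {x} := by
      ext z; simp [x']
    rw [hrange] at hQreg hQdim
    have hμ : (maximalIdeal (R ⧸ Ideal.span {x})).spanFinrank = d := by
      have h1 := hQreg.spanFinrank_maximalIdeal
      rw [hQdim, hkd] at h1
      exact_mod_cast h1
    have hdom0 := ih (R ⧸ Ideal.span {x}) hμ
    have hdom : IsDomain (R ⧸ Ideal.span {x}) := by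
      have : NoZeroDivisors (R ⧸ Ideal.span {x}) := ⟨fun {a b} h => hdom0 a b h⟩
      have : Nontrivial (R ⧸ Ideal.span {x}) := hQreg.toIsLocalRing.toNontrivial
      exact NoZeroDivisors.to_isDomain _
    have hxprime : (Ideal.span {x}).IsPrime := (Ideal.Quotient.isDomain_iff_prime _).mp hdom
    obtain ⟨P, hP, hPx⟩ := Ideal.exists_minimalPrimes_le (I := ⊥) (J := Ideal.span {x}) bot_le
    have hxP : x ∉ P := hxmin P hP
    have hPprime : P.IsPrime := Ideal.IsMinimalPrime.isPrime hP
    have hPle : P ≤ Ideal.span {x} • P := by
      intro z hz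
      obtain ⟨a, rfl⟩ := Ideal.mem_span_singleton'.mp (hPx hz)
      have ha : a ∈ P := (hPprime.mem_or_mem hz).resolve_right hxP
      rw [mul_comm]
      exact Submodule.smul_mem_smul (Ideal.mem_span_singleton_self x) ha
    have hPbot : P = ⊥ :=
      Submodule.eq_bot_of_le_smul_of_le_jacobson_bot (Ideal.span {x}) P
        (IsNoetherian.noetherian P) hPle (by
          rw [IsLocalRing.jacobson_eq_maximalIdeal ⊥ bot_ne_top]
          exact (Ideal.span_singleton_le_iff_mem _).mpr hxm)
    intro a b hab
    have := (hPbot ▸ hPprime : (⊥ : Ideal R).IsPrime).mem_or_mem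
      (show a * b ∈ (⊥ : Ideal R) from hab)
    simpa using this

/-- A regular local ring is a domain. -/
theorem isDomain_of_isRegularLocalRing (R : Type u) [CommRing R] [IsRegularLocalRing R] :
    IsDomain R := by
  have h := noZeroDiv_of_spanFinrank _ R rfl
  have : NoZeroDivisors R := ⟨fun {a b} hab => h a b hab⟩
  exact NoZeroDivisors.to_isDomain R

end Groth.Agent.H23
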