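import Groth.Agent.H23.RegularLocal

set_option autoImplicit false
universe u

namespace Groth.Agent.H23

open IsLocalRing RingTheory.Sequence
open scoped Pointwise

theorem range_append {α : Type*} {m n : ℕ} (u : Fin m → α) (v : Fin n → α) :
    Set.range (Fin.append u v) = Set.range u ∪ Set.range v := by
  ext z
  simp only [Set.mem_union, Set.mem_range]
  constructor
  · rintro ⟨i, rfl⟩
    induction i using Fin.addCases with
    | left i => exact Or.inl ⟨i, (Fin.append_left u v i).symm⟩
    | right j => exact Or.inr ⟨j, (Fin.append_right u v j).symm⟩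
  · rintro (⟨i, rfl⟩ | ⟨j, rfl⟩)
    · exact ⟨Fin.castAdd n i, Fin.append_left u v i⟩
    · exact ⟨Fin.natAdd m j, Fin.append_right u v j⟩

theorem span_singleton_eq_smul_top {R : Type u} [CommRing R] (r : R) :
    (Ideal.span {r} : Submodule R R) = r • (⊤ : Submodule R R) := by
  rw [← Submodule.ideal_span_singleton_smul, Ideal.smul_eq_mul, Ideal.mul_top]

theorem map_mk_maximalIdeal {R : Type u} [CommRing R] [IsLocalRing R] (I : Ideal R)
    [IsLocalRing (R ⧸ I)] :
    (maximalIdeal R).map (Ideal.Quotient.mk I) = maximalIdeal (R ⧸ I) := by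
  haveI : IsLocalHom (Ideal.Quotient.mk I) :=
    IsLocalHom.of_surjective _ Ideal.Quotient.mk_surjective
  apply le_antisymm
  · rw [Ideal.map_le_iff_le_comap]
    intro z hz
    rw [Ideal.mem_comap, mem_maximalIdeal, mem_nonunits_iff]
    rw [mem_maximalIdeal, mem_nonunits_iff] at hz
    exact fun h => hz (isUnit_of_map_unit _ _ h)
  · intro z hz
    obtain ⟨z, rfl⟩ := Ideal.Quotient.mk_surjective z
    apply Ideal.mem_map_of_mem
    rw [mem_maximalIdeal, mem_nonunits_iff] at hz ⊢
    exact fun h => hz (h.map _)

/-- In a regular local ring of dimension `d`, `d` generators of the maximal ideal form a weakly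
regular sequence. -/
theorem weaklyRegular_generators : ∀ (d : ℕ) (R : Type u) [CommRing R] [IsRegularLocalRing R],
    ringKrullDim R = d → ∀ x : Fin d → R, Ideal.span (Set.range x) = maximalIdeal R →
    IsWeaklyRegular R (List.ofFn x) := by
  intro d
  induction d with
  | zero =>
    intro R _ _ _ x _
    rw [List.ofFn_zero]
    exact IsWeaklyRegular.nil R R
  | succ d ih =>
    intro R _ _ hd x hx
    have hdom : IsDomain R := isDomain_of_isRegularLocalRing R
    have hrange : Set.range x = Set.range (fun _ : Fin 1 => x 0) ∪ Set.range (Fin.tail x) := by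
      ext z
      simp only [Set.mem_union, Set.mem_range]
      constructor
      · rintro ⟨i, rfl⟩
        induction i using Fin.cases with
        | zero => exact Or.inl ⟨0, rfl⟩
        | succ j => exact Or.inr ⟨j, rfl⟩
      · rintro (⟨_, rfl⟩ | ⟨j, rfl⟩)
        · exact ⟨0, rfl⟩
        · exact ⟨j.succ, rfl⟩
    obtain ⟨hQreg, hQdim⟩ := quotient_regular (fun _ : Fin 1 => x 0) (Fin.tail x)
      (by rw [← hrange, hx]) (by rw [hd]; exact le_of_eq (by rw [add_comm]))
    rw [Set.range_const] at hQreg hQdim
    have hx0 : x 0 ≠ 0 := by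
      intro h0
      have e : Ideal.span {x 0} = ⊥ := by rw [h0]; exact Ideal.span_singleton_eq_bot.mpr rfl
      have h1 := ringKrullDim_eq_of_ringEquiv
        ((Ideal.quotEquivOfEq e).trans (RingEquiv.quotientBot R))
      rw [hQdim, hd] at h1
      exact absurd h1 (by norm_cast; omega)
    have hreg : IsSMulRegular R (x 0) := by
      intro a b h
      exact mul_left_cancel₀ hx0 (by simpa only [smul_eq_mul] using h)
    haveI := hQreg
    have hmax : Ideal.span (Set.range fun j => Ideal.Quotient.mk (Ideal.span {x 0})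
        (Fin.tail x j)) = maximalIdeal (R ⧸ Ideal.span {x 0}) := by
      rw [← map_mk_maximalIdeal, ← hx, Ideal.map_span, hrange, Set.image_union,
        ← Set.range_comp, ← Set.range_comp]
      apply le_antisymm
      · exact Ideal.span_mono Set.subset_union_right
      · rw [Ideal.span_le]
        rintro _ (⟨i, rfl⟩ | ⟨j, rfl⟩)
        · have : Ideal.Quotient.mk (Ideal.span {x 0}) (x 0) = 0 :=
            Ideal.Quotient.eq_zero_iff_mem.mpr (Ideal.subset_span rfl)
          simp only [Function.comp_apply, this]
          exact Ideal.zero_mem _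
        · exact Ideal.subset_span ⟨j, rfl⟩
    have hW := ih (R ⧸ Ideal.span {x 0}) hQdim
      (fun j => Ideal.Quotient.mk (Ideal.span {x 0}) (Fin.tail x j)) hmax
    have hlist : (List.ofFn (Fin.tail x)).map (algebraMap R (R ⧸ Ideal.span {x 0})) =
        List.ofFn fun j => Ideal.Quotient.mk (Ideal.span {x 0}) (Fin.tail x j) := by
      rw [List.map_ofFn]; rfl
    have hW2 : IsWeaklyRegular (R ⧸ Ideal.span {x 0}) (List.ofFn (Fin.tail x)) :=
      (isWeaklyRegular_map_algebraMap_iff (R ⧸ Ideal.span {x 0}) (R ⧸ Ideal.span {x 0})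
        (List.ofFn (Fin.tail x))).mp (by rw [hlist]; exact hW)
    have e : (R ⧸ Ideal.span {x 0}) ≃ₗ[R] QuotSMulTop (x 0) R :=
      Submodule.quotEquivOfEq _ _ (span_singleton_eq_smul_top (x 0))
    have hW3 : IsWeaklyRegular (QuotSMulTop (x 0) R) (List.ofFn (Fin.tail x)) :=
      (e.isWeaklyRegular_congr _).mp hW2
    rw [List.ofFn_succ]
    exact (isWeaklyRegular_cons_iff R (x 0) _).mpr ⟨hreg, hW3⟩

theorem isRegular_generators (R : Type u) [CommRing R] [IsRegularLocalRing R] (d : ℕ)
    (hd : ringKrullDim R = d) (x : Fin d → R)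
    (hx : Ideal.span (Set.range x) = maximalIdeal R) :
    IsRegular R (List.ofFn x) := by
  refine ⟨weaklyRegular_generators d R hd x hx, ?_⟩
  have h0 : {r | r ∈ List.ofFn x} = Set.range x := by
    ext z; exact List.mem_ofFn
  have h1 : Ideal.ofList (List.ofFn x) = maximalIdeal R := by
    show Ideal.span {r | r ∈ List.ofFn x} = _
    rw [h0, hx]
  rw [h1, Ideal.smul_eq_mul, Ideal.mul_top]
  exact (maximalIdeal.isMaximal R).ne_top.symm

/-- If `R` and `R ⧸ I` are regular local rings then `I` is generated by part of a regular system of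
parameters. -/
theorem exists_generators_of_regular_quotient (R : Type u) [CommRing R] [IsRegularLocalRing R]
    (I : Ideal R) [IsRegularLocalRing (R ⧸ I)] :
    ∃ (c k : ℕ) (x : Fin c → R) (y : Fin k → R),
      ((c + k : ℕ) : WithBot ℕ∞) = ringKrullDim R ∧
      maximalIdeal R = Ideal.span (Set.range x ∪ Set.range y) ∧
      I = Ideal.span (Set.range x) ∧ ringKrullDim (R ⧸ I) = k := by
  classical
  have hItop : I ≠ ⊤ := by
    intro h
    have : Subsingleton (R ⧸ I) := Ideal.Quotient.subsingleton_iff.mpr h
    exact not_subsingleton (R ⧸ I) this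
  have hIm : I ≤ maximalIdeal R := le_maximalIdeal hItop
  obtain ⟨b, hbS, hbspan, hbli⟩ := exists_linearIndependent (ResidueField R)
    ((maximalIdeal R).toCotangent '' {a : maximalIdeal R | (a : R) ∈ I})
  have hbfin : b.Finite := hbli.setFinite
  haveI : Fintype b := hbfin.fintype
  let eb : Fin (Fintype.card b) ≃ b := (Fintype.equivFin b).symm
  have hpre : ∀ i : Fin (Fintype.card b), ∃ a : maximalIdeal R, (a : R) ∈ I ∧
      (maximalIdeal R).toCotangent a = (eb i : CotangentSpace R) := by
    intro i
    obtain ⟨a, ha, hφ⟩ := hbS (eb i).2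
    exact ⟨a, ha, hφ⟩
  choose x hxI hxφ using hpre
  have hli : LinearIndependent (ResidueField R)
      (fun i => (maximalIdeal R).toCotangent (x i)) := by
    have h1 : (fun i => (maximalIdeal R).toCotangent (x i)) =
        (fun v : b => (v : CotangentSpace R)) ∘ eb := by
      funext i; exact hxφ i
    rw [h1]
    exact hbli.comp _ eb.injective
  have hbrange : b = Set.range fun i => (maximalIdeal R).toCotangent (x i) := by
    ext v
    constructor
    · intro hv
      refine ⟨eb.symm ⟨v, hv⟩, ?_⟩
      show (maximalIdeal R).toCotangent (x _) = v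
      rw [hxφ, Equiv.apply_symm_apply]
    · rintro ⟨i, rfl⟩
      show (maximalIdeal R).toCotangent (x i) ∈ b
      rw [hxφ]; exact (eb i).2
  have hSW : (maximalIdeal R).toCotangent '' {a : maximalIdeal R | (a : R) ∈ I} ⊆
      (Submodule.span (ResidueField R)
        (Set.range fun i => (maximalIdeal R).toCotangent (x i)) : Set (CotangentSpace R)) := by
    rw [← hbrange, hbspan]
    exact Submodule.subset_span
  obtain ⟨k', y, hk', hm⟩ := exists_extension x hli
  have hreg : ((maximalIdeal R).spanFinrank : WithBot ℕ∞) = ringKrullDim R :=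
    IsRegularLocalRing.spanFinrank_maximalIdeal
  have hfr : Module.finrank (ResidueField R) (CotangentSpace R) =
      (maximalIdeal R).spanFinrank :=
    (spanFinrank_maximalIdeal_eq_finrank_cotangentSpace R).symm
  have hdimR : ((Fintype.card b + k' : ℕ) : WithBot ℕ∞) = ringKrullDim R := by
    rw [hk', hfr, hreg]
  obtain ⟨hQreg, hQdim⟩ := quotient_regular (fun i => (x i : R)) (fun j => (y j : R)) hm
    hdimR.le
  have hJI : Ideal.span (Set.range fun i => (x i : R)) ≤ I := by
    rw [Ideal.span_le]; rintro _ ⟨i, rfl⟩; exact hxI i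
  -- generators of the maximal ideal of the quotient
  have hfg : Submodule.FG (maximalIdeal (R ⧸ I)) := IsNoetherian.noetherian _
  have hGfin : (Submodule.generators (maximalIdeal (R ⧸ I))).Finite := Submodule.FG.finite_generators hfg
  haveI : Fintype (Submodule.generators (maximalIdeal (R ⧸ I))) := hGfin.fintype
  have hGcard : Fintype.card (Submodule.generators (maximalIdeal (R ⧸ I))) =
      (maximalIdeal (R ⧸ I)).spanFinrank := by
    rw [← Submodule.FG.generators_ncard hfg, Set.ncard_eq_toFinset_card', Set.toFinset_card]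
  have hzex : ∀ g : Submodule.generators (maximalIdeal (R ⧸ I)),
      ∃ z : R, Ideal.Quotient.mk I z = g := fun g => Ideal.Quotient.mk_surjective _
  choose z hz using hzex
  have hzm : ∀ g, z g ∈ maximalIdeal R := by
    intro g
    rw [mem_maximalIdeal, mem_nonunits_iff]
    intro hu
    have h1 : Ideal.Quotient.mk I (z g) ∈ maximalIdeal (R ⧸ I) := by
      rw [hz g]; exact Submodule.FG.generators_mem _ g.2
    rw [mem_maximalIdeal, mem_nonunits_iff] at h1
    exact h1 (hu.map _)
  have h2 : maximalIdeal (R ⧸ I) =
      Ideal.map (Ideal.Quotient.mk I) (Ideal.span (Set.range z)) := by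
    rw [Ideal.map_span, ← Set.range_comp]
    have h3 : Set.range (⇑(Ideal.Quotient.mk I) ∘ z) =
        Submodule.generators (maximalIdeal (R ⧸ I)) := by
      ext v; constructor
      · rintro ⟨g, rfl⟩
        show Ideal.Quotient.mk I (z g) ∈ _
        rw [hz g]; exact g.2
      · intro hv; exact ⟨⟨v, hv⟩, hz ⟨v, hv⟩⟩
    rw [h3]; exact (Submodule.span_generators _).symm
  have hNI : ∀ a : maximalIdeal R, a ∈
      Submodule.span R (Set.range fun g => (⟨z g, hzm g⟩ : maximalIdeal R)) ⊔
        Submodule.comap (maximalIdeal R).subtype I := by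
    rintro ⟨a, ha⟩
    have h1 : Ideal.Quotient.mk I a ∈ maximalIdeal (R ⧸ I) := by
      rw [← map_mk_maximalIdeal I]; exact Ideal.mem_map_of_mem _ ha
    rw [h2] at h1
    obtain ⟨w, hw, hwa⟩ := (Ideal.mem_map_iff_of_surjective _ Ideal.Quotient.mk_surjective).mp h1
    have h3 : Ideal.span (Set.range z) = Submodule.map (maximalIdeal R).subtype
        (Submodule.span R (Set.range fun g => (⟨z g, hzm g⟩ : maximalIdeal R))) := by
      rw [Submodule.map_span, ← Set.range_comp]; rfl
    rw [h3] at hw
    obtain ⟨n, hn, rfl⟩ := hw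
    have h4 : (⟨a, ha⟩ : maximalIdeal R) - n ∈ Submodule.comap (maximalIdeal R).subtype I := by
      rw [Submodule.mem_comap, map_sub, Submodule.subtype_apply, Submodule.subtype_apply]
      show a - (n : R) ∈ I
      rw [← Ideal.Quotient.eq]; exact hwa.symm
    have h5 : (⟨a, ha⟩ : maximalIdeal R) = n + (⟨a, ha⟩ - n) := by abel
    rw [h5]
    exact Submodule.add_mem_sup hn h4
  have key : ∀ n ∈ Submodule.span R (Set.range fun g => (⟨z g, hzm g⟩ : maximalIdeal R)),
      (maximalIdeal R).toCotangent n ∈ Submodule.span (ResidueField R)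
        (Set.range fun g => (maximalIdeal R).toCotangent (⟨z g, hzm g⟩ : maximalIdeal R)) := by
    intro n hn
    induction hn using Submodule.span_induction with
    | mem v hv =>
      obtain ⟨g, rfl⟩ := hv
      exact Submodule.subset_span ⟨g, rfl⟩
    | zero => rw [map_zero]; exact Submodule.zero_mem _
    | add u v _ _ hu hv => rw [map_add]; exact Submodule.add_mem _ hu hv
    | smul r v _ hv => rw [map_smul]; exact Submodule.smul_of_tower_mem _ r hv
  have htop : (⊤ : Submodule (ResidueField R) (CotangentSpace R)) ≤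
      Submodule.span (ResidueField R)
        (Set.range fun g => (maximalIdeal R).toCotangent (⟨z g, hzm g⟩ : maximalIdeal R)) ⊔
      Submodule.span (ResidueField R)
        (Set.range fun i => (maximalIdeal R).toCotangent (x i)) := by
    intro v _
    obtain ⟨a, rfl⟩ := (maximalIdeal R).toCotangent_surjective v
    obtain ⟨n, hn, i, hi, rfl⟩ := Submodule.mem_sup.mp (hNI a)
    rw [map_add]
    exact Submodule.add_mem_sup (key n hn) (hSW ⟨i, hi, rfl⟩)
  have hA : Module.finrank (ResidueField R) (Submodule.span (ResidueField R)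
      (Set.range fun g => (maximalIdeal R).toCotangent (⟨z g, hzm g⟩ : maximalIdeal R))) ≤
      Fintype.card (Submodule.generators (maximalIdeal (R ⧸ I))) :=
    finrank_range_le_card _
  have hW₀ : Module.finrank (ResidueField R) (Submodule.span (ResidueField R)
      (Set.range fun i => (maximalIdeal R).toCotangent (x i))) = Fintype.card b := by
    rw [finrank_span_eq_card hli, Fintype.card_fin]
  have hV : Module.finrank (ResidueField R) (CotangentSpace R) ≤
      Fintype.card (Submodule.generators (maximalIdeal (R ⧸ I))) + Fintype.card b := by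
    calc Module.finrank (ResidueField R) (CotangentSpace R)
        = Module.finrank (ResidueField R)
          (⊤ : Submodule (ResidueField R) (CotangentSpace R)) := (finrank_top _ _).symm
      _ ≤ Module.finrank (ResidueField R) (Submodule.span (ResidueField R)
            (Set.range fun g => (maximalIdeal R).toCotangent (⟨z g, hzm g⟩ : maximalIdeal R)) ⊔
          Submodule.span (ResidueField R)
            (Set.range fun i => (maximalIdeal R).toCotangent (x i)) : Submodule _ _) :=
          Submodule.finrank_mono htop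
      _ ≤ _ := (Submodule.finrank_add_le_finrank_add_finrank _ _).trans
          (add_le_add hA hW₀.le)
  have hkt : k' ≤ (maximalIdeal (R ⧸ I)).spanFinrank := by
    rw [← hGcard]; omega
  have hregI : ((maximalIdeal (R ⧸ I)).spanFinrank : WithBot ℕ∞) = ringKrullDim (R ⧸ I) :=
    IsRegularLocalRing.spanFinrank_maximalIdeal
  have hle : ringKrullDim (R ⧸ I) ≤ k' := by
    rw [← hQdim]
    exact ringKrullDim_le_of_surjective (Ideal.Quotient.factor hJI)
      (Ideal.Quotient.factor_surjective hJI)
  have hdimI : ringKrullDim (R ⧸ I) = k' := by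
    apply le_antisymm hle
    rw [← hregI]; exact_mod_cast hkt
  refine ⟨Fintype.card b, k', fun i => (x i : R), fun j => (y j : R), hdimR, hm, ?_, hdimI⟩
  by_contra hne
  have hlt : ¬ I ≤ Ideal.span (Set.range fun i => (x i : R)) :=
    fun h => hne (le_antisymm h hJI)
  obtain ⟨a, haI, haJ⟩ := Set.not_subset.mp hlt
  haveI := hQreg
  haveI : IsDomain (R ⧸ Ideal.span (Set.range fun i => (x i : R))) :=
    isDomain_of_isRegularLocalRing _
  have ha0 : Ideal.Quotient.mk (Ideal.span (Set.range fun i => (x i : R))) a ≠ 0 :=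
    fun h => haJ (Ideal.Quotient.eq_zero_iff_mem.mp h)
  have h6 := ringKrullDim_quotient_succ_le_of_nonZeroDivisor
    (mem_nonZeroDivisors_of_ne_zero ha0)
  have hfac : ∀ r ∈ Ideal.span
      {Ideal.Quotient.mk (Ideal.span (Set.range fun i => (x i : R))) a},
      Ideal.Quotient.factor hJI r = 0 := by
    intro r hr
    obtain ⟨s, rfl⟩ := Ideal.mem_span_singleton'.mp hr
    rw [map_mul, Ideal.Quotient.factor_mk, Ideal.Quotient.eq_zero_iff_mem.mpr haI, mul_zero]
  have h7 : ringKrullDim (R ⧸ I) ≤ ringKrullDim
      ((R ⧸ Ideal.span (Set.range fun i => (x i : R))) ⧸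
        Ideal.span {Ideal.Quotient.mk (Ideal.span (Set.range fun i => (x i : R))) a}) :=
    ringKrullDim_le_of_surjective (Ideal.Quotient.lift _ (Ideal.Quotient.factor hJI) hfac)
      (Ideal.Quotient.lift_surjective_of_surjective _ _ (Ideal.Quotient.factor_surjective hJI))
  have h8 : ringKrullDim (R ⧸ I) + 1 ≤ (k' : WithBot ℕ∞) := by
    rw [← hQdim]
    exact (add_le_add h7 le_rfl).trans h6
  rw [hdimI] at h8
  have h9 : k' + 1 ≤ k' := by exact_mod_cast h8
  omega

end Groth.Agent.H23
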