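import Mathlib.AlgebraicGeometry.Geometrically.Basic
import Mathlib.AlgebraicGeometry.Geometrically.Irreducible
import Mathlib.AlgebraicGeometry.Geometrically.Connected
import Mathlib.AlgebraicGeometry.PullbackCarrier

set_option autoImplicit false
universe u

namespace Groth.Agent.H23

open AlgebraicGeometry CategoryTheory Limits

/-- `geometrically P` passes to the target of a surjective morphism of `S`-schemes, when `P`
passes to targets of surjective morphisms. -/
theorem geometrically_of_surjective {P : ObjectProperty Scheme.{u}}
    (hP : ∀ {Z' Z : Scheme.{u}} (p : Z' ⟶ Z), Surjective p → P Z' → P Z)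
    {X Y S : Scheme.{u}} (f : X ⟶ S) (g : Y ⟶ S) (h : X ⟶ Y) (w : h ≫ g = f) [Surjective h]
    (hf : geometrically P f) : geometrically P g := by
  intro K _ y Z fst snd hZ
  have hw : (pullback.fst f y ≫ h) ≫ g = pullback.snd f y ≫ y := by
    rw [Category.assoc, w]; exact pullback.condition
  let p : pullback f y ⟶ Z := hZ.lift (pullback.fst f y ≫ h) (pullback.snd f y) hw
  have hp1 : p ≫ fst = pullback.fst f y ≫ h := hZ.lift_fst _ _ _
  have hp2 : p ≫ snd = pullback.snd f y := hZ.lift_snd _ _ _
  have hleft : IsPullback p (pullback.fst f y) fst h := by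
    refine IsPullback.of_right ?_ hp1 hZ.flip
    rw [hp2, w]
    exact (IsPullback.of_hasPullback f y).flip
  have : Surjective p :=
    MorphismProperty.of_isPullback (P := @Surjective) hleft.flip inferInstance
  exact hP p this (pullback_of_geometrically hf K y)

theorem irreducibleSpace_of_surjective {Z' Z : Scheme.{u}} (p : Z' ⟶ Z) (hp : Surjective p)
    (h : IrreducibleSpace Z') : IrreducibleSpace Z := by
  have := p.surjective
  exact this.irreducibleSpace p.continuous

theorem connectedSpace_of_surjective {Z' Z : Scheme.{u}} (p : Z' ⟶ Z) (hp : Surjective p)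
    (h : ConnectedSpace Z') : ConnectedSpace Z := by
  have := p.surjective
  exact this.connectedSpace p.continuous

end Groth.Agent.H23
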