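import Mathlib
import Groth.Agent.H23.Geom

set_option autoImplicit false
universe u

namespace Groth.Agent.H23

open AlgebraicGeometry CategoryTheory Limits

/-- `geometrically P` descends along a surjective base change, when `P` passes to targets of
surjective morphisms. -/
theorem geometrically_descends {P : ObjectProperty Scheme.{u}}
    (hP : ∀ {Z' Z : Scheme.{u}} (p : Z' ⟶ Z), Surjective p → P Z' → P Z)
    {X Y Y' : Scheme.{u}} (f : X ⟶ Y) (g : Y' ⟶ Y) [Surjective g]
    (h : geometrically P (pullback.snd f g)) : geometrically P f := by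
  intro K _ y Z fstZ sndZ hZ
  -- a point of `Spec K ×_Y Y'`
  have hsurj : Surjective (pullback.fst y g) := inferInstance
  obtain ⟨t, -⟩ := (pullback.fst y g).surjective (default : ↥(Spec (CommRingCat.of K)))
  let τ := (pullback y g).fromSpecResidueField t
  let y' : Spec (CommRingCat.of ((pullback y g).residueField t)) ⟶ Y' := τ ≫ pullback.snd y g
  let e : Spec (CommRingCat.of ((pullback y g).residueField t)) ⟶ Spec (CommRingCat.of K) :=
    τ ≫ pullback.fst y g
  have hey : e ≫ y = y' ≫ g := by
    simp only [e, y', Category.assoc, pullback.condition]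
  have hPW : P (pullback (pullback.snd f g) y') := pullback_of_geometrically h _ y'
  have hbig : IsPullback (pullback.fst (pullback.snd f g) y' ≫ pullback.fst f g)
      (pullback.snd (pullback.snd f g) y') f (y' ≫ g) :=
    (IsPullback.of_hasPullback (pullback.snd f g) y').paste_horiz (IsPullback.of_hasPullback f g)
  have hw : (pullback.fst (pullback.snd f g) y' ≫ pullback.fst f g) ≫ f =
      (pullback.snd (pullback.snd f g) y' ≫ e) ≫ y := by
    rw [Category.assoc, Category.assoc, hey]
    exact hbig.w
  let p : pullback (pullback.snd f g) y' ⟶ Z := hZ.lift _ _ hw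
  have hp1 : p ≫ fstZ = pullback.fst (pullback.snd f g) y' ≫ pullback.fst f g := hZ.lift_fst _ _ _
  have hp2 : p ≫ sndZ = pullback.snd (pullback.snd f g) y' ≫ e := hZ.lift_snd _ _ _
  have hleft : IsPullback p (pullback.snd (pullback.snd f g) y') sndZ e := by
    refine IsPullback.of_right ?_ hp2 hZ
    rw [hp1, hey]
    exact hbig
  have hesurj : Surjective e :=
    ⟨fun x => ⟨default, Subsingleton.elim _ _⟩⟩
  have hpsurj : Surjective p :=
    MorphismProperty.of_isPullback (P := @Surjective) hleft.flip hesurj
  exact hP p hpsurj hPW

end Groth.Agent.H23
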