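import Mathlib
import Groth.Prelude.Def_PBC
import Groth.Prelude.Def_ProEtS

/-!
# Small definitions for the weakly contractible objects of the pro-étale site (helper23)
-/

set_option autoImplicit false
universe u
open CategoryTheory CategoryTheory.Limits AlgebraicGeometry Opposite

namespace Groth.Agent.H23.WCDefs

/-- the object of `X_proet` given by an open of `U`. -/
noncomputable abbrev openObj {X : Scheme.{u}} (U : X.ProEt) (W : U.left.Opens) : X.ProEt :=
  Scheme.ProEt.mk (W.ι ≫ U.hom)

/-- its inclusion. -/
noncomputable abbrev openIncl {X : Scheme.{u}} (U : X.ProEt) (W : U.left.Opens) :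
    openObj U W ⟶ U :=
  MorphismProperty.Over.homMk W.ι

/-- the condition of S0757: every covering sieve contains a finite clopen decomposition. -/
def ClopenRefines {X : Scheme.{u}} (U : X.ProEt) : Prop :=
  ∀ R ∈ Scheme.ProEt.topology X U, ∃ (n : ℕ) (W : Fin n → U.left.Opens),
    (∀ k, IsClopen ((W k : Set ↥U.left))) ∧
    Pairwise (fun k l => Disjoint (W k : Set ↥U.left) (W l)) ∧
    (⋃ k, (W k : Set ↥U.left)) = Set.univ ∧
    ∀ k, R.arrows (MorphismProperty.Over.homMk (W k).ι :
      Scheme.ProEt.mk ((W k).ι ≫ U.hom) ⟶ U)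

end Groth.Agent.H23.WCDefs
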