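import Mathlib
import Groth.Prelude.Def_PBC
import Groth.Prelude.Def_ProEtS
import Groth.Agent.H23.WCDefs

/-!
# The left Kan extension presheaf along `eps : X_et ⥤ X_proet`: definitions and interfaces (helper23)
-/

set_option autoImplicit false
set_option backward.isDefEq.respectTransparency.types false
universe u
open CategoryTheory CategoryTheory.Limits AlgebraicGeometry Opposite
open Groth.Agent.H23.WCDefs

namespace Groth.Agent.H23.EpsDefs

variable (X : Scheme.{u})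

/-- the left Kan extension presheaf of an abelian presheaf on `X_et` along `eps`. -/
noncomputable abbrev lanE (F : X.Etaleᵒᵖ ⥤ AddCommGrpCat.{u + 1}) :
    X.ProEtᵒᵖ ⥤ AddCommGrpCat.{u + 1} :=
  (ProEtS.eps X).op.lan.obj F

/-- the unit, elementwise. -/
noncomputable abbrev lanUE (F : X.Etaleᵒᵖ ⥤ AddCommGrpCat.{u + 1}) (V : X.Etale) :
    F.obj (op V) → (lanE X F).obj (op ((ProEtS.eps X).obj V)) :=
  fun s => (((ProEtS.eps X).op.lanUnit.app F).app (op V)).hom s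

/-- the sheafification map of the Kan extension presheaf. -/
noncomputable abbrev thetaE (F : X.Etaleᵒᵖ ⥤ AddCommGrpCat.{u + 1}) :
    lanE X F ⟶ sheafify (Scheme.ProEt.topology X) (lanE X F) :=
  toSheafify (Scheme.ProEt.topology X) (lanE X F)

/-- elementwise API for the Kan extension presheaf (it is a filtered colimit). -/
structure RepAPI (F : X.Etaleᵒᵖ ⥤ AddCommGrpCat.{u + 1}) : Prop where
  r0 : ∀ {V V' : X.Etale} (a : V' ⟶ V) (s : F.obj (op V)),
    ((lanE X F).map ((ProEtS.eps X).map a).op).hom (lanUE X F V s) =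
      lanUE X F V' ((F.map a.op).hom s)
  r1 : ∀ (W : X.ProEt) (x : (lanE X F).obj (op W)),
    ∃ (V : X.Etale) (φ : W ⟶ (ProEtS.eps X).obj V) (s : F.obj (op V)),
      x = ((lanE X F).map φ.op).hom (lanUE X F V s)
  r2 : ∀ (W : X.ProEt) {V V' : X.Etale}
    (φ : W ⟶ (ProEtS.eps X).obj V) (φ' : W ⟶ (ProEtS.eps X).obj V')
    (s : F.obj (op V)) (s' : F.obj (op V')),
    ((lanE X F).map φ.op).hom (lanUE X F V s) = ((lanE X F).map φ'.op).hom (lanUE X F V' s') →
    ∃ (V'' : X.Etale) (ψ : W ⟶ (ProEtS.eps X).obj V'') (a : V'' ⟶ V) (a' : V'' ⟶ V'),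
      ψ ≫ (ProEtS.eps X).map a = φ ∧ ψ ≫ (ProEtS.eps X).map a' = φ' ∧
      (F.map a.op).hom s = (F.map a'.op).hom s'
  r2' : ∀ (W : X.ProEt) {V : X.Etale} (φ : W ⟶ (ProEtS.eps X).obj V) (s s' : F.obj (op V)),
    ((lanE X F).map φ.op).hom (lanUE X F V s) = ((lanE X F).map φ.op).hom (lanUE X F V s') →
    ∃ (V'' : X.Etale) (ψ : W ⟶ (ProEtS.eps X).obj V'') (a : V'' ⟶ V),
      ψ ≫ (ProEtS.eps X).map a = φ ∧ (F.map a.op).hom s = (F.map a.op).hom s'

/-- finite coproducts in `X_et`, on which the etale sheaf `F` is a product. -/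
def CoprodAPI (F : EtCoh.Ab X) : Prop :=
  ∀ {n : ℕ} (V : Fin n → X.Etale), ∃ (V' : X.Etale) (ι : ∀ k, V k ⟶ V'),
    Function.Bijective (fun (s : F.obj.obj (op V')) (k : Fin n) => (F.obj.map (ι k).op).hom s) ∧
    ∀ (T : X.Etale) (a : ∀ k, V k ⟶ T), ∃ a' : V' ⟶ T, ∀ k, ι k ≫ a' = a k

/-- sheafification does not change the sections of the Kan extension presheaf over affine weakly
contractible objects. -/
def WCBij (F : EtCoh.Ab X) : Prop :=
  ∀ (W : X.ProEt), IsAffine W.left → ProEtS.IsWC W →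
    Function.Bijective ((thetaE X F.obj).app (op W)).hom

/-- affine objects of `X_proet` have affine weakly contractible covers. -/
def HasWCCovers : Prop :=
  ∀ (Q : X.ProEt), IsAffine Q.left → ∃ (Q' : X.ProEt) (q : Q' ⟶ Q),
    IsAffine Q'.left ∧ ProEtS.IsWC Q' ∧ Function.Surjective q.left ∧
    Sieve.generate (Presieve.singleton q) ∈ Scheme.ProEt.topology X Q

/-- the Kan extension presheaf is separated on affine objects. -/
def SepAff (F : EtCoh.Ab X) : Prop :=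
  ∀ (Q : X.ProEt), IsAffine Q.left → Function.Injective ((thetaE X F.obj).app (op Q)).hom

/-- limit data for an affine etale `U`: an affine weakly contractible pro-etale cover `w : W ⟶ eps U`
which is a cofiltered limit of affine etale `U`-schemes, with `W₂ = W ×_U W` (affine); recorded through its consequences `l1` (maps from `W` to etale schemes factor
through an affine etale stage) and `l2` (descent data spread out to a stage). -/
structure LimData (U : X.Etale) where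
  W : X.ProEt
  w : W ⟶ (ProEtS.eps X).obj U
  W₂ : X.ProEt
  p₁ : W₂ ⟶ W
  p₂ : W₂ ⟶ W
  affW : IsAffine W.left
  wcW : ProEtS.IsWC W
  affW₂ : IsAffine W₂.left
  surj : Function.Surjective w.left
  cover : Sieve.generate (Presieve.singleton w) ∈ Scheme.ProEt.topology X ((ProEtS.eps X).obj U)
  comm : p₁ ≫ w = p₂ ≫ w
  l1 : ∀ (V : X.Etale) (φ : W ⟶ (ProEtS.eps X).obj V),
    ∃ (V₁ : X.Etale) (b : V₁ ⟶ U) (ψ : W ⟶ (ProEtS.eps X).obj V₁) (c : V₁ ⟶ V),
      IsAffine V₁.left ∧ ψ ≫ (ProEtS.eps X).map b = w ∧ ψ ≫ (ProEtS.eps X).map c = φ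
  l2 : ∀ (V₁ : X.Etale) (b : V₁ ⟶ U) (ψ : W ⟶ (ProEtS.eps X).obj V₁),
    ψ ≫ (ProEtS.eps X).map b = w →
    ∀ (E : X.Etale) (e₁ e₂ : E ⟶ V₁) (χ : W₂ ⟶ (ProEtS.eps X).obj E),
      χ ≫ (ProEtS.eps X).map e₁ = p₁ ≫ ψ → χ ≫ (ProEtS.eps X).map e₂ = p₂ ≫ ψ →
      ∃ (V₂ : X.Etale) (d : V₂ ⟶ V₁) (ψ₂ : W ⟶ (ProEtS.eps X).obj V₂),
        ψ₂ ≫ (ProEtS.eps X).map d = ψ ∧
        ∀ (T : X.Etale) (t₁ t₂ : T ⟶ V₂), t₁ ≫ d ≫ b = t₂ ≫ d ≫ b →
          ∃ S ∈ X.smallEtaleTopology T, ∀ {T' : X.Etale} (h : T' ⟶ T), S.arrows h →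
            ∃ k : T' ⟶ E, k ≫ e₁ = h ≫ t₁ ≫ d ∧ k ≫ e₂ = h ≫ t₂ ≫ d

end Groth.Agent.H23.EpsDefs
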