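import Mathlib
import Groth.Prelude.Def_PBC
import Groth.Prelude.Def_ProEtS
import Groth.Prelude.Def_EtModW
import Groth.Agent.H23.WCDefs
import Groth.Agent.H23.EpsDefs

/-!
# The left Kan extension presheaf along `eps` for sheaves of `Λ`-modules: definitions and interfaces
(helper23; module version of `H23/EpsDefs.lean`)
-/

set_option autoImplicit false
set_option backward.isDefEq.respectTransparency.types false
universe u
open CategoryTheory CategoryTheory.Limits AlgebraicGeometry Opposite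
open Groth.Agent.H23.WCDefs

namespace Groth.Agent.H23.EpsDefsM

variable (Λ : Type (u + 1)) [CommRing Λ] (X : Scheme.{u})

/-- the left Kan extension presheaf of an abelian presheaf on `X_et` along `eps`. -/
noncomputable abbrev lanE (F : X.Etaleᵒᵖ ⥤ ModuleCat.{u + 1} Λ) :
    X.ProEtᵒᵖ ⥤ ModuleCat.{u + 1} Λ :=
  (ProEtS.eps X).op.lan.obj F

/-- the unit, elementwise. -/
noncomputable abbrev lanUE (F : X.Etaleᵒᵖ ⥤ ModuleCat.{u + 1} Λ) (V : X.Etale) :
    F.obj (op V) → (lanE Λ X F).obj (op ((ProEtS.eps X).obj V)) :=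
  fun s => (((ProEtS.eps X).op.lanUnit.app F).app (op V)).hom s

/-- the sheafification map of the Kan extension presheaf. -/
noncomputable abbrev thetaE (F : X.Etaleᵒᵖ ⥤ ModuleCat.{u + 1} Λ) :
    lanE Λ X F ⟶ sheafify (Scheme.ProEt.topology X) (lanE Λ X F) :=
  toSheafify (Scheme.ProEt.topology X) (lanE Λ X F)

/-- elementwise API for the Kan extension presheaf (it is a filtered colimit). -/
structure RepAPI (F : X.Etaleᵒᵖ ⥤ ModuleCat.{u + 1} Λ) : Prop where
  r0 : ∀ {V V' : X.Etale} (a : V' ⟶ V) (s : F.obj (op V)),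
    ((lanE Λ X F).map ((ProEtS.eps X).map a).op).hom (lanUE Λ X F V s) =
      lanUE Λ X F V' ((F.map a.op).hom s)
  r1 : ∀ (W : X.ProEt) (x : (lanE Λ X F).obj (op W)),
    ∃ (V : X.Etale) (φ : W ⟶ (ProEtS.eps X).obj V) (s : F.obj (op V)),
      x = ((lanE Λ X F).map φ.op).hom (lanUE Λ X F V s)
  r2 : ∀ (W : X.ProEt) {V V' : X.Etale}
    (φ : W ⟶ (ProEtS.eps X).obj V) (φ' : W ⟶ (ProEtS.eps X).obj V')
    (s : F.obj (op V)) (s' : F.obj (op V')),
    ((lanE Λ X F).map φ.op).hom (lanUE Λ X F V s) = ((lanE Λ X F).map φ'.op).hom (lanUE Λ X F V' s') →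
    ∃ (V'' : X.Etale) (ψ : W ⟶ (ProEtS.eps X).obj V'') (a : V'' ⟶ V) (a' : V'' ⟶ V'),
      ψ ≫ (ProEtS.eps X).map a = φ ∧ ψ ≫ (ProEtS.eps X).map a' = φ' ∧
      (F.map a.op).hom s = (F.map a'.op).hom s'
  r2' : ∀ (W : X.ProEt) {V : X.Etale} (φ : W ⟶ (ProEtS.eps X).obj V) (s s' : F.obj (op V)),
    ((lanE Λ X F).map φ.op).hom (lanUE Λ X F V s) = ((lanE Λ X F).map φ.op).hom (lanUE Λ X F V s') →
    ∃ (V'' : X.Etale) (ψ : W ⟶ (ProEtS.eps X).obj V'') (a : V'' ⟶ V),
      ψ ≫ (ProEtS.eps X).map a = φ ∧ (F.map a.op).hom s = (F.map a.op).hom s'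

/-- finite coproducts in `X_et`, on which the etale sheaf `F` is a product. -/
def CoprodAPI (F : EtModW.Mod Λ X) : Prop :=
  ∀ {n : ℕ} (V : Fin n → X.Etale), ∃ (V' : X.Etale) (ι : ∀ k, V k ⟶ V'),
    Function.Bijective (fun (s : F.obj.obj (op V')) (k : Fin n) => (F.obj.map (ι k).op).hom s) ∧
    ∀ (T : X.Etale) (a : ∀ k, V k ⟶ T), ∃ a' : V' ⟶ T, ∀ k, ι k ≫ a' = a k

/-- sheafification does not change the sections of the Kan extension presheaf over affine weakly
contractible objects. -/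
def WCBij (F : EtModW.Mod Λ X) : Prop :=
  ∀ (W : X.ProEt), IsAffine W.left → ProEtS.IsWC W →
    Function.Bijective ((thetaE Λ X F.obj).app (op W)).hom

/-- the Kan extension presheaf is separated on affine objects. -/
def SepAff (F : EtModW.Mod Λ X) : Prop :=
  ∀ (Q : X.ProEt), IsAffine Q.left → Function.Injective ((thetaE Λ X F.obj).app (op Q)).hom

end Groth.Agent.H23.EpsDefsM
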