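import Mathlib
import Groth.Prelude.Def_PBC
import Groth.Prelude.Def_ProEtS
import Groth.Agent.H23.WCDefs

/-!
# Presheaves preserving finite products turn finite disjoint open covers into products (helper23)
-/

set_option autoImplicit false
set_option linter.style.haveILetI false
set_option backward.isDefEq.respectTransparency.types false
universe u v
open CategoryTheory CategoryTheory.Limits AlgebraicGeometry Opposite
open Groth.Agent.H23.WCDefs

namespace Groth.Agent.H23.WC_P

variable {X : Scheme.{u}} (U : X.ProEt) {ι : Type v} (W : ι → U.left.Opens)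

theorem hom_ext_of_cover (hcov : (⋃ k, (W k : Set ↥U.left)) = Set.univ) {T : X.ProEt}
    (h₁ h₂ : U ⟶ T) (h : ∀ k, openIncl U (W k) ≫ h₁ = openIncl U (W k) ≫ h₂) : h₁ = h₂ := by
  have hW : TopologicalSpace.IsOpenCover W := by
    apply TopologicalSpace.Opens.ext
    simpa using hcov
  apply MorphismProperty.Over.Hom.ext
  refine Scheme.Cover.hom_ext (U.left.openCoverOfIsOpenCover W hW) _ _ (fun k => ?_)
  exact congrArg (fun f => f.left) (h k)

theorem exists_desc (hdisj : Pairwise (fun k l => Disjoint (W k : Set ↥U.left) (W l)))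
    (hcov : (⋃ k, (W k : Set ↥U.left)) = Set.univ) {T : X.ProEt}
    (g : ∀ k, openObj U (W k) ⟶ T) : ∃ h : U ⟶ T, ∀ k, openIncl U (W k) ≫ h = g k := by
  have hW : TopologicalSpace.IsOpenCover W := by
    apply TopologicalSpace.Opens.ext
    simpa using hcov
  let 𝒰 := U.left.openCoverOfIsOpenCover W hW
  have hcompat : ∀ x y : 𝒰.I₀, pullback.fst (𝒰.f x) (𝒰.f y) ≫ (g x).left =
      pullback.snd (𝒰.f x) (𝒰.f y) ≫ (g y).left := by
    intro i j
    by_cases hij : i = j
    · subst hij
      have : pullback.fst (𝒰.f i) (𝒰.f i) = pullback.snd (𝒰.f i) (𝒰.f i) := by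
        rw [← cancel_mono (𝒰.f i)]
        exact pullback.condition
      rw [this]
    · haveI : IsEmpty ↥(pullback (𝒰.f i) (𝒰.f j)) := by
        constructor
        intro z
        have h2 : pullback.fst (𝒰.f i) (𝒰.f j) ≫ (W i).ι = pullback.snd (𝒰.f i) (𝒰.f j) ≫ (W j).ι :=
          pullback.condition
        have h3 : (W i).ι (pullback.fst (𝒰.f i) (𝒰.f j) z) =
            (W j).ι (pullback.snd (𝒰.f i) (𝒰.f j) z) := by
          have := congrArg (fun f => f z) h2
          exact this
        have hi : (W i).ι (pullback.fst (𝒰.f i) (𝒰.f j) z) ∈ (W i : Set ↥U.left) :=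
          (pullback.fst (𝒰.f i) (𝒰.f j) z).2
        have hj : (W i).ι (pullback.fst (𝒰.f i) (𝒰.f j) z) ∈ (W j : Set ↥U.left) := by
          rw [h3]; exact (pullback.snd (𝒰.f i) (𝒰.f j) z).2
        exact Set.disjoint_left.1 (hdisj hij) hi hj
      exact (isInitialOfIsEmpty (X := pullback (𝒰.f i) (𝒰.f j))).hom_ext _ _
  let h₀ : U.left ⟶ T.left := 𝒰.glueMorphisms (fun k => (g k).left) hcompat
  have hι : ∀ k, (W k).ι ≫ h₀ = (g k).left := fun k => 𝒰.ι_glueMorphisms _ hcompat k
  have hw : h₀ ≫ T.hom = U.hom := by
    refine Scheme.Cover.hom_ext 𝒰 _ _ (fun k => ?_)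
    show (W k).ι ≫ h₀ ≫ T.hom = (W k).ι ≫ U.hom
    rw [← Category.assoc, hι k]
    exact MorphismProperty.Over.w (g k)
  refine ⟨MorphismProperty.Over.homMk (A := U) (B := T) h₀ hw trivial, fun k => ?_⟩
  apply MorphismProperty.Over.Hom.ext
  exact hι k

/-- (P) a presheaf preserving finite products turns finite disjoint open covers into products. -/
theorem bijective_restrict_of_preservesFiniteProducts
    (F : X.ProEtᵒᵖ ⥤ Type (u + 1)) [PreservesFiniteProducts F] (U : X.ProEt) {n : ℕ}
    (W : Fin n → U.left.Opens)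
    (hdisj : Pairwise (fun k l => Disjoint (W k : Set ↥U.left) (W l)))
    (hcov : (⋃ k, (W k : Set ↥U.left)) = Set.univ) :
    Function.Bijective (fun (s : F.obj (op U)) (k : Fin n) =>
      F.map (openIncl U (W k)).op s) := by
  let t : Fan (fun k => op (openObj U (W k))) := Fan.mk (op U) (fun k => (openIncl U (W k)).op)
  have ht : IsLimit t := by
    refine mkFanLimit t
      (fun s => (exists_desc U W hdisj hcov (fun k => (s.proj k).unop)).choose.op) ?_ ?_
    · intro s k
      have := (exists_desc U W hdisj hcov (fun k => (s.proj k).unop)).choose_spec k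
      show _ ≫ (openIncl U (W k)).op = _
      rw [← op_comp, this]
      rfl
    · intro s m hm
      apply Quiver.Hom.unop_inj
      apply hom_ext_of_cover U W hcov
      intro k
      have h1 := (exists_desc U W hdisj hcov (fun k => (s.proj k).unop)).choose_spec k
      rw [Quiver.Hom.unop_op, h1]
      have h2 := hm k
      have h3 := congrArg Quiver.Hom.unop h2
      exact h3
  haveI := PreservesFiniteProducts.preserves (F := F) n
  have hF : IsLimit (F.mapCone t) := isLimitOfPreserves F ht
  let e := Types.isLimitEquivSections hF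
  constructor
  · intro a b hab
    apply e.injective
    apply Subtype.ext
    funext ⟨k⟩
    exact congrFun hab k
  · intro x
    let sec : (Discrete.functor (fun k => op (openObj U (W k))) ⋙ F).sections :=
      ⟨fun j => x j.as, by
        rintro ⟨j⟩ ⟨j'⟩ f
        obtain rfl : j = j' := Discrete.eq_of_hom f
        have : f = 𝟙 _ := Subsingleton.elim _ _
        subst this
        simp⟩
    refine ⟨e.symm sec, ?_⟩
    funext k
    have := Types.isLimitEquivSections_symm_apply hF sec ⟨k⟩
    exact this

end Groth.Agent.H23.WC_P
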