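import Mathlib
import Groth.Prelude.Def_PBC
import Groth.Prelude.Def_ProEtS
import Groth.Agent.H23.EpsDefs

/-!
# Ind-etale presentation data for a pro-etale cover of an affine etale `U` (helper23)
-/

set_option autoImplicit false
set_option backward.isDefEq.respectTransparency.types false
universe u
open CategoryTheory CategoryTheory.Limits AlgebraicGeometry Opposite
open Groth.Agent.H23.EpsDefs

namespace Groth.Agent.H23.EpsIndDefs

variable (X : Scheme.{u})

/-- a pro-etale `w : W ⟶ eps U` together with a cofiltered system of affine etale `U`-schemes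
`St j` under `W`. -/
structure IndPre (U : X.Etale) where
  W : X.ProEt
  w : W ⟶ (ProEtS.eps X).obj U
  J : Type u
  [catJ : SmallCategory J]
  [cofJ : IsCofiltered J]
  St : J ⥤ X.Etale
  b : ∀ j, St.obj j ⟶ U
  b_nat : ∀ {i j : J} (f : i ⟶ j), St.map f ≫ b j = b i
  π : ∀ j, W ⟶ (ProEtS.eps X).obj (St.obj j)
  π_nat : ∀ {i j : J} (f : i ⟶ j), π i ≫ (ProEtS.eps X).map (St.map f) = π j
  π_b : ∀ j, π j ≫ (ProEtS.eps X).map (b j) = w

attribute [instance] IndPre.catJ IndPre.cofJ

variable {X}

/-- the underlying cone of schemes. -/
def IndPre.cone {U : X.Etale} (D : IndPre X U) :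
    Cone (D.St ⋙ Scheme.Etale.forget X ⋙ Over.forget X) where
  pt := D.W.left
  π :=
    { app := fun j => (D.π j).left
      naturality := fun i j f => by
        have h := congrArg (fun t => t.left) (D.π_nat f)
        dsimp only [Functor.const_obj_obj, Functor.const_obj_map, Functor.comp_obj,
          Functor.comp_map]
        rw [Category.id_comp]
        exact h.symm }

variable (X)

/-- ind-etale presentation data: all stages and `W` affine, `W` weakly contractible, `W.left` the
limit of the stages, `w` a surjective pro-etale cover. -/
structure IndData (U : X.Etale) extends IndPre X U where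
  affSt : ∀ j, IsAffine (St.obj j).left
  affW : IsAffine W.left
  wcW : ProEtS.IsWC W
  surj : Function.Surjective w.left
  cover : Sieve.generate (Presieve.singleton w) ∈ Scheme.ProEt.topology X ((ProEtS.eps X).obj U)
  isLimit : IsLimit toIndPre.cone

end Groth.Agent.H23.EpsIndDefs
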