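import Mathlib
import Groth.Prelude.Def_PBC
import Groth.Prelude.Def_ProEtS
import Groth.Agent.H23.EpsDefs
import Groth.Agent.H23.EpsIndDefs

/-!
# Ind-etale presentation data for `W ×_U W` (helper23)
-/

set_option autoImplicit false
set_option backward.isDefEq.respectTransparency.types false
universe u
open CategoryTheory CategoryTheory.Limits AlgebraicGeometry Opposite
open Groth.Agent.H23.EpsDefs Groth.Agent.H23.EpsIndDefs

namespace Groth.Agent.H23.EpsPairDefs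

variable (X : Scheme.{u})

/-- presentation of `W₂ = W ×_U W` as the cofiltered limit of the affine etale `U`-schemes
`St j ×_U St j`, with the two projections. -/
structure PairData {U : X.Etale} (D : IndData X U) where
  P : IndPre X U
  affSt : ∀ k, IsAffine (P.St.obj k).left
  affW : IsAffine P.W.left
  isLimit : IsLimit P.cone
  G : P.J ⥤ D.J
  hG : ∀ j : D.J, ∃ k : P.J, Nonempty (G.obj k ⟶ j)
  p₁ : P.W ⟶ D.W
  p₂ : P.W ⟶ D.W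
  comm : p₁ ≫ D.w = p₂ ≫ D.w
  pr₁ : ∀ k, P.St.obj k ⟶ D.St.obj (G.obj k)
  pr₂ : ∀ k, P.St.obj k ⟶ D.St.obj (G.obj k)
  pr₁_nat : ∀ {k k' : P.J} (f : k ⟶ k'), P.St.map f ≫ pr₁ k' = pr₁ k ≫ D.St.map (G.map f)
  pr₂_nat : ∀ {k k' : P.J} (f : k ⟶ k'), P.St.map f ≫ pr₂ k' = pr₂ k ≫ D.St.map (G.map f)
  π_pr₁ : ∀ k, P.π k ≫ (ProEtS.eps X).map (pr₁ k) = p₁ ≫ D.π (G.obj k)
  π_pr₂ : ∀ k, P.π k ≫ (ProEtS.eps X).map (pr₂ k) = p₂ ≫ D.π (G.obj k)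
  lift : ∀ (k : P.J) (T : X.Etale) (t₁ t₂ : T ⟶ D.St.obj (G.obj k)),
    t₁ ≫ D.b (G.obj k) = t₂ ≫ D.b (G.obj k) →
    ∃ τ : T ⟶ P.St.obj k, τ ≫ pr₁ k = t₁ ∧ τ ≫ pr₂ k = t₂

end Groth.Agent.H23.EpsPairDefs
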