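import Mathlib
import Groth.Agent.H82.TorColim
import Groth.Agent.H82.TorReg
import Groth.Agent.H82.FiltColim
import Groth.Agent.S8596
import Groth.Agent.H10.LDerAdditive

/-!
# Generic `Tor` chases used for uniform bounds on `Tor(M, A/I^q)` (helper23)
-/

set_option autoImplicit false
set_option linter.unusedSectionVars false
set_option linter.style.haveILetI false

universe u

open CategoryTheory CategoryTheory.Limits MonoidalCategory

namespace Groth.Agent.H23.TorPowGen

open Groth.Agent.H82 Groth.Agent.H82.LDer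

variable {A : Type u} [CommRing A]

/-- `Tor_n(M, -)` -/
noncomputable abbrev T (M : ModuleCat.{u} A) (n : ℕ) : ModuleCat.{u} A ⥤ ModuleCat.{u} A :=
  (Tor (ModuleCat.{u} A) n).obj M

instance additive_T (M : ModuleCat.{u} A) (n : ℕ) : (T M n).Additive :=
  Groth.Agent.H10.LDerAdditive.tor_obj_additive A M n

/-- the basic chase -/
theorem chaseA (M : ModuleCat.{u} A) {S S' S'' : ShortComplex (ModuleCat.{u} A)}
    (hS : S.ShortExact) (hS' : S'.ShortExact) (φ : S ⟶ S') (φ' : S' ⟶ S'') (j : ℕ)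
    (x : (T M (j + 1)).obj S.X₃)
    (h1 : ((T M j).map φ.τ₁) (((TorColim.natLES_tor M).δ S hS j) x) = 0)
    (h2 : (T M (j + 1)).map φ'.τ₂ = 0) :
    ((T M (j + 1)).map (φ.τ₃ ≫ φ'.τ₃)) x = 0 := by
  have hδ := (TorColim.natLES_tor M).δ_nat φ hS hS' j
  have hy : ((TorColim.natLES_tor M).δ S' hS' j) (((T M (j + 1)).map φ.τ₃) x) = 0 := by
    have := FiltColim.app_congr hδ x
    rw [FiltColim.app_comp, FiltColim.app_comp] at this
    rw [← this]; exact h1
  have hex := (TorColim.natLES_tor M).exact₃ S' hS' j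
  rw [ShortComplex.moduleCat_exact_iff] at hex
  obtain ⟨z, hz⟩ := hex _ hy
  have hz' : ((T M (j + 1)).map S'.g) z = ((T M (j + 1)).map φ.τ₃) x := hz
  rw [Functor.map_comp, FiltColim.app_comp, ← hz', ← FiltColim.app_comp, ← Functor.map_comp,
    ← φ'.comm₂₃, Functor.map_comp, h2, zero_comp]
  rfl

/-- annihilator chase: if `a` kills `T_j(X₁)`‑image of `δ x` and `b` kills `T_{j+1}(X₂)` then
`b a` kills `x` -/
theorem chaseB (M : ModuleCat.{u} A) {S : ShortComplex (ModuleCat.{u} A)}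
    (hS : S.ShortExact) (j : ℕ) (a b : A)
    (ha : ∀ w : (T M j).obj S.X₁, a • w = 0) (hb : ∀ w : (T M (j + 1)).obj S.X₂, b • w = 0)
    (x : (T M (j + 1)).obj S.X₃) : (b * a) • x = 0 := by
  have hy : ((TorColim.natLES_tor M).δ S hS j) (a • x) = 0 := by
    rw [map_smul]; exact ha _
  have hex := (TorColim.natLES_tor M).exact₃ S hS j
  rw [ShortComplex.moduleCat_exact_iff] at hex
  obtain ⟨z, hz⟩ := hex _ hy
  have hz' : ((T M (j + 1)).map S.g) z = a • x := hz
  rw [mul_smul, ← hz', ← map_smul, hb z, map_zero]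

/-- if `a` kills `X` then it kills `Tor_n(M, X)` -/
theorem smul_eq_zero_of_smul_id (M : ModuleCat.{u} A) (n : ℕ) (X : ModuleCat.{u} A) (a : A)
    (ha : ∀ w : X, a • w = 0) (x : (T M n).obj X) : a • x = 0 := by
  have h0 : a • 𝟙 X = 0 := by
    refine ModuleCat.hom_ext (LinearMap.ext fun w => ?_)
    exact ha w
  have h1 : (T M n).map (a • 𝟙 X) = a • 𝟙 _ :=
    TorReg.leftDerived_map_smul (tensorLeft M) n a X
  rw [h0, Functor.map_zero] at h1
  have := FiltColim.app_congr h1 x
  exact this.symm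

/-- flat modules have no higher Tor: maps out are zero -/
theorem map_eq_zero_of_flat (M : ModuleCat.{u} A) (i : ℕ) (hi : 0 < i) (F : Type u)
    [AddCommGroup F] [Module A F] [Module.Flat A F] {Y : ModuleCat.{u} A}
    (f : ModuleCat.of A F ⟶ Y) : (T M i).map f = 0 := by
  obtain ⟨j, rfl⟩ : ∃ j, i = j + 1 := ⟨i - 1, by omega⟩
  exact (Groth.Agent.S8596.isZero_tor_flat M F j).eq_of_src _ _

theorem smul_eq_zero_of_flat (M : ModuleCat.{u} A) (i : ℕ) (hi : 0 < i) (F : Type u)
    [AddCommGroup F] [Module A F] [Module.Flat A F]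
    (x : (T M i).obj (ModuleCat.of A F)) : x = 0 := by
  obtain ⟨j, rfl⟩ : ∃ j, i = j + 1 := ⟨i - 1, by omega⟩
  have := Groth.Agent.S8596.isZero_tor_flat M F j
  haveI := ModuleCat.subsingleton_of_isZero this
  exact Subsingleton.elim _ _

end Groth.Agent.H23.TorPowGen
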