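import Mathlib
import Groth.Prelude.Def_Found
import Groth.Agent.S9439
import Groth.Agent.S2069
import Groth.Agent.S2093
import Groth.Agent.H73.NagataField

/-!
# Nagata local domains are analytically unramified (helper23)
-/

set_option autoImplicit false
set_option linter.style.haveILetI false
universe u

namespace Groth.Agent.H23.NagataAU

open IsLocalRing TensorProduct

/-- second half of Mathlib's `maximalIdeal_isPrincipal_of_isDedekindDomain`. -/
theorem principal_of_colon (R : Type*) [CommRing R] [IsDomain R] [IsLocalRing R]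
    [IsNoetherianRing R] [IsIntegrallyClosed R] (a b : R) (ha₁ : a ∈ maximalIdeal R) (ha₂ : a ≠ 0)
    (hb₂ : b ∉ Ideal.span {a}) (hb₃ : ∀ m ∈ maximalIdeal R, ∃ k : R, k * a = b * m) :
    (maximalIdeal R).IsPrincipal := by
  classical
  have hb₄ : b ≠ 0 := by rintro rfl; apply hb₂; exact zero_mem _
  let K := FractionRing R
  let x : K := algebraMap R K b / algebraMap R K a
  let M := Submodule.map (Algebra.linearMap R K) (maximalIdeal R)
  have ha₃ : algebraMap R K a ≠ 0 := IsFractionRing.to_map_eq_zero_iff.not.mpr ha₂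
  by_cases hx : ∀ y ∈ M, x * y ∈ M
  · have := isIntegral_of_smul_mem_submodule M ?_ ?_ x hx
    · obtain ⟨y, e⟩ := IsIntegrallyClosed.algebraMap_eq_of_integral this
      refine (hb₂ (Ideal.mem_span_singleton'.mpr ⟨y, ?_⟩)).elim
      apply IsFractionRing.injective R K
      rw [map_mul, e, div_mul_cancel₀ _ ha₃]
    · rw [Submodule.ne_bot_iff]; refine ⟨_, ⟨a, ha₁, rfl⟩, ?_⟩
      exact (IsFractionRing.to_map_eq_zero_iff (K := K)).not.mpr ha₂
    · apply Submodule.FG.map; exact IsNoetherian.noetherian _
  · have :
        (M.map (DistribSMul.toLinearMap R K x)).comap (Algebra.linearMap R K) = ⊤ := by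
      contrapose! hx with h
      rintro m' ⟨m, hm, rfl : algebraMap R K m = m'⟩
      obtain ⟨k, hk⟩ := hb₃ m hm
      have hk' : x * algebraMap R K m = algebraMap R K k := by
        rw [← mul_div_right_comm, ← map_mul, ← hk, map_mul, mul_div_cancel_right₀ _ ha₃]
      exact ⟨k, le_maximalIdeal h ⟨_, ⟨_, hm, rfl⟩, hk'⟩, hk'.symm⟩
    obtain ⟨y, hy₁, hy₂⟩ : ∃ y ∈ maximalIdeal R, b * y = a := by
      rw [Ideal.eq_top_iff_one, Submodule.mem_comap] at this
      obtain ⟨_, ⟨y, hy, rfl⟩, hy' : x * algebraMap R K y = algebraMap R K 1⟩ := this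
      rw [map_one, ← mul_div_right_comm, div_eq_one_iff_eq ha₃, ← map_mul] at hy'
      exact ⟨y, hy, IsFractionRing.injective R K hy'⟩
    refine ⟨⟨y, ?_⟩⟩
    apply le_antisymm
    · intro m hm; obtain ⟨k, hk⟩ := hb₃ m hm; rw [← hy₂, mul_comm, mul_assoc] at hk
      rw [← mul_left_cancel₀ hb₄ hk, mul_comm]; exact Ideal.mem_span_singleton'.mpr ⟨_, rfl⟩
    · rwa [Submodule.span_le, Set.singleton_subset_iff]

/-- In a Noetherian integrally closed domain, the localization at an associated prime of a
nonzero principal ideal is a DVR. -/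
theorem dvr_of_ass (S : Type u) [CommRing S] [IsDomain S] [IsNoetherianRing S]
    [IsIntegrallyClosed S] (x : S) (hx : x ≠ 0) (p : Ideal S) [p.IsPrime]
    (hp : p ∈ associatedPrimes S (S ⧸ Ideal.span {x})) :
    IsDiscreteValuationRing (Localization.AtPrime p) := by
  classical
  obtain ⟨_, ybar, hy⟩ := isAssociatedPrime_iff.mp hp
  obtain ⟨y, rfl⟩ := Ideal.Quotient.mk_surjective ybar
  have hmem : ∀ z : S, z ∈ p ↔ z * y ∈ Ideal.span {x} := by
    intro z
    rw [hy, Submodule.mem_colon_singleton, Submodule.mem_bot]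
    have e : z • (Ideal.Quotient.mk (Ideal.span {x}) y) =
        Ideal.Quotient.mk (Ideal.span {x}) (z * y) := rfl
    rw [e, Ideal.Quotient.eq_zero_iff_mem]
  have hxp : x ∈ p := by
    rw [hmem]; exact Ideal.mul_mem_right _ _ (Ideal.mem_span_singleton_self x)
  have hinj : Function.Injective (algebraMap S (Localization.AtPrime p)) :=
    IsLocalization.injective _ p.primeCompl_le_nonZeroDivisors
  haveI : IsIntegrallyClosed (Localization.AtPrime p) :=
    isIntegrallyClosed_of_isLocalization _ p.primeCompl p.primeCompl_le_nonZeroDivisors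
  haveI : IsNoetherianRing (Localization.AtPrime p) :=
    IsLocalization.isNoetherianRing p.primeCompl _ inferInstance
  have ha₁ : algebraMap S (Localization.AtPrime p) x ∈ maximalIdeal (Localization.AtPrime p) :=
    (IsLocalization.AtPrime.to_map_mem_maximal_iff _ p x).mpr hxp
  have ha₂ : algebraMap S (Localization.AtPrime p) x ≠ 0 :=
    fun h => hx (hinj (h.trans (map_zero _).symm))
  have hb₂ : algebraMap S (Localization.AtPrime p) y ∉
      Ideal.span {algebraMap S (Localization.AtPrime p) x} := by
    intro h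
    obtain ⟨c, hc⟩ := Ideal.mem_span_singleton'.mp h
    obtain ⟨c', s, rfl⟩ := IsLocalization.exists_mk'_eq p.primeCompl c
    have h1 : algebraMap S (Localization.AtPrime p) (c' * x) =
        algebraMap S (Localization.AtPrime p) ((s : S) * y) := by
      rw [map_mul, map_mul, ← hc, ← mul_assoc, IsLocalization.mk'_spec']
    have h2 := hinj h1
    have : (s : S) ∈ p := by
      rw [hmem, ← h2]; exact Ideal.mul_mem_left _ _ (Ideal.mem_span_singleton_self x)
    exact s.2 this
  have hb₃ : ∀ m ∈ maximalIdeal (Localization.AtPrime p), ∃ k : Localization.AtPrime p,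
      k * algebraMap S (Localization.AtPrime p) x =
        algebraMap S (Localization.AtPrime p) y * m := by
    intro m hm
    obtain ⟨z, s, rfl⟩ := IsLocalization.exists_mk'_eq p.primeCompl m
    have hz : z ∈ p := (IsLocalization.AtPrime.mk'_mem_maximal_iff _ p z s).mp hm
    obtain ⟨k', hk'⟩ := Ideal.mem_span_singleton'.mp ((hmem z).mp hz)
    refine ⟨IsLocalization.mk' _ k' s, ?_⟩
    rw [mul_comm, IsLocalization.mul_mk'_eq_mk'_of_mul, IsLocalization.mul_mk'_eq_mk'_of_mul,
      mul_comm x k', hk', mul_comm z y]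
  have hprin := principal_of_colon (Localization.AtPrime p) _ _ ha₁ ha₂ hb₂ hb₃
  have hnf : ¬ IsField (Localization.AtPrime p) := by
    intro h
    rw [IsLocalRing.isField_iff_maximalIdeal_eq.mp h] at ha₁
    exact ha₂ ((Ideal.mem_bot).mp ha₁)
  exact ((IsDiscreteValuationRing.TFAE (Localization.AtPrime p) hnf).out 0 4).mpr hprin

/-- Generalised Stacks 0330 criterion. -/
theorem crit (S T : Type u) [CommRing S] [IsDomain S] [IsNoetherianRing S] [CommRing T]
    [IsNoetherianRing T] [Algebra S T] [Module.Flat S T] (x : S) (hx : x ≠ 0)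
    (hxjac : algebraMap S T x ∈ Ideal.jacobson (⊥ : Ideal T))
    (hreg : ∀ p ∈ associatedPrimes S (S ⧸ Ideal.span {x}), ∀ (_ : p.IsPrime),
      IsDiscreteValuationRing (Localization.AtPrime p) ∧
        IsReduced (T ⧸ p.map (algebraMap S T))) :
    IsReduced T := by
  classical
  set xh : T := algebraMap S T x with hxh
  have hxreg : ∀ y : T, xh * y = 0 → y = 0 := by
    have h1 : IsSMulRegular S x := by
      intro a b hab; exact mul_left_cancel₀ hx hab
    have h2 : IsSMulRegular T xh := h1.of_flat
    intro y hy
    apply h2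
    show xh • y = xh • 0
    rw [smul_zero, smul_eq_mul]; exact hy
  have hxpow : ∀ (n : ℕ) (z : T), xh ^ n * z = 0 → z = 0 := by
    intro n
    induction n with
    | zero => intro z hz; rwa [pow_zero, one_mul] at hz
    | succ n ih =>
      intro z hz
      apply ih
      apply hxreg
      rw [← mul_assoc, ← pow_succ']; exact hz
  have hdom : ∀ q ∈ associatedPrimes T (T ⧸ Ideal.span {xh}), ∀ [q.IsPrime],
      IsDomain (Localization.AtPrime q) := by
    intro q hq _
    have e1 : Ideal.span {xh} = (Ideal.span {x}).map (algebraMap S T) := by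
      rw [Ideal.map_span, Set.image_singleton]
    rw [e1] at hq
    rw [LinearEquiv.AssociatedPrimes.eq (Algebra.TensorProduct.quotIdealMapEquivTensorQuot
      T (Ideal.span {x})).toLinearEquiv, Groth.Agent.S2069.result] at hq
    simp only [Set.mem_iUnion] at hq
    obtain ⟨p, hpass, hqp⟩ := hq
    haveI hpprime : p.IsPrime := (AssociatedPrimes.mem_iff.mp hpass).isPrime
    obtain ⟨hdvr, hredp⟩ := hreg p hpass hpprime
    haveI := hdvr
    have e2 : (p.map (algebraMap S T) • ⊤ : Submodule T T) = p.map (algebraMap S T) := by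
      show _ • (⊤ : Ideal _) = _
      rw [smul_eq_mul, Ideal.mul_top]
    rw [e2] at hqp
    obtain ⟨hd, _⟩ := Groth.Agent.S9439.core S T p hredp q hqp
    exact hd
  rw [← nilradical_eq_bot_iff]
  have hxjac' : Ideal.span {xh} ≤ Ideal.jacobson (⊥ : Ideal T) := by
    rw [Ideal.span_singleton_le_iff_mem]; exact hxjac
  apply Submodule.eq_bot_of_le_smul_of_le_jacobson_bot (Ideal.span {xh})
    (nilradical T) (IsNoetherian.noetherian _) ?_ hxjac'
  intro y hy
  have hy0 : Ideal.Quotient.mk (Ideal.span {xh}) y = 0 := by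
    by_contra hne
    obtain ⟨q, hqass, hqle⟩ := exists_le_isAssociatedPrime_of_isNoetherianRing
      T (Ideal.Quotient.mk (Ideal.span {xh}) y) hne
    haveI := hqass.isPrime
    haveI := hdom q (AssociatedPrimes.mem_iff.mpr hqass)
    have hnil : IsNilpotent (algebraMap T (Localization.AtPrime q) y) :=
      (mem_nilradical.mp hy).map _
    have hz : algebraMap T (Localization.AtPrime q) y = 0 := hnil.eq_zero
    obtain ⟨s, hs⟩ :=
      (IsLocalization.map_eq_zero_iff q.primeCompl (Localization.AtPrime q) y).mp hz
    have hsq : (s : T) ∈ q := by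
      apply hqle
      rw [Submodule.mem_colon_singleton, Submodule.mem_bot]
      show Ideal.Quotient.mk (Ideal.span {xh}) ((s : T) * y) = 0
      rw [hs, map_zero]
    exact s.2 hsq
  obtain ⟨a, ha⟩ := Ideal.mem_span_singleton'.mp (Ideal.Quotient.eq_zero_iff_mem.mp hy0)
  obtain ⟨n, hn⟩ := mem_nilradical.mp hy
  have han : a ∈ nilradical T := by
    rw [mem_nilradical]
    refine ⟨n, hxpow n _ ?_⟩
    rw [mul_comm, ← mul_pow, ha, hn]
  have : y = xh • a := by rw [smul_eq_mul, mul_comm, ha]
  rw [this]
  exact Submodule.smul_mem_smul (Ideal.mem_span_singleton_self xh) han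

/-- Generalised Stacks 0330 criterion, `S` not necessarily a domain. -/
theorem crit' (S T : Type u) [CommRing S] [IsNoetherianRing S] [CommRing T]
    [IsNoetherianRing T] [Algebra S T] [Module.Flat S T] (x : S) (hx : x ∈ nonZeroDivisors S)
    (hxjac : algebraMap S T x ∈ Ideal.jacobson (⊥ : Ideal T))
    (hreg : ∀ p ∈ associatedPrimes S (S ⧸ Ideal.span {x}), ∀ (_ : p.IsPrime),
      (∃ (_ : IsDomain (Localization.AtPrime p)),
        IsDiscreteValuationRing (Localization.AtPrime p)) ∧
        IsReduced (T ⧸ p.map (algebraMap S T))) :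
    IsReduced T := by
  classical
  set xh : T := algebraMap S T x with hxh
  have hxreg : ∀ y : T, xh * y = 0 → y = 0 := by
    have h1 : IsSMulRegular S x := by
      intro a b hab
      have h : (a - b) * x = 0 := by
        rw [mul_comm, mul_sub]; exact sub_eq_zero.mpr hab
      exact sub_eq_zero.mp ((mul_right_mem_nonZeroDivisors_eq_zero_iff hx).mp h)
    have h2 : IsSMulRegular T xh := h1.of_flat
    intro y hy
    apply h2
    show xh • y = xh • 0
    rw [smul_zero, smul_eq_mul]; exact hy
  have hxpow : ∀ (n : ℕ) (z : T), xh ^ n * z = 0 → z = 0 := by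
    intro n
    induction n with
    | zero => intro z hz; rwa [pow_zero, one_mul] at hz
    | succ n ih =>
      intro z hz
      apply ih
      apply hxreg
      rw [← mul_assoc, ← pow_succ']; exact hz
  have hdom : ∀ q ∈ associatedPrimes T (T ⧸ Ideal.span {xh}), ∀ [q.IsPrime],
      IsDomain (Localization.AtPrime q) := by
    intro q hq _
    have e1 : Ideal.span {xh} = (Ideal.span {x}).map (algebraMap S T) := by
      rw [Ideal.map_span, Set.image_singleton]
    rw [e1] at hq
    rw [LinearEquiv.AssociatedPrimes.eq (Algebra.TensorProduct.quotIdealMapEquivTensorQuot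
      T (Ideal.span {x})).toLinearEquiv, Groth.Agent.S2069.result] at hq
    simp only [Set.mem_iUnion] at hq
    obtain ⟨p, hpass, hqp⟩ := hq
    haveI hpprime : p.IsPrime := (AssociatedPrimes.mem_iff.mp hpass).isPrime
    obtain ⟨⟨hdomp, hdvr⟩, hredp⟩ := hreg p hpass hpprime
    haveI := hdomp
    haveI := hdvr
    have e2 : (p.map (algebraMap S T) • ⊤ : Submodule T T) = p.map (algebraMap S T) := by
      show _ • (⊤ : Ideal _) = _
      rw [smul_eq_mul, Ideal.mul_top]
    rw [e2] at hqp
    obtain ⟨hd, _⟩ := Groth.Agent.S9439.core S T p hredp q hqp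
    exact hd
  rw [← nilradical_eq_bot_iff]
  have hxjac' : Ideal.span {xh} ≤ Ideal.jacobson (⊥ : Ideal T) := by
    rw [Ideal.span_singleton_le_iff_mem]; exact hxjac
  apply Submodule.eq_bot_of_le_smul_of_le_jacobson_bot (Ideal.span {xh})
    (nilradical T) (IsNoetherian.noetherian _) ?_ hxjac'
  intro y hy
  have hy0 : Ideal.Quotient.mk (Ideal.span {xh}) y = 0 := by
    by_contra hne
    obtain ⟨q, hqass, hqle⟩ := exists_le_isAssociatedPrime_of_isNoetherianRing
      T (Ideal.Quotient.mk (Ideal.span {xh}) y) hne
    haveI := hqass.isPrime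
    haveI := hdom q (AssociatedPrimes.mem_iff.mpr hqass)
    have hnil : IsNilpotent (algebraMap T (Localization.AtPrime q) y) :=
      (mem_nilradical.mp hy).map _
    have hz : algebraMap T (Localization.AtPrime q) y = 0 := hnil.eq_zero
    obtain ⟨s, hs⟩ :=
      (IsLocalization.map_eq_zero_iff q.primeCompl (Localization.AtPrime q) y).mp hz
    have hsq : (s : T) ∈ q := by
      apply hqle
      rw [Submodule.mem_colon_singleton, Submodule.mem_bot]
      show Ideal.Quotient.mk (Ideal.span {xh}) ((s : T) * y) = 0
      rw [hs, map_zero]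
    exact s.2 hsq
  obtain ⟨a, ha⟩ := Ideal.mem_span_singleton'.mp (Ideal.Quotient.eq_zero_iff_mem.mp hy0)
  obtain ⟨n, hn⟩ := mem_nilradical.mp hy
  have han : a ∈ nilradical T := by
    rw [mem_nilradical]
    refine ⟨n, hxpow n _ ?_⟩
    rw [mul_comm, ← mul_pow, ha, hn]
  have : y = xh • a := by rw [smul_eq_mul, mul_comm, ha]
  rw [this]
  exact Submodule.smul_mem_smul (Ideal.mem_span_singleton_self xh) han

attribute [local instance] FractionRing.liftAlgebra in
/-- The normalization of a domain finite over a Nagata ring is finite. -/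
theorem normz_finite (R : Type u) [CommRing R] (hR : CAlg.IsNagata R) (D : Type u) [CommRing D]
    [IsDomain D] [Algebra R D] [Module.Finite R D] :
    Module.Finite R (integralClosure D (FractionRing D)) := by
  haveI : IsNoetherianRing R := hR.1
  set p : Ideal R := RingHom.ker (algebraMap R D) with hp
  haveI hpprime : p.IsPrime := RingHom.ker_isPrime _
  letI algD : Algebra (R ⧸ p) D := (RingHom.kerLift (algebraMap R D)).toAlgebra
  haveI tower : IsScalarTower R (R ⧸ p) D := IsScalarTower.of_algebraMap_eq fun r => rfl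
  have hinj : Function.Injective (algebraMap (R ⧸ p) D) := RingHom.kerLift_injective _
  haveI hFD : FaithfulSMul (R ⧸ p) D := (faithfulSMul_iff_algebraMap_injective _ _).mpr hinj
  haveI hFL : FaithfulSMul (R ⧸ p) (FractionRing D) := inferInstance
  haveI t1 : IsScalarTower (R ⧸ p) (FractionRing (R ⧸ p)) (FractionRing D) :=
    FractionRing.isScalarTower_liftAlgebra _ _
  haveI t0 : IsScalarTower R (R ⧸ p) (FractionRing D) := inferInstance
  haveI t0' : IsScalarTower R (R ⧸ p) (FractionRing (R ⧸ p)) := inferInstance
  haveI t2 : IsScalarTower R (FractionRing (R ⧸ p)) (FractionRing D) :=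
    IsScalarTower.of_algebraMap_eq fun r => by
      rw [IsScalarTower.algebraMap_apply R (R ⧸ p) (FractionRing (R ⧸ p)),
        ← IsScalarTower.algebraMap_apply (R ⧸ p) (FractionRing (R ⧸ p)) (FractionRing D),
        ← IsScalarTower.algebraMap_apply R (R ⧸ p) (FractionRing D)]
  have hK : ∀ z : FractionRing (R ⧸ p), ∃ a b : R,
      algebraMap R (FractionRing (R ⧸ p)) b ≠ 0 ∧
      z * algebraMap R (FractionRing (R ⧸ p)) b = algebraMap R (FractionRing (R ⧸ p)) a := by
    intro z
    obtain ⟨a', b', hb', rfl⟩ := IsFractionRing.div_surjective (A := R ⧸ p) z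
    obtain ⟨a, rfl⟩ := Ideal.Quotient.mk_surjective a'
    obtain ⟨b, rfl⟩ := Ideal.Quotient.mk_surjective b'
    have hb0 : algebraMap (R ⧸ p) (FractionRing (R ⧸ p)) (Ideal.Quotient.mk p b) ≠ 0 := by
      intro h
      exact (nonZeroDivisors.ne_zero hb')
        ((IsFractionRing.injective (R ⧸ p) _) (h.trans (map_zero _).symm))
    refine ⟨a, b, ?_, ?_⟩
    · rw [IsScalarTower.algebraMap_apply R (R ⧸ p) (FractionRing (R ⧸ p))]; exact hb0
    · rw [IsScalarTower.algebraMap_apply R (R ⧸ p) (FractionRing (R ⧸ p)),
        IsScalarTower.algebraMap_apply R (R ⧸ p) (FractionRing (R ⧸ p)) a]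
      exact div_mul_cancel₀ _ hb0
  haveI hess : Algebra.EssFiniteType (FractionRing (R ⧸ p)) (FractionRing D) := by
    haveI h1 : Algebra.EssFiniteType R D := inferInstance
    haveI h2 : Algebra.EssFiniteType D (FractionRing D) :=
      Algebra.EssFiniteType.of_isLocalization (FractionRing D) (nonZeroDivisors D)
    haveI h3 : Algebra.EssFiniteType R (FractionRing D) :=
      Algebra.EssFiniteType.comp R D (FractionRing D)
    exact Algebra.EssFiniteType.of_comp R (FractionRing (R ⧸ p)) (FractionRing D)
  have hfin : Module.Finite R (integralClosure R (FractionRing D)) :=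
    Groth.Agent.H73.NagataFin.finite_integralClosure_of_isNagata_field R hR
      (FractionRing (R ⧸ p)) (FractionRing D) hK
  haveI : Algebra.IsIntegral R D := inferInstance
  let f : integralClosure R (FractionRing D) →ₗ[R] integralClosure D (FractionRing D) :=
    { toFun := fun x => ⟨x.1, x.2.tower_top⟩
      map_add' := fun _ _ => rfl
      map_smul' := fun r x => Subtype.ext (by
        change r • x.1 = (r • (⟨x.1, x.2.tower_top⟩ : integralClosure D (FractionRing D))).1
        rfl) }
  refine Module.Finite.of_surjective f (fun y => ?_)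
  exact ⟨⟨y.1, isIntegral_trans (R := R) (A := D) y.1 y.2⟩, Subtype.ext rfl⟩

theorem noeth_T (R : Type u) [CommRing R] [IsLocalRing R] [IsNoetherianRing R] (S : Type u)
    [CommRing S] [Algebra R S] [Module.Finite R S] :
    IsNoetherianRing (S ⊗[R] AdicCompletion (maximalIdeal R) R) := by
  haveI : IsNoetherianRing (AdicCompletion (maximalIdeal R) R) := Groth.Agent.S2093.noeth_hat R
  haveI : IsNoetherianRing (AdicCompletion (maximalIdeal R) R ⊗[R] S) :=
    IsNoetherianRing.of_finite (AdicCompletion (maximalIdeal R) R) _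
  exact isNoetherianRing_of_ringEquiv _
    (Algebra.TensorProduct.comm R (AdicCompletion (maximalIdeal R) R) S).toRingEquiv

theorem jac_mem (R : Type u) [CommRing R] [IsLocalRing R] [IsNoetherianRing R] (S : Type u)
    [CommRing S] [Algebra R S] [Module.Finite R S] (x₀ : R) (hx₀ : x₀ ∈ maximalIdeal R) :
    algebraMap R (S ⊗[R] AdicCompletion (maximalIdeal R) R) x₀ ∈
      Ideal.jacobson (⊥ : Ideal (S ⊗[R] AdicCompletion (maximalIdeal R) R)) := by
  rw [Ideal.jacobson, Ideal.mem_sInf]
  rintro M ⟨-, hM⟩
  haveI := hM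
  let e : (S ⊗[R] AdicCompletion (maximalIdeal R) R) ≃ₐ[R]
      (AdicCompletion (maximalIdeal R) R ⊗[R] S) :=
    Algebra.TensorProduct.comm R S (AdicCompletion (maximalIdeal R) R)
  haveI hM' : (M.comap e.symm.toAlgHom.toRingHom).IsMaximal :=
    Ideal.comap_isMaximal_of_surjective _ e.symm.surjective
  haveI hmax : ((M.comap e.symm.toAlgHom.toRingHom).comap (algebraMap (AdicCompletion (maximalIdeal R) R)
      (AdicCompletion (maximalIdeal R) R ⊗[R] S))).IsMaximal :=
    Ideal.isMaximal_comap_of_isIntegral_of_isMaximal _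
  have heq := IsLocalRing.eq_maximalIdeal hmax
  have h1 : algebraMap R (AdicCompletion (maximalIdeal R) R) x₀ ∈
      (M.comap e.symm.toAlgHom.toRingHom).comap (algebraMap (AdicCompletion (maximalIdeal R) R)
      (AdicCompletion (maximalIdeal R) R ⊗[R] S)) := by
    rw [heq, AdicCompletion.maximalIdeal_eq_map]; exact Ideal.mem_map_of_mem _ hx₀
  have h2 : e.symm (algebraMap (AdicCompletion (maximalIdeal R) R)
      (AdicCompletion (maximalIdeal R) R ⊗[R] S)
      (algebraMap R (AdicCompletion (maximalIdeal R) R) x₀)) ∈ M := h1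
  have h3 : e.symm (algebraMap (AdicCompletion (maximalIdeal R) R)
      (AdicCompletion (maximalIdeal R) R ⊗[R] S)
      (algebraMap R (AdicCompletion (maximalIdeal R) R) x₀)) =
      algebraMap R (S ⊗[R] AdicCompletion (maximalIdeal R) R) x₀ := by
    rw [← IsScalarTower.algebraMap_apply R (AdicCompletion (maximalIdeal R) R)
      (AdicCompletion (maximalIdeal R) R ⊗[R] S), AlgEquiv.commutes]
  rwa [h3] at h2

theorem quot_reduced (R : Type u) [CommRing R] (S C : Type u) [CommRing S] [Algebra R S]
    [CommRing C] [Algebra R C] (p : Ideal S) [IsReduced ((S ⧸ p) ⊗[R] C)] :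
    IsReduced ((S ⊗[R] C) ⧸ p.map (algebraMap S (S ⊗[R] C))) := by
  let ψ : S ⊗[R] C →ₐ[R] (S ⧸ p) ⊗[R] C :=
    Algebra.TensorProduct.map (Ideal.Quotient.mkₐ R p) (AlgHom.id R C)
  have hker : RingHom.ker ψ = (RingHom.ker (Ideal.Quotient.mkₐ R p)).map
      (Algebra.TensorProduct.includeLeft : S →ₐ[R] S ⊗[R] C) :=
    Algebra.TensorProduct.rTensor_ker _ (Ideal.Quotient.mkₐ_surjective R p)
  have hle : RingHom.ker ψ.toRingHom ≤ p.map (algebraMap S (S ⊗[R] C)) := by
    show RingHom.ker ψ ≤ _
    have hk : RingHom.ker (Ideal.Quotient.mkₐ R p) = p := by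
      ext s
      rw [RingHom.mem_ker]
      exact Ideal.Quotient.eq_zero_iff_mem
    rw [hker, hk, Ideal.map_le_iff_le_comap]
    intro s hs
    rw [Ideal.mem_comap]
    exact Ideal.mem_map_of_mem (algebraMap S (S ⊗[R] C)) hs
  have hzero : ∀ a ∈ p.map (algebraMap S (S ⊗[R] C)), ψ.toRingHom a = 0 := by
    intro a ha
    have hle' : p.map (algebraMap S (S ⊗[R] C)) ≤ RingHom.ker ψ.toRingHom := by
      rw [Ideal.map_le_iff_le_comap]
      intro s hs
      rw [Ideal.mem_comap, RingHom.mem_ker]
      show ψ (algebraMap S (S ⊗[R] C) s) = 0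
      rw [Algebra.TensorProduct.algebraMap_apply, Algebra.TensorProduct.map_tmul]
      have : (Ideal.Quotient.mkₐ R p) ((algebraMap S S) s) = 0 :=
        Ideal.Quotient.eq_zero_iff_mem.mpr hs
      rw [this, TensorProduct.zero_tmul]
    exact RingHom.mem_ker.mp (hle' ha)
  exact isReduced_of_injective (Ideal.Quotient.lift _ ψ.toRingHom hzero)
    (RingHom.lift_injective_of_ker_le_ideal _ hzero hle)

theorem base_case (R : Type u) [CommRing R] [IsLocalRing R] [IsNoetherianRing R]
    (D : Type u) [CommRing D] [IsDomain D] [Algebra R D]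
    (hker : RingHom.ker (algebraMap R D) = maximalIdeal R) :
    IsReduced (D ⊗[R] AdicCompletion (maximalIdeal R) R) := by
  haveI : Module.FaithfullyFlat R (AdicCompletion (maximalIdeal R) R) :=
    Module.FaithfullyFlat.of_flat_of_isLocalHom
  let g : D →ₐ[R] D ⊗[R] AdicCompletion (maximalIdeal R) R := Algebra.TensorProduct.includeLeft
  have hinj : Function.Injective g := by
    have h1 := Module.FaithfullyFlat.tensorProduct_mk_injective (A := R)
      (B := AdicCompletion (maximalIdeal R) R) D
    have h2 : (g : D → D ⊗[R] AdicCompletion (maximalIdeal R) R) =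
        (TensorProduct.comm R (AdicCompletion (maximalIdeal R) R) D) ∘
          (TensorProduct.mk R (AdicCompletion (maximalIdeal R) R) D 1) := by
      funext d; rfl
    rw [h2]
    exact (TensorProduct.comm R (AdicCompletion (maximalIdeal R) R) D).injective.comp h1
  have hzero : ∀ r ∈ (maximalIdeal R).map (algebraMap R (AdicCompletion (maximalIdeal R) R)),
      ∀ d : D, d ⊗ₜ[R] r = 0 := by
    intro r hr
    refine Submodule.span_induction (p := fun r _ => ∀ d : D, d ⊗ₜ[R] r = 0) ?_ ?_ ?_ ?_ hr
    · rintro _ ⟨r₀, hr₀, rfl⟩ d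
      have h0 : algebraMap R D r₀ = 0 := by
        rw [← RingHom.mem_ker, hker]; exact hr₀
      rw [Algebra.algebraMap_eq_smul_one, TensorProduct.tmul_smul, TensorProduct.smul_tmul',
        Algebra.smul_def, h0, zero_mul, TensorProduct.zero_tmul]
    · intro d; exact TensorProduct.tmul_zero _ _
    · intro a b _ _ ha hb d
      rw [TensorProduct.tmul_add, ha d, hb d, add_zero]
    · intro a b _ hb d
      have e : d ⊗ₜ[R] (a • b) = ((1 : D) ⊗ₜ[R] a) * (d ⊗ₜ[R] b) := by
        rw [Algebra.TensorProduct.tmul_mul_tmul, one_mul, smul_eq_mul]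
      rw [e, hb d, mul_zero]
  have hsurj : Function.Surjective g := by
    intro t
    induction t using TensorProduct.induction_on with
    | zero => exact ⟨0, map_zero _⟩
    | tmul d r =>
      obtain ⟨c, rfl⟩ := AdicCompletion.mk_surjective (maximalIdeal R) R r
      have hk : AdicCompletion.mk (maximalIdeal R) R c -
          algebraMap R (AdicCompletion (maximalIdeal R) R) (c.val 1) ∈
          (maximalIdeal R).map (algebraMap R (AdicCompletion (maximalIdeal R) R)) := by
        have hk : AdicCompletion.mk (maximalIdeal R) R c -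
            algebraMap R (AdicCompletion (maximalIdeal R) R) (c.val 1) ∈
            LinearMap.ker (AdicCompletion.eval (maximalIdeal R) R 1) := by
          rw [LinearMap.mem_ker, map_sub, sub_eq_zero]
          rfl
        rw [← AdicCompletion.pow_smul_top_eq_ker_eval (IsNoetherian.noetherian (maximalIdeal R)),
          Ideal.smul_top_eq_map, Submodule.restrictScalars_mem, pow_one] at hk
        exact hk
      refine ⟨c.val 1 • d, ?_⟩
      have h := hzero _ hk d
      rw [TensorProduct.tmul_sub, sub_eq_zero] at h
      rw [h]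
      show (c.val 1 • d) ⊗ₜ[R] (1 : AdicCompletion (maximalIdeal R) R) =
        d ⊗ₜ[R] algebraMap R (AdicCompletion (maximalIdeal R) R) (c.val 1)
      rw [Algebra.algebraMap_eq_smul_one, TensorProduct.tmul_smul, TensorProduct.smul_tmul']
    | add a b ha hb =>
      obtain ⟨a', rfl⟩ := ha
      obtain ⟨b', rfl⟩ := hb
      exact ⟨a' + b', map_add _ _ _⟩
  exact isReduced_of_injective (RingEquiv.ofBijective g ⟨hinj, hsurj⟩).symm.toRingHom
    (RingEquiv.injective _)

theorem step (R : Type u) [CommRing R] [IsLocalRing R] (hR : CAlg.IsNagata R)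
    [IsNoetherianRing R]
    (D : Type u) [CommRing D] [IsDomain D] [Algebra R D] [Module.Finite R D]
    (x₀ : R) (hx₀m : x₀ ∈ maximalIdeal R) (hx₀ : algebraMap R D x₀ ≠ 0)
    (ih : ∀ (D' : Type u) [CommRing D'] [IsDomain D'] [Algebra R D'] [Module.Finite R D'],
      RingHom.ker (algebraMap R D) < RingHom.ker (algebraMap R D') →
      IsReduced (D' ⊗[R] AdicCompletion (maximalIdeal R) R)) :
    IsReduced (D ⊗[R] AdicCompletion (maximalIdeal R) R) := by
  classical
  haveI : IsNoetherianRing (AdicCompletion (maximalIdeal R) R) := Groth.Agent.S2093.noeth_hat R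
  haveI hSfin : Module.Finite R (integralClosure D (FractionRing D)) := normz_finite R hR D
  haveI : IsNoetherianRing (integralClosure D (FractionRing D)) := IsNoetherianRing.of_finite R _
  haveI : IsIntegrallyClosed (integralClosure D (FractionRing D)) :=
    integralClosure.isIntegrallyClosedOfFiniteExtension (FractionRing D)
  haveI : IsNoetherianRing
      (integralClosure D (FractionRing D) ⊗[R] AdicCompletion (maximalIdeal R) R) :=
    noeth_T R _
  have hDS : Function.Injective (algebraMap D (integralClosure D (FractionRing D))) := by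
    intro a b hab
    apply IsFractionRing.injective D (FractionRing D)
    exact congrArg Subtype.val hab
  have hxS : algebraMap R (integralClosure D (FractionRing D)) x₀ ≠ 0 := by
    rw [IsScalarTower.algebraMap_apply R D (integralClosure D (FractionRing D))]
    intro h; exact hx₀ (hDS (h.trans (map_zero _).symm))
  haveI hT : IsReduced
      (integralClosure D (FractionRing D) ⊗[R] AdicCompletion (maximalIdeal R) R) := by
    refine crit (integralClosure D (FractionRing D))
      (integralClosure D (FractionRing D) ⊗[R] AdicCompletion (maximalIdeal R) R)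
      (algebraMap R (integralClosure D (FractionRing D)) x₀) hxS ?_ ?_
    · rw [← IsScalarTower.algebraMap_apply R]; exact jac_mem R _ x₀ hx₀m
    · intro p hp hpprime
      haveI := hpprime
      refine ⟨dvr_of_ass _ _ hxS p hp, ?_⟩
      haveI : IsReduced ((integralClosure D (FractionRing D) ⧸ p) ⊗[R]
          AdicCompletion (maximalIdeal R) R) := by
        apply ih
        have hxp : algebraMap R (integralClosure D (FractionRing D)) x₀ ∈ p := by
          obtain ⟨_, ybar, hy⟩ := isAssociatedPrime_iff.mp hp
          rw [hy, Submodule.mem_colon_singleton, Submodule.mem_bot]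
          obtain ⟨y, rfl⟩ := Ideal.Quotient.mk_surjective ybar
          show Ideal.Quotient.mk _ (algebraMap R (integralClosure D (FractionRing D)) x₀ * y) = 0
          rw [Ideal.Quotient.eq_zero_iff_mem]
          exact Ideal.mul_mem_right _ _ (Ideal.mem_span_singleton_self _)
        refine lt_of_le_of_ne ?_ ?_
        · intro r hr
          rw [RingHom.mem_ker] at hr ⊢
          rw [IsScalarTower.algebraMap_apply R (integralClosure D (FractionRing D)),
            IsScalarTower.algebraMap_apply R D (integralClosure D (FractionRing D)), hr, map_zero,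
            map_zero]
        · intro h
          have h1 : x₀ ∈ RingHom.ker (algebraMap R (integralClosure D (FractionRing D) ⧸ p)) := by
            rw [RingHom.mem_ker,
              IsScalarTower.algebraMap_apply R (integralClosure D (FractionRing D))]
            exact Ideal.Quotient.eq_zero_iff_mem.mpr hxp
          rw [← h, RingHom.mem_ker] at h1
          exact hx₀ h1
      exact quot_reduced R _ _ p
  let f : D →ₐ[R] integralClosure D (FractionRing D) := IsScalarTower.toAlgHom R D _
  have hf : Function.Injective (Algebra.TensorProduct.map f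
      (AlgHom.id R (AdicCompletion (maximalIdeal R) R))) := by
    have := Module.Flat.rTensor_preserves_injective_linearMap
      (M := AdicCompletion (maximalIdeal R) R) f.toLinearMap hDS
    exact this
  exact isReduced_of_injective (Algebra.TensorProduct.map f
      (AlgHom.id R (AdicCompletion (maximalIdeal R) R))) hf

theorem main (R : Type u) [CommRing R] [IsLocalRing R] (hR : CAlg.IsNagata R) :
    ∀ (p₀ : Ideal R) (D : Type u) [CommRing D] [IsDomain D] [Algebra R D] [Module.Finite R D],
      RingHom.ker (algebraMap R D) = p₀ →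
      IsReduced (D ⊗[R] AdicCompletion (maximalIdeal R) R) := by
  haveI : IsNoetherianRing R := hR.1
  intro p₀
  induction p₀ using WellFoundedGT.induction with
  | ind p₀ ih =>
  intro D _ _ _ _ hker
  by_cases hpm : p₀ = maximalIdeal R
  · exact base_case R D (hker.trans hpm)
  · have hp₀top : p₀ ≠ ⊤ := by rw [← hker]; exact RingHom.ker_ne_top _
    have hp₀le : p₀ ≤ maximalIdeal R := le_maximalIdeal hp₀top
    obtain ⟨x₀, hx₀m, hx₀p⟩ : ∃ x₀ ∈ maximalIdeal R, x₀ ∉ p₀ := by
      by_contra hcon
      push Not at hcon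
      exact hpm (le_antisymm hp₀le hcon)
    refine step R hR D x₀ hx₀m ?_ ?_
    · intro h; apply hx₀p; rw [← hker]; exact RingHom.mem_ker.mpr h
    · intro D' _ _ _ _ hlt
      exact ih _ (hker ▸ hlt) D' rfl

/-- **Nagata local domains are analytically unramified** (general form): for a Nagata local ring
`R` and a domain `D` finite over `R`, `D ⊗[R] R^` is reduced. -/
theorem reduced_tensor (R : Type u) [CommRing R] [IsLocalRing R] (hR : CAlg.IsNagata R)
    (D : Type u) [CommRing D] [IsDomain D] [Algebra R D] [Module.Finite R D] :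
    IsReduced (D ⊗[R] AdicCompletion (maximalIdeal R) R) :=
  main R hR _ D rfl

theorem reduced_completion (R : Type u) [CommRing R] [IsDomain R] [IsLocalRing R]
    (hR : CAlg.IsNagata R) : IsReduced (AdicCompletion (maximalIdeal R) R) := by
  haveI := reduced_tensor R hR R
  exact isReduced_of_injective
    (Algebra.TensorProduct.lid R (AdicCompletion (maximalIdeal R) R)).symm.toAlgHom.toRingHom
    (Algebra.TensorProduct.lid R (AdicCompletion (maximalIdeal R) R)).symm.injective

end Groth.Agent.H23.NagataAU
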