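import Mathlib
import Groth.Prelude.Def_Found
import Groth.Agent.H11.AnUnram
import Groth.Agent.H69.UHomeo2

/-!
# Stabilisation of reduced tensor products over finite subalgebras (EGA 0_IV 23.2-type), helper23
`finite_ic_quot` is helper11's `finite_integralClosure_fractionRing_quot` with the N-2 hypothesis
only at the contracted prime.
-/

set_option autoImplicit false
set_option linter.style.haveILetI false
set_option linter.unusedSectionVars false
universe u

namespace Groth.Agent.H23.JapStab

open TensorProduct AlgebraicGeometry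

section FD

variable {A Ahat K' : Type u} [CommRing A] [IsDomain A] [CommRing Ahat] [Algebra A Ahat]
  [IsNoetherianRing Ahat]
  [Field K'] [Algebra A K'] [Algebra (FractionRing A) K'] [IsScalarTower A (FractionRing A) K']
  [FiniteDimensional (FractionRing A) K']

set_option maxHeartbeats 1600000 in
/-- The fraction field of `(Â ⊗ K')/P` is finite over the fraction field of `Â/(P ∩ Â)`,
packaged as finiteness of the integral closure. -/
theorem finite_ic_quot
    (P : Ideal (Ahat ⊗[A] K')) [P.IsPrime]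
    (hNp : CAlg.IsN2 (Ahat ⧸ P.comap (algebraMap Ahat (Ahat ⊗[A] K')))) :
    Module.Finite Ahat (integralClosure Ahat (FractionRing ((Ahat ⊗[A] K') ⧸ P))) := by
  let K := FractionRing A
  let T := Ahat ⊗[A] K'
  let TP := T ⧸ P
  let F := FractionRing TP
  let p : Ideal Ahat := P.comap (algebraMap Ahat T)
  haveI : p.IsPrime := Ideal.comap_isPrime _ _
  let D := Ahat ⧸ p
  let φ : D →+* TP := Ideal.quotientMap P (algebraMap Ahat T) le_rfl
  have hφ : Function.Injective φ := Ideal.quotientMap_injective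
  letI : Algebra D TP := φ.toAlgebra
  haveI : IsScalarTower Ahat D TP := IsScalarTower.of_algebraMap_eq (fun a => rfl)
  haveI : IsScalarTower Ahat D F := IsScalarTower.of_algebraMap_eq (fun a => by
    rw [IsScalarTower.algebraMap_apply Ahat TP F, IsScalarTower.algebraMap_apply D TP F,
      ← IsScalarTower.algebraMap_apply Ahat D TP])
  have hDF : Function.Injective (algebraMap D F) := by
    rw [IsScalarTower.algebraMap_eq D TP F]
    exact (IsFractionRing.injective TP F).comp hφ
  haveI : FaithfulSMul D F := (faithfulSMul_iff_algebraMap_injective _ _).mpr hDF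
  letI : Algebra (FractionRing D) F := FractionRing.liftAlgebra D F
  haveI : IsScalarTower D (FractionRing D) F := FractionRing.isScalarTower_liftAlgebra D F
  let κ := FractionRing D
  -- the map `K' → F`
  let ρ : K' →ₐ[A] F := (IsScalarTower.toAlgHom A TP F).comp
    ((Ideal.Quotient.mkₐ A P).comp (Algebra.TensorProduct.includeRight : K' →ₐ[A] Ahat ⊗[A] K'))
  have hAK' : Function.Injective (algebraMap A K') := by
    rw [IsScalarTower.algebraMap_eq A K K']
    exact (algebraMap K K').injective.comp (IsFractionRing.injective A K)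
  have hAF : Function.Injective (algebraMap A F) := by
    have : algebraMap A F = ρ.toRingHom.comp (algebraMap A K') := by
      ext a; exact (ρ.commutes a).symm
    rw [this]
    exact ρ.toRingHom.injective.comp hAK'
  haveI : IsScalarTower A D F := IsScalarTower.of_algebraMap_eq (fun a => by
    rw [IsScalarTower.algebraMap_apply A Ahat D, ← IsScalarTower.algebraMap_apply Ahat D F,
      ← IsScalarTower.algebraMap_apply A Ahat F])
  haveI : IsScalarTower A κ F := IsScalarTower.of_algebraMap_eq (fun a => by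
    rw [IsScalarTower.algebraMap_apply A D κ, ← IsScalarTower.algebraMap_apply D κ F,
      ← IsScalarTower.algebraMap_apply A D F])
  have hAκ : Function.Injective (algebraMap A κ) := by
    have h : algebraMap A F = (algebraMap κ F).comp (algebraMap A κ) :=
      IsScalarTower.algebraMap_eq A κ F
    intro a b hab
    apply hAF
    rw [h, RingHom.comp_apply, RingHom.comp_apply, hab]
  haveI : Algebra.IsAlgebraic A K' :=
    (IsFractionRing.comap_isAlgebraic_iff (A := A) (K := K) (C := K')).mpr inferInstance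
  let b := Module.finBasis K K'
  let S : Set F := Set.range fun i => ρ (b i)
  haveI : Finite S := Set.finite_range _
  have hSint : ∀ x ∈ S, IsIntegral κ x := by
    rintro _ ⟨i, rfl⟩
    have h1 : IsAlgebraic A (b i) := Algebra.IsAlgebraic.isAlgebraic (b i)
    have h2 : IsAlgebraic A (ρ (b i)) := h1.algHom ρ
    exact (h2.extendScalars hAκ).isIntegral
  haveI hEfd : FiniteDimensional κ (IntermediateField.adjoin κ S) :=
    IntermediateField.finiteDimensional_adjoin hSint
  have hE : ∀ z : F, z ∈ IntermediateField.adjoin κ S := by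
    have ha : ∀ u : A, algebraMap A F u ∈ IntermediateField.adjoin κ S := fun u => by
      rw [IsScalarTower.algebraMap_apply A κ F]
      exact IntermediateField.algebraMap_mem _ _
    have hb : ∀ c : K, ρ (algebraMap K K' c) ∈ IntermediateField.adjoin κ S := fun c => by
      obtain ⟨u, s, hs, rfl⟩ := IsFractionRing.div_surjective (A := A) c
      rw [map_div₀, ← IsScalarTower.algebraMap_apply, ← IsScalarTower.algebraMap_apply, map_div₀,
        ρ.commutes, ρ.commutes]
      exact div_mem (ha u) (ha s)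
    have hc : ∀ x : K', ρ x ∈ IntermediateField.adjoin κ S := fun x => by
      rw [← b.sum_repr x, map_sum]
      refine sum_mem fun i _ => ?_
      rw [Algebra.smul_def, map_mul]
      exact mul_mem (hb _) (IntermediateField.subset_adjoin κ S ⟨i, rfl⟩)
    have hd : ∀ τ : T, algebraMap TP F (Ideal.Quotient.mk P τ) ∈ IntermediateField.adjoin κ S := by
      intro τ
      induction τ using TensorProduct.induction_on with
      | zero => simp
      | add x y hx hy => rw [map_add, map_add]; exact add_mem hx hy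
      | tmul a x =>
        have h1 : (a ⊗ₜ[A] x : T) = algebraMap Ahat T a *
            (Algebra.TensorProduct.includeRight : K' →ₐ[A] Ahat ⊗[A] K') x := by
          rw [Algebra.TensorProduct.algebraMap_apply, Algebra.TensorProduct.includeRight_apply,
            Algebra.TensorProduct.tmul_mul_tmul]
          simp
        rw [h1, map_mul, map_mul]
        refine mul_mem ?_ (hc x)
        have h2 : algebraMap TP F (Ideal.Quotient.mk P (algebraMap Ahat T a)) =
            algebraMap κ F (algebraMap D κ (Ideal.Quotient.mk p a)) := by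
          rw [← IsScalarTower.algebraMap_apply D κ F, IsScalarTower.algebraMap_apply D TP F]
          rfl
        rw [h2]
        exact IntermediateField.algebraMap_mem _ _
    intro z
    obtain ⟨t1, t2, -, rfl⟩ := IsFractionRing.div_surjective (A := TP) z
    obtain ⟨τ1, rfl⟩ := Ideal.Quotient.mk_surjective t1
    obtain ⟨τ2, rfl⟩ := Ideal.Quotient.mk_surjective t2
    exact div_mem (hd τ1) (hd τ2)
  have htop : IntermediateField.adjoin κ S = ⊤ := by
    rw [eq_top_iff]; intro z _; exact hE z
  haveI hfd : FiniteDimensional κ F := by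
    rw [htop] at hEfd
    exact Module.Finite.equiv (IntermediateField.topEquiv (F := κ) (E := F)).toLinearEquiv
  have h1 : Module.Finite D (integralClosure D F) := hNp F hfd
  have hfg : (Subalgebra.toSubmodule (integralClosure D F)).FG :=
    (Submodule.fg_top _).mp (Module.finite_def.mp h1)
  haveI : Module.Finite Ahat D :=
    Module.Finite.of_surjective (Ideal.Quotient.mkₐ Ahat p).toLinearMap
      (Ideal.Quotient.mkₐ_surjective Ahat p)
  have hfgR : ((Subalgebra.toSubmodule (integralClosure D F)).restrictScalars Ahat).FG :=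
    hfg.restrictScalars
  haveI : Module.Finite Ahat
      ↥((Subalgebra.toSubmodule (integralClosure D F)).restrictScalars Ahat) :=
    Module.Finite.iff_fg.mpr hfgR
  let g : integralClosure Ahat F →ₗ[Ahat]
      ↥((Subalgebra.toSubmodule (integralClosure D F)).restrictScalars Ahat) :=
    ((integralClosure Ahat F).val.toLinearMap).codRestrict _ (fun a => by
      have h1 : IsIntegral Ahat (a : F) := a.2
      exact h1.tower_top)
  refine Module.Finite.of_injective g (fun a b hab => ?_)
  have h' : (g a).1 = (g b).1 := congrArg Subtype.val hab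
  exact Subtype.ext h'

end FD

section Main

variable {A B K' : Type u} [CommRing A] [IsDomain A] [CommRing B] [Algebra A B]
  [Field K'] [Algebra A K']

theorem comap_mem_minimalPrimes {R S : Type*} [CommRing R] [CommRing S] [Algebra R S]
    [Module.Flat R S] (Q : Ideal S) (hQ : Q ∈ minimalPrimes S) :
    Q.comap (algebraMap R S) ∈ minimalPrimes R := by
  haveI : Q.IsPrime := hQ.1.1
  haveI : (Q.comap (algebraMap R S)).IsPrime := Ideal.comap_isPrime _ _
  refine ⟨⟨inferInstance, bot_le⟩, fun p hp hle => ?_⟩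
  by_contra hnot
  haveI := hp.1
  have hlt : p < Q.comap (algebraMap R S) := lt_of_le_not_ge hle hnot
  haveI : Q.LiesOver (Q.comap (algebraMap R S)) := ⟨rfl⟩
  obtain ⟨P, hPQ, hPprime, _⟩ := Ideal.exists_ideal_lt_liesOver_of_lt Q hlt
  exact absurd (hQ.2 ⟨hPprime, bot_le⟩ hPQ.le) (not_le_of_gt hPQ)

/-- The predicate of the statements: finite over `A` with fraction field `K'`. -/
def PP (C : Subalgebra A K') : Prop :=
  Module.Finite A C ∧ ∀ x : K', ∃ a b : C, (b : K') ≠ 0 ∧ x * b = a

theorem exists_PP [Algebra (FractionRing A) K'] [IsScalarTower A (FractionRing A) K']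
    [FiniteDimensional (FractionRing A) K'] : ∃ C : Subalgebra A K', PP C := by
  classical
  obtain ⟨s, b, hb⟩ := FiniteDimensional.exists_is_basis_integral A (FractionRing A) K'
  let C : Subalgebra A K' := Algebra.adjoin A (Set.range b)
  have hfin : Module.Finite A C :=
    Algebra.finite_adjoin_of_finite_of_isIntegral (Set.finite_range b)
      (by rintro _ ⟨i, rfl⟩; exact hb i)
  refine ⟨C, hfin, ?_⟩
  have hAK' : Function.Injective (algebraMap A K') := by
    rw [IsScalarTower.algebraMap_eq A (FractionRing A) K']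
    exact (algebraMap (FractionRing A) K').injective.comp (IsFractionRing.injective A _)
  let F : Submodule (FractionRing A) K' :=
    { carrier := {x | ∃ a b : C, (b : K') ≠ 0 ∧ x * b = a}
      zero_mem' := ⟨0, 1, by simp, by simp⟩
      add_mem' := by
        rintro x y ⟨a, b, hb, h1⟩ ⟨a', b', hb', h2⟩
        refine ⟨a * b' + a' * b, b * b', ?_, ?_⟩
        · push_cast; exact mul_ne_zero hb hb'
        · push_cast; rw [← h1, ← h2]; ring
      smul_mem' := by
        rintro k x ⟨a, b, hb, h1⟩
        obtain ⟨u, v, hv, rfl⟩ := IsFractionRing.div_surjective (A := A) k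
        have hv0 : algebraMap A K' v ≠ 0 := by
          intro h
          exact (nonZeroDivisors.ne_zero hv) (hAK' (h.trans (map_zero _).symm))
        refine ⟨algebraMap A C u * a, algebraMap A C v * b, ?_, ?_⟩
        · push_cast
          exact mul_ne_zero hv0 hb
        · push_cast
          rw [Algebra.smul_def, map_div₀, ← IsScalarTower.algebraMap_apply,
            ← IsScalarTower.algebraMap_apply, ← h1]
          field_simp }
  have hF : F = ⊤ := by
    rw [eq_top_iff, ← b.span_eq, Submodule.span_le]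
    rintro _ ⟨i, rfl⟩
    exact ⟨⟨b i, Algebra.subset_adjoin ⟨i, rfl⟩⟩, 1, by simp, by simp⟩
  intro x
  have hx : x ∈ F := hF ▸ Submodule.mem_top
  exact hx

/-- the comparison map `C ⊗ B → B ⊗ K'`. -/
noncomputable def ι (C : Subalgebra A K') : ↥C ⊗[A] B →ₐ[A] B ⊗[A] K' :=
  (Algebra.TensorProduct.comm A K' B).toAlgHom.comp
    (Algebra.TensorProduct.map C.val (AlgHom.id A B))

theorem ι_tmul (C : Subalgebra A K') (c : C) (b : B) :
    ι (B := B) C (c ⊗ₜ[A] b) = b ⊗ₜ[A] (c : K') := rfl

theorem ι_injective [Module.Flat A B] (C : Subalgebra A K') :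
    Function.Injective (ι (B := B) C) := by
  have h1 : Function.Injective (Algebra.TensorProduct.map C.val (AlgHom.id A B)) := by
    have := Module.Flat.rTensor_preserves_injective_linearMap (M := B) C.val.toLinearMap
      Subtype.val_injective
    exact this
  exact (Algebra.TensorProduct.comm A K' B).injective.comp h1

theorem ι_comp {C₁ C₂ : Subalgebra A K'} (hle : C₁ ≤ C₂) (x : ↥C₁ ⊗[A] B) :
    ι (B := B) C₂ (Algebra.TensorProduct.map (Subalgebra.inclusion hle) (AlgHom.id A B) x) =
      ι C₁ x := by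
  induction x using TensorProduct.induction_on with
  | zero => simp
  | tmul c b => rfl
  | add u v hu hv => rw [map_add, map_add, map_add, hu, hv]

/-- the `B`-span of `1 ⊗ C` in `B ⊗ K'`. -/
def V (C : Subalgebra A K') : Submodule B (B ⊗[A] K') :=
  Submodule.span B ((fun c : K' => (1 : B) ⊗ₜ[A] c) '' (C : Set K'))

theorem V_mono {C₁ C₂ : Subalgebra A K'} (hle : C₁ ≤ C₂) : V (B := B) C₁ ≤ V C₂ :=
  Submodule.span_mono (Set.image_mono hle)

theorem mem_V_iff (C : Subalgebra A K') (t : B ⊗[A] K') :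
    t ∈ V (B := B) C ↔ ∃ x : ↥C ⊗[A] B, ι C x = t := by
  constructor
  · intro ht
    refine Submodule.span_induction (p := fun t _ => ∃ x : ↥C ⊗[A] B, ι C x = t) ?_ ?_ ?_ ?_ ht
    · rintro _ ⟨c, hc, rfl⟩
      exact ⟨(⟨c, hc⟩ : C) ⊗ₜ[A] (1 : B), rfl⟩
    · exact ⟨0, map_zero _⟩
    · rintro a b _ _ ⟨x, rfl⟩ ⟨y, rfl⟩
      exact ⟨x + y, map_add _ _ _⟩
    · rintro b t _ ⟨x, rfl⟩
      refine ⟨((1 : C) ⊗ₜ[A] b) * x, ?_⟩
      rw [map_mul, ι_tmul, Algebra.smul_def, Algebra.TensorProduct.algebraMap_apply]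
      rfl
  · rintro ⟨x, rfl⟩
    induction x using TensorProduct.induction_on with
    | zero => rw [map_zero]; exact zero_mem _
    | tmul c b =>
      rw [ι_tmul]
      have e : b ⊗ₜ[A] (c : K') = b • ((1 : B) ⊗ₜ[A] (c : K')) := by
        rw [TensorProduct.smul_tmul', smul_eq_mul, mul_one]
      rw [e]
      exact Submodule.smul_mem _ _ (Submodule.subset_span ⟨c, c.2, rfl⟩)
    | add u v hu hv => rw [map_add]; exact add_mem hu hv

theorem V_le_integral (C : Subalgebra A K') [Module.Finite A C] {t : B ⊗[A] K'}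
    (ht : t ∈ V (B := B) C) : IsIntegral B t := by
  refine Submodule.span_induction (p := fun t _ => IsIntegral B t) ?_ ?_ ?_ ?_ ht
  · rintro _ ⟨c, hc, rfl⟩
    have h1 : IsIntegral A (⟨c, hc⟩ : C) := IsIntegral.of_finite A _
    have h2 : IsIntegral A c := h1.map C.val
    have h3 : IsIntegral A ((Algebra.TensorProduct.includeRight : K' →ₐ[A] B ⊗[A] K') c) :=
      h2.map _
    exact h3.tower_top
  · exact isIntegral_zero
  · intro a b _ _ ha hb; exact ha.add hb
  · intro b t _ ht
    rw [Algebra.smul_def]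
    exact isIntegral_algebraMap.mul ht

variable [IsNoetherianRing B] [Module.Flat A B]
  [Algebra (FractionRing A) K'] [IsScalarTower A (FractionRing A) K']
  [FiniteDimensional (FractionRing A) K']

theorem stab
    (hJ : ∀ (q : Ideal B) [q.IsPrime], q ∈ minimalPrimes B → CAlg.IsN2 (B ⧸ q)) :
    ∃ Cα : Subalgebra A K', PP Cα ∧ ∀ C : Subalgebra A K', PP C → Cα ≤ C →
      ∀ y : ↥C ⊗[A] B, ∃ x : ↥Cα ⊗[A] B, IsNilpotent (ι C y - ι Cα x) := by
  classical
  haveI : IsNoetherianRing (B ⊗[A] K') := Groth.Agent.H11.AnUnram.isNoetherianRing_tensor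
  haveI : Module.Flat A K' := Module.Flat.trans A (FractionRing A) K'
  haveI : Module.Flat B (B ⊗[A] K') := inferInstance
  have hfin : (minimalPrimes (B ⊗[A] K')).Finite :=
    minimalPrimes.finite_of_isNoetherianRing (B ⊗[A] K')
  haveI : Fintype (minimalPrimes (B ⊗[A] K')) := hfin.fintype
  haveI hprime : ∀ P : minimalPrimes (B ⊗[A] K'), (P : Ideal (B ⊗[A] K')).IsPrime :=
    fun P => P.2.1.1
  let ψ : ∀ P : minimalPrimes (B ⊗[A] K'),
      (B ⊗[A] K') →ₐ[B] FractionRing ((B ⊗[A] K') ⧸ (P : Ideal (B ⊗[A] K'))) := fun P =>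
    (IsScalarTower.toAlgHom B ((B ⊗[A] K') ⧸ (P : Ideal (B ⊗[A] K')))
      (FractionRing ((B ⊗[A] K') ⧸ (P : Ideal (B ⊗[A] K'))))).comp
      (Ideal.Quotient.mkₐ B (P : Ideal (B ⊗[A] K')))
  have hψ : ∀ (P : minimalPrimes (B ⊗[A] K')) (x : B ⊗[A] K'), ψ P x = 0 →
      x ∈ (P : Ideal (B ⊗[A] K')) := by
    intro P x hx
    have h1 : algebraMap ((B ⊗[A] K') ⧸ (P : Ideal (B ⊗[A] K')))
        (FractionRing ((B ⊗[A] K') ⧸ (P : Ideal (B ⊗[A] K'))))
        (Ideal.Quotient.mk (P : Ideal (B ⊗[A] K')) x) = 0 := hx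
    have h2 : Ideal.Quotient.mk (P : Ideal (B ⊗[A] K')) x = 0 :=
      (IsFractionRing.injective ((B ⊗[A] K') ⧸ (P : Ideal (B ⊗[A] K')))
        (FractionRing ((B ⊗[A] K') ⧸ (P : Ideal (B ⊗[A] K'))))) (by rw [h1, map_zero])
    exact Ideal.Quotient.eq_zero_iff_mem.mp h2
  haveI hfinP : ∀ P : minimalPrimes (B ⊗[A] K'), Module.Finite B
      (integralClosure B (FractionRing ((B ⊗[A] K') ⧸ (P : Ideal (B ⊗[A] K'))))) := fun P => by
    have hmin : (P : Ideal (B ⊗[A] K')).comap (algebraMap B (B ⊗[A] K')) ∈ minimalPrimes B :=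
      comap_mem_minimalPrimes _ P.2
    exact finite_ic_quot (P : Ideal (B ⊗[A] K')) (hJ _ hmin)
  let Φ : integralClosure B (B ⊗[A] K') →ₗ[B]
      (∀ P : minimalPrimes (B ⊗[A] K'),
        integralClosure B (FractionRing ((B ⊗[A] K') ⧸ (P : Ideal (B ⊗[A] K'))))) :=
    LinearMap.pi fun P => ((ψ P).mapIntegralClosure).toLinearMap
  have hΦ : ∀ z : integralClosure B (B ⊗[A] K'), Φ z = 0 → IsNilpotent (z : B ⊗[A] K') := by
    intro x hx
    have h1 : ∀ P : minimalPrimes (B ⊗[A] K'), (x : B ⊗[A] K') ∈ (P : Ideal (B ⊗[A] K')) := by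
      intro P
      apply hψ P
      have := congrFun hx P
      exact congrArg Subtype.val this
    rw [nilpotent_iff_mem_prime]
    intro J hJ'
    obtain ⟨P, hP, hPJ⟩ := Ideal.exists_minimalPrimes_le (I := ⊥) (J := J) bot_le
    exact hPJ (h1 ⟨P, hP⟩)
  haveI : IsNoetherian B (∀ P : minimalPrimes (B ⊗[A] K'),
      integralClosure B (FractionRing ((B ⊗[A] K') ⧸ (P : Ideal (B ⊗[A] K'))))) :=
    isNoetherian_of_isNoetherianRing_of_finite B _
  let N : Subalgebra A K' → Submodule B (∀ P : minimalPrimes (B ⊗[A] K'),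
      integralClosure B (FractionRing ((B ⊗[A] K') ⧸ (P : Ideal (B ⊗[A] K'))))) := fun C =>
    ((V (B := B) C).comap (integralClosure B (B ⊗[A] K')).val.toLinearMap).map Φ
  let S : Set (Submodule B (∀ P : minimalPrimes (B ⊗[A] K'),
      integralClosure B (FractionRing ((B ⊗[A] K') ⧸ (P : Ideal (B ⊗[A] K')))))) :=
    {M | ∃ C : Subalgebra A K', PP C ∧ M = N C}
  have hS : S.Nonempty := by
    obtain ⟨C₀, h₀⟩ := exists_PP (A := A) (K' := K')
    exact ⟨N C₀, C₀, h₀, rfl⟩
  obtain ⟨M, ⟨Cα, hCα, rfl⟩, hmax⟩ := wellFounded_gt.has_min S hS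
  refine ⟨Cα, hCα, fun C hC hle y => ?_⟩
  have hNle : N Cα ≤ N C := Submodule.map_mono (Submodule.comap_mono (V_mono hle))
  have hNeq : N C = N Cα := by
    by_contra hne
    exact hmax (N C) ⟨C, hC, rfl⟩ (lt_of_le_of_ne hNle (Ne.symm hne))
  haveI := hC.1
  have hyV : ι C y ∈ V (B := B) C := (mem_V_iff C _).mpr ⟨y, rfl⟩
  have hyint : IsIntegral B (ι C y) := V_le_integral C hyV
  have hmem : Φ ⟨ι C y, hyint⟩ ∈ N C := Submodule.mem_map_of_mem (by exact hyV)
  rw [hNeq] at hmem
  obtain ⟨z', hz'V, hz'⟩ := hmem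
  obtain ⟨x, hx⟩ := (mem_V_iff Cα _).mp hz'V
  refine ⟨x, ?_⟩
  have h := hΦ (⟨ι C y, hyint⟩ - z') (by rw [map_sub, hz', sub_self])
  have e : ((⟨ι C y, hyint⟩ - z' : integralClosure B (B ⊗[A] K')) : B ⊗[A] K') =
      ι C y - ι Cα x := by
    rw [hx]; rfl
  rw [e] at h
  exact h

theorem radicial (hff : Module.FaithfullyFlat A B) (Cα : Subalgebra A K') (hCα : PP Cα)
    (hstab : ∀ C : Subalgebra A K', PP C → Cα ≤ C →
      ∀ y : ↥C ⊗[A] B, ∃ x : ↥Cα ⊗[A] B, IsNilpotent (ι C y - ι Cα x))
    (hint : Cα ≤ integralClosure A K') (L : Type u) [Field L]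
    (f g : ↥(integralClosure A K') →+* L)
    (hfg : f.comp (Subalgebra.inclusion hint).toRingHom =
      g.comp (Subalgebra.inclusion hint).toRingHom) : f = g := by
  classical
  ext ⟨x, hx⟩
  haveI := hCα.1
  have hfgα : (Subalgebra.toSubmodule Cα).FG :=
    (Submodule.fg_top _).mp (Module.finite_def.mp hCα.1)
  obtain ⟨s, hs⟩ := hfgα
  let C : Subalgebra A K' := Algebra.adjoin A ((s : Set K') ∪ {x})
  have hsα : ∀ y ∈ (s : Set K'), y ∈ Cα := by
    intro y hy
    have : y ∈ Subalgebra.toSubmodule Cα := hs ▸ Submodule.subset_span hy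
    exact this
  have hsint : ∀ y ∈ (s : Set K') ∪ {x}, IsIntegral A y := by
    rintro y (hy | hy)
    · exact hint (hsα y hy)
    · rw [Set.mem_singleton_iff] at hy; rw [hy]; exact hx
  have hCint : C ≤ integralClosure A K' := Algebra.adjoin_le hsint
  have hfinC : Module.Finite A C :=
    Algebra.finite_adjoin_of_finite_of_isIntegral
      (s.finite_toSet.union (Set.finite_singleton x)) hsint
  have hle : Cα ≤ C := by
    intro c hc
    have h1 : c ∈ Subalgebra.toSubmodule Cα := hc
    rw [← hs] at h1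
    exact Submodule.span_le (p := Subalgebra.toSubmodule C).mpr
      (fun y hy => Algebra.subset_adjoin (Or.inl hy)) h1
  have hPC : PP C := ⟨hfinC, fun z => by
    obtain ⟨a, b, hb, h⟩ := hCα.2 z
    exact ⟨Subalgebra.inclusion hle a, Subalgebra.inclusion hle b, hb, h⟩⟩
  letI algL : Algebra A L := (f.comp (algebraMap A (integralClosure A K'))).toAlgebra
  let fC : ↥C →ₐ[A] L :=
    { toRingHom := f.comp (Subalgebra.inclusion hCint).toRingHom
      commutes' := fun a => rfl }
  have hfgc : ∀ c : Cα, f (Subalgebra.inclusion hint c) = g (Subalgebra.inclusion hint c) :=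
    fun c => congrArg (fun h : ↥Cα →+* L => h c) hfg
  let gC : ↥C →ₐ[A] L :=
    { toRingHom := g.comp (Subalgebra.inclusion hCint).toRingHom
      commutes' := fun a => (hfgc (algebraMap A Cα a)).symm }
  haveI : Nontrivial (L ⊗[A] B) := Module.FaithfullyFlat.rTensor_nontrivial A B L
  have hagree : ∀ x' : ↥Cα ⊗[A] B,
      Algebra.TensorProduct.map fC (AlgHom.id A B)
        (Algebra.TensorProduct.map (Subalgebra.inclusion hle) (AlgHom.id A B) x') =
      Algebra.TensorProduct.map gC (AlgHom.id A B)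
        (Algebra.TensorProduct.map (Subalgebra.inclusion hle) (AlgHom.id A B) x') := by
    intro x'
    induction x' using TensorProduct.induction_on with
    | zero => simp
    | tmul c b =>
      simp only [Algebra.TensorProduct.map_tmul]
      congr 1
      exact hfgc c
    | add u v hu hv => rw [map_add, map_add, map_add, hu, hv]
  let c : C := ⟨x, Algebra.subset_adjoin (Or.inr rfl)⟩
  obtain ⟨x', hx'⟩ := hstab C hPC hle (c ⊗ₜ[A] (1 : B))
  have hnil : IsNilpotent ((c ⊗ₜ[A] (1 : B)) -
      Algebra.TensorProduct.map (Subalgebra.inclusion hle) (AlgHom.id A B) x') := by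
    obtain ⟨n, hn⟩ := hx'
    refine ⟨n, ι_injective C ?_⟩
    rw [map_pow, map_sub, ι_comp, hn, map_zero]
  have h1 := hnil.map (Algebra.TensorProduct.map fC (AlgHom.id A B))
  have h2 := hnil.map (Algebra.TensorProduct.map gC (AlgHom.id A B))
  have h3 : IsNilpotent (Algebra.TensorProduct.map fC (AlgHom.id A B) (c ⊗ₜ[A] (1 : B)) -
      Algebra.TensorProduct.map gC (AlgHom.id A B) (c ⊗ₜ[A] (1 : B))) := by
    have e : Algebra.TensorProduct.map fC (AlgHom.id A B) (c ⊗ₜ[A] (1 : B)) -
        Algebra.TensorProduct.map gC (AlgHom.id A B) (c ⊗ₜ[A] (1 : B)) =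
        Algebra.TensorProduct.map fC (AlgHom.id A B) ((c ⊗ₜ[A] (1 : B)) -
          Algebra.TensorProduct.map (Subalgebra.inclusion hle) (AlgHom.id A B) x') -
        Algebra.TensorProduct.map gC (AlgHom.id A B) ((c ⊗ₜ[A] (1 : B)) -
          Algebra.TensorProduct.map (Subalgebra.inclusion hle) (AlgHom.id A B) x') := by
      rw [map_sub, map_sub, hagree]; ring
    rw [e]
    exact (Commute.all _ _).isNilpotent_sub h1 h2
  have h4 : Algebra.TensorProduct.map fC (AlgHom.id A B) (c ⊗ₜ[A] (1 : B)) -
      Algebra.TensorProduct.map gC (AlgHom.id A B) (c ⊗ₜ[A] (1 : B)) =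
      (fC c - gC c) ⊗ₜ[A] (1 : B) := by
    simp only [Algebra.TensorProduct.map_tmul, AlgHom.coe_id, id_eq, TensorProduct.sub_tmul]
  rw [h4] at h3
  by_contra hne
  have hne' : fC c - gC c ≠ 0 := sub_ne_zero.mpr hne
  have hu : IsUnit (fC c - gC c) := hne'.isUnit
  have hu' : IsUnit ((fC c - gC c) ⊗ₜ[A] (1 : B)) :=
    hu.map (Algebra.TensorProduct.includeLeft : L →ₐ[A] L ⊗[A] B)
  obtain ⟨n, hn⟩ := h3
  have h5 := hu'.pow n
  rw [hn] at h5
  exact not_isUnit_zero h5

/-- EGA 0_IV 23.2-type stabilisation (= statement S4614). -/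
theorem core
    (hJ : ∀ (q : Ideal B) [q.IsPrime], q ∈ minimalPrimes B → CAlg.IsN2 (B ⧸ q)) :
    ∃ Cα : Subalgebra A K', (Module.Finite A Cα ∧ ∀ x : K', ∃ a b : Cα, (b : K') ≠ 0 ∧ x * b = a) ∧
      (∀ C : Subalgebra A K',
        (Module.Finite A C ∧ ∀ x : K', ∃ a b : C, (b : K') ≠ 0 ∧ x * b = a) → ∀ hle : Cα ≤ C,
        (∀ x : ↥Cα ⊗[A] B, IsNilpotent
            (Algebra.TensorProduct.map (Subalgebra.inclusion hle) (AlgHom.id A B) x) →
          IsNilpotent x) ∧
        (∀ y : ↥C ⊗[A] B, ∃ x : ↥Cα ⊗[A] B,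
          IsNilpotent (Algebra.TensorProduct.map (Subalgebra.inclusion hle) (AlgHom.id A B) x
            - y))) ∧
      (Module.FaithfullyFlat A B → ∀ hint : Cα ≤ integralClosure A K',
        UniversallyInjective
          (Spec.map (CommRingCat.ofHom (Subalgebra.inclusion hint).toRingHom))) := by
  obtain ⟨Cα, hCα, hstab⟩ := stab (A := A) (B := B) (K' := K') hJ
  refine ⟨Cα, hCα, fun C hC hle => ⟨fun x hx => ?_, fun y => ?_⟩, fun hff hint => ?_⟩
  · obtain ⟨n, hn⟩ := hx
    refine ⟨n, ι_injective Cα ?_⟩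
    rw [map_pow, ← ι_comp hle, ← map_pow, hn, map_zero, map_zero]
  · obtain ⟨x, n, hn⟩ := hstab C hC hle y
    refine ⟨x, ?_⟩
    have h1 : (y - Algebra.TensorProduct.map (Subalgebra.inclusion hle) (AlgHom.id A B) x) ^ n
        = 0 := by
      apply ι_injective C
      rw [map_pow, map_sub, ι_comp, hn, map_zero]
    have h2 : IsNilpotent
        (y - Algebra.TensorProduct.map (Subalgebra.inclusion hle) (AlgHom.id A B) x) := ⟨n, h1⟩
    have h3 := h2.neg
    rwa [neg_sub] at h3
  · exact Groth.Agent.H69.universallyInjective_Spec_of_ringHom_ext _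
      (fun L _ f g hfg => radicial hff Cα hCα hstab hint L f g hfg)

end Main

end Groth.Agent.H23.JapStab
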