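import Groth.Agent.H23.RegularSeq2

set_option autoImplicit false
universe u

namespace Groth.Agent.H23

open IsLocalRing

theorem spanFinrank_maximalIdeal_le (A : Type u) [CommRing A] [IsLocalRing A] [IsNoetherianRing A]
    (p : Ideal A) (hple : p ≤ maximalIdeal A) [IsLocalRing (A ⧸ p)] :
    (maximalIdeal A).spanFinrank ≤ p.spanFinrank + (maximalIdeal (A ⧸ p)).spanFinrank := by
  classical
  have hfg : Submodule.FG (maximalIdeal (A ⧸ p)) := IsNoetherian.noetherian _
  have hGfin : (Submodule.generators (maximalIdeal (A ⧸ p))).Finite :=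
    Submodule.FG.finite_generators hfg
  haveI : Fintype (Submodule.generators (maximalIdeal (A ⧸ p))) := hGfin.fintype
  have hGcard : Fintype.card (Submodule.generators (maximalIdeal (A ⧸ p))) =
      (maximalIdeal (A ⧸ p)).spanFinrank := by
    rw [← Submodule.FG.generators_ncard hfg, Set.ncard_eq_toFinset_card', Set.toFinset_card]
  have hzex : ∀ g : Submodule.generators (maximalIdeal (A ⧸ p)),
      ∃ z : A, Ideal.Quotient.mk p z = g := fun g => Ideal.Quotient.mk_surjective _
  choose z hz using hzex
  have hzm : ∀ g, z g ∈ maximalIdeal A := by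
    intro g
    rw [mem_maximalIdeal, mem_nonunits_iff]
    intro hu
    have h1 : Ideal.Quotient.mk p (z g) ∈ maximalIdeal (A ⧸ p) := by
      rw [hz g]; exact Submodule.FG.generators_mem _ g.2
    rw [mem_maximalIdeal, mem_nonunits_iff] at h1
    exact h1 (hu.map _)
  have hzle : Ideal.span (Set.range z) ≤ maximalIdeal A := by
    rw [Ideal.span_le]; rintro _ ⟨g, rfl⟩; exact hzm g
  have h2 : maximalIdeal (A ⧸ p) =
      Ideal.map (Ideal.Quotient.mk p) (Ideal.span (Set.range z)) := by
    rw [Ideal.map_span, ← Set.range_comp]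
    have h3 : Set.range (⇑(Ideal.Quotient.mk p) ∘ z) =
        Submodule.generators (maximalIdeal (A ⧸ p)) := by
      ext v; constructor
      · rintro ⟨g, rfl⟩
        show Ideal.Quotient.mk p (z g) ∈ _
        rw [hz g]; exact g.2
      · intro hv; exact ⟨⟨v, hv⟩, hz ⟨v, hv⟩⟩
    rw [h3]; exact (Submodule.span_generators _).symm
  have hsup : maximalIdeal A ≤ p ⊔ Ideal.span (Set.range z) := by
    intro a ha
    have h1 : Ideal.Quotient.mk p a ∈ maximalIdeal (A ⧸ p) := by
      rw [← map_mk_maximalIdeal p]; exact Ideal.mem_map_of_mem _ ha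
    rw [h2] at h1
    obtain ⟨w, hw, hwa⟩ := (Ideal.mem_map_iff_of_surjective _ Ideal.Quotient.mk_surjective).mp h1
    have h5 : a = (a - w) + w := by ring
    rw [h5]
    exact Submodule.add_mem_sup (Ideal.Quotient.eq.mp hwa.symm) hw
  have hsup' : maximalIdeal A = p ⊔ Ideal.span (Set.range z) :=
    le_antisymm hsup (sup_le hple hzle)
  rw [hsup']
  have hpfg : Submodule.FG p := IsNoetherian.noetherian _
  have hzfg : Submodule.FG (Ideal.span (Set.range z)) := IsNoetherian.noetherian _
  have h3 : (Ideal.span (Set.range z)).spanFinrank ≤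
      (maximalIdeal (A ⧸ p)).spanFinrank := by
    rw [← hGcard]
    refine (Submodule.spanFinrank_span_le_ncard_of_finite (Set.finite_range z)).trans ?_
    rw [← Set.image_univ]
    exact (Set.ncard_image_le Set.finite_univ).trans (by simp)
  have h4 : (p ⊔ Ideal.span (Set.range z)).spanFinrank ≤
      p.spanFinrank + (Ideal.span (Set.range z)).spanFinrank := by
    have hsupfg : Submodule.FG (p ⊔ Ideal.span (Set.range z)) := IsNoetherian.noetherian _
    rw [← Submodule.FG.spanRank_le_iff hsupfg, Nat.cast_add,
      ← hpfg.spanRank_eq_spanFinrank, ← hzfg.spanRank_eq_spanFinrank]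
    exact Submodule.spanRank_sup_le_sum_spanRank
  omega

/-- EGA 0_IV 17.1.7 -/
theorem regular_iff_quotient (A : Type u) [CommRing A] [IsLocalRing A]
    [IsNoetherianRing A] (r : ℕ) (x : Fin r → IsLocalRing.maximalIdeal A) :
    ((IsRegularLocalRing A ∧
        LinearIndependent (IsLocalRing.ResidueField A)
          (fun i => (IsLocalRing.maximalIdeal A).toCotangent (x i))) ↔
      (ringKrullDim (A ⧸ Ideal.span (Set.range fun i => (x i : A))) + r = ringKrullDim A ∧
        IsRegularLocalRing (A ⧸ Ideal.span (Set.range fun i => (x i : A))))) := by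
  constructor
  · rintro ⟨hreg, hli⟩
    have hregeq := (isRegularLocalRing_iff A).mp hreg
    obtain ⟨k, y, hk, hm⟩ := exists_extension x hli
    have hd : ((r + k : ℕ) : WithBot ℕ∞) = ringKrullDim A := by
      rw [hk, ← spanFinrank_maximalIdeal_eq_finrank_cotangentSpace, hregeq]
    obtain ⟨hQ, hQd⟩ := quotient_regular (fun i => (x i : A)) (fun j => (y j : A)) hm hd.le
    refine ⟨?_, hQ⟩
    rw [hQd, ← hd, Nat.cast_add, add_comm]
  · rintro ⟨hdim, hQ⟩
    haveI := hQ
    have hJle : Ideal.span (Set.range fun i => (x i : A)) ≤ maximalIdeal A := by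
      rw [Ideal.span_le]; rintro _ ⟨i, rfl⟩; exact (x i).2
    have hregQ := (isRegularLocalRing_iff (A ⧸ Ideal.span (Set.range fun i => (x i : A)))).mp hQ
    have hJr : (Ideal.span (Set.range fun i => (x i : A))).spanFinrank ≤ r := by
      refine (Submodule.spanFinrank_span_le_ncard_of_finite (Set.finite_range _)).trans ?_
      rw [← Set.image_univ]
      exact (Set.ncard_image_le Set.finite_univ).trans (by simp)
    have hb := spanFinrank_maximalIdeal_le A (Ideal.span (Set.range fun i => (x i : A))) hJle
    have hdimA : ((r + (maximalIdeal (A ⧸ Ideal.span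
        (Set.range fun i => (x i : A)))).spanFinrank : ℕ) : WithBot ℕ∞) = ringKrullDim A := by
      rw [← hdim, ← hregQ, Nat.cast_add, add_comm]
    have hle : ((maximalIdeal A).spanFinrank : WithBot ℕ∞) ≤ ringKrullDim A := by
      rw [← hdimA]
      exact_mod_cast (by omega : (maximalIdeal A).spanFinrank ≤ r + (maximalIdeal (A ⧸ Ideal.span
        (Set.range fun i => (x i : A)))).spanFinrank)
    have hreg : IsRegularLocalRing A := IsRegularLocalRing.of_spanFinrank_maximalIdeal_le _ hle
    refine ⟨hreg, ?_⟩
    have hregeq := (isRegularLocalRing_iff A).mp hreg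
    have hV : Module.finrank (ResidueField A) (CotangentSpace A) =
        r + (maximalIdeal (A ⧸ Ideal.span (Set.range fun i => (x i : A)))).spanFinrank := by
      rw [← spanFinrank_maximalIdeal_eq_finrank_cotangentSpace]
      rw [← hdimA] at hregeq
      exact_mod_cast hregeq
    have hle2 := finrank_cotangentSpace_le (Ideal.span (Set.range fun i => (x i : A)))
      (Submodule.span (ResidueField A)
        (Set.range fun i => (maximalIdeal A).toCotangent (x i)))
      (fun a ha => toCotangent_mem_span x a ha)
    have h1 := hle2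
    rw [hV, add_comm r] at h1
    have hfW := Nat.le_of_add_le_add_left h1
    rw [linearIndependent_iff_card_eq_finrank_span, Fintype.card_fin]
    exact le_antisymm hfW ((finrank_range_le_card _).trans (by rw [Fintype.card_fin]))

end Groth.Agent.H23
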