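import Mathlib
import Groth.Prelude.Def_EtModW
import Groth.Prelude.Def_ARSys

/-!
# Adic systems of pro-etale sheaves: interface definitions (helper23, for S14009)
-/

set_option autoImplicit false
universe u v
open CategoryTheory CategoryTheory.Limits AlgebraicGeometry Opposite

namespace Groth.Agent.H23.AdicDefs

/-- every object of `X_proet` is covered by a single weakly contractible object. -/
def EnoughWC (X : Scheme.{u}) : Prop :=
  ∀ U : X.ProEt, ∃ (V : X.ProEt) (g : V ⟶ U),
    Sieve.generate (Presieve.singleton g) ∈ Scheme.ProEt.topology X U ∧ ProEtS.IsWC V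

/-- compatible families of an inverse system of modules. -/
def compat {R : Type v} [CommRing R] {M : ℕ → Type v} [∀ m, AddCommGroup (M m)]
    [∀ m, Module R (M m)] (t : ∀ m, M (m + 1) →ₗ[R] M m) : Submodule R (∀ m, M m) where
  carrier := {x | ∀ m, t m (x (m + 1)) = x m}
  add_mem' {x y} hx hy m := by
    show t m (x (m + 1) + y (m + 1)) = x m + y m
    rw [map_add, hx m, hy m]
  zero_mem' m := by
    show t m 0 = 0
    exact map_zero _
  smul_mem' c x hx m := by
    show t m (c • x (m + 1)) = c • x m
    rw [map_smul, hx m]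

variable (Λ : Type (u + 1)) [CommRing Λ] {X : Scheme.{u}}

/-- sections over `W` of the `m`-th term. -/
abbrev secM (H : ℕᵒᵖ ⥤ EtModW.ModP Λ X) (W : X.ProEt) (m : ℕ) : Type (u + 1) :=
  (H.obj (op m)).obj.obj (op W)

/-- the transition maps on sections over `W`. -/
noncomputable abbrev secT (H : ℕᵒᵖ ⥤ EtModW.ModP Λ X) (W : X.ProEt) (m : ℕ) :
    secM Λ H W (m + 1) →ₗ[Λ] secM Λ H W m :=
  ((H.map (homOfLE (Nat.le_succ m)).op).hom.app (op W)).hom

/-- the comparison from sections of the limit to families of sections. -/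
noncomputable abbrev secΦ (H : ℕᵒᵖ ⥤ EtModW.ModP Λ X) (W : X.ProEt) :
    (limit H).obj.obj (op W) →ₗ[Λ] (∀ m, secM Λ H W m) :=
  LinearMap.pi (fun m => ((limit.π H (op m)).hom.app (op W)).hom)

end Groth.Agent.H23.AdicDefs
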