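import Mathlib
import Groth.Agent.H57.LocalCrit

/-!
# Flatness of the completion of a flat algebra along an extended ideal (helper23)

`A` Noetherian, `𝔪 ⊆ A` an ideal, `T` a flat `A`-algebra (not necessarily Noetherian), `I = 𝔪 T`
and `C` the `I`-adic completion of `T`. If `C` is Noetherian then `C` is flat over `A`.
-/

set_option autoImplicit false
universe u

namespace Groth.Agent.H23.CplFlat

open TensorProduct LinearMap

section

variable {A T : Type u} [CommRing A] [CommRing T] [Algebra A T]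

instance isScalarTower_adicCompletion (I : Ideal T) : IsScalarTower A T (AdicCompletion I T) :=
  IsScalarTower.of_algebraMap_eq (fun _ => rfl)

/-- tensors `n ⊗ (r • x)` vanish when `r ∈ 𝔞 T` and `𝔞` kills `n`. -/
theorem tmul_smul_eq_zero (𝔞 : Ideal A) {N : Type*} [AddCommGroup N] [Module A N]
    (hN : ∀ a ∈ 𝔞, ∀ n : N, a • n = 0)
    {X : Type*} [AddCommGroup X] [Module A X] [Module T X] [IsScalarTower A T X]
    (r : T) (hr : r ∈ 𝔞.map (algebraMap A T)) (n : N) (x : X) :
    n ⊗ₜ[A] (r • x) = 0 := by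
  revert x
  refine Submodule.span_induction (p := fun r _ => ∀ x : X, n ⊗ₜ[A] (r • x) = 0)
    ?_ ?_ ?_ ?_ hr
  · rintro _ ⟨a, ha, rfl⟩ x
    rw [algebraMap_smul, ← TensorProduct.smul_tmul, hN a ha, TensorProduct.zero_tmul]
  · intro x
    rw [zero_smul, TensorProduct.tmul_zero]
  · intro r s _ _ hr hs x
    rw [add_smul, TensorProduct.tmul_add, hr, hs, add_zero]
  · intro t r _ hr x
    rw [smul_eq_mul, mul_comm, mul_smul]
    exact hr (t • x)

variable (𝔪 : Ideal A) (hfg : 𝔪.FG)

include hfg in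
/-- `N ⊗ T → N ⊗ C` is surjective when `N` is killed by a power of `𝔪`. -/
theorem lTensor_surjective {N : Type*} [AddCommGroup N] [Module A N] (k : ℕ)
    (hN : ∀ a ∈ 𝔪 ^ k, ∀ n : N, a • n = 0) :
    Function.Surjective (lTensor N
      ((Algebra.linearMap T (AdicCompletion (𝔪.map (algebraMap A T)) T)).restrictScalars A)) := by
  set I := 𝔪.map (algebraMap A T) with hIdef
  have hIfg : I.FG := hfg.map _
  intro x
  induction x using TensorProduct.induction_on with
  | zero => exact ⟨0, map_zero _⟩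
  | add x y hx hy =>
    obtain ⟨x', rfl⟩ := hx
    obtain ⟨y', rfl⟩ := hy
    exact ⟨x' + y', map_add _ _ _⟩
  | tmul n c =>
    obtain ⟨t, ht⟩ := Submodule.mkQ_surjective _ (AdicCompletion.eval I T k c)
    have hker : c - algebraMap T (AdicCompletion I T) t ∈
        (I ^ k • ⊤ : Submodule T (AdicCompletion I T)) := by
      rw [AdicCompletion.pow_smul_top_eq_ker_eval hIfg, LinearMap.mem_ker, map_sub, sub_eq_zero]
      change _ = AdicCompletion.eval I T k (AdicCompletion.of I T t)
      rw [AdicCompletion.eval_of, ht]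
    refine ⟨n ⊗ₜ t, ?_⟩
    rw [lTensor_tmul]
    change n ⊗ₜ[A] (algebraMap T (AdicCompletion I T) t) = _
    have h0 : n ⊗ₜ[A] (c - algebraMap T (AdicCompletion I T) t) = 0 := by
      refine Submodule.smul_induction_on hker ?_ ?_
      · intro r hr c' _
        have hr' : r ∈ (𝔪 ^ k).map (algebraMap A T) := by rwa [Ideal.map_pow]
        exact tmul_smul_eq_zero (𝔪 ^ k) hN r hr' n c'
      · intro y z hy hz
        rw [TensorProduct.tmul_add, hy, hz, add_zero]
    rw [TensorProduct.tmul_sub, sub_eq_zero] at h0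
    exact h0.symm

include hfg in
/-- `(A ⧸ 𝔪 ^ k) ⊗ T → (A ⧸ 𝔪 ^ k) ⊗ C` is injective. -/
theorem lTensor_quotient_injective (k : ℕ) :
    Function.Injective (lTensor (A ⧸ 𝔪 ^ k)
      ((Algebra.linearMap T (AdicCompletion (𝔪.map (algebraMap A T)) T)).restrictScalars A)) := by
  set I := 𝔪.map (algebraMap A T) with hIdef
  set ι : T →ₗ[A] AdicCompletion I T :=
    (Algebra.linearMap T (AdicCompletion I T)).restrictScalars A with hι
  let ev : AdicCompletion I T →ₗ[A] T ⧸ I ^ k :=
    (AdicCompletion.evalₐ I k).toLinearMap.restrictScalars A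
  let mkA : T →ₗ[A] T ⧸ I ^ k := (Ideal.Quotient.mkₐ T (I ^ k)).toLinearMap.restrictScalars A
  have hcomp : ev ∘ₗ ι = mkA := by
    ext t
    exact AdicCompletion.evalₐ_of I k t
  have hQ : ∀ a ∈ 𝔪 ^ k, ∀ q : A ⧸ 𝔪 ^ k, a • q = 0 := by
    intro a ha q
    rw [Algebra.smul_def, Ideal.Quotient.algebraMap_eq, Ideal.Quotient.eq_zero_iff_mem.mpr ha,
      zero_mul]
  have hmk : Function.Injective (lTensor (A ⧸ 𝔪 ^ k) mkA) := by
    have hex : Function.Exact ((I ^ k).subtype.restrictScalars A) mkA := by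
      intro t
      change Ideal.Quotient.mk (I ^ k) t = 0 ↔ _
      rw [Ideal.Quotient.eq_zero_iff_mem]
      constructor
      · intro ht
        exact ⟨⟨t, ht⟩, rfl⟩
      · rintro ⟨y, rfl⟩
        exact y.2
    have hsurj : Function.Surjective mkA := Ideal.Quotient.mk_surjective
    have hex2 := lTensor_exact (A ⧸ 𝔪 ^ k) hex hsurj
    have hzero : lTensor (A ⧸ 𝔪 ^ k) ((I ^ k).subtype.restrictScalars A) = 0 := by
      refine TensorProduct.ext' fun q r => ?_
      rw [lTensor_tmul, LinearMap.zero_apply]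
      have hr : (r : T) ∈ (𝔪 ^ k).map (algebraMap A T) := by
        rw [Ideal.map_pow]
        exact r.2
      have := tmul_smul_eq_zero (T := T) (𝔪 ^ k) hQ (r : T) hr q (1 : T)
      rwa [smul_eq_mul, mul_one] at this
    rw [injective_iff_map_eq_zero]
    intro x hx
    obtain ⟨y, rfl⟩ := (hex2 x).mp hx
    rw [hzero, LinearMap.zero_apply]
  have h2 : lTensor (A ⧸ 𝔪 ^ k) mkA =
      lTensor (A ⧸ 𝔪 ^ k) ev ∘ₗ lTensor (A ⧸ 𝔪 ^ k) ι := by
    rw [← lTensor_comp, hcomp]
  rw [h2] at hmk
  exact Function.Injective.of_comp hmk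

include hfg in
/-- The completion `C` of a flat `A`-algebra `T` along `𝔪 T` is flat over `A` when `A` and `C`
are Noetherian. -/
theorem flat_adicCompletion [IsNoetherianRing A] [Module.Flat A T]
    [IsNoetherianRing (AdicCompletion (𝔪.map (algebraMap A T)) T)] :
    Module.Flat A (AdicCompletion (𝔪.map (algebraMap A T)) T) := by
  set I := 𝔪.map (algebraMap A T) with hIdef
  have hIfg : I.FG := hfg.map _
  set ι : T →ₗ[A] AdicCompletion I T :=
    (Algebra.linearMap T (AdicCompletion I T)).restrictScalars A with hι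
  have hc : IsAdicComplete (I.map (algebraMap T (AdicCompletion I T))) (AdicCompletion I T) :=
    (IsAdicComplete.map_algebraMap_iff (I := I) (S := AdicCompletion I T)
      (M := AdicCompletion I T)).2 (AdicCompletion.isAdicComplete hIfg)
  have hjac : 𝔪.map (algebraMap A (AdicCompletion I T)) ≤ Ideal.jacobson ⊥ := by
    rw [IsScalarTower.algebraMap_eq A T (AdicCompletion I T), ← Ideal.map_map]
    exact IsAdicComplete.le_jacobson_bot _
  refine Groth.Agent.H57.flat_of_forall_rTensor_injective (S := AdicCompletion I T) 𝔪 hjac ?_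
  intro k P
  have hP : ∀ a ∈ 𝔪 ^ k, ∀ p : P, a • p = 0 := by
    intro a ha p
    apply Subtype.ext
    rw [Submodule.coe_smul, Submodule.coe_zero, Algebra.smul_def, Ideal.Quotient.algebraMap_eq,
      Ideal.Quotient.eq_zero_iff_mem.mpr ha, zero_mul]
  rw [injective_iff_map_eq_zero]
  intro x hx
  obtain ⟨y, rfl⟩ := lTensor_surjective 𝔪 hfg k hP x
  have hcomm : rTensor (AdicCompletion I T) P.subtype (lTensor P ι y) =
      lTensor (A ⧸ 𝔪 ^ k) ι (rTensor T P.subtype y) := by
    rw [← LinearMap.comp_apply, ← LinearMap.comp_apply, rTensor_comp_lTensor, lTensor_comp_rTensor]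
  rw [hcomm] at hx
  have h1 : rTensor T P.subtype y = 0 := by
    apply lTensor_quotient_injective 𝔪 hfg k
    rw [hx, map_zero]
  have h2 : y = 0 := by
    apply Module.Flat.rTensor_preserves_injective_linearMap (M := T) P.subtype
      (Submodule.injective_subtype P)
    rw [h1, map_zero]
  rw [h2, map_zero]

end

end Groth.Agent.H23.CplFlat
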