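import Mathlib
import Groth.Agent.H23.CplFlat

/-!
# Flatness from bijectivity modulo powers (helper23)

`A` Noetherian, `𝔪 ⊆ A`, `T` a flat `A`-algebra, `C` a Noetherian `T`-algebra with `𝔪 C` in the
Jacobson radical, such that `T ⧸ 𝔪 ^ k T → C ⧸ 𝔪 ^ k C` is bijective for every `k`.
Then `C` is flat over `A`.
-/

set_option autoImplicit false
universe u

namespace Groth.Agent.H23.CplFlat

open TensorProduct LinearMap

section

variable {A T : Type u} [CommRing A] [CommRing T] [Algebra A T]

/-- `(A ⧸ 𝔞) ⊗ T → (A ⧸ 𝔞) ⊗ (T ⧸ 𝔞 T)` is injective. -/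
theorem lTensor_mk_injective (𝔞 : Ideal A) :
    Function.Injective (lTensor (A ⧸ 𝔞)
      ((Ideal.Quotient.mkₐ T (𝔞.map (algebraMap A T))).toLinearMap.restrictScalars A)) := by
  set I := 𝔞.map (algebraMap A T) with hI
  set mkA : T →ₗ[A] T ⧸ I := (Ideal.Quotient.mkₐ T I).toLinearMap.restrictScalars A with hmkA
  have hQ : ∀ a ∈ 𝔞, ∀ q : A ⧸ 𝔞, a • q = 0 := by
    intro a ha q
    rw [Algebra.smul_def, Ideal.Quotient.algebraMap_eq, Ideal.Quotient.eq_zero_iff_mem.mpr ha,
      zero_mul]
  have hex : Function.Exact (I.subtype.restrictScalars A) mkA := by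
    intro t
    change Ideal.Quotient.mk I t = 0 ↔ _
    rw [Ideal.Quotient.eq_zero_iff_mem]
    constructor
    · intro ht
      exact ⟨⟨t, ht⟩, rfl⟩
    · rintro ⟨y, rfl⟩
      exact y.2
  have hsurj : Function.Surjective mkA := Ideal.Quotient.mk_surjective
  have hex2 := lTensor_exact (A ⧸ 𝔞) hex hsurj
  have hzero : lTensor (A ⧸ 𝔞) (I.subtype.restrictScalars A) = 0 := by
    refine TensorProduct.ext' fun q r => ?_
    rw [lTensor_tmul, LinearMap.zero_apply]
    have := tmul_smul_eq_zero (T := T) 𝔞 hQ (r : T) r.2 q (1 : T)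
    rwa [smul_eq_mul, mul_one] at this
  rw [injective_iff_map_eq_zero]
  intro x hx
  obtain ⟨y, rfl⟩ := (hex2 x).mp hx
  rw [hzero, LinearMap.zero_apply]

variable {C : Type u} [CommRing C] [Algebra A C] [Algebra T C] [IsScalarTower A T C]

theorem flat_of_bijective_quotients [IsNoetherianRing A] [IsNoetherianRing C] [Module.Flat A T]
    (𝔪 : Ideal A) (hjac : 𝔪.map (algebraMap A C) ≤ Ideal.jacobson ⊥)
    (hbij : ∀ k : ℕ, Function.Bijective
      (Ideal.quotientMap (((𝔪 ^ k).map (algebraMap A T)).map (algebraMap T C))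
        (algebraMap T C) Ideal.le_comap_map)) :
    Module.Flat A C := by
  set ι : T →ₗ[A] C := (Algebra.linearMap T C).restrictScalars A with hι
  refine Groth.Agent.H57.flat_of_forall_rTensor_injective (S := C) 𝔪 hjac ?_
  intro k P
  have hmapeq : ((𝔪 ^ k).map (algebraMap A T)).map (algebraMap T C) =
      (𝔪 ^ k).map (algebraMap A C) := by
    rw [Ideal.map_map, ← IsScalarTower.algebraMap_eq]
  have hP : ∀ a ∈ 𝔪 ^ k, ∀ p : P, a • p = 0 := by
    intro a ha p
    apply Subtype.ext
    rw [Submodule.coe_smul, Submodule.coe_zero, Algebra.smul_def, Ideal.Quotient.algebraMap_eq,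
      Ideal.Quotient.eq_zero_iff_mem.mpr ha, zero_mul]
  -- surjectivity of `P ⊗ T → P ⊗ C`
  have hsurj : Function.Surjective (lTensor P ι) := by
    intro x
    induction x using TensorProduct.induction_on with
    | zero => exact ⟨0, map_zero _⟩
    | add x y hx hy =>
      obtain ⟨x', rfl⟩ := hx
      obtain ⟨y', rfl⟩ := hy
      exact ⟨x' + y', map_add _ _ _⟩
    | tmul n c =>
      obtain ⟨t', ht'⟩ := (hbij k).2 (Ideal.Quotient.mk _ c)
      obtain ⟨t, rfl⟩ := Ideal.Quotient.mk_surjective t'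
      rw [Ideal.quotientMap_mk, Ideal.Quotient.eq, hmapeq] at ht'
      refine ⟨n ⊗ₜ t, ?_⟩
      rw [lTensor_tmul]
      change n ⊗ₜ[A] (algebraMap T C t) = _
      have h0 := tmul_smul_eq_zero (T := C) (𝔪 ^ k) hP _ ht' n (1 : C)
      rw [smul_eq_mul, mul_one, TensorProduct.tmul_sub, sub_eq_zero] at h0
      exact h0
  -- injectivity of `Q ⊗ T → Q ⊗ C`
  have hinj : Function.Injective (lTensor (A ⧸ 𝔪 ^ k) ι) := by
    let e := RingEquiv.ofBijective _ (hbij k)
    have he : ∀ t : T, e (Ideal.Quotient.mk _ t) = Ideal.Quotient.mk _ (algebraMap T C t) :=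
      fun t => rfl
    have hesmul : ∀ (a : A) (x : T ⧸ (𝔪 ^ k).map (algebraMap A T)), e (a • x) = a • e x := by
      intro a x
      obtain ⟨t, rfl⟩ := Ideal.Quotient.mk_surjective x
      have h1 : a • Ideal.Quotient.mk ((𝔪 ^ k).map (algebraMap A T)) t =
          Ideal.Quotient.mk _ (a • t) := rfl
      have h2 : a • Ideal.Quotient.mk (((𝔪 ^ k).map (algebraMap A T)).map (algebraMap T C))
          (algebraMap T C t) = Ideal.Quotient.mk _ (a • algebraMap T C t) := rfl
      rw [h1, he, he, h2, Algebra.smul_def, map_mul, Algebra.smul_def,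
        ← IsScalarTower.algebraMap_apply]
    let ev : C →ₗ[A] T ⧸ (𝔪 ^ k).map (algebraMap A T) :=
      { toFun := fun c => e.symm (Ideal.Quotient.mk _ c)
        map_add' := fun x y => by rw [map_add, map_add]
        map_smul' := fun a c => by
          apply e.injective
          rw [RingHom.id_apply, hesmul, e.apply_symm_apply, e.apply_symm_apply]
          rfl }
    have hcomp : ev ∘ₗ ι =
        (Ideal.Quotient.mkₐ T ((𝔪 ^ k).map (algebraMap A T))).toLinearMap.restrictScalars A := by
      ext t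
      change e.symm (Ideal.Quotient.mk _ (algebraMap T C t)) = Ideal.Quotient.mk _ t
      rw [← he, e.symm_apply_apply]
    have hmk := lTensor_mk_injective (T := T) (𝔪 ^ k)
    rw [← hcomp, lTensor_comp] at hmk
    exact Function.Injective.of_comp hmk
  rw [injective_iff_map_eq_zero]
  intro x hx
  obtain ⟨y, rfl⟩ := hsurj x
  have hcomm : rTensor C P.subtype (lTensor P ι y) =
      lTensor (A ⧸ 𝔪 ^ k) ι (rTensor T P.subtype y) := by
    rw [← LinearMap.comp_apply, ← LinearMap.comp_apply, rTensor_comp_lTensor, lTensor_comp_rTensor]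
  rw [hcomm] at hx
  have h1 : rTensor T P.subtype y = 0 := by
    apply hinj
    rw [hx, map_zero]
  have h2 : y = 0 := by
    apply Module.Flat.rTensor_preserves_injective_linearMap (M := T) P.subtype
      (Submodule.injective_subtype P)
    rw [h1, map_zero]
  rw [h2, map_zero]

end

end Groth.Agent.H23.CplFlat
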