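import Mathlib

/-!
# Quotients of an adic completion (helper23)

`T` a ring, `J` a finitely generated ideal, `C` the `J`-adic completion of `T`, assumed Noetherian.
If `𝔟` is an ideal of `T` such that `T ⧸ 𝔟` is `J`-adically complete, then `T ⧸ 𝔟 → C ⧸ 𝔟 C` is
bijective. Also: adic completeness for cofinal filtrations.
-/

set_option autoImplicit false
universe u

namespace Groth.Agent.H23.CplQuot

section Ker

variable {T : Type u} [CommRing T] (J : Ideal T)

theorem ker_evalₐ_eq_map (hJ : J.FG) (n : ℕ) :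
    RingHom.ker (AdicCompletion.evalₐ J n).toRingHom =
      (J ^ n).map (algebraMap T (AdicCompletion J T)) := by
  ext x
  trans x ∈ (AdicCompletion.eval J T n).ker
  · have hge : J ^ n ≤ (J ^ n • ⊤ : Ideal T) := by simp
    have hle : (J ^ n • ⊤ : Ideal T) ≤ J ^ n := by simp
    rw [RingHom.mem_ker, LinearMap.mem_ker]
    constructor
    · intro h
      have h1 := AdicCompletion.factor_evalₐ_eq_eval J x hge
      rw [← h1]
      change Ideal.Quotient.factor hge ((AdicCompletion.evalₐ J n) x) = 0
      have h2 : (AdicCompletion.evalₐ J n) x = 0 := h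
      rw [h2, map_zero]
    · intro h
      have h1 := AdicCompletion.factor_eval_eq_evalₐ J x hle
      change (AdicCompletion.evalₐ J n) x = 0
      rw [← h1, h, map_zero]
  · rw [← AdicCompletion.pow_smul_top_eq_ker_eval hJ, Ideal.smul_top_eq_map]
    rfl

end Ker

section Bij

variable {T : Type u} [CommRing T] (J : Ideal T)

theorem mem_smul_top_quotient_iff (𝔟 I : Ideal T) (x : T ⧸ 𝔟) :
    x ∈ (I • ⊤ : Submodule T (T ⧸ 𝔟)) ↔ ∃ j ∈ I, Ideal.Quotient.mk 𝔟 j = x := by
  rw [Ideal.smul_top_eq_map, Submodule.restrictScalars_mem, Ideal.Quotient.algebraMap_eq,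
    Ideal.mem_map_iff_of_surjective _ Ideal.Quotient.mk_surjective]

variable [IsNoetherianRing (AdicCompletion J T)]

/-- If `T ⧸ 𝔟` is `J`-adically complete and the completion `C` of `T` is Noetherian then
`T ⧸ 𝔟 → C ⧸ 𝔟 C` is bijective. -/
theorem bijective_quotientMap (hJ : J.FG) (𝔟 : Ideal T) [IsAdicComplete J (T ⧸ 𝔟)] :
    Function.Bijective (Ideal.quotientMap (𝔟.map (algebraMap T (AdicCompletion J T)))
      (algebraMap T (AdicCompletion J T)) Ideal.le_comap_map) := by
  have hc : IsAdicComplete (J.map (algebraMap T (AdicCompletion J T))) (AdicCompletion J T) :=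
    (IsAdicComplete.map_algebraMap_iff (I := J) (S := AdicCompletion J T)
      (M := AdicCompletion J T)).2 (AdicCompletion.isAdicComplete hJ)
  have hjac : J.map (algebraMap T (AdicCompletion J T)) ≤ Ideal.jacobson ⊥ :=
    IsAdicComplete.le_jacobson_bot _
  have hev : ∀ (n : ℕ) (y : AdicCompletion J T),
      y ∈ 𝔟.map (algebraMap T (AdicCompletion J T)) →
      ∃ b ∈ 𝔟, AdicCompletion.evalₐ J n y = Ideal.Quotient.mk (J ^ n) b := by
    intro n y hy
    have h1 : AdicCompletion.evalₐ J n y ∈
        (𝔟.map (algebraMap T (AdicCompletion J T))).map (AdicCompletion.evalₐ J n).toRingHom :=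
      Ideal.mem_map_of_mem _ hy
    rw [Ideal.map_map] at h1
    have hcomp : (AdicCompletion.evalₐ J n).toRingHom.comp (algebraMap T (AdicCompletion J T)) =
        Ideal.Quotient.mk (J ^ n) := by
      ext t
      exact AdicCompletion.evalₐ_of J n t
    rw [hcomp] at h1
    obtain ⟨b, hb, hb'⟩ := (Ideal.mem_map_iff_of_surjective _ Ideal.Quotient.mk_surjective).mp h1
    exact ⟨b, hb, hb'.symm⟩
  constructor
  · rw [injective_iff_map_eq_zero]
    intro x hx
    obtain ⟨t, rfl⟩ := Ideal.Quotient.mk_surjective x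
    rw [Ideal.quotientMap_mk, Ideal.Quotient.eq_zero_iff_mem] at hx
    apply IsHausdorff.haus (inferInstance : IsHausdorff J (T ⧸ 𝔟))
    intro n
    rw [SModEq.zero]
    obtain ⟨b, hb, hb'⟩ := hev n _ hx
    rw [show AdicCompletion.evalₐ J n (algebraMap T (AdicCompletion J T) t) =
      Ideal.Quotient.mk (J ^ n) t from AdicCompletion.evalₐ_of J n t] at hb'
    have h1 : t - b ∈ J ^ n := Ideal.Quotient.eq.mp hb'
    rw [mem_smul_top_quotient_iff]
    refine ⟨t - b, h1, ?_⟩
    rw [map_sub, Ideal.Quotient.eq_zero_iff_mem.mpr hb, sub_zero]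
  · intro y
    obtain ⟨c, rfl⟩ := Ideal.Quotient.mk_surjective y
    obtain ⟨f, rfl⟩ := AdicCompletion.mk_surjective J T c
    obtain ⟨L, hL⟩ := IsPrecomplete.prec (inferInstance : IsPrecomplete J (T ⧸ 𝔟))
      (f := fun n => Ideal.Quotient.mk 𝔟 (f n)) (by
        intro m n hmn
        have h1 := f.property hmn
        rw [SModEq.sub_mem] at h1 ⊢
        rw [mem_smul_top_quotient_iff]
        refine ⟨f m - f n, by simpa using h1, map_sub _ _ _⟩)
    obtain ⟨t, rfl⟩ := Ideal.Quotient.mk_surjective L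
    refine ⟨Ideal.Quotient.mk 𝔟 t, ?_⟩
    rw [Ideal.quotientMap_mk, ← sub_eq_zero, ← map_sub]
    haveI : IsHausdorff (J.map (algebraMap T (AdicCompletion J T)))
        (AdicCompletion J T ⧸ 𝔟.map (algebraMap T (AdicCompletion J T))) :=
      IsHausdorff.of_le_jacobson _ _ hjac
    apply IsHausdorff.haus (inferInstance : IsHausdorff (J.map (algebraMap T (AdicCompletion J T)))
        (AdicCompletion J T ⧸ 𝔟.map (algebraMap T (AdicCompletion J T))))
    intro n
    rw [SModEq.zero]
    have h2 := hL n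
    rw [SModEq.sub_mem, mem_smul_top_quotient_iff] at h2
    obtain ⟨j, hj, hj'⟩ := h2
    rw [← map_sub, ← sub_eq_zero, ← map_sub, Ideal.Quotient.eq_zero_iff_mem] at hj'
    -- `j - (f n - t) ∈ 𝔟`
    set b' := j - (f n - t) with hb'
    have hz : algebraMap T (AdicCompletion J T) t - AdicCompletion.mk J T f -
        algebraMap T (AdicCompletion J T) b' ∈
        (J.map (algebraMap T (AdicCompletion J T))) ^ n := by
      rw [← Ideal.map_pow, ← ker_evalₐ_eq_map J hJ n, RingHom.mem_ker]
      change AdicCompletion.evalₐ J n _ = 0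
      rw [map_sub, map_sub, AdicCompletion.evalₐ_mk]
      rw [show AdicCompletion.evalₐ J n (algebraMap T (AdicCompletion J T) t) =
        Ideal.Quotient.mk (J ^ n) t from AdicCompletion.evalₐ_of J n t,
        show AdicCompletion.evalₐ J n (algebraMap T (AdicCompletion J T) b') =
        Ideal.Quotient.mk (J ^ n) b' from AdicCompletion.evalₐ_of J n b']
      rw [← map_sub, ← map_sub, Ideal.Quotient.eq_zero_iff_mem]
      have : t - f n - b' = -j := by rw [hb']; ring
      rw [this]
      exact neg_mem hj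
    rw [mem_smul_top_quotient_iff]
    refine ⟨_, hz, ?_⟩
    rw [map_sub, Ideal.Quotient.eq_zero_iff_mem.mpr (Ideal.mem_map_of_mem _ hj'), sub_zero]

end Bij

section Cofinal

variable {B T X : Type*} [CommRing B] [CommRing T] [AddCommGroup X] [Module B X] [Module T X]

/-- Adic completeness transfers between cofinal adic filtrations (possibly over different rings). -/
theorem isAdicComplete_of_cofinal (𝔫 : Ideal B) (J : Ideal T) (d : ℕ)
    (h1 : ∀ (N : ℕ) (x : X), x ∈ (𝔫 ^ N • ⊤ : Submodule B X) → x ∈ (J ^ N • ⊤ : Submodule T X))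
    (h2 : ∀ (N : ℕ) (x : X), x ∈ (J ^ (N + d) • ⊤ : Submodule T X) →
      x ∈ (𝔫 ^ N • ⊤ : Submodule B X))
    [IsAdicComplete 𝔫 X] : IsAdicComplete J X := by
  haveI : IsHausdorff J X := ⟨fun x hx =>
    IsHausdorff.haus (inferInstance : IsHausdorff 𝔫 X) x fun N => by
      rw [SModEq.zero]
      exact h2 N x (by have := hx (N + d); rwa [SModEq.zero] at this)⟩
  haveI : IsPrecomplete J X := ⟨fun f hf => by
    obtain ⟨L, hL⟩ := IsPrecomplete.prec (inferInstance : IsPrecomplete 𝔫 X)
      (f := fun N => f (N + d)) (by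
        intro m n hmn
        rw [SModEq.sub_mem]
        apply h2
        rw [← SModEq.sub_mem]
        exact hf (Nat.add_le_add_right hmn d))
    refine ⟨L, fun N => ?_⟩
    rw [SModEq.sub_mem]
    have e1 : f N - f (N + d) ∈ (J ^ N • ⊤ : Submodule T X) := by
      rw [← SModEq.sub_mem]
      exact hf (Nat.le_add_right N d)
    have e2 : f (N + d) - L ∈ (J ^ N • ⊤ : Submodule T X) :=
      h1 N _ (by rw [← SModEq.sub_mem]; exact hL N)
    have : f N - L = (f N - f (N + d)) + (f (N + d) - L) := by abel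
    rw [this]
    exact Submodule.add_mem _ e1 e2⟩
  exact {}

end Cofinal

end Groth.Agent.H23.CplQuot
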