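import Mathlib

/-!
# `A ⧸ 𝔪 ^ n` is finite over `k` when the residue field is (helper23)
-/

set_option autoImplicit false

namespace Groth.Agent.H23.FinQuotPow

open IsLocalRing

theorem finite_quot_pow (k A : Type*) [Field k] [CommRing A] [IsNoetherianRing A] [IsLocalRing A]
    [Algebra k A] [Module.Finite k (ResidueField A)] (n : ℕ) :
    Module.Finite k (A ⧸ maximalIdeal A ^ n) := by
  induction n with
  | zero =>
    haveI : Subsingleton (A ⧸ maximalIdeal A ^ 0) := by
      rw [pow_zero, Ideal.one_eq_top]
      exact Ideal.Quotient.subsingleton_iff.mpr rfl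
    infer_instance
  | succ n ih =>
    let g : A ⧸ maximalIdeal A ^ (n + 1) →ₗ[A] A ⧸ maximalIdeal A ^ n :=
      (Ideal.Quotient.factorₐ A (Ideal.pow_le_pow_right (Nat.le_succ n))).toLinearMap
    have hg : Function.Surjective g :=
      Ideal.Quotient.factor_surjective (Ideal.pow_le_pow_right (Nat.le_succ n))
    have hK : Module.IsTorsionBySet A (LinearMap.ker g) (maximalIdeal A : Set A) := by
      rintro ⟨x, hx⟩ ⟨a, ha⟩
      apply Subtype.ext
      obtain ⟨y, rfl⟩ := Ideal.Quotient.mk_surjective x
      have hy : y ∈ maximalIdeal A ^ n := by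
        rw [LinearMap.mem_ker] at hx
        exact Ideal.Quotient.eq_zero_iff_mem.mp hx
      change Ideal.Quotient.mk (maximalIdeal A ^ (n + 1)) (a * y) = 0
      rw [Ideal.Quotient.eq_zero_iff_mem, pow_succ']
      exact Ideal.mul_mem_mul ha hy
    letI := hK.module
    haveI : IsScalarTower A (A ⧸ maximalIdeal A) (LinearMap.ker g) := hK.isScalarTower
    haveI : Module.Finite (A ⧸ maximalIdeal A) (LinearMap.ker g) :=
      Module.Finite.of_restrictScalars_finite A (A ⧸ maximalIdeal A) (LinearMap.ker g)
    haveI : IsScalarTower k (A ⧸ maximalIdeal A) (LinearMap.ker g) := hK.isScalarTower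
    haveI : Module.Finite k (A ⧸ maximalIdeal A) := ‹Module.Finite k (ResidueField A)›
    haveI : Module.Finite k (LinearMap.ker g) := Module.Finite.trans (A ⧸ maximalIdeal A) _
    exact Module.Finite.of_exact (f := (LinearMap.ker g).subtype.restrictScalars k)
      (g := g.restrictScalars k) (LinearMap.exact_subtype_ker_map g) hg

end Groth.Agent.H23.FinQuotPow
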