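import Mathlib
import Groth.Agent.H3.HenselFinite
import Groth.Agent.Lead.PiLocal
import Groth.Agent.S8804

/-!
# Complete semilocal rings (helper23)

A ring `R`, Henselian along an ideal `𝔞` with `R ⧸ 𝔞` Artinian, is a finite product of local rings.
If moreover `R` is Noetherian and `𝔞`-adically complete, then every localization at a maximal
ideal is a quotient of `R` and is complete for its maximal ideal.
-/

set_option autoImplicit false
universe u

namespace Groth.Agent.H23.SemilocalCpl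

open IsLocalRing Polynomial

/-- idempotent lifting along a Henselian ideal -/
theorem exists_idem_lift {R : Type*} [CommRing R] (𝔞 : Ideal R) [HenselianRing R 𝔞] (b : R)
    (hb : b ^ 2 - b ∈ 𝔞) : ∃ e : R, IsIdempotentElem e ∧ e - b ∈ 𝔞 := by
  have hmonic : (X ^ 2 - X : R[X]).Monic := by
    nontriviality R
    apply Polynomial.monic_X_pow_sub
    rw [degree_X]
    norm_num
  have hev : (X ^ 2 - X : R[X]).eval b ∈ 𝔞 := by simpa using hb
  have hder : (derivative (X ^ 2 - X : R[X])).eval b = 2 * b - 1 := by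
    simp
    ring
  obtain ⟨e, he, heb⟩ := HenselianRing.is_henselian (I := 𝔞) (X ^ 2 - X : R[X]) hmonic b hev (by
    rw [hder]
    refine IsUnit.of_mul_eq_one (Ideal.Quotient.mk 𝔞 (2 * b - 1)) ?_
    rw [← map_mul, ← map_one (Ideal.Quotient.mk 𝔞), ← sub_eq_zero, ← map_sub,
      Ideal.Quotient.eq_zero_iff_mem]
    have : (2 * b - 1) * (2 * b - 1) - 1 = 4 * (b ^ 2 - b) := by ring
    rw [this]
    exact 𝔞.mul_mem_left _ hb)
  refine ⟨e, ?_, heb⟩
  have h1 : e ^ 2 - e = 0 := by simpa [IsRoot] using he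
  unfold IsIdempotentElem
  linear_combination h1

/-- A ring Henselian along `𝔞` with `R ⧸ 𝔞` Artinian is a finite product of local rings. -/
theorem exists_pi_isLocalRing_of_henselian (R : Type u) [CommRing R] (𝔞 : Ideal R)
    [HenselianRing R 𝔞] [IsArtinianRing (R ⧸ 𝔞)] :
    ∃ (ι : Type u) (_ : Fintype ι) (A : ι → Type u) (_ : ∀ i, CommRing (A i)),
      (∀ i, IsLocalRing (A i)) ∧ Nonempty (R ≃+* (∀ i, A i)) := by
  classical
  haveI : Fintype (MaximalSpectrum (R ⧸ 𝔞)) := Fintype.ofFinite _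
  haveI hFloc : ∀ n : MaximalSpectrum (R ⧸ 𝔞), IsLocalRing ((R ⧸ 𝔞) ⧸ n.asIdeal) := fun n => by
    letI := Ideal.Quotient.field n.asIdeal
    infer_instance
  let E := IsArtinianRing.quotNilradicalEquivPi (R ⧸ 𝔞)
  let π : R →+* (∀ n : MaximalSpectrum (R ⧸ 𝔞), (R ⧸ 𝔞) ⧸ n.asIdeal) :=
    (E.toRingEquiv.toRingHom.comp (Ideal.Quotient.mk (nilradical (R ⧸ 𝔞)))).comp
      (Ideal.Quotient.mk 𝔞)
  have hπ : Function.Surjective π :=
    (E.surjective.comp Ideal.Quotient.mk_surjective).comp Ideal.Quotient.mk_surjective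
  have hIjac : 𝔞 ≤ Ideal.jacobson ⊥ := HenselianRing.jac
  have hker : RingHom.ker π ≤ Ideal.jacobson ⊥ := by
    intro x hx
    have h1 : Ideal.Quotient.mk (nilradical (R ⧸ 𝔞)) (Ideal.Quotient.mk 𝔞 x) = 0 := by
      apply E.injective
      rw [map_zero]
      exact hx
    rw [Ideal.Quotient.eq_zero_iff_mem, mem_nilradical] at h1
    obtain ⟨N, hN⟩ := h1
    rw [← map_pow, Ideal.Quotient.eq_zero_iff_mem] at hN
    have h2 : x ∈ 𝔞.radical := ⟨N, hN⟩
    have h3 := Ideal.radical_le_jacobson h2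
    have h4 := Ideal.jacobson_mono hIjac h3
    rwa [Ideal.jacobson_idem] at h4
  have Hex : ∀ n : MaximalSpectrum (R ⧸ 𝔞), ∃ e : R, IsIdempotentElem e ∧
      π e = Pi.single n 1 := by
    intro n
    have hε : IsIdempotentElem (E.symm (Pi.single n 1)) := by
      have : IsIdempotentElem (Pi.single n 1 :
          ∀ n : MaximalSpectrum (R ⧸ 𝔞), (R ⧸ 𝔞) ⧸ n.asIdeal) := by
        unfold IsIdempotentElem
        rw [← Pi.single_mul, mul_one]
      exact this.map E.symm
    obtain ⟨eb, heb, heb'⟩ := exists_isIdempotentElem_eq_of_ker_isNilpotent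
      (Ideal.Quotient.mk (nilradical (R ⧸ 𝔞)))
      (fun x hx => by rwa [Ideal.mk_ker] at hx) _
      (RingHom.mem_range.mpr (Ideal.Quotient.mk_surjective _)) hε
    obtain ⟨b, hb⟩ := Ideal.Quotient.mk_surjective eb
    have hb2 : b ^ 2 - b ∈ 𝔞 := by
      rw [← Ideal.Quotient.eq_zero_iff_mem, map_sub, map_pow, hb, pow_two, heb.eq, sub_self]
    obtain ⟨e, he, heb2⟩ := exists_idem_lift 𝔞 b hb2
    refine ⟨e, he, ?_⟩
    have h5 : Ideal.Quotient.mk 𝔞 e = eb := by
      rw [← hb]; exact Ideal.Quotient.eq.mpr heb2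
    change E (Ideal.Quotient.mk _ (Ideal.Quotient.mk 𝔞 e)) = _
    rw [h5, heb', AlgEquiv.apply_symm_apply]
  choose e he hπe using Hex
  obtain ⟨hloc, hbij⟩ :=
    Groth.Agent.H3.isLocalRing_and_bijective_of_idempotents π hπ hker e he hπe
  exact ⟨MaximalSpectrum (R ⧸ 𝔞), inferInstance, fun n => R ⧸ Ideal.span {1 - e n},
    fun n => inferInstance, hloc, ⟨RingEquiv.ofBijective _ hbij⟩⟩

/-- A Noetherian ring `R`, complete along `𝔞` with `R ⧸ 𝔞` Artinian, has finitely many maximal
ideals, and each localization at a maximal ideal is a quotient of `R` and complete. -/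
theorem semilocal_complete (R : Type u) [CommRing R] [IsNoetherianRing R] (𝔞 : Ideal R)
    [IsAdicComplete 𝔞 R] [IsArtinianRing (R ⧸ 𝔞)] :
    Finite (MaximalSpectrum R) ∧ ∀ M : MaximalSpectrum R,
      Function.Surjective (algebraMap R (Localization.AtPrime M.asIdeal)) ∧
      IsAdicComplete (IsLocalRing.maximalIdeal (Localization.AtPrime M.asIdeal))
        (Localization.AtPrime M.asIdeal) := by
  classical
  obtain ⟨ι, _, A, _, hloc, ⟨e⟩⟩ := exists_pi_isLocalRing_of_henselian R 𝔞
  haveI := hloc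
  have hfin := Groth.Agent.Lead.pi_local_finite A e
  have hbij := Groth.Agent.Lead.pi_local_bijective A e
  refine ⟨hfin, fun M => ?_⟩
  haveI : IsNoetherianRing (Localization.AtPrime M.asIdeal) :=
    IsLocalization.isNoetherianRing M.asIdeal.primeCompl (Localization.AtPrime M.asIdeal)
      inferInstance
  have hsurj : Function.Surjective (algebraMap R (Localization.AtPrime M.asIdeal)) := fun t => by
    obtain ⟨x, hx⟩ := hbij.2 (Pi.single M t)
    refine ⟨x, ?_⟩
    have h1 := congrFun hx M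
    rw [Pi.single_eq_same] at h1
    exact h1
  refine ⟨hsurj, ?_⟩
  haveI : Module.Finite R (Localization.AtPrime M.asIdeal) :=
    Module.Finite.of_surjective (Algebra.linearMap R (Localization.AtPrime M.asIdeal)) hsurj
  haveI hc1 : IsAdicComplete 𝔞 (Localization.AtPrime M.asIdeal) :=
    Groth.Agent.Lead.isAdicComplete_of_finite 𝔞 _
  haveI hc2 : IsAdicComplete (𝔞.map (algebraMap R (Localization.AtPrime M.asIdeal)))
      (Localization.AtPrime M.asIdeal) :=
    (IsAdicComplete.map_algebraMap_iff (I := 𝔞)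
      (S := Localization.AtPrime M.asIdeal) (M := Localization.AtPrime M.asIdeal)).2 hc1
  have h𝔞M : 𝔞 ≤ M.asIdeal :=
    (IsAdicComplete.le_jacobson_bot 𝔞).trans
      (sInf_le (by exact ⟨bot_le, M.isMaximal⟩ : M.asIdeal ∈ {J : Ideal R | ⊥ ≤ J ∧ J.IsMaximal}))
  have hJK : 𝔞.map (algebraMap R (Localization.AtPrime M.asIdeal)) ≤
      IsLocalRing.maximalIdeal (Localization.AtPrime M.asIdeal) := by
    rw [← Localization.AtPrime.map_eq_maximalIdeal]
    exact Ideal.map_mono h𝔞M
  haveI : IsArtinianRing (Localization.AtPrime M.asIdeal ⧸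
      𝔞.map (algebraMap R (Localization.AtPrime M.asIdeal))) := by
    let φ : R ⧸ 𝔞 →+* Localization.AtPrime M.asIdeal ⧸
        𝔞.map (algebraMap R (Localization.AtPrime M.asIdeal)) :=
      Ideal.quotientMap _ (algebraMap R (Localization.AtPrime M.asIdeal)) Ideal.le_comap_map
    have hφ : Function.Surjective φ := Ideal.quotientMap_surjective hsurj
    exact hφ.isArtinianRing
  obtain ⟨N, hN⟩ := IsLocalRing.exists_maximalIdeal_pow_le_of_isArtinianRing_quotient
    (𝔞.map (algebraMap R (Localization.AtPrime M.asIdeal)))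
  exact Groth.Agent.S8804.isAdicComplete_of_pow_le _ _ N hJK
    ((Ideal.pow_le_pow_right (Nat.le_succ N)).trans hN)

end Groth.Agent.H23.SemilocalCpl
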