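import Mathlib
import Groth.Prelude.Def_EtModW
import Groth.Prelude.Def_ARSys
import Groth.Agent.H23.AdicDefs

/-!
# Left adjoints of linear functors preserve quotient maps modulo an ideal; `eps^{-1}` preserves adic
systems (helper23, piece (B) of S14009)
-/

set_option autoImplicit false
universe u v
open CategoryTheory CategoryTheory.Limits AlgebraicGeometry Opposite
open Groth.Agent.H23.AdicDefs

namespace Groth.Agent.H23.AdicB

section Abstract

universe u₁ v₁ u₂ v₂ w

variable {R : Type w} [CommRing R] {A : Type u₁} [Category.{v₁} A] {B : Type u₂} [Category.{v₂} B]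
  [Preadditive A] [Preadditive B] [Linear R A] [Linear R B] {L : A ⥤ B} {Rr : B ⥤ A}
  (adj : L ⊣ Rr) (hR : ∀ {X Y : B} (a : R) (f : X ⟶ Y), Rr.map (a • f) = a • Rr.map f)

include hR in
theorem homEquiv_smul {X : A} {Y : B} (a : R) (f : L.obj X ⟶ Y) :
    adj.homEquiv X Y (a • f) = a • adj.homEquiv X Y f := by
  rw [Adjunction.homEquiv_unit, Adjunction.homEquiv_unit, hR, Linear.comp_smul]

include hR in
theorem homEquiv_zero {X : A} {Y : B} : adj.homEquiv X Y (0 : L.obj X ⟶ Y) = 0 := by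
  have h := homEquiv_smul adj hR (0 : R) (0 : L.obj X ⟶ Y)
  rw [zero_smul, zero_smul] at h
  exact h

include hR in
theorem smul_id_map (a : R) (Q : A) : a • 𝟙 (L.obj Q) = (adj.homEquiv Q (L.obj Q)).symm
    ((a • 𝟙 Q) ≫ adj.unit.app Q) := by
  apply (adj.homEquiv _ _).injective
  rw [Equiv.apply_symm_apply, homEquiv_smul adj hR, Adjunction.homEquiv_unit,
    CategoryTheory.Functor.map_id]
  simp [Linear.smul_comp]

include adj hR in
theorem killedBy_obj (J : Ideal R) {Q : A} (hQ : ARSys.KilledBy J Q) :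
    ARSys.KilledBy J (L.obj Q) := by
  intro a ha
  rw [smul_id_map adj hR a Q, hQ a ha, zero_comp]
  apply (adj.homEquiv _ _).injective
  rw [Equiv.apply_symm_apply, homEquiv_zero adj hR]

include adj hR in
theorem isQuot_map (J : Ideal R) {F Q : A} (p : F ⟶ Q) (hp : ARSys.IsQuot J p) :
    ARSys.IsQuot J (L.map p) := by
  refine ⟨killedBy_obj adj hR J hp.1, ?_⟩
  intro Y φ hφ
  have hφ' : ARSys.HomKilledBy J (adj.homEquiv F Y φ) := by
    intro a ha
    rw [← homEquiv_smul adj hR, hφ a ha, homEquiv_zero adj hR]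
  obtain ⟨ψ', hψ', huniq⟩ := hp.2 (Rr.obj Y) (adj.homEquiv F Y φ) hφ'
  refine ⟨(adj.homEquiv Q Y).symm ψ', ?_, ?_⟩
  · show L.map p ≫ (adj.homEquiv Q Y).symm ψ' = φ
    rw [← Adjunction.homEquiv_naturality_left_symm, hψ', Equiv.symm_apply_apply]
  · intro ψ₂ hψ₂
    have h2 : p ≫ adj.homEquiv Q Y ψ₂ = adj.homEquiv F Y φ := by
      rw [← Adjunction.homEquiv_naturality_left, hψ₂]
    rw [← huniq _ h2, Equiv.symm_apply_apply]

end Abstract

variable (Λ : Type (u + 1)) [CommRing Λ] {X : Scheme.{u}}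

/-- (B) -/
theorem isAdic_epsPullMod (I : Ideal Λ) [ProEtS.EpsCont X] (G : ARSys.PS (EtModW.Mod Λ X))
    (hG : ARSys.IsAdic I G) : ARSys.IsAdic I (G ⋙ EtModW.epsPullMod Λ X) := by
  have adj := (ProEtS.eps X).sheafAdjunctionContinuous (ModuleCat.{u + 1} Λ)
    X.smallEtaleTopology (Scheme.ProEt.topology X)
  have hR : ∀ {P Q : EtModW.ModP Λ X} (a : Λ) (f : P ⟶ Q),
      ((ProEtS.eps X).sheafPushforwardContinuous (ModuleCat.{u + 1} Λ)
        X.smallEtaleTopology (Scheme.ProEt.topology X)).map (a • f) =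
      a • ((ProEtS.eps X).sheafPushforwardContinuous (ModuleCat.{u + 1} Λ)
        X.smallEtaleTopology (Scheme.ProEt.topology X)).map f := by
    intro P Q a f
    rfl
  refine ⟨fun n => ?_, fun n m h => ?_⟩
  · exact killedBy_obj adj hR _ (hG.1 n)
  · exact isQuot_map adj hR _ _ (hG.2 n m h)

end Groth.Agent.H23.AdicB
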