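import Mathlib
import Groth.Prelude.Def_PBC
import Groth.Prelude.Def_ProEtS

/-!
# Covering objects of the small pro-étale site by affine w-contractible objects (helper23)

Parametrised by the ring-level input `H` (every ring has a faithfully flat ind-étale, hence weakly
étale, w-contractible cover).
-/

set_option autoImplicit false
set_option linter.style.haveILetI false
set_option backward.isDefEq.respectTransparency.types false
universe u
open CategoryTheory CategoryTheory.Limits AlgebraicGeometry Opposite

namespace Groth.Agent.H23.WCover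

/-- w-contractibility is invariant under ring isomorphisms. -/
theorem isWContractible_of_ringEquiv {D D' : Type u} [CommRing D] [CommRing D'] (e : D ≃+* D')
    (h : EtPBC.IsWContractible D) : EtPBC.IsWContractible D' := by
  intro B' _ _ hff hwe
  letI algDD' : Algebra D D' := e.toRingHom.toAlgebra
  letI algDB' : Algebra D B' := ((algebraMap D' B').comp e.toRingHom).toAlgebra
  haveI : IsScalarTower D D' B' := IsScalarTower.of_algebraMap_eq (fun _ => rfl)
  let eA : D ≃ₐ[D] D' := AlgEquiv.ofRingEquiv (f := e) (fun _ => rfl)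
  haveI : Algebra.Etale D D' := Algebra.Etale.of_equiv eA
  haveI : Algebra.WeaklyEtale D D' := inferInstance
  haveI : Module.FaithfullyFlat D D' := Module.FaithfullyFlat.of_linearEquiv D D eA.symm.toLinearEquiv
  haveI := hff
  haveI := hwe
  haveI : Algebra.WeaklyEtale D B' := Algebra.WeaklyEtale.trans D D' B'
  obtain ⟨r⟩ := h B' (Module.FaithfullyFlat.trans D D' B') inferInstance
  refine ⟨{ toRingHom := e.toRingHom.comp r.toRingHom, commutes' := fun d' => ?_ }⟩
  show e (r (algebraMap D' B' d')) = d'
  have h1 : algebraMap D' B' d' = algebraMap D B' (e.symm d') := by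
    show _ = algebraMap D' B' (e (e.symm d'))
    rw [RingEquiv.apply_symm_apply]
  rw [h1, r.commutes]
  show e (e.symm d') = d'
  rw [RingEquiv.apply_symm_apply]

/-- `Spec` of a weakly étale ring map is weakly étale. -/
theorem weaklyEtale_SpecMap (R S : Type u) [CommRing R] [CommRing S] [Algebra R S]
    [Algebra.WeaklyEtale R S] :
    WeaklyEtale (Spec.map (CommRingCat.ofHom (algebraMap R S))) :=
  { flat := Flat.SpecMap_iff.mpr (RingHom.flat_algebraMap_iff.mpr inferInstance)
    flat_diagonal := by
      rw [diagonal_SpecMap]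
      have : Flat (Spec.map (CommRingCat.ofHom (Algebra.TensorProduct.lmul' R :
          TensorProduct R S S →ₐ[R] S).toRingHom)) :=
        Flat.SpecMap_iff.mpr (Algebra.WeaklyEtale.flat_lmul' _ S)
      infer_instance }

/-- `Spec` of a faithfully flat ring map is surjective. -/
theorem surjective_SpecMap (R S : Type u) [CommRing R] [CommRing S] [Algebra R S]
    [Module.FaithfullyFlat R S] :
    Surjective (Spec.map (CommRingCat.ofHom (algebraMap R S))) := by
  have h : (CommRingCat.ofHom (algebraMap R S)).hom.FaithfullyFlat :=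
    RingHom.faithfullyFlat_algebraMap_iff.mpr inferInstance
  exact ((flat_and_surjective_SpecMap_iff _).2 h).2

/-- the ring-level input. -/
def HasWContrCovers : Prop :=
  ∀ (A : Type u) [CommRing A], ∃ (D : Type u) (_ : CommRing D) (_ : Algebra A D),
    Module.FaithfullyFlat A D ∧ Algebra.WeaklyEtale A D ∧ EtPBC.IsWContractible D

theorem exists_cover (H : HasWContrCovers.{u}) {X : Scheme.{u}} (U : X.ProEt) :
    ∃ (ι : Type u) (V : ι → X.ProEt) (g : ∀ i, V i ⟶ U),
      Sieve.generate (Presieve.ofArrows V g) ∈ Scheme.ProEt.topology X U ∧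
        ∀ i, IsAffine (V i).left ∧ EtPBC.IsWContractible ↥(Γ((V i).left, ⊤)) := by
  let 𝒜 := U.left.affineOpenCover
  choose D iD iAD hff hwe hWC using fun i : 𝒜.I₀ => H (𝒜.X i)
  let p : ∀ i, Spec (CommRingCat.of (D i)) ⟶ Spec (𝒜.X i) := fun i =>
    Spec.map (CommRingCat.ofHom (algebraMap (𝒜.X i) (D i)))
  haveI hp1 : ∀ i, WeaklyEtale (p i) := fun i => by
    haveI := hwe i
    exact weaklyEtale_SpecMap (𝒜.X i) (D i)
  haveI hp2 : ∀ i, Surjective (p i) := fun i => by
    haveI := hff i
    exact surjective_SpecMap (𝒜.X i) (D i)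
  haveI hp3 : ∀ i, QuasiCompact (p i) := fun i => by
    show QuasiCompact (Spec.map _)
    infer_instance
  let E : Scheme.Cover Scheme.proetalePrecoverage U.left :=
    𝒜.openCover.weaken Scheme.zariskiPrecoverage_le_propQCPrecoverage
  let F : ∀ i : E.I₀, Scheme.Cover.{u} Scheme.proetalePrecoverage (E.X i) := fun i =>
    @Scheme.Cover.ofQuasiCompactCover @WeaklyEtale _ ((p i).cover (hp1 i))
      (QuasiCompactCover.homCover (p i) (hp1 i))
  let G : Scheme.Cover Scheme.proetalePrecoverage U.left := E.bind F
  have hG : ∀ ij : G.I₀, WeaklyEtale (G.f ij ≫ U.hom) := fun ij => by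
    have h1 : WeaklyEtale (G.f ij) := by
      show WeaklyEtale (p ij.1 ≫ 𝒜.f ij.1)
      infer_instance
    infer_instance
  let V : G.I₀ → X.ProEt := fun ij => @Scheme.ProEt.mk X _ (G.f ij ≫ U.hom) (hG ij)
  let g : ∀ ij, V ij ⟶ U := fun ij =>
    MorphismProperty.Over.homMk (A := V ij) (B := U) (G.f ij) rfl trivial
  refine ⟨G.I₀, V, g, ?_, fun ij => ⟨?_, ?_⟩⟩
  · have hR : Presieve.ofArrows V g ∈ Scheme.ProEt.precoverage X U := by
      simp only [Scheme.ProEt.precoverage, Precoverage.mem_comap_iff, Presieve.map_ofArrows]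
      exact G.mem₀
    exact Precoverage.generate_mem_toGrothendieck hR
  · show IsAffine (Spec (CommRingCat.of (D ij.1)))
    infer_instance
  · show EtPBC.IsWContractible ↥(Γ(Spec (CommRingCat.of (D ij.1)), ⊤))
    exact isWContractible_of_ringEquiv
      (Scheme.ΓSpecIso (CommRingCat.of (D ij.1))).commRingCatIsoToRingEquiv.symm (hWC ij.1)

end Groth.Agent.H23.WCover
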