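import Mathlib
import Groth.Prelude.Def_PBC
import Groth.Prelude.Def_ProEtS
import Groth.Agent.H23.WCover

/-!
# (L2) an affine scheme all of whose weakly étale affine covers split is w-contractible (helper23)
-/

set_option autoImplicit false
set_option linter.style.haveILetI false
universe u
open CategoryTheory CategoryTheory.Limits AlgebraicGeometry Opposite

namespace Groth.Agent.H23.WC_L2

theorem isoSpec_inv_appTop' (U : Scheme.{u}) [IsAffine U] :
    U.isoSpec.inv.appTop = (Scheme.ΓSpecIso Γ(U, ⊤)).inv := by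
  have h1 : U.isoSpec.hom.appTop = (Scheme.ΓSpecIso Γ(U, ⊤)).hom := by
    rw [Scheme.isoSpec_hom, Scheme.toSpecΓ_appTop]
  have h2 : U.isoSpec.hom.appTop ≫ U.isoSpec.inv.appTop = 𝟙 _ := by
    rw [← Scheme.Hom.comp_appTop, Iso.inv_hom_id]
    rfl
  rw [h1] at h2
  exact (Iso.hom_comp_eq_id _).mp h2

/-- (L2) converse of (L1). -/
theorem isWContractible_of_sections {U : Scheme.{u}} [IsAffine U]
    (h : ∀ (Y : Scheme.{u}) (_ : IsAffine Y) (q : Y ⟶ U) (_ : WeaklyEtale q) (_ : Surjective q),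
      ∃ σ : U ⟶ Y, σ ≫ q = 𝟙 U) : EtPBC.IsWContractible ↥(Γ(U, ⊤)) := by
  intro B _ _ hff hwe
  let φ : Γ(U, ⊤) ⟶ CommRingCat.of B := CommRingCat.ofHom (algebraMap Γ(U, ⊤) B)
  haveI h1 : WeaklyEtale (Spec.map φ) := Groth.Agent.H23.WCover.weaklyEtale_SpecMap _ B
  haveI h2 : Surjective (Spec.map φ) := Groth.Agent.H23.WCover.surjective_SpecMap _ B
  let q : Spec (CommRingCat.of B) ⟶ U := Spec.map φ ≫ U.isoSpec.inv
  haveI : WeaklyEtale q := inferInstance
  haveI : Surjective q := inferInstance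
  obtain ⟨σ, hσ⟩ := h _ inferInstance q inferInstance inferInstance
  let r : CommRingCat.of B ⟶ Γ(U, ⊤) := (Scheme.ΓSpecIso (CommRingCat.of B)).inv ≫ σ.appTop
  have hr : φ ≫ r = 𝟙 _ := by
    have h3 : (σ ≫ q).appTop = 𝟙 _ := by rw [hσ]; rfl
    rw [Scheme.Hom.comp_appTop, Scheme.Hom.comp_appTop, isoSpec_inv_appTop'] at h3
    show φ ≫ (Scheme.ΓSpecIso (CommRingCat.of B)).inv ≫ σ.appTop = 𝟙 _
    rw [Scheme.ΓSpecIso_inv_naturality_assoc]
    simpa using h3
  refine ⟨{ toRingHom := r.hom, commutes' := fun a => ?_ }⟩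
  have := congrArg (fun f => f.hom a) hr
  exact this

end Groth.Agent.H23.WC_L2
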