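import Mathlib
import Groth.Prelude.Def_PBC
import Groth.Prelude.Def_ProEtS

/-!
# Covering sieves of quasi-compact objects of the pro-étale site (helper23)
-/

set_option autoImplicit false
set_option linter.style.haveILetI false
set_option backward.isDefEq.respectTransparency.types false
universe u
open CategoryTheory CategoryTheory.Limits AlgebraicGeometry Opposite

namespace Groth.Agent.H23.WC_L4

/-- (L4) a covering sieve of a quasi-compact object contains a finite family with affine opens
whose images cover. -/
theorem exists_finite_affine_of_mem_topology {X : Scheme.{u}} (U : X.ProEt) [CompactSpace ↥U.left]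
    (R : Sieve U) (hR : R ∈ Scheme.ProEt.topology X U) :
    ∃ (n : ℕ) (Z : Fin n → X.ProEt) (g : ∀ k, Z k ⟶ U) (V : ∀ k, (Z k).left.Opens),
      (∀ k, R.arrows (g k)) ∧ (∀ k, IsAffineOpen (V k)) ∧
      ⋃ k, (g k).left '' (V k : Set ↥(Z k).left) = Set.univ := by
  haveI : (Scheme.ProEt.precoverage X).IsStableUnderComposition := by
    unfold Scheme.ProEt.precoverage; infer_instance
  haveI : (Scheme.ProEt.precoverage X).IsStableUnderBaseChange := by
    unfold Scheme.ProEt.precoverage; infer_instance
  haveI : (Scheme.ProEt.precoverage X).HasIsos := by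
    unfold Scheme.ProEt.precoverage; infer_instance
  obtain ⟨S, hS, hSR⟩ :=
    (Precoverage.mem_toGrothendieck_iff_of_isStableUnderComposition
      (J := Scheme.ProEt.precoverage X)).1 hR
  obtain ⟨ι, Y, f, rfl⟩ := S.exists_eq_ofArrows
  have hS' : Presieve.ofArrows (fun i => (Y i).left) (fun i => (f i).left) ∈
      Scheme.proetalePrecoverage U.left := by
    have := hS
    simp only [Scheme.ProEt.precoverage, Precoverage.mem_comap_iff, Presieve.map_ofArrows] at this
    exact this
  let E : PreZeroHypercover U.left :=
    { I₀ := ι, X := fun i => (Y i).left, f := fun i => (f i).left }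
  haveI hqc : QuasiCompactCover E := Scheme.presieve₀_mem_qcPrecoverage_iff.mp hS'.1
  obtain ⟨n, a, V, hV, hcov⟩ :=
    QuasiCompactCover.exists_isAffineOpen_of_isCompact E (U := ⊤) isCompact_univ
  refine ⟨n, fun k => Y (a k), fun k => f (a k), V, fun k => hSR _ _ (Presieve.ofArrows.mk (a k)), hV, ?_⟩
  simpa using hcov

end Groth.Agent.H23.WC_L4
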