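import Mathlib
import Groth.Prelude.Def_PBC
import Groth.Prelude.Def_ProEtS
import Groth.Agent.H23.WCDefs
import Groth.Agent.H23.WC_L2
import Groth.Agent.H23.WC_L4
import Groth.Agent.H19.WC_L3
import Groth.Agent.H64.WC_L6
import Groth.Agent.H58.WC_L7
import Groth.Agent.H44.WC_L8

set_option autoImplicit false
universe u v
open CategoryTheory CategoryTheory.Limits AlgebraicGeometry Opposite
open Groth.Agent.H23.WCDefs

namespace Groth.Agent.H23.WCStmts

/-- (L1) sections of weakly étale affine covers of a w-contractible affine scheme. -/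
theorem exists_section_of_isWContractible {U Y : Scheme.{u}} [IsAffine U] [IsAffine Y]
    (q : Y ⟶ U) [WeaklyEtale q] [Surjective q] (h : EtPBC.IsWContractible ↥(Γ(U, ⊤))) :
    ∃ σ : U ⟶ Y, σ ≫ q = 𝟙 U := by
  exact Groth.Agent.H19.WC_L3.exists_section_of_isWContractible q h

/-- (L2) converse of (L1). -/
theorem isWContractible_of_sections {U : Scheme.{u}} [IsAffine U]
    (h : ∀ (Y : Scheme.{u}) (_ : IsAffine Y) (q : Y ⟶ U) (_ : WeaklyEtale q) (_ : Surjective q),
      ∃ σ : U ⟶ Y, σ ≫ q = 𝟙 U) : EtPBC.IsWContractible ↥(Γ(U, ⊤)) := by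
  exact Groth.Agent.H23.WC_L2.isWContractible_of_sections h

/-- (L3) clopen refinement of a finite weakly étale affine-open covering family. -/
theorem exists_clopen_refinement {U : Scheme.{u}} [IsAffine U]
    (h : EtPBC.IsWContractible ↥(Γ(U, ⊤))) {n : ℕ} (Y : Fin n → Scheme.{u})
    (f : ∀ k, Y k ⟶ U) (hf : ∀ k, WeaklyEtale (f k)) (V : ∀ k, (Y k).Opens)
    (hV : ∀ k, IsAffineOpen (V k)) (hcov : ⋃ k, (f k) '' (V k : Set ↥(Y k)) = Set.univ) :
    ∃ W : Fin n → U.Opens, (∀ k, IsClopen ((W k : Set ↥U))) ∧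
      Pairwise (fun k l => Disjoint (W k : Set ↥U) (W l)) ∧ (⋃ k, (W k : Set ↥U)) = Set.univ ∧
      ∀ k, ∃ σ : (W k : Scheme.{u}) ⟶ Y k, σ ≫ f k = (W k).ι := by
  exact Groth.Agent.H19.WC_L3.exists_clopen_refinement h Y f hf V hV hcov

/-- (L4) a covering sieve of a quasi-compact object contains a finite family with affine opens
whose images cover. -/
theorem exists_finite_affine_of_mem_topology {X : Scheme.{u}} (U : X.ProEt) [CompactSpace ↥U.left]
    (R : Sieve U) (hR : R ∈ Scheme.ProEt.topology X U) :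
    ∃ (n : ℕ) (Z : Fin n → X.ProEt) (g : ∀ k, Z k ⟶ U) (V : ∀ k, (Z k).left.Opens),
      (∀ k, R.arrows (g k)) ∧ (∀ k, IsAffineOpen (V k)) ∧
      ⋃ k, (g k).left '' (V k : Set ↥(Z k).left) = Set.univ := by
  exact Groth.Agent.H23.WC_L4.exists_finite_affine_of_mem_topology U R hR

/-- (L6) sheaves turn disjoint open covers into products. -/
theorem bijective_restrict_disjoint_cover {X : Scheme.{u}}
    (F : Sheaf (Scheme.ProEt.topology X) (Type (u + 1))) (U : X.ProEt) {ι : Type v}
    (W : ι → U.left.Opens)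
    (hdisj : Pairwise (fun k l => Disjoint (W k : Set ↥U.left) (W l)))
    (hcov : (⋃ k, (W k : Set ↥U.left)) = Set.univ) :
    Function.Bijective (fun (s : F.obj.obj (op U)) (k : ι) =>
      F.obj.map (openIncl U (W k)).op s) := by
  exact Groth.Agent.H64.WC_L6.bijective_restrict_disjoint_cover F U W hdisj hcov

/-- (L7) epimorphisms of sheaves of sets are locally surjective, in elementary form. -/
theorem exists_sieve_of_epi {X : Scheme.{u}}
    {F G : Sheaf (Scheme.ProEt.topology X) (Type (u + 1))} (φ : F ⟶ G) (hφ : Epi φ)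
    (U : X.ProEt) (t : G.obj.obj (op U)) :
    ∃ R ∈ Scheme.ProEt.topology X U, ∀ (Z : X.ProEt) (g : Z ⟶ U), R.arrows g →
      ∃ s : F.obj.obj (op Z), φ.hom.app (op Z) s = G.obj.map g.op t := by
  exact Groth.Agent.H58.WC_L7.exists_sieve_of_epi φ hφ U t

/-- (L8) sections of covers of a weakly contractible object. -/
theorem exists_section_of_isWC {X : Scheme.{u}} (U : X.ProEt) (hU : ProEtS.IsWC U)
    (Y : Scheme.{u}) [IsAffine Y] (q : Y ⟶ U.left) [WeaklyEtale q] [Surjective q]
    [QuasiCompact q] : ∃ σ : U.left ⟶ Y, σ ≫ q = 𝟙 U.left := by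
  exact Groth.Agent.H44.WC_L8.exists_section_of_isWC U hU Y q

/-! ### assembly -/

theorem clopenRefines_of_isWContractible {X : Scheme.{u}} (U : X.ProEt) [IsAffine U.left]
    (h : EtPBC.IsWContractible ↥(Γ(U.left, ⊤))) : ClopenRefines U := by
  intro R hR
  obtain ⟨n, Z, g, V, hg, hV, hcov⟩ := exists_finite_affine_of_mem_topology U R hR
  obtain ⟨W, hW1, hW2, hW3, hσ⟩ := exists_clopen_refinement h (fun k => (Z k).left)
    (fun k => (g k).left) (fun k => by
      haveI : WeaklyEtale ((g k).left ≫ U.hom) := by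
        rw [MorphismProperty.Over.w (g k)]
        infer_instance
      exact WeaklyEtale.of_comp (g k).left U.hom) V hV hcov
  refine ⟨n, W, hW1, hW2, hW3, fun k => ?_⟩
  obtain ⟨σ, hσk⟩ := hσ k
  have hw : σ ≫ (Z k).hom = (W k).ι ≫ U.hom := by
    rw [← hσk, Category.assoc, MorphismProperty.Over.w (g k)]
  let s : Scheme.ProEt.mk ((W k).ι ≫ U.hom) ⟶ Z k :=
    MorphismProperty.Over.homMk σ hw trivial
  have : (MorphismProperty.Over.homMk (W k).ι :
      Scheme.ProEt.mk ((W k).ι ≫ U.hom) ⟶ U) = s ≫ g k := by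
    ext
    exact hσk.symm
  rw [this]
  exact R.downward_closed (hg k) s

/-- (L10) an object with a disjoint open cover by weakly contractible objects is weakly
contractible. -/
theorem isWC_of_disjoint_cover {X : Scheme.{u}} (U : X.ProEt) {ι : Type v}
    (W : ι → U.left.Opens)
    (hdisj : Pairwise (fun k l => Disjoint (W k : Set ↥U.left) (W l)))
    (hcov : (⋃ k, (W k : Set ↥U.left)) = Set.univ)
    (hW : ∀ k, ProEtS.IsWC (openObj U (W k))) : ProEtS.IsWC U := by
  intro F G φ hφ t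
  choose s hs using fun k => hW k F G φ hφ (G.obj.map (openIncl U (W k)).op t)
  obtain ⟨s₀, hs₀⟩ := (bijective_restrict_disjoint_cover F U W hdisj hcov).2 s
  refine ⟨s₀, ?_⟩
  apply (bijective_restrict_disjoint_cover G U W hdisj hcov).1
  funext k
  have h1 := congrFun hs₀ k
  simp only at h1
  have h2 := FunctorToTypes.naturality φ.hom (openIncl U (W k)).op s₀
  show G.obj.map _ (φ.hom.app (op U) s₀) = G.obj.map _ t
  rw [← h2, h1, hs k]

theorem isWC_of_clopenRefines {X : Scheme.{u}} (U : X.ProEt) (h : ClopenRefines U) :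
    ProEtS.IsWC U := by
  intro F G φ hφ t
  obtain ⟨R, hR, hloc⟩ := exists_sieve_of_epi φ hφ U t
  obtain ⟨n, W, hW1, hW2, hW3, hWR⟩ := h R hR
  choose s hs using fun k => hloc _ _ (hWR k)
  obtain ⟨s₀, hs₀⟩ := (bijective_restrict_disjoint_cover F U W hW2 hW3).2 s
  refine ⟨s₀, ?_⟩
  apply (bijective_restrict_disjoint_cover G U W hW2 hW3).1
  funext k
  have h1 := congrFun hs₀ k
  simp only at h1
  have h2 := FunctorToTypes.naturality φ.hom (openIncl U (W k)).op s₀
  show G.obj.map _ (φ.hom.app (op U) s₀) = G.obj.map _ t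
  rw [← h2, h1, hs k]

theorem isWContractible_of_isWC {X : Scheme.{u}} (U : X.ProEt) [IsAffine U.left]
    (h : ProEtS.IsWC U) : EtPBC.IsWContractible ↥(Γ(U.left, ⊤)) := by
  apply isWContractible_of_sections
  intro Y hY q hq1 hq2
  haveI : QuasiCompact q := by
    haveI : IsAffineHom q := isAffineHom_of_isAffine q
    infer_instance
  exact exists_section_of_isWC U h Y q

theorem S0715 {X : Scheme.{u}} (U : X.ProEt) [IsAffine U.left] :
    EtPBC.IsWContractible ↥(Γ(U.left, ⊤)) ↔ ProEtS.IsWC U :=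
  ⟨fun h => isWC_of_clopenRefines U (clopenRefines_of_isWContractible U h),
    isWContractible_of_isWC U⟩

theorem S0757 {X : Scheme.{u}} (U : X.ProEt) [IsAffine U.left] :
    EtPBC.IsWContractible ↥(Γ(U.left, ⊤)) ↔
      ∀ R ∈ Scheme.ProEt.topology X U, ∃ (n : ℕ) (W : Fin n → U.left.Opens),
        (∀ k, IsClopen ((W k : Set ↥U.left))) ∧
        Pairwise (fun k l => Disjoint (W k : Set ↥U.left) (W l)) ∧ (⋃ k, (W k : Set ↥U.left)) = Set.univ ∧
        ∀ k, R.arrows (MorphismProperty.Over.homMk (W k).ι : Scheme.ProEt.mk ((W k).ι ≫ U.hom) ⟶ U) :=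
  ⟨clopenRefines_of_isWContractible U,
    fun h => isWContractible_of_isWC U (isWC_of_clopenRefines U h)⟩

end Groth.Agent.H23.WCStmts
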