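import Mathlib
import Groth.Prelude.Def_PBC
import Groth.Prelude.Def_ProEtS
import Groth.Agent.H23.WCDefs
import Groth.Agent.H23.WCover
import Groth.Agent.H23.WCMain

/-!
# Covers of objects of the pro-étale site by a single weakly contractible object (helper23)
-/

set_option autoImplicit false
set_option linter.style.haveILetI false
set_option backward.isDefEq.respectTransparency.types false
universe u
open CategoryTheory CategoryTheory.Limits AlgebraicGeometry Opposite
open Groth.Agent.H23.WCDefs Groth.Agent.H23.WCStmts Groth.Agent.H23.WCover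

namespace Groth.Agent.H23.WCSigma

theorem exists_wc_cover (H : HasWContrCovers.{u}) {X : Scheme.{u}} (U : X.ProEt) {ι : Type u}
    (Rg : ι → CommRingCat.{u}) (j : ∀ i, Spec (Rg i) ⟶ U.left) (hj : ∀ i, IsOpenImmersion (j i))
    (hcov : ∀ x : U.left, ∃ i, x ∈ Set.range (j i)) :
    ∃ (V : X.ProEt) (g : V ⟶ U),
      Sieve.generate (Presieve.singleton g) ∈ Scheme.ProEt.topology X U ∧
      ProEtS.IsWC V ∧ (Finite ι → IsAffine V.left) := by
  choose D iD iAD hff hwe hWC using fun i : ι => H (Rg i)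
  let p : ∀ i, Spec (CommRingCat.of (D i)) ⟶ Spec (Rg i) := fun i =>
    Spec.map (CommRingCat.ofHom (algebraMap (Rg i) (D i)))
  haveI hp1 : ∀ i, WeaklyEtale (p i) := fun i => by
    haveI := hwe i
    exact weaklyEtale_SpecMap (Rg i) (D i)
  haveI hp2 : ∀ i, Surjective (p i) := fun i => by
    haveI := hff i
    exact surjective_SpecMap (Rg i) (D i)
  haveI hp3 : ∀ i, QuasiCompact (p i) := fun i => by
    show QuasiCompact (Spec.map _)
    infer_instance
  haveI := hj
  let Ys : ι → Scheme.{u} := fun i => Spec (CommRingCat.of (D i))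
  let q : ∐ Ys ⟶ U.left := Sigma.desc (fun i => p i ≫ j i)
  have hq : WeaklyEtale q :=
    IsZariskiLocalAtSource.sigmaDesc (P := @WeaklyEtale) (fun i => inferInstance)
  have hqU : WeaklyEtale (q ≫ U.hom) := inferInstance
  let V : X.ProEt := @Scheme.ProEt.mk X _ (q ≫ U.hom) hqU
  let g : V ⟶ U := MorphismProperty.Over.homMk (A := V) (B := U) q rfl trivial
  refine ⟨V, g, ?_, ?_, ?_⟩
  · -- the covering property
    let E₀ : U.left.OpenCover := Scheme.Cover.mkOfCovers ι (fun i => Spec (Rg i)) j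
      (fun x => by
        obtain ⟨i, y, hy⟩ := hcov x
        exact ⟨i, y, hy⟩) hj
    let E : Scheme.Cover Scheme.proetalePrecoverage U.left :=
      E₀.weaken Scheme.zariskiPrecoverage_le_propQCPrecoverage
    let F : ∀ i : E.I₀, Scheme.Cover.{u} Scheme.proetalePrecoverage (E.X i) := fun i =>
      @Scheme.Cover.ofQuasiCompactCover @WeaklyEtale _ ((p i).cover (hp1 i))
        (QuasiCompactCover.homCover (p i) (hp1 i))
    let G : Scheme.Cover Scheme.proetalePrecoverage U.left := E.bind F
    have hG : ∀ ij : G.I₀, WeaklyEtale (G.f ij ≫ U.hom) := fun ij => by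
      have h1 : WeaklyEtale (G.f ij) := by
        show WeaklyEtale (p ij.1 ≫ j ij.1)
        infer_instance
      infer_instance
    let V' : G.I₀ → X.ProEt := fun ij => @Scheme.ProEt.mk X _ (G.f ij ≫ U.hom) (hG ij)
    let g' : ∀ ij, V' ij ⟶ U := fun ij =>
      MorphismProperty.Over.homMk (A := V' ij) (B := U) (G.f ij) rfl trivial
    have hR : Presieve.ofArrows V' g' ∈ Scheme.ProEt.precoverage X U := by
      simp only [Scheme.ProEt.precoverage, Precoverage.mem_comap_iff, Presieve.map_ofArrows]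
      exact G.mem₀
    refine (Scheme.ProEt.topology X).superset_covering ?_
      (Precoverage.generate_mem_toGrothendieck hR)
    rw [Sieve.generate_le_iff]
    rintro _ _ ⟨ij⟩
    have hw : Sigma.ι Ys ij.1 ≫ q = G.f ij := by
      show Sigma.ι Ys ij.1 ≫ Sigma.desc (fun i => p i ≫ j i) = p ij.1 ≫ j ij.1
      rw [Sigma.ι_desc]
    let h : V' ij ⟶ V := MorphismProperty.Over.homMk (A := V' ij) (B := V) (Sigma.ι Ys ij.1)
      (by
        show Sigma.ι Ys ij.1 ≫ (q ≫ U.hom) = G.f ij ≫ U.hom
        rw [← hw]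
        exact (Category.assoc _ _ _).symm) trivial
    refine ⟨V, h, g, Presieve.singleton.mk, ?_⟩
    apply MorphismProperty.Over.Hom.ext
    exact hw
  · -- weak contractibility
    let W : ι → V.left.Opens := fun i => (Sigma.ι Ys i).opensRange
    have hdisj : Pairwise (fun k l => Disjoint (W k : Set ↥V.left) (W l)) := by
      intro k l hkl
      rw [Set.disjoint_iff]
      rintro x ⟨hx1, hx2⟩
      exact (AlgebraicGeometry.disjoint_opensRange_sigmaι Ys k l hkl).le_bot ⟨hx1, hx2⟩
    have hcovW : (⋃ k, (W k : Set ↥V.left)) = Set.univ := by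
      rw [Set.eq_univ_iff_forall]
      intro x
      obtain ⟨i, y, hy⟩ := (AlgebraicGeometry.sigmaOpenCover Ys).exists_eq x
      exact Set.mem_iUnion.2 ⟨i, y, hy⟩
    refine isWC_of_disjoint_cover V W hdisj hcovW (fun k => ?_)
    haveI hA : IsAffine (openObj V (W k)).left :=
      isAffineOpen_opensRange (Sigma.ι Ys k)
    refine (S0715 (openObj V (W k))).1 ?_
    let e : Ys k ≅ ((W k : V.left.Opens) : Scheme.{u}) := (Sigma.ι Ys k).isoOpensRange
    let e1 : ↥(Γ(((W k : V.left.Opens) : Scheme.{u}), ⊤)) ≃+* ↥(Γ(Ys k, ⊤)) :=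
      (Scheme.Γ.mapIso e.op).commRingCatIsoToRingEquiv
    let e2 : ↥(Γ(Ys k, ⊤)) ≃+* D k :=
      (Scheme.ΓSpecIso (CommRingCat.of (D k))).commRingCatIsoToRingEquiv
    exact isWContractible_of_ringEquiv (e1.trans e2).symm (hWC k)
  · intro hfin
    show IsAffine (∐ Ys)
    infer_instance

/-- every object of `X_proet` is covered by a single weakly contractible object. -/
theorem exists_cover_weaklyContractible (H : HasWContrCovers.{u}) {X : Scheme.{u}} (U : X.ProEt) :
    ∃ (V : X.ProEt) (g : V ⟶ U),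
      Sieve.generate (Presieve.singleton g) ∈ Scheme.ProEt.topology X U ∧ ProEtS.IsWC V := by
  let 𝒜 := U.left.affineOpenCover
  obtain ⟨V, g, h1, h2, -⟩ := exists_wc_cover H U 𝒜.X 𝒜.f (fun i => inferInstance)
    (fun x => ⟨𝒜.idx x, 𝒜.covers x⟩)
  exact ⟨V, g, h1, h2⟩

/-- every quasi-compact object of `X_proet` is covered by a single affine weakly contractible
object. -/
theorem exists_cover_affine_weaklyContractible (H : HasWContrCovers.{u}) {X : Scheme.{u}}
    (U : X.ProEt) [CompactSpace ↥U.left] :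
    ∃ (V : X.ProEt) (g : V ⟶ U),
      Sieve.generate (Presieve.singleton g) ∈ Scheme.ProEt.topology X U ∧ IsAffine V.left ∧
        ProEtS.IsWC V := by
  let 𝒜 := U.left.affineOpenCover
  obtain ⟨t, ht⟩ := isCompact_univ.elim_finite_subcover
    (fun i : 𝒜.I₀ => ((𝒜.f i).opensRange : Set ↥U.left)) (fun i => (𝒜.f i).opensRange.2)
    (fun x _ => Set.mem_iUnion.2 ⟨𝒜.idx x, 𝒜.covers x⟩)
  obtain ⟨V, g, h1, h2, h3⟩ := exists_wc_cover H U (ι := {i // i ∈ t}) (fun i => 𝒜.X i.1)
    (fun i => 𝒜.f i.1) (fun i => inferInstance) (fun x => by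
      obtain ⟨i, hi⟩ := Set.mem_iUnion.1 (ht (Set.mem_univ x))
      obtain ⟨hit, hx⟩ := Set.mem_iUnion.1 hi
      exact ⟨⟨i, hit⟩, hx⟩)
  exact ⟨V, g, h1, h3 inferInstance, h2⟩

end Groth.Agent.H23.WCSigma
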