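import Mathlib
import Groth.Prelude.Def_PBC
import Groth.Prelude.Def_ProEtW
import Groth.Agent.S1974

/-!
# Weakly étale maps induce algebraic residue field extensions (helper23)
-/

set_option autoImplicit false
set_option linter.style.haveILetI false
universe u

namespace Groth.Agent.H23.WOliv

/-- weakly étale ring maps induce algebraic residue field extensions. -/
theorem algRes_of_weaklyEtale (A B : Type u) [CommRing A] [CommRing B] [Algebra A B]
    [Algebra.WeaklyEtale A B] : ProEtW.AlgebraicResidueExtensions A B := by
  intro q hq
  haveI hlo : q.LiesOver (q.comap (algebraMap A B)) := ⟨rfl⟩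
  letI := Localization.AtPrime.algebraOfLiesOver (q.comap (algebraMap A B)) q
  have hsep : Algebra.IsSeparable (q.comap (algebraMap A B)).ResidueField q.ResidueField :=
    Groth.Agent.S1974.result A B (q.comap (algebraMap A B)) q
  letI algl : Algebra (A ⧸ q.comap (algebraMap A B)) q.ResidueField :=
    ((algebraMap (q.comap (algebraMap A B)).ResidueField q.ResidueField).comp
      (algebraMap (A ⧸ q.comap (algebraMap A B)) (q.comap (algebraMap A B)).ResidueField)).toAlgebra
  haveI : IsScalarTower (A ⧸ q.comap (algebraMap A B)) (q.comap (algebraMap A B)).ResidueField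
      q.ResidueField := IsScalarTower.of_algebraMap_eq (fun _ => rfl)
  haveI : IsScalarTower (A ⧸ q.comap (algebraMap A B)) (B ⧸ q) q.ResidueField := by
    refine IsScalarTower.of_algebraMap_eq (fun x => ?_)
    obtain ⟨a, rfl⟩ := Ideal.Quotient.mk_surjective x
    show algebraMap (q.comap (algebraMap A B)).ResidueField q.ResidueField
        (algebraMap (A ⧸ q.comap (algebraMap A B)) (q.comap (algebraMap A B)).ResidueField
          (Ideal.Quotient.mk _ a)) =
      algebraMap (B ⧸ q) q.ResidueField (Ideal.Quotient.mk q (algebraMap A B a))
    rw [Ideal.algebraMap_quotient_residueField_mk, Ideal.algebraMap_quotient_residueField_mk,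
      ← IsScalarTower.algebraMap_apply A (q.comap (algebraMap A B)).ResidueField q.ResidueField,
      ← IsScalarTower.algebraMap_apply A B q.ResidueField]
  refine ⟨fun x => ?_⟩
  have hinj : Function.Injective (algebraMap (B ⧸ q) q.ResidueField) :=
    Ideal.injective_algebraMap_quotient_residueField q
  rw [← isAlgebraic_algebraMap_iff hinj (R := A ⧸ q.comap (algebraMap A B)),
    IsFractionRing.isAlgebraic_iff (A ⧸ q.comap (algebraMap A B))
      (q.comap (algebraMap A B)).ResidueField q.ResidueField]
  exact (hsep.isSeparable _ _).isIntegral.isAlgebraic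

end Groth.Agent.H23.WOliv
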