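import Mathlib
import Groth.Prelude.Def_PBC
import Groth.Prelude.Def_ProEtW
import Groth.Prelude.Def_EtBase
import Groth.Agent.H48.IdLoc
import Groth.Agent.H8.WeaklyEtaleLoc
import Groth.Agent.S0427
import Groth.Agent.S7127

/-!
# Weakly étale maps over rings with strictly henselian local rings identify local rings (helper23)
-/

set_option autoImplicit false
set_option linter.style.haveILetI false
universe u

namespace Groth.Agent.H23.WOliv

open Groth.Agent.H48.IdLoc

variable {C D : Type u} [CommRing C] [CommRing D] [Algebra C D]

/-- `C → D` identifies local rings as soon as it does so at the maximal ideals of `D`. -/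
theorem identifiesLocalRings_of_maximal
    (h : ∀ (n : Ideal D) [n.IsMaximal], Function.Bijective
      (Localization.localRingHom (n.comap (algebraMap C D)) n (algebraMap C D) rfl)) :
    EtPBC.IdentifiesLocalRings C D := by
  -- the common computation
  have key : ∀ (y : PrimeSpectrum D) (b : D), ∃ (n : Ideal D) (_ : n.IsMaximal),
      y.asIdeal ≤ n ∧ ∃ (c u : C) (v : D), algebraMap C D u ∉ n ∧ v ∉ n ∧
        v * algebraMap C D c = v * (b * algebraMap C D u) := by
    intro y b
    obtain ⟨n, hn, hyn⟩ := Ideal.exists_le_maximal y.asIdeal y.2.ne_top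
    haveI := hn
    obtain ⟨z, hz⟩ := (h n).2 (algebraMap D (Localization.AtPrime n) b)
    obtain ⟨⟨c, u⟩, rfl⟩ := IsLocalization.mk'_surjective
      (n.comap (algebraMap C D)).primeCompl z
    rw [Localization.localRingHom_mk', IsLocalization.mk'_eq_iff_eq_mul, ← map_mul,
      IsLocalization.eq_iff_exists n.primeCompl] at hz
    obtain ⟨v, hv⟩ := hz
    exact ⟨n, hn, hyn, c, u, v, u.2, v.2, hv⟩
  apply identifiesLocalRings_of_loc
  · intro y b
    obtain ⟨n, hn, hyn, c, u, v, hu, hv, hvc⟩ := key y b
    refine ⟨v, fun hmem => hv (hyn hmem), c, u, fun hmem => hu (hyn hmem), ?_⟩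
    rw [hvc]
    ring
  · intro y a w hw hwa
    obtain ⟨n, hn, hyn, c, u, v, hu, hv, hvc⟩ := key y w
    haveI := hn
    have h1 : algebraMap D (Localization.AtPrime n) (algebraMap C D (c * a)) = 0 := by
      rw [IsLocalization.map_eq_zero_iff n.primeCompl]
      refine ⟨⟨v, hv⟩, ?_⟩
      show v * algebraMap C D (c * a) = 0
      rw [map_mul, ← mul_assoc, hvc]
      calc v * (w * algebraMap C D u) * algebraMap C D a
          = v * algebraMap C D u * (w * algebraMap C D a) := by ring
        _ = 0 := by rw [hwa, mul_zero]
    rw [← Localization.localRingHom_to_map (n.comap (algebraMap C D)) n (algebraMap C D) rfl] at h1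
    have h2 := (h n).1 (h1.trans (map_zero _).symm)
    rw [IsLocalization.map_eq_zero_iff (n.comap (algebraMap C D)).primeCompl] at h2
    obtain ⟨t, ht⟩ := h2
    refine ⟨t * c, ?_, by rw [mul_assoc]; exact ht⟩
    intro hmem
    rw [map_mul] at hmem
    rcases y.2.mem_or_mem hmem with h3 | h3
    · exact t.2 (hyn h3)
    · have h4 : v * (w * algebraMap C D u) ∈ y.asIdeal := by
        rw [← hvc]; exact Ideal.mul_mem_left _ _ h3
      rcases y.2.mem_or_mem h4 with h5 | h5
      · exact hv (hyn h5)
      · rcases y.2.mem_or_mem h5 with h6 | h6
        · exact hw h6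
        · exact hu (hyn h6)

/-- **Olivier**: a weakly étale map is an isomorphism on local rings over a strictly henselian
local ring of the base. -/
theorem bijective_localRingHom_of_weaklyEtale [Algebra.WeaklyEtale C D] (n : Ideal D) [n.IsPrime]
    (hsh : EtCoh.IsStrictlyHenselianLocalRing
      (Localization.AtPrime (n.comap (algebraMap C D)))) :
    Function.Bijective
      (Localization.localRingHom (n.comap (algebraMap C D)) n (algebraMap C D) rfl) := by
  obtain ⟨hH, hS⟩ := hsh
  letI alg : Algebra (Localization.AtPrime (n.comap (algebraMap C D))) (Localization.AtPrime n) :=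
    (Localization.localRingHom (n.comap (algebraMap C D)) n (algebraMap C D) rfl).toAlgebra
  haveI : IsLocalHom (algebraMap (Localization.AtPrime (n.comap (algebraMap C D)))
      (Localization.AtPrime n)) :=
    Localization.isLocalHom_localRingHom _ _ _ rfl
  haveI : IsScalarTower C D (Localization.AtPrime n) := inferInstance
  haveI : IsScalarTower C (Localization.AtPrime (n.comap (algebraMap C D)))
      (Localization.AtPrime n) := by
    refine IsScalarTower.of_algebraMap_eq (fun c => ?_)
    show _ = Localization.localRingHom (n.comap (algebraMap C D)) n (algebraMap C D) rfl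
      (algebraMap C _ c)
    rw [Localization.localRingHom_to_map, ← IsScalarTower.algebraMap_apply]
  haveI : Algebra.WeaklyEtale C (Localization.AtPrime (n.comap (algebraMap C D))) :=
    Groth.Agent.H8.weaklyEtale_of_isLocalization (n.comap (algebraMap C D)).primeCompl _
  haveI : Algebra.WeaklyEtale D (Localization.AtPrime n) :=
    Groth.Agent.H8.weaklyEtale_of_isLocalization n.primeCompl _
  haveI : Algebra.WeaklyEtale C (Localization.AtPrime n) :=
    Algebra.WeaklyEtale.trans C D (Localization.AtPrime n)
  haveI : Algebra.WeaklyEtale (Localization.AtPrime (n.comap (algebraMap C D)))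
      (Localization.AtPrime n) :=
    Groth.Agent.S7127.result C (Localization.AtPrime (n.comap (algebraMap C D)))
      (Localization.AtPrime n)
  exact Groth.Agent.S0427.result (A := Localization.AtPrime (n.comap (algebraMap C D)))
    (B := Localization.AtPrime n)

/-- a weakly étale map sending closed points to closed points, over a ring whose local rings at
maximal ideals are strictly henselian, identifies local rings. -/
theorem identifiesLocalRings_of_weaklyEtale [Algebra.WeaklyEtale C D]
    (hmax : ∀ n : Ideal D, n.IsMaximal → (n.comap (algebraMap C D)).IsMaximal)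
    (hsh : ∀ (m : Ideal C) [m.IsMaximal],
      EtCoh.IsStrictlyHenselianLocalRing (Localization.AtPrime m)) :
    EtPBC.IdentifiesLocalRings C D := by
  apply identifiesLocalRings_of_maximal
  intro n hn
  haveI := hmax n hn
  exact bijective_localRingHom_of_weaklyEtale n (hsh _)

end Groth.Agent.H23.WOliv
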