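import Mathlib
import Groth.Prelude.Def_PBC
import Groth.Prelude.Def_ProEtW

/-!
# Localization of a ring along a profinite closed subset `V(I)` (helper23, Stacks 097C-type)

`Z = V(I)` profinite.  `R = LocallyConstant Z A`, `S = {s | ∀ z, s z ∉ 𝔭_z}`, `B = S⁻¹ R`.
This file: `A ⧸ I → B ⧸ I B` is bijective, `1 + I B ⊆ Bˣ`, idempotents `χ_W` of clopen `W ⊆ Z`
are congruent mod `I B` to elements `a_W` of `A` cutting out `W`.
-/

set_option autoImplicit false
set_option linter.style.haveILetI false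
universe u

namespace Groth.Agent.H23.WLocClosed

variable (A : Type u) [CommRing A] (I : Ideal A)

/-- the closed subset `V(I)` as a type. -/
abbrev ZZ : Type u := ↥(PrimeSpectrum.zeroLocus (R := A) (I : Set A))

/-- locally constant functions on `V(I)`. -/
abbrev RR : Type u := LocallyConstant (ZZ A I) A

/-- functions nowhere vanishing on the diagonal. -/
def SS : Submonoid (RR A I) where
  carrier := {s | ∀ z : ZZ A I, s z ∉ z.1.asIdeal}
  one_mem' := fun z => by
    show (1 : RR A I) z ∉ z.1.asIdeal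
    rw [LocallyConstant.one_apply]
    exact z.1.isPrime.one_notMem
  mul_mem' := fun {a b} ha hb z => by
    show (a * b) z ∉ z.1.asIdeal
    rw [LocallyConstant.mul_apply]
    exact fun h => (z.1.isPrime.mem_or_mem h).elim (ha z) (hb z)

lemma mem_SS {s : RR A I} : s ∈ SS A I ↔ ∀ z : ZZ A I, s z ∉ z.1.asIdeal := Iff.rfl

/-- the localization of `A` along `V(I)`. -/
abbrev BB : Type u := Localization (SS A I)

variable {A I}

lemma I_le (z : ZZ A I) : I ≤ z.1.asIdeal := z.2

@[simp] lemma algebraMap_RR_apply (a : A) (z : ZZ A I) : algebraMap A (RR A I) a z = a := rfl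

lemma apply_mem_of_mem_map {ι : RR A I} (h : ι ∈ I.map (algebraMap A (RR A I))) (z : ZZ A I) :
    ι z ∈ I := by
  have hle : I.map (algebraMap A (RR A I)) ≤ I.comap (LocallyConstant.evalRingHom z) :=
    Ideal.map_le_iff_le_comap.2 (fun a ha => by
      show LocallyConstant.evalRingHom z (algebraMap A (RR A I) a) ∈ I
      exact ha)
  exact hle h

lemma map_BB_eq : I.map (algebraMap A (BB A I)) =
    (I.map (algebraMap A (RR A I))).map (algebraMap (RR A I) (BB A I)) := by
  rw [Ideal.map_map, ← IsScalarTower.algebraMap_eq]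

/-- `1 + I B ⊆ Bˣ`. -/
theorem isUnit_one_add {x : BB A I} (hx : x ∈ I.map (algebraMap A (BB A I))) : IsUnit (1 + x) := by
  rw [map_BB_eq, IsLocalization.mem_map_algebraMap_iff (SS A I) (BB A I)] at hx
  obtain ⟨⟨ι, s⟩, h⟩ := hx
  have hs : IsUnit (algebraMap (RR A I) (BB A I) s.1) := IsLocalization.map_units _ s
  have hmem : s.1 + ι.1 ∈ SS A I := by
    intro z hz
    rw [LocallyConstant.add_apply] at hz
    have h1 : ι.1 z ∈ z.1.asIdeal := I_le z (apply_mem_of_mem_map ι.2 z)
    exact s.2 z (by simpa using z.1.asIdeal.sub_mem hz h1)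
  have hu : IsUnit (algebraMap (RR A I) (BB A I) (s.1 + ι.1)) :=
    IsLocalization.map_units _ (⟨_, hmem⟩ : SS A I)
  have heq : (1 + x) * algebraMap (RR A I) (BB A I) s.1 =
      algebraMap (RR A I) (BB A I) (s.1 + ι.1) := by
    rw [add_mul, one_mul, h, map_add]
  exact isUnit_of_mul_isUnit_left (heq ▸ hu)

/-- `A ∩ I B = I`. -/
theorem mem_of_algebraMap_mem {a : A} (ha : algebraMap A (BB A I) a ∈ I.map (algebraMap A (BB A I))) :
    a ∈ I := by
  rw [map_BB_eq, IsLocalization.mem_map_algebraMap_iff (SS A I) (BB A I)] at ha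
  obtain ⟨⟨ι, s⟩, h⟩ := ha
  rw [IsScalarTower.algebraMap_apply A (RR A I) (BB A I), ← map_mul,
    IsLocalization.eq_iff_exists (SS A I) (BB A I)] at h
  obtain ⟨c, hc⟩ := h
  -- pointwise: c z * s z * a ∈ I
  have hpt : ∀ z : ZZ A I, (c.1 z * s.1 z) * a ∈ I := by
    intro z
    have h1 := congrArg (fun f : RR A I => f z) hc
    simp only [LocallyConstant.mul_apply, algebraMap_RR_apply] at h1
    have h2 : c.1 z * ι.1 z ∈ I := I.mul_mem_left _ (apply_mem_of_mem_map ι.2 z)
    rw [← h1] at h2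
    convert h2 using 1
    ring
  by_contra hna
  let K : Ideal A := (I : Submodule A A).colon {a}
  have hK : K ≠ ⊤ := by
    intro htop
    have h1 : (1 : A) ∈ K := htop ▸ Submodule.mem_top
    rw [Submodule.mem_colon_singleton] at h1
    exact hna (by simpa using h1)
  obtain ⟨m, hm, hKm⟩ := Ideal.exists_le_maximal K hK
  have hIm : I ≤ m := fun x hx => hKm (by
    rw [Submodule.mem_colon_singleton]
    exact I.mul_mem_right _ hx)
  let z : ZZ A I := ⟨⟨m, hm.isPrime⟩, hIm⟩
  have h3 : c.1 z * s.1 z ∈ m := hKm (by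
    rw [Submodule.mem_colon_singleton]
    exact hpt z)
  rcases hm.isPrime.mem_or_mem h3 with h4 | h4
  · exact c.2 z h4
  · exact s.2 z h4

section clopen

variable [CompactSpace (ZZ A I)] [T2Space (ZZ A I)] [TotallyDisconnectedSpace (ZZ A I)]

/-- a clopen subset of `V(I)` is cut out by an element of `A` idempotent modulo `I`. -/
theorem exists_cut (W : Set (ZZ A I)) (hW : IsClopen W) :
    ∃ a : A, a * (1 - a) ∈ I ∧ ∀ z : ZZ A I, z ∈ W ↔ a ∉ z.1.asIdeal := by
  let j : PrimeSpectrum (A ⧸ I) → ZZ A I := fun q =>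
    ⟨PrimeSpectrum.comap (Ideal.Quotient.mk I) q, by
      have : PrimeSpectrum.comap (Ideal.Quotient.mk I) q ∈
          Set.range (PrimeSpectrum.comap (Ideal.Quotient.mk I)) := ⟨q, rfl⟩
      rw [range_comap_of_surjective _ _ Ideal.Quotient.mk_surjective,
        Ideal.mk_ker] at this
      exact this⟩
  have hj : Continuous j := (PrimeSpectrum.continuous_comap (Ideal.Quotient.mk I)).subtype_mk _
  have hjs : Function.Surjective j := by
    intro z
    have : z.1 ∈ Set.range (PrimeSpectrum.comap (Ideal.Quotient.mk I)) := by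
      rw [range_comap_of_surjective _ _ Ideal.Quotient.mk_surjective, Ideal.mk_ker]
      exact z.2
    obtain ⟨q, hq⟩ := this
    exact ⟨q, Subtype.ext hq⟩
  have hWb : IsClopen (j ⁻¹' W) := hW.preimage hj
  obtain ⟨e, he, hWe⟩ := PrimeSpectrum.isClopen_iff.1 hWb
  obtain ⟨a, rfl⟩ := Ideal.Quotient.mk_surjective e
  refine ⟨a, ?_, ?_⟩
  · rw [← Ideal.Quotient.eq_zero_iff_mem, map_mul, map_sub, map_one, mul_sub, mul_one, he.eq,
      sub_self]
  · intro z
    obtain ⟨q, rfl⟩ := hjs z
    have h1 : j q ∈ W ↔ q ∈ j ⁻¹' W := Iff.rfl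
    rw [h1, hWe]
    show Ideal.Quotient.mk I a ∉ q.asIdeal ↔ a ∉ (j q).1.asIdeal
    rfl

/-- the characteristic function of a clopen set, as an element of `R`. -/
noncomputable def chi (W : Set (ZZ A I)) (hW : IsClopen W) : RR A I := LocallyConstant.charFn A hW

omit [CompactSpace (ZZ A I)] [T2Space (ZZ A I)] [TotallyDisconnectedSpace (ZZ A I)] in
lemma chi_apply_of_mem {W : Set (ZZ A I)} (hW : IsClopen W) {z : ZZ A I} (hz : z ∈ W) :
    chi W hW z = 1 := by
  show (LocallyConstant.charFn A hW : ZZ A I → A) z = 1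
  rw [LocallyConstant.coe_charFn, Set.indicator_of_mem hz]
  rfl

omit [CompactSpace (ZZ A I)] [T2Space (ZZ A I)] [TotallyDisconnectedSpace (ZZ A I)] in
lemma chi_apply_of_notMem {W : Set (ZZ A I)} (hW : IsClopen W) {z : ZZ A I} (hz : z ∉ W) :
    chi W hW z = 0 := by
  show (LocallyConstant.charFn A hW : ZZ A I → A) z = 0
  rw [LocallyConstant.coe_charFn, Set.indicator_of_notMem hz]

omit [CompactSpace (ZZ A I)] [T2Space (ZZ A I)] [TotallyDisconnectedSpace (ZZ A I)] in
lemma chi_mul_self {W : Set (ZZ A I)} (hW : IsClopen W) : chi W hW * chi W hW = chi W hW := by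
  ext z
  rw [LocallyConstant.mul_apply]
  by_cases hz : z ∈ W
  · rw [chi_apply_of_mem hW hz, mul_one]
  · rw [chi_apply_of_notMem hW hz, mul_zero]

omit [CompactSpace (ZZ A I)] [T2Space (ZZ A I)] [TotallyDisconnectedSpace (ZZ A I)] in
/-- `χ_W ≡ a_W` modulo `I B`. -/
theorem chi_sub_mem {W : Set (ZZ A I)} (hW : IsClopen W) {a : A} (ha : a * (1 - a) ∈ I)
    (hWa : ∀ z : ZZ A I, z ∈ W ↔ a ∉ z.1.asIdeal) :
    algebraMap (RR A I) (BB A I) (chi W hW) - algebraMap A (BB A I) a ∈
      I.map (algebraMap A (BB A I)) := by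
  set χ := chi W hW with hχdef
  set ca : RR A I := algebraMap A (RR A I) a with hca
  let s' : RR A I := ca * χ + (1 - ca) * (1 - χ)
  have hs' : s' ∈ SS A I := by
    intro z
    show (ca * χ + (1 - ca) * (1 - χ)) z ∉ z.1.asIdeal
    by_cases hz : z ∈ W
    · have h1 : (ca * χ + (1 - ca) * (1 - χ)) z = a := by
        simp only [LocallyConstant.add_apply, LocallyConstant.mul_apply, LocallyConstant.sub_apply,
          LocallyConstant.one_apply, hχdef, chi_apply_of_mem hW hz, hca, algebraMap_RR_apply]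
        ring
      rw [h1]
      exact (hWa z).1 hz
    · have h1 : (ca * χ + (1 - ca) * (1 - χ)) z = 1 - a := by
        simp only [LocallyConstant.add_apply, LocallyConstant.mul_apply, LocallyConstant.sub_apply,
          LocallyConstant.one_apply, hχdef, chi_apply_of_notMem hW hz, hca, algebraMap_RR_apply]
        ring
      rw [h1]
      have h2 : a ∈ z.1.asIdeal := by
        by_contra h3
        exact hz ((hWa z).2 h3)
      intro h3
      exact z.1.isPrime.one_notMem (by simpa using z.1.asIdeal.add_mem h3 h2)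
  have hχ : χ * χ = χ := chi_mul_self hW
  have hid : s' * (χ - ca) = algebraMap A (RR A I) (a * (1 - a)) * (2 * χ - 1) := by
    rw [map_mul, map_sub, map_one, ← hca]
    show (ca * χ + (1 - ca) * (1 - χ)) * (χ - ca) = _
    linear_combination (2 * ca - 1) * hχ
  have h1 : s' * (χ - ca) ∈ I.map (algebraMap A (RR A I)) := by
    rw [hid]
    exact Ideal.mul_mem_right _ _ (Ideal.mem_map_of_mem _ ha)
  have h2 : algebraMap (RR A I) (BB A I) (s' * (χ - ca)) ∈ I.map (algebraMap A (BB A I)) := by
    rw [map_BB_eq]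
    exact Ideal.mem_map_of_mem _ h1
  rw [map_mul, map_sub] at h2
  have hu : IsUnit (algebraMap (RR A I) (BB A I) s') :=
    IsLocalization.map_units _ (⟨s', hs'⟩ : SS A I)
  rw [Ideal.unit_mul_mem_iff_mem _ hu] at h2
  rw [IsScalarTower.algebraMap_apply A (RR A I) (BB A I)]
  exact h2

end clopen

end Groth.Agent.H23.WLocClosed
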