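import Mathlib
import Groth.Prelude.Def_PBC
import Groth.Prelude.Def_ProEtW
import Groth.Agent.H23.WLocClosed1

/-!
# Localization along a profinite closed subset, II (helper23)

Finite models of locally constant functions; every element of `B = S⁻¹ LocallyConstant V(I) A` is
congruent modulo `I B` to an element of `A`; `A ⧸ I → B ⧸ I B` is bijective.
-/

set_option autoImplicit false
set_option linter.style.haveILetI false
universe u

namespace Groth.Agent.H23.WLocClosed

variable {A : Type u} [CommRing A] {I : Ideal A}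

section model

variable [CompactSpace (ZZ A I)]

/-- finitely many locally constant functions factor through a finite quotient of `V(I)`. -/
theorem exists_finite_model {m : ℕ} (φ : Fin m → RR A I) :
    ∃ (J : Type u) (_ : Finite J) (τ : ZZ A I → J) (_ : IsLocallyConstant τ)
      (_ : Function.Surjective τ) (σ : (J → A) →ₐ[A] RR A I),
      (∀ (f : J → A) (z : ZZ A I), σ f z = f (τ z)) ∧ Function.Injective σ ∧
      ∃ φ' : Fin m → (J → A), ∀ k, σ (φ' k) = φ k := by
  let τ₀ : ZZ A I → (Fin m → A) := fun z k => φ k z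
  have hτ₀ : IsLocallyConstant τ₀ := by
    rw [IsLocallyConstant.iff_eventually_eq]
    intro z
    have h1 : ∀ k, ∀ᶠ z' in nhds z, φ k z' = φ k z :=
      fun k => (IsLocallyConstant.iff_eventually_eq _).1 (φ k).isLocallyConstant z
    filter_upwards [Filter.eventually_all.2 h1] with z' h1'
    exact funext h1'
  have hfin : (Set.range τ₀).Finite := hτ₀.range_finite
  let J : Type u := ↥(Set.range τ₀)
  haveI : Finite J := hfin
  let τ : ZZ A I → J := fun z => ⟨τ₀ z, Set.mem_range_self z⟩
  have hτ : IsLocallyConstant τ := by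
    rw [IsLocallyConstant.iff_eventually_eq]
    intro z
    filter_upwards [(IsLocallyConstant.iff_eventually_eq _).1 hτ₀ z] with z' hz'
    exact Subtype.ext hz'
  have hτs : Function.Surjective τ := by
    rintro ⟨_, z, rfl⟩
    exact ⟨z, rfl⟩
  let σ : (J → A) →ₐ[A] RR A I :=
    { toFun := fun f => ⟨fun z => f (τ z), hτ.comp f⟩
      map_one' := rfl
      map_mul' := fun _ _ => rfl
      map_zero' := rfl
      map_add' := fun _ _ => rfl
      commutes' := fun _ => rfl }
  refine ⟨J, inferInstance, τ, hτ, hτs, σ, fun f z => rfl, ?_, fun k j => j.1 k, fun k => ?_⟩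
  · intro f g hfg
    funext j
    obtain ⟨z, rfl⟩ := hτs j
    exact congrArg (fun h : RR A I => h z) hfg
  · ext z
    rfl

end model

section surj

variable [CompactSpace (ZZ A I)] [T2Space (ZZ A I)] [TotallyDisconnectedSpace (ZZ A I)]

/-- every function is congruent to a constant modulo `I B`. -/
theorem exists_const_sub_mem (ψ : RR A I) :
    ∃ a : A, algebraMap (RR A I) (BB A I) ψ - algebraMap A (BB A I) a ∈
      I.map (algebraMap A (BB A I)) := by
  classical
  obtain ⟨J, hJ, τ, hτ, hτs, σ, hσ, -, φ', hφ'⟩ := exists_finite_model (A := A) (I := I)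
    (fun _ : Fin 1 => ψ)
  haveI := Fintype.ofFinite J
  have hW : ∀ j : J, IsClopen {z | τ z = j} := fun j => hτ.isClopen_fiber j
  choose a ha hWa using fun j => exists_cut {z | τ z = j} (hW j)
  -- decomposition of `ψ`
  have hdec : ψ = ∑ j, algebraMap A (RR A I) (φ' 0 j) * chi _ (hW j) := by
    ext z
    rw [← hφ' 0, hσ]
    have h1 : (∑ j, algebraMap A (RR A I) (φ' 0 j) * chi _ (hW j)) z =
        ∑ j, (algebraMap A (RR A I) (φ' 0 j) * chi _ (hW j)) z :=
      map_sum (LocallyConstant.evalRingHom z) _ _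
    rw [h1, Finset.sum_eq_single (τ z)]
    · rw [LocallyConstant.mul_apply, algebraMap_RR_apply,
        chi_apply_of_mem (hW (τ z)) (show z ∈ {z' | τ z' = τ z} from rfl), mul_one]
    · intro j _ hj
      rw [LocallyConstant.mul_apply,
        chi_apply_of_notMem (hW j) (show z ∉ {z' | τ z' = j} from fun h => hj h.symm), mul_zero]
    · intro h
      exact absurd (Finset.mem_univ _) h
  refine ⟨∑ j, φ' 0 j * a j, ?_⟩
  have h2 : algebraMap (RR A I) (BB A I) ψ - algebraMap A (BB A I) (∑ j, φ' 0 j * a j) =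
      ∑ j, algebraMap A (BB A I) (φ' 0 j) *
        (algebraMap (RR A I) (BB A I) (chi _ (hW j)) - algebraMap A (BB A I) (a j)) := by
    conv_lhs => rw [hdec]
    rw [map_sum, map_sum, ← Finset.sum_sub_distrib]
    refine Finset.sum_congr rfl (fun j _ => ?_)
    rw [map_mul, map_mul, ← IsScalarTower.algebraMap_apply A (RR A I) (BB A I), mul_sub]
  rw [h2]
  exact Ideal.sum_mem _ (fun j _ => Ideal.mul_mem_left _ _ (chi_sub_mem (hW j) (ha j) (hWa j)))

/-- every element of `B` is congruent to an element of `A` modulo `I B`. -/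
theorem exists_sub_mem (b : BB A I) :
    ∃ a : A, b - algebraMap A (BB A I) a ∈ I.map (algebraMap A (BB A I)) := by
  obtain ⟨φ, s, rfl⟩ := IsLocalization.exists_mk'_eq (SS A I) b
  obtain ⟨aφ, haφ⟩ := exists_const_sub_mem (A := A) (I := I) φ
  obtain ⟨as, has⟩ := exists_const_sub_mem (A := A) (I := I) s.1
  set IB := I.map (algebraMap A (BB A I)) with hIB
  -- `as` avoids all primes of `V(I)`
  have hav : ∀ z : ZZ A I, as ∉ z.1.asIdeal := by
    intro z hz
    have h0 : algebraMap (RR A I) (BB A I) (s.1 - algebraMap A (RR A I) as) ∈ IB := by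
      rw [map_sub, ← IsScalarTower.algebraMap_apply A (RR A I) (BB A I)]
      exact has
    rw [hIB, map_BB_eq, IsLocalization.mem_map_algebraMap_iff (SS A I) (BB A I)] at h0
    obtain ⟨⟨ι, s₁⟩, h⟩ := h0
    rw [← map_mul, IsLocalization.eq_iff_exists (SS A I) (BB A I)] at h
    obtain ⟨c, hc⟩ := h
    have h1 := congrArg (fun f : RR A I => f z) hc
    simp only [LocallyConstant.mul_apply, LocallyConstant.sub_apply, algebraMap_RR_apply] at h1
    have h2 : c.1 z * ι.1 z ∈ z.1.asIdeal :=
      z.1.asIdeal.mul_mem_left _ (I_le z (apply_mem_of_mem_map ι.2 z))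
    rw [← h1] at h2
    rcases z.1.isPrime.mem_or_mem h2 with h3 | h3
    · exact c.2 z h3
    · rcases z.1.isPrime.mem_or_mem h3 with h4 | h4
      · exact s.2 z (by simpa using z.1.asIdeal.add_mem h4 hz)
      · exact s₁.2 z h4
  -- hence `as` is a unit modulo `I`
  have htop : I ⊔ Ideal.span {as} = ⊤ := by
    by_contra hne
    obtain ⟨m, hm, hle⟩ := Ideal.exists_le_maximal _ hne
    exact hav ⟨⟨m, hm.isPrime⟩, le_sup_left.trans hle⟩
      (hle (Ideal.mem_sup_right (Ideal.subset_span rfl)))
  obtain ⟨ι₀, hι₀, y, hy, hsum⟩ := Submodule.mem_sup.1 (htop ▸ Submodule.mem_top : (1 : A) ∈ _)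
  obtain ⟨v, rfl⟩ := Ideal.mem_span_singleton'.1 hy
  refine ⟨v * aφ, ?_⟩
  set Φ := algebraMap (RR A I) (BB A I) φ with hΦ
  set Sg := algebraMap (RR A I) (BB A I) s.1 with hSg
  set U := IsLocalization.mk' (BB A I) (1 : RR A I) s with hU
  have hUS : U * Sg = 1 := by
    rw [hU, hSg, IsLocalization.mk'_spec, map_one]
  have hb : IsLocalization.mk' (BB A I) φ s = Φ * U := by
    rw [hU, hΦ, ← IsLocalization.mk'_eq_mul_mk'_one]
  have h1 : algebraMap A (BB A I) ι₀ ∈ IB := Ideal.mem_map_of_mem _ hι₀
  have h2 : (1 : BB A I) - algebraMap A (BB A I) v * algebraMap A (BB A I) as ∈ IB := by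
    have : (1 : BB A I) - algebraMap A (BB A I) v * algebraMap A (BB A I) as =
        algebraMap A (BB A I) ι₀ := by
      rw [← map_mul, ← map_one (algebraMap A (BB A I)), ← map_sub, ← hsum]
      congr 1
      ring
    rw [this]
    exact h1
  have h3 : U - algebraMap A (BB A I) v ∈ IB := by
    have : U - algebraMap A (BB A I) v =
        U * ((1 - algebraMap A (BB A I) v * algebraMap A (BB A I) as) -
          algebraMap A (BB A I) v * (Sg - algebraMap A (BB A I) as)) := by
      have : U - algebraMap A (BB A I) v = U - algebraMap A (BB A I) v * (U * Sg) := by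
        rw [hUS, mul_one]
      rw [this]
      ring
    rw [this]
    exact Ideal.mul_mem_left _ _ (IB.sub_mem h2 (Ideal.mul_mem_left _ _ has))
  rw [hb, map_mul]
  have : Φ * U - algebraMap A (BB A I) v * algebraMap A (BB A I) aφ =
      (Φ - algebraMap A (BB A I) aφ) * U + algebraMap A (BB A I) aφ * (U - algebraMap A (BB A I) v) := by
    ring
  rw [this]
  exact IB.add_mem (Ideal.mul_mem_right _ _ haφ) (Ideal.mul_mem_left _ _ h3)

/-- `A ⧸ I → B ⧸ I B` is bijective. -/
theorem bijective_quotientMap :
    Function.Bijective (Ideal.quotientMap (I.map (algebraMap A (BB A I))) (algebraMap A (BB A I))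
      Ideal.le_comap_map) := by
  constructor
  · apply Ideal.quotientMap_injective'
    intro a ha
    exact mem_of_algebraMap_mem ha
  · intro x
    obtain ⟨b, rfl⟩ := Ideal.Quotient.mk_surjective x
    obtain ⟨a, ha⟩ := exists_sub_mem (A := A) (I := I) b
    refine ⟨Ideal.Quotient.mk I a, ?_⟩
    rw [Ideal.quotientMap_mk]
    exact (Ideal.Quotient.eq.2 ha).symm

end surj

end Groth.Agent.H23.WLocClosed
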