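import Mathlib
import Groth.Prelude.Def_PBC
import Groth.Prelude.Def_ProEtW
import Groth.Agent.H48.IndZar
import Groth.Agent.H23.WLocClosed2

/-!
# Localization along a profinite closed subset, III: `B` is ind-Zariski over `A` (helper23)
-/

set_option autoImplicit false
set_option linter.style.haveILetI false
universe u

namespace Groth.Agent.H23.WLocClosed

variable {A : Type u} [CommRing A] {I : Ideal A}

/-- ring homs compatible with the `A`-structures commute with `aeval`. -/
lemma map_aeval {E E' : Type u} [CommRing E] [CommRing E'] [Algebra A E] [Algebra A E']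
    (k : E →+* E') (hk : ∀ a, k (algebraMap A E a) = algebraMap A E' a) {n : ℕ} (y : Fin n → E)
    (p : MvPolynomial (Fin n) A) :
    k (MvPolynomial.aeval y p) = MvPolynomial.aeval (fun i => k (y i)) p := by
  have h1 : k.comp (algebraMap A E) = algebraMap A E' := RingHom.ext hk
  rw [MvPolynomial.aeval_def, MvPolynomial.aeval_def, MvPolynomial.eval₂_comp_left, h1]
  rfl

/-- injectivity passes to localizations away from an element. -/
lemma map_away_injective {E₀ R : Type u} [CommRing E₀] [CommRing R] (σ : E₀ →+* R)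
    (hσ : Function.Injective σ) (g : E₀) (t : R) (hgt : σ g = t)
    (hle : Submonoid.powers g ≤ (Submonoid.powers t).comap σ) :
    Function.Injective (IsLocalization.map (Localization.Away t) σ hle :
      Localization.Away g →+* Localization.Away t) := by
  rw [injective_iff_map_eq_zero]
  intro w hw
  obtain ⟨f, d, rfl⟩ := IsLocalization.exists_mk'_eq (Submonoid.powers g) w
  rw [IsLocalization.map_mk', IsLocalization.mk'_eq_zero_iff] at hw
  obtain ⟨⟨_, l, rfl⟩, hl⟩ := hw
  rw [IsLocalization.mk'_eq_zero_iff]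
  refine ⟨⟨g ^ l, l, rfl⟩, hσ ?_⟩
  rw [map_mul, map_pow, hgt, map_zero]
  exact hl

/-- inverting an element killing finitely many relations. -/
lemma exists_stage {E₁ B : Type u} [CommRing E₁] [CommRing B] [Algebra A E₁] [Algebra A B]
    [Algebra.IsLocalIso A E₁] (b₁ : E₁ →+* B)
    (hb₁A : ∀ a, b₁ (algebraMap A E₁ a) = algebraMap A B a) (st : E₁) (hst : IsUnit (b₁ st))
    {n : ℕ} (yt : Fin n → E₁) (sP : Finset (MvPolynomial (Fin n) A))
    (hkill : ∀ p ∈ sP, st * MvPolynomial.aeval yt p = 0) :
    ∃ (E : Type u) (_ : CommRing E) (_ : Algebra A E) (_ : Algebra.IsLocalIso A E)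
      (b : E →ₐ[A] B) (y : Fin n → E), (∀ i, b (y i) = b₁ (yt i)) ∧
        ∀ p ∈ sP, MvPolynomial.aeval y p = 0 := by
  let b : Localization.Away st →+* B := IsLocalization.Away.lift (S := Localization.Away st) st hst
  have hb : ∀ w, b (algebraMap E₁ (Localization.Away st) w) = b₁ w :=
    fun w => IsLocalization.Away.lift_eq st hst w
  haveI : Algebra.IsLocalIso A (Localization.Away st) :=
    Algebra.IsLocalIso.trans A E₁ (Localization.Away st)
  have hbA : ∀ a, b (algebraMap A (Localization.Away st) a) = algebraMap A B a := by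
    intro a
    rw [IsScalarTower.algebraMap_apply A E₁ (Localization.Away st), hb, hb₁A]
  refine ⟨Localization.Away st, inferInstance, inferInstance, inferInstance,
    { b with commutes' := hbA },
    fun i => algebraMap E₁ (Localization.Away st) (yt i), ?_, ?_⟩
  · intro i
    exact hb (yt i)
  · intro p hp
    have h1 := map_aeval (A := A) (algebraMap E₁ (Localization.Away st))
      (fun a => (IsScalarTower.algebraMap_apply A E₁ (Localization.Away st) a).symm) yt p
    rw [← h1]
    have hu : IsUnit (algebraMap E₁ (Localization.Away st) st) :=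
      IsLocalization.Away.algebraMap_isUnit st
    have h2 : algebraMap E₁ (Localization.Away st) st *
        algebraMap E₁ (Localization.Away st) (MvPolynomial.aeval yt p) = 0 := by
      rw [← map_mul, hkill p hp, map_zero]
    exact (hu.mul_right_eq_zero).1 h2

theorem isIndZariski [CompactSpace (ZZ A I)] : EtPBC.IsIndZariski A (BB A I) := by
  classical
  apply Groth.Agent.H48.IndZar.isIndZariski_of_tuples
  intro n x sP hsP
  -- 1. common denominator
  obtain ⟨t, ht⟩ := IsLocalization.exist_integer_multiples_of_finite (SS A I) x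
  choose r hr using ht
  have hr' : ∀ i, algebraMap (RR A I) (BB A I) t.1 * x i = algebraMap (RR A I) (BB A I) (r i) := by
    intro i
    rw [hr i, Algebra.smul_def]
  -- 2. the localization `R₁ = R_t`
  have htu : IsUnit (algebraMap (RR A I) (BB A I) t.1) := IsLocalization.map_units _ t
  let β₁ : Localization.Away t.1 →+* BB A I := IsLocalization.Away.lift t.1 htu
  have hβ₁ : ∀ f : RR A I, β₁ (algebraMap (RR A I) (Localization.Away t.1) f) =
      algebraMap (RR A I) (BB A I) f := fun f => IsLocalization.Away.lift_eq t.1 htu f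
  have hβ₁A : ∀ a, β₁ (algebraMap A (Localization.Away t.1) a) = algebraMap A (BB A I) a := by
    intro a
    rw [IsScalarTower.algebraMap_apply A (RR A I) (Localization.Away t.1), hβ₁,
      ← IsScalarTower.algebraMap_apply]
  let tp : Submonoid.powers t.1 := ⟨t.1, Submonoid.mem_powers _⟩
  let u₁ : Localization.Away t.1 := IsLocalization.mk' _ (1 : RR A I) tp
  have hu₁ : u₁ * algebraMap (RR A I) (Localization.Away t.1) t.1 = 1 := by
    have := IsLocalization.mk'_spec (Localization.Away t.1) (1 : RR A I) tp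
    rw [map_one] at this
    exact this
  let y₁ : Fin n → Localization.Away t.1 := fun i =>
    algebraMap (RR A I) (Localization.Away t.1) (r i) * u₁
  have hy₁ : ∀ i, β₁ (y₁ i) = x i := by
    intro i
    have h1 : β₁ (y₁ i) * algebraMap (RR A I) (BB A I) t.1 =
        x i * algebraMap (RR A I) (BB A I) t.1 := by
      rw [← hβ₁ t.1, ← map_mul]
      show β₁ (algebraMap (RR A I) (Localization.Away t.1) (r i) * u₁ *
        algebraMap (RR A I) (Localization.Away t.1) t.1) = _
      rw [mul_assoc, hu₁, mul_one, hβ₁, hβ₁, mul_comm, hr']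
    exact htu.mul_left_injective h1
  have hw : ∀ p ∈ sP, β₁ (MvPolynomial.aeval y₁ p) = 0 := by
    intro p hp
    rw [map_aeval β₁ hβ₁A]
    have : (fun i => β₁ (y₁ i)) = x := funext hy₁
    rw [this]
    exact hsP p hp
  have hK : ∀ w : Localization.Away t.1, β₁ w = 0 →
      ∃ s' : SS A I, algebraMap (RR A I) (Localization.Away t.1) s'.1 * w = 0 := by
    intro w hw0
    obtain ⟨f, d, rfl⟩ := IsLocalization.exists_mk'_eq (Submonoid.powers t.1) w
    have h1 : algebraMap (RR A I) (BB A I) f = 0 := by
      rw [← hβ₁, ← IsLocalization.mk'_spec (Localization.Away t.1) f d, map_mul, hw0, zero_mul]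
    obtain ⟨s', hs'⟩ := (IsLocalization.map_eq_zero_iff (SS A I) (BB A I) f).1 h1
    refine ⟨s', ?_⟩
    rw [IsLocalization.mul_mk'_eq_mk'_of_mul, hs', IsLocalization.mk'_zero]
  have hK' : ∀ p : sP, ∃ s' : SS A I,
      algebraMap (RR A I) (Localization.Away t.1) s'.1 * MvPolynomial.aeval y₁ p.1 = 0 :=
    fun p => hK _ (hw p.1 p.2)
  choose sp hsp using hK'
  let s' : SS A I := ∏ p : sP, sp p
  have hs' : ∀ p ∈ sP, algebraMap (RR A I) (Localization.Away t.1) s'.1 *
      MvPolynomial.aeval y₁ p = 0 := by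
    intro p hp
    obtain ⟨c, hc⟩ := Finset.dvd_prod_of_mem sp (Finset.mem_univ (⟨p, hp⟩ : sP))
    have h1 : s'.1 = (sp ⟨p, hp⟩).1 * c.1 := congrArg Subtype.val hc
    rw [h1, map_mul, mul_comm (algebraMap _ _ (sp ⟨p, hp⟩).1), mul_assoc, hsp ⟨p, hp⟩, mul_zero]
  -- 3. finite model
  obtain ⟨J, hJ, τ, hτ, hτs, σ, hσ, hσinj, φ', hφ'⟩ := exists_finite_model (A := A) (I := I)
    (Fin.cons t.1 (Fin.cons s'.1 r) : Fin (n + 2) → RR A I)
  have hσt : σ (φ' 0) = t.1 := by
    have := hφ' 0
    simpa using this
  have hσs : σ (φ' 1) = s'.1 := by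
    have := hφ' (Fin.succ 0)
    simpa using this
  have hσr : ∀ i : Fin n, σ (φ' i.succ.succ) = r i := by
    intro i
    have := hφ' i.succ.succ
    simpa using this
  -- the rings `E₁ = E₀_t̃` and `E = (E₁)_st`
  have hle : Submonoid.powers (φ' 0) ≤ (Submonoid.powers t.1).comap σ.toRingHom := by
    refine Submonoid.powers_le.2 ?_
    show σ (φ' 0) ∈ Submonoid.powers t.1
    rw [hσt]
    exact Submonoid.mem_powers _
  let ι₁ : Localization.Away (φ' 0) →+* Localization.Away t.1 :=
    IsLocalization.map (Localization.Away t.1) σ.toRingHom hle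
  have hι₁ : ∀ f : J → A, ι₁ (algebraMap (J → A) (Localization.Away (φ' 0)) f) =
      algebraMap (RR A I) (Localization.Away t.1) (σ f) := fun f => IsLocalization.map_eq hle f
  have hι₁inj : Function.Injective ι₁ := map_away_injective σ.toRingHom hσinj (φ' 0) t.1 hσt hle
  have hι₁A : ∀ a, ι₁ (algebraMap A (Localization.Away (φ' 0)) a) =
      algebraMap A (Localization.Away t.1) a := by
    intro a
    rw [IsScalarTower.algebraMap_apply A (J → A) (Localization.Away (φ' 0)), hι₁, σ.commutes,
      ← IsScalarTower.algebraMap_apply]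
  let tp' : Submonoid.powers (φ' 0) := ⟨φ' 0, Submonoid.mem_powers _⟩
  let ut : Localization.Away (φ' 0) := IsLocalization.mk' _ (1 : J → A) tp'
  have hut : ut * algebraMap (J → A) (Localization.Away (φ' 0)) (φ' 0) = 1 := by
    have := IsLocalization.mk'_spec (Localization.Away (φ' 0)) (1 : J → A) tp'
    rw [map_one] at this
    exact this
  have hιut : ι₁ ut = u₁ := by
    have h0 : algebraMap (RR A I) (Localization.Away t.1) t.1 =
        ι₁ (algebraMap (J → A) (Localization.Away (φ' 0)) (φ' 0)) := by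
      rw [hι₁, hσt]
    have h1 : ι₁ ut * algebraMap (RR A I) (Localization.Away t.1) t.1 = 1 := by
      rw [h0, ← map_mul, hut, map_one]
    have h2 : ι₁ ut = ι₁ ut * (algebraMap (RR A I) (Localization.Away t.1) t.1 * u₁) := by
      rw [mul_comm _ u₁, hu₁, mul_one]
    rw [h2, ← mul_assoc, h1, one_mul]
  let yt : Fin n → Localization.Away (φ' 0) := fun i =>
    algebraMap (J → A) (Localization.Away (φ' 0)) (φ' i.succ.succ) * ut
  have hιyt : ∀ i, ι₁ (yt i) = y₁ i := by
    intro i
    show ι₁ (algebraMap (J → A) (Localization.Away (φ' 0)) (φ' i.succ.succ) * ut) = _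
    rw [map_mul, hι₁, hσr, hιut]
  let st : Localization.Away (φ' 0) := algebraMap (J → A) (Localization.Away (φ' 0)) (φ' 1)
  have hkill : ∀ p ∈ sP, st * MvPolynomial.aeval yt p = 0 := by
    intro p hp
    apply hι₁inj
    rw [map_mul, map_zero, map_aeval ι₁ hι₁A]
    have : (fun i => ι₁ (yt i)) = y₁ := funext hιyt
    rw [this]
    show ι₁ (algebraMap (J → A) (Localization.Away (φ' 0)) (φ' 1)) * _ = 0
    rw [hι₁, hσs]
    exact hs' p hp
  -- the map to `B`
  let b₁ : Localization.Away (φ' 0) →+* BB A I := β₁.comp ι₁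
  have hb₁s : IsUnit (b₁ st) := by
    show IsUnit (β₁ (ι₁ (algebraMap (J → A) (Localization.Away (φ' 0)) (φ' 1))))
    rw [hι₁, hσs, hβ₁]
    exact IsLocalization.map_units _ s'
  haveI : Algebra.IsLocalIso A (J → A) := Algebra.IsLocalIso.pi_of_finite A (fun _ : J => A)
  haveI : Algebra.IsLocalIso A (Localization.Away (φ' 0)) :=
    Algebra.IsLocalIso.trans A (J → A) (Localization.Away (φ' 0))
  have hb₁A : ∀ a, b₁ (algebraMap A (Localization.Away (φ' 0)) a) = algebraMap A (BB A I) a := by
    intro a
    show β₁ (ι₁ _) = _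
    rw [hι₁A, hβ₁A]
  obtain ⟨E, iE, iAE, hE, b, y, hby, hy⟩ := exists_stage (A := A) b₁ hb₁A st hb₁s yt sP hkill
  refine ⟨E, iE, iAE, hE, b, y, ?_, hy⟩
  intro i
  rw [hby]
  show β₁ (ι₁ (yt i)) = x i
  rw [hιyt, hy₁]

end Groth.Agent.H23.WLocClosed
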