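import Mathlib
import Groth.Prelude.Def_PBC
import Groth.Prelude.Def_ProEtW
import Groth.Agent.H23.WLocClosed3

/-!
# Localization along a profinite closed subset, IV: `Spec B` is w-local (helper23, Stacks 097C-type)

`exists_wLocal`: for `V(I)` profinite there is an ind-Zariski `A`-algebra `B` with `Spec B` w-local,
closed points `V(I B)` and `A ⧸ I ≃ B ⧸ I B`.
-/

set_option autoImplicit false
set_option linter.style.haveILetI false
universe u

namespace Groth.Agent.H23.WLocClosed

variable {A : Type u} [CommRing A] {I : Ideal A}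

/-- `I B` lies in every maximal ideal. -/
theorem map_le_of_isMaximal (m : Ideal (BB A I)) (hm : m.IsMaximal) :
    I.map (algebraMap A (BB A I)) ≤ m := by
  intro x hx
  by_contra hxm
  obtain ⟨y, i, hi, hyi⟩ := hm.exists_inv hxm
  have h1 : i = 1 + -(y * x) := by rw [← hyi]; ring
  have h2 : IsUnit i := by
    rw [h1]
    exact isUnit_one_add (Ideal.neg_mem_iff _ |>.2 (Ideal.mul_mem_left _ _ hx))
  exact hm.ne_top (Ideal.eq_top_of_isUnit_mem _ hi h2)

section profinite

variable [CompactSpace (ZZ A I)] [T2Space (ZZ A I)] [TotallyDisconnectedSpace (ZZ A I)]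

/-- the point of `V(I)` below a prime containing `I B`. -/
def below (q : Ideal (BB A I)) [q.IsPrime] (hq : I.map (algebraMap A (BB A I)) ≤ q) : ZZ A I :=
  ⟨⟨q.comap (algebraMap A (BB A I)), inferInstance⟩, fun a ha =>
    hq (Ideal.mem_map_of_mem _ ha)⟩

omit [CompactSpace (ZZ A I)] [TotallyDisconnectedSpace (ZZ A I)] in
lemma below_isMaximal (q : Ideal (BB A I)) [q.IsPrime] (hq : I.map (algebraMap A (BB A I)) ≤ q) :
    (q.comap (algebraMap A (BB A I))).IsMaximal := by
  have h1 : IsClosed ({below q hq} : Set (ZZ A I)) := isClosed_singleton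
  have h2 : IsClosed (Subtype.val '' ({below q hq} : Set (ZZ A I))) :=
    (PrimeSpectrum.isClosed_zeroLocus (I : Set A)).isClosedEmbedding_subtypeVal.isClosedMap _ h1
  rw [Set.image_singleton] at h2
  exact (PrimeSpectrum.isClosed_singleton_iff_isMaximal _).1 h2

/-- primes containing `I B` are maximal. -/
theorem isMaximal_of_map_le (q : Ideal (BB A I)) [hqp : q.IsPrime]
    (hq : I.map (algebraMap A (BB A I)) ≤ q) : q.IsMaximal := by
  have hmax := below_isMaximal q hq
  rw [Ideal.isMaximal_iff]
  refine ⟨fun h => hqp.ne_top ((Ideal.eq_top_iff_one _).2 h), fun J x hqJ hxq hxJ => ?_⟩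
  obtain ⟨a, ha⟩ := exists_sub_mem (A := A) (I := I) x
  have haq : a ∉ q.comap (algebraMap A (BB A I)) := by
    intro h
    apply hxq
    have := q.add_mem (hq ha) h
    simpa using this
  obtain ⟨a', i, hi, hsum⟩ := hmax.exists_inv haq
  have h1 : algebraMap A (BB A I) a ∈ J := by
    have := J.sub_mem hxJ (hqJ (hq ha))
    simpa using this
  have h2 : (1 : BB A I) = algebraMap A (BB A I) a' * algebraMap A (BB A I) a +
      algebraMap A (BB A I) i := by
    rw [← map_mul, ← map_add, hsum, map_one]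
  rw [h2]
  exact J.add_mem (J.mul_mem_left _ h1) (hqJ hi)

theorem exists_wLocal' :
    EtPBC.IsIndZariski A (BB A I) ∧ ProEtW.IsWLocal (PrimeSpectrum (BB A I)) ∧
      ProEtW.closedPoints (PrimeSpectrum (BB A I)) =
        PrimeSpectrum.zeroLocus (I.map (algebraMap A (BB A I))) ∧
      Function.Bijective (Ideal.quotientMap (I.map (algebraMap A (BB A I)))
        (algebraMap A (BB A I)) Ideal.le_comap_map) := by
  set IB := I.map (algebraMap A (BB A I)) with hIB
  have hcl : ProEtW.closedPoints (PrimeSpectrum (BB A I)) = PrimeSpectrum.zeroLocus (IB : Set _) := by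
    ext q
    show IsClosed ({q} : Set (PrimeSpectrum (BB A I))) ↔ _
    rw [PrimeSpectrum.isClosed_singleton_iff_isMaximal, PrimeSpectrum.mem_zeroLocus,
      SetLike.coe_subset_coe]
    exact ⟨fun h => map_le_of_isMaximal _ h, fun h => isMaximal_of_map_le q.asIdeal h⟩
  refine ⟨isIndZariski, ⟨inferInstance, ?_, ?_⟩, hcl, bijective_quotientMap⟩
  · have : {x : PrimeSpectrum (BB A I) | IsClosed ({x} : Set _)} =
        ProEtW.closedPoints (PrimeSpectrum (BB A I)) := rfl
    rw [this, hcl]
    exact PrimeSpectrum.isClosed_zeroLocus _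
  · intro q
    obtain ⟨m, hm, hqm⟩ := Ideal.exists_le_maximal q.asIdeal q.2.ne_top
    refine ⟨⟨m, hm.isPrime⟩, ⟨(PrimeSpectrum.isClosed_singleton_iff_isMaximal _).2 hm,
      (PrimeSpectrum.le_iff_specializes q ⟨m, hm.isPrime⟩).1 hqm⟩, ?_⟩
    rintro y ⟨hy1, hy2⟩
    have hym : y.asIdeal.IsMaximal := (PrimeSpectrum.isClosed_singleton_iff_isMaximal _).1 hy1
    have hqy : q.asIdeal ≤ y.asIdeal := (PrimeSpectrum.le_iff_specializes q y).2 hy2
    by_contra hne
    have hIm : IB ≤ m := map_le_of_isMaximal m hm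
    have hIy : IB ≤ y.asIdeal := map_le_of_isMaximal _ hym
    haveI := hm.isPrime
    set z₁ : ZZ A I := below m hIm with hz₁
    set z₂ : ZZ A I := below y.asIdeal hIy with hz₂
    -- membership criterion
    have hmem : ∀ (n : Ideal (BB A I)) (_ : IB ≤ n) (b : BB A I) (a : A), b - algebraMap A (BB A I) a ∈ IB →
        (b ∈ n ↔ algebraMap A (BB A I) a ∈ n) := by
      intro n hn b a hba
      constructor
      · intro hb
        have := n.sub_mem hb (hn hba)
        simpa using this
      · intro hb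
        have := n.add_mem (hn hba) hb
        simpa using this
    have hz : z₁ ≠ z₂ := by
      intro h
      apply hne
      have hle : y.asIdeal ≤ m := by
        intro b hb
        obtain ⟨a, ha⟩ := exists_sub_mem (A := A) (I := I) b
        rw [hmem m hIm b a ha]
        have h1 : a ∈ z₂.1.asIdeal := (hmem _ hIy b a ha).1 hb
        rw [← h] at h1
        exact h1
      exact PrimeSpectrum.ext (hym.eq_of_le hm.ne_top hle)
    obtain ⟨W, hW, hz₁W, hWsub⟩ := compact_exists_isClopen_in_isOpen
      (isOpen_compl_singleton : IsOpen ({z₂}ᶜ : Set (ZZ A I))) (show z₁ ∈ ({z₂}ᶜ : Set _) from hz)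
    have hz₂W : z₂ ∉ W := fun h => hWsub h rfl
    obtain ⟨a, ha, hWa⟩ := exists_cut W hW
    have hε := chi_sub_mem hW ha hWa
    set ε := algebraMap (RR A I) (BB A I) (chi W hW) with hεdef
    have hεε : ε * ε = ε := by rw [hεdef, ← map_mul, chi_mul_self]
    have hq0 : ε * (1 - ε) ∈ q.asIdeal := by
      have : ε * (1 - ε) = 0 := by rw [mul_sub, mul_one, hεε, sub_self]
      rw [this]
      exact q.asIdeal.zero_mem
    rcases q.2.mem_or_mem hq0 with h | h
    · have h1 : ε ∈ m := hqm h
      rw [hmem m hIm ε a hε] at h1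
      exact (hWa z₁).1 hz₁W h1
    · have h1 : 1 - ε ∈ y.asIdeal := hqy h
      have h2 : ε ∉ y.asIdeal := fun h3 =>
        hym.ne_top ((Ideal.eq_top_iff_one _).2 (by simpa using y.asIdeal.add_mem h1 h3))
      rw [hmem _ hIy ε a hε] at h2
      exact hz₂W ((hWa z₂).2 h2)

end profinite

/-- **Stacks 097C-type.** -/
theorem exists_wLocal (A : Type u) [CommRing A] (I : Ideal A)
    (hI : ProEtW.IsProfinite (PrimeSpectrum.zeroLocus (R := A) I)) :
    ∃ (B : Type u) (_ : CommRing B) (_ : Algebra A B),
      EtPBC.IsIndZariski A B ∧ ProEtW.IsWLocal (PrimeSpectrum B) ∧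
      ProEtW.closedPoints (PrimeSpectrum B) = PrimeSpectrum.zeroLocus (I.map (algebraMap A B)) ∧
      Function.Bijective (Ideal.quotientMap (I.map (algebraMap A B)) (algebraMap A B)
        Ideal.le_comap_map) := by
  obtain ⟨h1, h2, h3⟩ := hI
  haveI : CompactSpace (ZZ A I) := h1
  haveI : T2Space (ZZ A I) := h2
  haveI : TotallyDisconnectedSpace (ZZ A I) := h3
  exact ⟨BB A I, inferInstance, inferInstance, exists_wLocal'⟩

end Groth.Agent.H23.WLocClosed
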