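import Mathlib
import Groth.Prelude.Def_PBC
import Groth.Prelude.Def_ProEtW
import Groth.Agent.H4.ZeroDimOld
import Groth.Agent.H23.WLocClosed4

/-!
# w-localization along the closed points, for maps with algebraic residue extensions
(helper23, Stacks 097E-type)
-/

set_option autoImplicit false
set_option linter.style.haveILetI false
universe u

namespace Groth.Agent.H23.WLocClosed

/-- a closed subset all of whose points are closed is profinite. -/
theorem isProfinite_zeroLocus_of_forall_isMaximal {B : Type u} [CommRing B] (J : Ideal B)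
    (h : ∀ q : PrimeSpectrum B, J ≤ q.asIdeal → q.asIdeal.IsMaximal) :
    ProEtW.IsProfinite ↥(PrimeSpectrum.zeroLocus (R := B) (J : Set B)) := by
  have hinc : ∀ Q Q' : PrimeSpectrum (B ⧸ J), Q.asIdeal ≤ Q'.asIdeal → Q = Q' := by
    intro Q Q' hQ
    have hq : (Q.asIdeal.comap (Ideal.Quotient.mk J)).IsMaximal := by
      refine h ⟨Q.asIdeal.comap (Ideal.Quotient.mk J), inferInstance⟩ ?_
      intro x hx
      show Ideal.Quotient.mk J x ∈ Q.asIdeal
      rw [Ideal.Quotient.eq_zero_iff_mem.2 hx]
      exact Q.asIdeal.zero_mem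
    have hle : Q.asIdeal.comap (Ideal.Quotient.mk J) ≤ Q'.asIdeal.comap (Ideal.Quotient.mk J) :=
      Ideal.comap_mono hQ
    have hne : Q'.asIdeal.comap (Ideal.Quotient.mk J) ≠ ⊤ :=
      (Ideal.IsPrime.comap (Ideal.Quotient.mk J)).ne_top
    have heq := hq.eq_of_le hne hle
    exact PrimeSpectrum.ext
      (Ideal.comap_injective_of_surjective _ Ideal.Quotient.mk_surjective heq)
  haveI : T2Space (PrimeSpectrum (B ⧸ J)) := Groth.Agent.H4.t2Space_of_incomparable hinc
  haveI : TotallyDisconnectedSpace (PrimeSpectrum (B ⧸ J)) :=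
    Groth.Agent.H4.totallyDisconnectedSpace_of_incomparable hinc
  have hemb := (PrimeSpectrum.isClosedEmbedding_comap_of_surjective (B ⧸ J) (Ideal.Quotient.mk J)
    Ideal.Quotient.mk_surjective).isEmbedding
  have hrange : Set.range (PrimeSpectrum.comap (Ideal.Quotient.mk J)) =
      PrimeSpectrum.zeroLocus (J : Set B) := by
    rw [range_comap_of_surjective _ _ Ideal.Quotient.mk_surjective, Ideal.mk_ker]
  let e : PrimeSpectrum (B ⧸ J) ≃ₜ ↥(PrimeSpectrum.zeroLocus (R := B) (J : Set B)) :=
    hemb.toHomeomorph.trans (Homeomorph.setCongr hrange)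
  exact ⟨e.compactSpace, e.t2Space, Homeomorph.totallyDisconnectedSpace e⟩

lemma isSpectralMap_comap' {R S : Type*} [CommRing R] [CommRing S] (f : R →+* S) :
    IsSpectralMap (PrimeSpectrum.comap f) := by
  classical
  refine ⟨PrimeSpectrum.continuous_comap f, fun s hs hc => ?_⟩
  obtain ⟨t, rfl⟩ := PrimeSpectrum.isCompact_isOpen_iff.mp ⟨hc, hs⟩
  rw [Set.preimage_compl, PrimeSpectrum.preimage_comap_zeroLocus]
  exact (PrimeSpectrum.isCompact_isOpen_iff.mpr ⟨t.image f, by simp⟩).1

/-- **Stacks 097E-type.** -/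
theorem exists_wLocal_algRes (A B : Type u) [CommRing A] [CommRing B] [Algebra A B] (I : Ideal A)
    (hI0 : PrimeSpectrum.zeroLocus (R := A) I = ProEtW.closedPoints (PrimeSpectrum A))
    (h : ProEtW.AlgebraicResidueExtensions A B) :
    PrimeSpectrum.zeroLocus (R := B) (I.map (algebraMap A B)) ⊆
      ProEtW.closedPoints (PrimeSpectrum B) ∧
    ∃ (C : Type u) (_ : CommRing C) (_ : Algebra B C) (_ : Algebra A C) (_ : IsScalarTower A B C),
      EtPBC.IsIndZariski B C ∧
      Function.Bijective (Ideal.quotientMap ((I.map (algebraMap A B)).map (algebraMap B C))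
        (algebraMap B C) Ideal.le_comap_map) ∧
      ProEtW.IsWLocal (PrimeSpectrum C) ∧
      ProEtW.IsWLocalMap (PrimeSpectrum.comap (algebraMap A C)) ∧
      ProEtW.closedPoints (PrimeSpectrum C) =
        PrimeSpectrum.comap (algebraMap A C) ⁻¹' ProEtW.closedPoints (PrimeSpectrum A) := by
  -- primes of `B` over closed points are maximal
  have hmax : ∀ q : PrimeSpectrum B, I.map (algebraMap A B) ≤ q.asIdeal → q.asIdeal.IsMaximal := by
    intro q hq
    have hp : (q.asIdeal.comap (algebraMap A B)).IsMaximal := by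
      have h1 : (⟨q.asIdeal.comap (algebraMap A B), inferInstance⟩ : PrimeSpectrum A) ∈
          PrimeSpectrum.zeroLocus (R := A) I := by
        rw [PrimeSpectrum.mem_zeroLocus, SetLike.coe_subset_coe]
        exact Ideal.map_le_iff_le_comap.1 hq
      rw [hI0] at h1
      exact (PrimeSpectrum.isClosed_singleton_iff_isMaximal _).1 h1
    haveI := h q.asIdeal
    have hF : IsField (A ⧸ q.asIdeal.comap (algebraMap A B)) :=
      (Ideal.Quotient.maximal_ideal_iff_isField_quotient _).1 hp
    haveI : Algebra.IsIntegral (A ⧸ q.asIdeal.comap (algebraMap A B)) (B ⧸ q.asIdeal) := by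
      letI := hF.toField
      exact Algebra.IsAlgebraic.isIntegral
    have hFB : IsField (B ⧸ q.asIdeal) := isField_of_isIntegral_of_isField' hF
    exact (Ideal.Quotient.maximal_ideal_iff_isField_quotient _).2 hFB
  refine ⟨fun q hq => ?_, ?_⟩
  · show IsClosed ({q} : Set (PrimeSpectrum B))
    rw [PrimeSpectrum.isClosed_singleton_iff_isMaximal]
    exact hmax q (by rwa [PrimeSpectrum.mem_zeroLocus, SetLike.coe_subset_coe] at hq)
  · obtain ⟨C, iC, iBC, hZar, hW, hcl, hbij⟩ := exists_wLocal B (I.map (algebraMap A B))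
      (isProfinite_zeroLocus_of_forall_isMaximal _ hmax)
    letI algAC : Algebra A C := ((algebraMap B C).comp (algebraMap A B)).toAlgebra
    haveI : IsScalarTower A B C := IsScalarTower.of_algebraMap_eq (fun _ => rfl)
    have hmap : (I.map (algebraMap A B)).map (algebraMap B C) = I.map (algebraMap A C) := by
      rw [Ideal.map_map, ← IsScalarTower.algebraMap_eq]
    have hmem : ∀ x : PrimeSpectrum C, x ∈ ProEtW.closedPoints (PrimeSpectrum C) ↔
        PrimeSpectrum.comap (algebraMap A C) x ∈ ProEtW.closedPoints (PrimeSpectrum A) := by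
      intro x
      rw [hcl, ← hI0, PrimeSpectrum.mem_zeroLocus, PrimeSpectrum.mem_zeroLocus,
        SetLike.coe_subset_coe, SetLike.coe_subset_coe, hmap, Ideal.map_le_iff_le_comap]
      rfl
    refine ⟨C, iC, iBC, algAC, inferInstance, hZar, hbij, hW,
      ⟨isSpectralMap_comap' _, fun x hx => ?_⟩, ?_⟩
    · exact (hmem x).1 hx
    · ext x
      exact hmem x

end Groth.Agent.H23.WLocClosed
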