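import Mathlib
import Groth.Prelude.Def_PBC
import Groth.Agent.H12.IndEtB

/-!
# The "étale closure" of `A` in an `A`-algebra `T` (helper23)

For an arbitrary `A`-algebra `T` the category `H12.IndEt.Obj A T` of étale `A`-algebras over `T` is
filtered (`isFiltered'`; no hypothesis on `T`): tensor products and coequalizers (`etale_coeq`) of
étale algebras are étale.  `exists_colim`: its colimit `C` is an ind-étale `A`-algebra with a map
`γ : C → T`, presented in elementary terms.
-/

set_option autoImplicit false
set_option linter.style.haveILetI false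
universe u
open CategoryTheory CategoryTheory.Limits

namespace Groth.Agent.H23.IndEtLift

open Groth.Agent.H12.IndEt

variable {A T : Type u} [CommRing A] [CommRing T] [Algebra A T]

/-- the coequalizer of two maps of étale algebras is étale. -/
theorem etale_coeq {X Y : Type u} [CommRing X] [CommRing Y] [Algebra A X] [Algebra A Y]
    [Algebra.Etale A X] [Algebra.Etale A Y] (u v : X →ₐ[A] Y) (K : Ideal Y) (hK : K.FG)
    (hle : ∀ (T' : Type u) [CommRing T'] [Algebra A T'] (g : Y →ₐ[A] T'), g.comp u = g.comp v →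
      ∀ z ∈ K, g z = 0)
    (hc : (Ideal.Quotient.mkₐ A K).comp u = (Ideal.Quotient.mkₐ A K).comp v) :
    Algebra.Etale A (Y ⧸ K) := by
  haveI : Algebra.FinitePresentation A (Y ⧸ K) := Algebra.FinitePresentation.quotient hK
  haveI : Algebra.FormallyEtale A (Y ⧸ K) := by
    rw [Algebra.FormallyEtale.iff_comp_bijective]
    intro T' _ _ N hN
    constructor
    · intro g₁ g₂ h
      have h1 : g₁.comp (Ideal.Quotient.mkₐ A K) = g₂.comp (Ideal.Quotient.mkₐ A K) := by
        apply Algebra.FormallyUnramified.comp_injective N hN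
        show (Ideal.Quotient.mkₐ A N).comp (g₁.comp _) = (Ideal.Quotient.mkₐ A N).comp (g₂.comp _)
        rw [← AlgHom.comp_assoc, ← AlgHom.comp_assoc]
        exact congrArg (fun t => t.comp (Ideal.Quotient.mkₐ A K)) h
      exact Ideal.Quotient.algHom_ext _ h1
    · intro g
      obtain ⟨g', hg'⟩ := Algebra.FormallySmooth.comp_surjective A Y N hN
        (g.comp (Ideal.Quotient.mkₐ A K))
      have huv : g'.comp u = g'.comp v := by
        apply Algebra.FormallyUnramified.comp_injective N hN
        show (Ideal.Quotient.mkₐ A N).comp (g'.comp u) = (Ideal.Quotient.mkₐ A N).comp (g'.comp v)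
        rw [← AlgHom.comp_assoc, ← AlgHom.comp_assoc, hg', AlgHom.comp_assoc, AlgHom.comp_assoc, hc]
      refine ⟨Ideal.Quotient.liftₐ K g' (hle T' g' huv), ?_⟩
      apply Ideal.Quotient.algHom_ext
      rw [← hg']
      ext z
      rfl
  exact ⟨inferInstance, inferInstance⟩

/-- the category of étale `A`-algebras over an arbitrary `A`-algebra `T` is filtered. -/
theorem isFiltered' : IsFiltered (Obj A T) := by
  haveI : Nonempty (Obj A T) := by
    obtain ⟨X, -, -⟩ := exists_obj (A := A) (B := T) A (Algebra.ofId A T)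
    exact ⟨X⟩
  haveI : IsFilteredOrEmpty (Obj A T) := by
    constructor
    · intro X Y
      haveI := X.et
      haveI := Y.et
      haveI : Algebra.Etale A (TensorProduct A X.Q Y.Q) :=
        Algebra.Etale.comp A X.Q (TensorProduct A X.Q Y.Q)
      obtain ⟨Z, e, he⟩ := exists_obj (A := A) (B := T) (TensorProduct A X.Q Y.Q)
        (Algebra.TensorProduct.productMap X.f Y.f)
      refine ⟨Z, ⟨e.toAlgHom.comp Algebra.TensorProduct.includeLeft, ?_⟩,
        ⟨e.toAlgHom.comp Algebra.TensorProduct.includeRight, ?_⟩, trivial⟩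
      · rw [← AlgHom.comp_assoc, he]
        ext x
        simp
      · rw [← AlgHom.comp_assoc, he]
        ext x
        simp
    · intro X Y u v
      haveI := X.et
      haveI := Y.et
      let gen : Fin X.n → Y.Q := fun k =>
        u.1 (Ideal.Quotient.mk X.I (MvPolynomial.X k)) -
          v.1 (Ideal.Quotient.mk X.I (MvPolynomial.X k))
      let K : Ideal Y.Q := Ideal.span (Set.range gen)
      have hK : K.FG := by
        refine ⟨(Set.finite_range gen).toFinset, ?_⟩
        rw [Set.Finite.coe_toFinset]
      have hkill : ∀ y ∈ K, Y.f y = 0 := by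
        intro y hy
        have hle : K ≤ RingHom.ker Y.f.toRingHom := by
          refine Ideal.span_le.2 ?_
          rintro _ ⟨k, rfl⟩
          show Y.f (u.1 _ - v.1 _) = 0
          rw [map_sub, ← AlgHom.comp_apply, ← AlgHom.comp_apply, u.2, v.2, sub_self]
        exact hle hy
      have hc : (Ideal.Quotient.mkₐ A K).comp u.1 = (Ideal.Quotient.mkₐ A K).comp v.1 := by
        apply Ideal.Quotient.algHom_ext
        apply MvPolynomial.algHom_ext
        intro k
        show Ideal.Quotient.mk K (u.1 (Ideal.Quotient.mk X.I (MvPolynomial.X k))) =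
          Ideal.Quotient.mk K (v.1 (Ideal.Quotient.mk X.I (MvPolynomial.X k)))
        exact Ideal.Quotient.eq.2 (Ideal.subset_span ⟨k, rfl⟩)
      haveI : Algebra.Etale A (Y.Q ⧸ K) := by
        refine etale_coeq u.1 v.1 K hK ?_ hc
        intro T' _ _ g hg z hz
        have hle : K ≤ RingHom.ker g.toRingHom := by
          refine Ideal.span_le.2 ?_
          rintro _ ⟨k, rfl⟩
          show g (u.1 _ - v.1 _) = 0
          rw [map_sub, ← AlgHom.comp_apply, ← AlgHom.comp_apply, hg, sub_self]
        exact hle hz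
      obtain ⟨Z, e, he⟩ := exists_obj (A := A) (B := T) (Y.Q ⧸ K)
        (Ideal.Quotient.liftₐ K Y.f hkill)
      refine ⟨Z, ⟨e.toAlgHom.comp (Ideal.Quotient.mkₐ A K), ?_⟩, ?_⟩
      · rw [← AlgHom.comp_assoc, he]
        ext y
        rfl
      · apply Obj.hom_ext
        rw [Obj.comp_val, Obj.comp_val, AlgHom.comp_assoc, AlgHom.comp_assoc, hc]
  exact {}

/-- The colimit of all étale `A`-algebras over `T`, in elementary terms. -/
theorem exists_colim (A T : Type u) [CommRing A] [CommRing T] [Algebra A T] :
    ∃ (C : Type u) (_ : CommRing C) (_ : Algebra A C) (ψ : ∀ X : Obj A T, X.Q →ₐ[A] C)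
      (γ : C →ₐ[A] T), EtPBC.IsIndEtale A C ∧ (∀ X, γ.comp (ψ X) = X.f) ∧
      (∀ (X Y : Obj A T) (φ : X ⟶ Y), (ψ Y).comp φ.1 = ψ X) ∧
      (∀ c : C, ∃ (X : Obj A T) (y : X.Q), ψ X y = c) ∧
      (∀ (X : Obj A T) (y y' : X.Q), ψ X y = ψ X y' →
        ∃ (Z : Obj A T) (φ : X ⟶ Z), φ.1 y = φ.1 y') := by
  haveI : IsFiltered (Obj A T) := isFiltered'
  let D : Obj A T ⥤ Under (CommRingCat.of A) := diag
  let c : Cocone D := colimit.cocone D
  let hc : IsColimit c := colimit.isColimit D
  letI algC : Algebra A c.pt.right := c.pt.hom.hom.toAlgebra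
  let ψ : ∀ X : Obj A T, X.Q →ₐ[A] c.pt.right := fun X =>
    { (c.ι.app X).right.hom with
      commutes' := fun a => congrArg (fun f => f.hom a) (Under.w (c.ι.app X)) }
  let γ : c.pt.right →ₐ[A] T :=
    { (hc.desc (cocone (A := A) (B := T))).right.hom with
      commutes' := fun a => congrArg (fun f => f.hom a)
        (Under.w (hc.desc (cocone (A := A) (B := T)))) }
  let F : Under (CommRingCat.of A) ⥤ Type u := Under.forget (CommRingCat.of A) ⋙ forget CommRingCat
  haveI : PreservesColimitsOfShape (Obj A T) (Under.forget (CommRingCat.of A)) :=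
    PreservesFilteredColimitsOfSize.preserves_filtered_colimits (Obj A T)
  haveI : PreservesColimitsOfShape (Obj A T) (forget CommRingCat.{u}) :=
    PreservesFilteredColimitsOfSize.preserves_filtered_colimits (Obj A T)
  have hc' : IsColimit (F.mapCocone c) := isColimitOfPreserves F hc
  refine ⟨c.pt.right, inferInstance, algC, ψ, γ, ?_, ?_, ?_, ?_, ?_⟩
  · refine ⟨Obj A T, inferInstance, inferInstance, D, c, hc, fun X => ?_, ⟨Iso.refl _⟩⟩
    exact RingHom.etale_algebraMap.mpr X.et
  · intro X
    ext y
    exact congrArg (fun f => f.right.hom y) (hc.fac (cocone (A := A) (B := T)) X)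
  · intro X Y φ
    ext y
    exact congrArg (fun f => f.right.hom y) (c.w φ)
  · intro b
    obtain ⟨X, y, hy⟩ := Types.jointly_surjective_of_isColimit hc' b
    exact ⟨X, y, hy⟩
  · intro X y y' h
    have h5 : (F.mapCocone c).ι.app X y = (F.mapCocone c).ι.app X y' := h
    obtain ⟨Z, g, hg⟩ := (Types.FilteredColimit.isColimit_eq_iff' hc' y y').1 h5
    exact ⟨Z, g, hg⟩

end Groth.Agent.H23.IndEtLift
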