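import Mathlib
import Groth.Prelude.Def_PBC
import Groth.Agent.H12.IndEtB
import Groth.Agent.H23.IndEtLiftA

/-!
# Universal property of the étale closure of `A` in `T` (helper23)

`IsEtClosure A T C ψ γ` packages the output of `exists_colim`.  Main results: for an étale (more
generally ind-étale) `A`-algebra `E` with `ρ : E → T` there is a unique (resp. there is an)
`A`-algebra map `r : E → C` with `γ ∘ r = ρ`; an `A`-endomorphism of `C` over `T` is the identity.
-/

set_option autoImplicit false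
set_option linter.style.haveILetI false
universe u
open CategoryTheory CategoryTheory.Limits

namespace Groth.Agent.H23.IndEtLift

open Groth.Agent.H12.IndEt Groth.Agent.Lead.ColimDescent

/-- `C` (with `ψ`, `γ`) is the colimit of all étale `A`-algebras over `T`. -/
structure IsEtClosure (A T C : Type u) [CommRing A] [CommRing T] [Algebra A T] [CommRing C]
    [Algebra A C] (ψ : ∀ X : Obj A T, X.Q →ₐ[A] C) (γ : C →ₐ[A] T) : Prop where
  ind : EtPBC.IsIndEtale A C
  fac : ∀ X, γ.comp (ψ X) = X.f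
  nat : ∀ (X Y : Obj A T) (φ : X ⟶ Y), (ψ Y).comp φ.1 = ψ X
  surj : ∀ c : C, ∃ (X : Obj A T) (y : X.Q), ψ X y = c
  inj : ∀ (X : Obj A T) (y y' : X.Q), ψ X y = ψ X y' →
    ∃ (Z : Obj A T) (φ : X ⟶ Z), φ.1 y = φ.1 y'

theorem exists_isEtClosure (A T : Type u) [CommRing A] [CommRing T] [Algebra A T] :
    ∃ (C : Type u) (_ : CommRing C) (_ : Algebra A C) (ψ : ∀ X : Obj A T, X.Q →ₐ[A] C)
      (γ : C →ₐ[A] T), IsEtClosure A T C ψ γ := by
  obtain ⟨C, iC, iAC, ψ, γ, h1, h2, h3, h4, h5⟩ := exists_colim A T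
  exact ⟨C, iC, iAC, ψ, γ, ⟨h1, h2, h3, h4, h5⟩⟩

variable {A T C : Type u} [CommRing A] [CommRing T] [Algebra A T] [CommRing C] [Algebra A C]
  {ψ : ∀ X : Obj A T, X.Q →ₐ[A] C} {γ : C →ₐ[A] T}

theorem IsEtClosure.sys (H : IsEtClosure A T C ψ γ) :
    Sys A (fun X : Obj A T => X.Q) C ψ := by
  haveI : IsFiltered (Obj A T) := isFiltered'
  exact
    { ne := IsFiltered.nonempty
      surj := H.surj
      dir := fun X Y => ⟨IsFiltered.max X Y, (IsFiltered.leftToMax X Y).1,
        (IsFiltered.rightToMax X Y).1, H.nat _ _ _, H.nat _ _ _⟩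
      ker := fun X y hy => by
        obtain ⟨Z, φ, hφ⟩ := H.inj X y 0 (by rw [hy, map_zero])
        exact ⟨Z, φ.1, H.nat _ _ _, by rw [hφ, map_zero]⟩ }

/-- maps from an étale algebra to `C` correspond to maps to `T`. -/
theorem IsEtClosure.existsUnique_of_etale (H : IsEtClosure A T C ψ γ) (E : Type u) [CommRing E]
    [Algebra A E] [Algebra.Etale A E] (f : E →ₐ[A] T) :
    ∃ τ₀ : E →ₐ[A] C, γ.comp τ₀ = f ∧ ∀ τ : E →ₐ[A] C, γ.comp τ = f → τ = τ₀ := by
  obtain ⟨XE, e, he⟩ := exists_obj (A := A) (B := T) E f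
  refine ⟨(ψ XE).comp e.toAlgHom, ?_, ?_⟩
  · rw [← AlgHom.comp_assoc, H.fac, he]
  · intro τ hτ
    obtain ⟨X₁, τ', hτ'⟩ := Sys.exists_factor H.sys E τ
    have hm : X₁.f.comp (τ'.comp e.symm.toAlgHom) = XE.f := by
      rw [← H.fac X₁, AlgHom.comp_assoc, ← AlgHom.comp_assoc (ψ X₁), hτ', ← AlgHom.comp_assoc, hτ,
        ← he]
      ext x
      simp
    let m : XE ⟶ X₁ := ⟨τ'.comp e.symm.toAlgHom, hm⟩
    have h1 := H.nat XE X₁ m
    rw [← h1, ← hτ']
    ext x
    simp [m]

/-- an `A`-endomorphism of `C` over `T` is the identity. -/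
theorem IsEtClosure.endo_eq_id (H : IsEtClosure A T C ψ γ) (σ : C →ₐ[A] C)
    (hσ : γ.comp σ = γ) : σ = AlgHom.id A C := by
  ext c
  obtain ⟨X, y, rfl⟩ := H.surj c
  haveI := X.et
  obtain ⟨τ₀, -, huniq⟩ := H.existsUnique_of_etale X.Q X.f
  have h1 : σ.comp (ψ X) = τ₀ := huniq _ (by rw [← AlgHom.comp_assoc, hσ, H.fac])
  have h2 : ψ X = τ₀ := huniq _ (H.fac X)
  show (σ.comp (ψ X)) y = ψ X y
  rw [h1, ← h2]

/-- maps from an ind-étale algebra to `T` lift to `C`. -/
theorem IsEtClosure.exists_of_isIndEtale (H : IsEtClosure A T C ψ γ) (B : Type u) [CommRing B]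
    [Algebra A B] (hB : EtPBC.IsIndEtale A B) (ρ : B →ₐ[A] T) :
    ∃ r : B →ₐ[A] C, γ.comp r = ρ := by
  have hF : Fact A B := fact_of_isIndEtale hB
  obtain ⟨hc⟩ := nonempty_isColimit hF
  have key : ∀ X : Obj A B, ∃ τ₀ : X.Q →ₐ[A] C, γ.comp τ₀ = ρ.comp X.f ∧
      ∀ τ : X.Q →ₐ[A] C, γ.comp τ = ρ.comp X.f → τ = τ₀ := by
    intro X
    haveI := X.et
    exact H.existsUnique_of_etale X.Q (ρ.comp X.f)
  choose τ hτ huniq using key
  let s : Cocone (diag (A := A) (B := B)) :=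
    { pt := Under.mk (CommRingCat.ofHom (algebraMap A C))
      ι :=
        { app := fun X => Under.homMk (CommRingCat.ofHom (τ X).toRingHom) (by
            ext r
            exact (τ X).commutes r)
          naturality := fun X Y φ => by
            have h1 : (τ Y).comp φ.1 = τ X := by
              apply huniq
              rw [← AlgHom.comp_assoc, hτ, AlgHom.comp_assoc, φ.2]
            ext x
            exact congrArg (fun t : X.Q →ₐ[A] C => t x) h1 } }
  let r₀ := hc.desc s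
  let r : B →ₐ[A] C :=
    { r₀.right.hom with
      commutes' := fun a => congrArg (fun f => f.hom a) (Under.w r₀) }
  refine ⟨r, ?_⟩
  ext b
  obtain ⟨X, a, ha⟩ := exists_obj_of_fp hF (MvPolynomial (Fin 1) A)
    (MvPolynomial.aeval (fun _ => b))
  have hb : X.f (a (MvPolynomial.X 0)) = b := by
    rw [← AlgHom.comp_apply, ha]
    simp
  have h2 : r (X.f (a (MvPolynomial.X 0))) = τ X (a (MvPolynomial.X 0)) :=
    congrArg (fun f => f.right.hom (a (MvPolynomial.X 0))) (hc.fac s X)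
  show γ (r b) = ρ b
  rw [← hb, h2, ← AlgHom.comp_apply, hτ]
  rfl

end Groth.Agent.H23.IndEtLift
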