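import Mathlib
import Groth.Prelude.Def_PBC
import Groth.Prelude.Def_ProEtW
import Groth.Agent.H12.IndEtD
import Groth.Agent.S0736
import Groth.Agent.H23.IndEtLiftC

/-!
# A faithfully flat ind-étale extension with étale retractions (helper23, Stacks 097R-type)

`C` := the étale closure of `A` in `T = ∏_p AlgebraicClosure κ(p)`.  It is faithfully flat and
ind-étale over `A`, and every faithfully flat étale `C`-algebra `B` has a retraction: the points
`C → Ω_p` extend to `B` (Nullstellensatz), so `B → T` lifts to `B → C` by the universal property.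
-/

set_option autoImplicit false
set_option linter.style.haveILetI false
universe u
open CategoryTheory CategoryTheory.Limits

namespace Groth.Agent.H23.IndEtLift

open Groth.Agent.H12.IndEt

/-- a nonzero finite type algebra over an algebraically closed field has a rational point. -/
theorem exists_point {K : Type u} [Field K] [IsAlgClosed K] (R : Type u) [CommRing R]
    [Algebra K R] [Algebra.FiniteType K R] [Nontrivial R] : Nonempty (R →ₐ[K] K) := by
  obtain ⟨m, hm⟩ := Ideal.exists_maximal R
  letI : Field (R ⧸ m) := Ideal.Quotient.field m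
  haveI : Module.Finite K (R ⧸ m) := finite_of_finite_type_of_isJacobsonRing K (R ⧸ m)
  haveI : Algebra.IsIntegral K (R ⧸ m) := Algebra.IsIntegral.of_finite K (R ⧸ m)
  have hbij : Function.Bijective (Algebra.ofId K (R ⧸ m)) :=
    IsAlgClosed.algebraMap_bijective_of_isIntegral (k := K) (K := R ⧸ m)
  let e : K ≃ₐ[K] (R ⧸ m) := AlgEquiv.ofBijective (Algebra.ofId K (R ⧸ m)) hbij
  exact ⟨e.symm.toAlgHom.comp (Ideal.Quotient.mkₐ K m)⟩

/-- a point of `C` in an algebraically closed field extends to a faithfully flat finite type
`C`-algebra. -/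
theorem exists_extension {C B K : Type u} [CommRing C] [CommRing B] [Field K] [IsAlgClosed K]
    [Algebra C B] [Module.FaithfullyFlat C B] [Algebra.FiniteType C B] (χ : C →+* K) :
    ∃ ρ : B →+* K, ∀ c, ρ (algebraMap C B c) = χ c := by
  letI : Algebra C K := χ.toAlgebra
  haveI : Nontrivial (TensorProduct C K B) :=
    (Module.FaithfullyFlat.nontrivial_tensorProduct_iff_left C K).mpr inferInstance
  obtain ⟨s⟩ := exists_point (K := K) (TensorProduct C K B)
  refine ⟨s.toRingHom.comp
    (Algebra.TensorProduct.includeRight : B →ₐ[C] TensorProduct C K B).toRingHom, fun c => ?_⟩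
  show s ((Algebra.TensorProduct.includeRight : B →ₐ[C] TensorProduct C K B) (algebraMap C B c)) = _
  rw [AlgHom.commutes, IsScalarTower.algebraMap_apply C K (TensorProduct C K B), s.commutes]
  rfl

variable (A : Type u) [CommRing A]

/-- the algebraic closure of the residue field at `p`. -/
abbrev Om (p : PrimeSpectrum A) : Type u := AlgebraicClosure p.asIdeal.ResidueField

lemma algebraMap_Om_eq_zero (p : PrimeSpectrum A) (a : A) :
    algebraMap A (Om A p) a = 0 ↔ a ∈ p.asIdeal := by
  rw [IsScalarTower.algebraMap_apply A p.asIdeal.ResidueField (Om A p),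
    map_eq_zero_iff _ (algebraMap p.asIdeal.ResidueField (Om A p)).injective,
    Ideal.algebraMap_residueField_eq_zero]

/-- **Stacks 097R-type**: a faithfully flat ind-étale extension over which all faithfully flat étale
algebras have retractions. -/
theorem exists_indEtale_hasEtaleRetractions :
    ∃ (C : Type u) (_ : CommRing C) (_ : Algebra A C),
      Module.FaithfullyFlat A C ∧ EtPBC.IsIndEtale A C ∧ ProEtW.HasEtaleRetractions C := by
  obtain ⟨C, iC, iAC, ψ, γ, H⟩ := exists_isEtClosure A (∀ p : PrimeSpectrum A, Om A p)
  let χ : ∀ p : PrimeSpectrum A, C →+* Om A p := fun p =>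
    (Pi.evalRingHom (fun p : PrimeSpectrum A => Om A p) p).comp γ.toRingHom
  have hχ : ∀ p (a : A), χ p (algebraMap A C a) = algebraMap A (Om A p) a := by
    intro p a
    show (γ (algebraMap A C a)) p = _
    rw [γ.commutes]
    rfl
  haveI : Module.Flat A C := (Groth.Agent.S0736.result A C H.ind).flat
  refine ⟨C, iC, iAC, ?_, H.ind, ?_⟩
  · apply Module.FaithfullyFlat.of_comap_surjective
    intro p
    refine ⟨⟨RingHom.ker (χ p), RingHom.ker_isPrime (χ p)⟩, ?_⟩
    apply PrimeSpectrum.ext
    ext a
    show χ p (algebraMap A C a) = 0 ↔ a ∈ p.asIdeal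
    rw [hχ, algebraMap_Om_eq_zero]
  · intro B _ _ hff het
    letI algAB : Algebra A B := ((algebraMap C B).comp (algebraMap A C)).toAlgebra
    haveI : IsScalarTower A C B := IsScalarTower.of_algebraMap_eq (fun _ => rfl)
    have hCB : EtPBC.IsIndEtale C B := isIndEtale_of_fact fact_of_etale
    have hAB : EtPBC.IsIndEtale A B := isIndEtale_trans H.ind hCB
    haveI : Algebra.FinitePresentation C B := Algebra.Etale.finitePresentation
    have key : ∀ p : PrimeSpectrum A, ∃ ρ : B →+* Om A p, ∀ c, ρ (algebraMap C B c) = χ p c :=
      fun p => exists_extension (χ p)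
    choose ρp hρp using key
    let ρ : B →ₐ[A] (∀ p : PrimeSpectrum A, Om A p) :=
      { RingHom.pi ρp with
        commutes' := fun a => by
          funext p
          show ρp p (algebraMap C B (algebraMap A C a)) = _
          rw [hρp, hχ]
          rfl }
    obtain ⟨r, hr⟩ := H.exists_of_isIndEtale B hAB ρ
    have hσ : r.comp (IsScalarTower.toAlgHom A C B) = AlgHom.id A C := by
      apply H.endo_eq_id
      rw [← AlgHom.comp_assoc, hr]
      ext c p
      show ρp p (algebraMap C B c) = (γ c) p
      rw [hρp]
      rfl
    exact ⟨{ r.toRingHom with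
      commutes' := fun c => congrArg (fun t : C →ₐ[A] C => t c) hσ }⟩

end Groth.Agent.H23.IndEtLift
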