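import Mathlib
import Groth.Prelude.Def_PBC
import Groth.Agent.H12.IndEtC
import Groth.Agent.S9436
import Groth.Agent.H23.IndEtLiftA

/-!
# Lifting ind-étale algebras along `A → A ⧸ I` (helper23, Stacks 097P-type)

`exists_indEtale_lift`: for an ind-étale `A ⧸ I`-algebra `Cb` there is an ind-étale `A`-algebra `C`
with `C ⧸ I C ≃ Cb`.  `C` is the colimit of all étale `A`-algebras over `Cb` (`IndEtLiftA`);
surjectivity and the kernel are computed using the lifting of étale algebras (S9436) and the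
cancellation property of ind-étale algebras (`H12.IndEtC`).
-/

set_option autoImplicit false
set_option linter.style.haveILetI false
universe u
open CategoryTheory CategoryTheory.Limits

namespace Groth.Agent.H23.IndEtLift

open Groth.Agent.H12.IndEt

/-- reformulation of the lifting of étale algebras (S9436): a surjection `q : S → E` over
`R → R ⧸ I'` with kernel `I' S`. -/
theorem exists_lift_surj (R : Type u) [CommRing R] (I' : Ideal R) (E : Type u) [CommRing E]
    [Algebra (R ⧸ I') E] [Algebra.Etale (R ⧸ I') E] :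
    ∃ (S : Type u) (_ : CommRing S) (_ : Algebra R S) (_ : Algebra.Etale R S) (q : S →+* E),
      Function.Surjective q ∧
      (∀ r, q (algebraMap R S r) = algebraMap (R ⧸ I') E (Ideal.Quotient.mk I' r)) ∧
      RingHom.ker q = I'.map (algebraMap R S) := by
  obtain ⟨S, _, _, hS, ⟨ε⟩⟩ := Groth.Agent.S9436.result R I' E
  let θ : (S ⧸ I'.map (algebraMap R S)) ≃ₐ[R ⧸ I'] E :=
    (Algebra.TensorProduct.quotIdealMapEquivQuotTensor S I').trans ε
  refine ⟨S, inferInstance, inferInstance, hS,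
    (θ : (S ⧸ I'.map (algebraMap R S)) →+* E).comp (Ideal.Quotient.mk _), ?_, ?_, ?_⟩
  · exact θ.surjective.comp Ideal.Quotient.mk_surjective
  · intro r
    show θ (Ideal.Quotient.mk _ (algebraMap R S r)) = _
    have h1 : Ideal.Quotient.mk (I'.map (algebraMap R S)) (algebraMap R S r) =
        algebraMap (R ⧸ I') (S ⧸ I'.map (algebraMap R S)) (Ideal.Quotient.mk I' r) := rfl
    rw [h1, θ.commutes]
  · ext s
    rw [RingHom.mem_ker]
    show θ (Ideal.Quotient.mk _ s) = 0 ↔ _
    rw [map_eq_zero_iff _ θ.injective, Ideal.Quotient.eq_zero_iff_mem]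

variable (A : Type u) [CommRing A] (I : Ideal A) (Cb : Type u) [CommRing Cb]
  [Algebra (A ⧸ I) Cb] [Algebra A Cb] [IsScalarTower A (A ⧸ I) Cb]

/-- every element of `Cb` comes from an étale `A`-algebra over `Cb`. -/
theorem exists_hit (h : EtPBC.IsIndEtale (A ⧸ I) Cb) (t : Cb) :
    ∃ (S : Type u) (_ : CommRing S) (_ : Algebra A S) (_ : Algebra.Etale A S)
      (g : S →ₐ[A] Cb) (s : S), g s = t := by
  have hF : Fact (A ⧸ I) Cb := fact_of_isIndEtale h
  obtain ⟨E, _, _, _, a, b, hab⟩ := hF (MvPolynomial (Fin 1) (A ⧸ I))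
    (MvPolynomial.aeval (fun _ => t))
  obtain ⟨S, _, _, hS, q, hqs, hqr, -⟩ := exists_lift_surj A I E
  obtain ⟨s, hs⟩ := hqs (a (MvPolynomial.X 0))
  refine ⟨S, inferInstance, inferInstance, hS,
    { (b : E →+* Cb).comp q with
      commutes' := fun r => ?_ }, s, ?_⟩
  · show b (q (algebraMap A S r)) = algebraMap A Cb r
    rw [hqr, b.commutes]
    exact (IsScalarTower.algebraMap_apply A (A ⧸ I) Cb r).symm
  · show b (q s) = t
    rw [hs, ← AlgHom.comp_apply, hab]
    simp

/-- an element of an étale `A`-algebra over `Cb` dying in `Cb` lies in `I S` for a further étale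
algebra `S` over `Cb`. -/
theorem exists_kill (h : EtPBC.IsIndEtale (A ⧸ I) Cb) (B : Type u) [CommRing B] [Algebra A B]
    [Algebra.Etale A B] (f : B →ₐ[A] Cb) (y : B) (hy : f y = 0) :
    ∃ (S : Type u) (_ : CommRing S) (_ : Algebra A S) (_ : Algebra.Etale A S) (φ : B →ₐ[A] S)
      (g : S →ₐ[A] Cb), g.comp φ = f ∧ φ y ∈ I.map (algebraMap A S) := by
  set IB : Ideal B := I.map (algebraMap A B) with hIB
  haveI : Algebra.Etale (A ⧸ I) (B ⧸ IB) :=
    Algebra.Etale.of_equiv (Algebra.TensorProduct.quotIdealMapEquivQuotTensor B I).symm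
  have hI0 : ∀ a ∈ I, algebraMap A Cb a = 0 := by
    intro a ha
    rw [IsScalarTower.algebraMap_apply A (A ⧸ I) Cb, Ideal.Quotient.algebraMap_eq,
      Ideal.Quotient.eq_zero_iff_mem.2 ha, map_zero]
  have hfIB : ∀ b ∈ IB, f.toRingHom b = 0 := by
    intro b hb
    have hle : IB ≤ RingHom.ker f.toRingHom := by
      rw [hIB, Ideal.map_le_iff_le_comap]
      intro a ha
      show f (algebraMap A B a) = 0
      rw [f.commutes, hI0 a ha]
    exact hle hb
  let fb : (B ⧸ IB) →ₐ[A ⧸ I] Cb :=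
    { Ideal.Quotient.lift IB f.toRingHom hfIB with
      commutes' := fun x => by
        obtain ⟨a, rfl⟩ := Ideal.Quotient.mk_surjective x
        show f (algebraMap A B a) = _
        rw [f.commutes]
        exact IsScalarTower.algebraMap_apply A (A ⧸ I) Cb a }
  have hfb : ∀ β : B, fb (Ideal.Quotient.mk IB β) = f β := fun β => rfl
  letI algBC : Algebra (B ⧸ IB) Cb := fb.toRingHom.toAlgebra
  haveI : IsScalarTower (A ⧸ I) (B ⧸ IB) Cb :=
    IsScalarTower.of_algebraMap_eq (fun x => (fb.commutes x).symm)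
  have hBb : EtPBC.IsIndEtale (A ⧸ I) (B ⧸ IB) := isIndEtale_of_fact fact_of_etale
  have hBC : EtPBC.IsIndEtale (B ⧸ IB) Cb := isIndEtale_of_isIndEtale_of_isScalarTower hBb h
  have hF : Fact (B ⧸ IB) Cb := fact_of_isIndEtale hBC
  set yb : B ⧸ IB := Ideal.Quotient.mk IB y with hyb
  have hK : (Ideal.span {yb}).FG := ⟨{yb}, by simp⟩
  haveI : Algebra.FinitePresentation (B ⧸ IB) ((B ⧸ IB) ⧸ Ideal.span {yb}) :=
    Algebra.FinitePresentation.quotient hK
  have hkill : ∀ z ∈ Ideal.span {yb}, Algebra.ofId (B ⧸ IB) Cb z = 0 := by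
    intro z hz
    have hle : Ideal.span {yb} ≤ RingHom.ker (Algebra.ofId (B ⧸ IB) Cb).toRingHom := by
      refine Ideal.span_le.2 ?_
      rintro _ rfl
      show fb yb = 0
      rw [hyb, hfb, hy]
    exact hle hz
  obtain ⟨E, _, _, _, a, b', -⟩ := hF ((B ⧸ IB) ⧸ Ideal.span {yb})
    (Ideal.Quotient.liftₐ _ (Algebra.ofId (B ⧸ IB) Cb) hkill)
  have h0 : algebraMap (B ⧸ IB) E yb = 0 := by
    rw [← a.commutes]
    have : algebraMap (B ⧸ IB) ((B ⧸ IB) ⧸ Ideal.span {yb}) yb = 0 :=
      Ideal.Quotient.eq_zero_iff_mem.2 (Ideal.subset_span rfl)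
    rw [this, map_zero]
  obtain ⟨S, _, _, hS, q, -, hqr, hqk⟩ := exists_lift_surj B IB E
  letI algAS : Algebra A S := ((algebraMap B S).comp (algebraMap A B)).toAlgebra
  haveI : IsScalarTower A B S := IsScalarTower.of_algebraMap_eq (fun _ => rfl)
  haveI : Algebra.Etale A S := Algebra.Etale.comp A B S
  have key : ∀ β : B, b' (q (algebraMap B S β)) = f β := by
    intro β
    rw [hqr, b'.commutes]
    exact hfb β
  refine ⟨S, inferInstance, algAS, inferInstance, IsScalarTower.toAlgHom A B S,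
    { (b' : E →+* Cb).comp q with
      commutes' := fun r => ?_ }, ?_, ?_⟩
  · show b' (q (algebraMap B S (algebraMap A B r))) = algebraMap A Cb r
    rw [key, f.commutes]
  · ext β
    exact key β
  · show algebraMap B S y ∈ I.map (algebraMap A S)
    have h1 : algebraMap B S y ∈ RingHom.ker q := by
      rw [RingHom.mem_ker, hqr]
      exact h0
    rw [hqk, hIB, Ideal.map_map] at h1
    exact h1

/-- the final identification. -/
theorem nonempty_quot_equiv {C : Type u} [CommRing C] [Algebra A C] (γ : C →ₐ[A] Cb)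
    (hs : Function.Surjective γ) (hk : RingHom.ker γ = I.map (algebraMap A C)) :
    Nonempty ((C ⧸ I.map (algebraMap A C)) ≃ₐ[A ⧸ I] Cb) := by
  let e₁ : (C ⧸ I.map (algebraMap A C)) ≃ₐ[A] Cb :=
    (Ideal.quotientEquivAlgOfEq A hk.symm).trans (Ideal.quotientKerAlgEquivOfSurjective hs)
  refine ⟨AlgEquiv.ofRingEquiv (f := e₁.toRingEquiv) ?_⟩
  intro x
  obtain ⟨a, rfl⟩ := Ideal.Quotient.mk_surjective x
  show e₁ (algebraMap A (C ⧸ I.map (algebraMap A C)) a) = _
  rw [e₁.commutes]
  exact IsScalarTower.algebraMap_apply A (A ⧸ I) Cb a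

/-- **Lifting ind-étale algebras along `A → A ⧸ I`.** -/
theorem exists_indEtale_lift (h : EtPBC.IsIndEtale (A ⧸ I) Cb) :
    ∃ (C : Type u) (_ : CommRing C) (_ : Algebra A C),
      EtPBC.IsIndEtale A C ∧ Nonempty ((C ⧸ I.map (algebraMap A C)) ≃ₐ[A ⧸ I] Cb) := by
  obtain ⟨C, iC, iAC, ψ, γ, hInd, hγψ, hψφ, hjs, -⟩ := exists_colim A Cb
  refine ⟨C, iC, iAC, hInd, ?_⟩
  have hI0 : ∀ a ∈ I, algebraMap A Cb a = 0 := by
    intro a ha
    rw [IsScalarTower.algebraMap_apply A (A ⧸ I) Cb, Ideal.Quotient.algebraMap_eq,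
      Ideal.Quotient.eq_zero_iff_mem.2 ha, map_zero]
  apply nonempty_quot_equiv A I Cb γ
  · intro t
    obtain ⟨S, _, _, _, g, s, hgs⟩ := exists_hit A I Cb h t
    obtain ⟨X, e, he⟩ := exists_obj (A := A) (B := Cb) S g
    refine ⟨ψ X (e s), ?_⟩
    rw [← AlgHom.comp_apply, hγψ X, ← hgs, ← he]
    rfl
  · apply le_antisymm
    · intro c hc
      rw [RingHom.mem_ker] at hc
      obtain ⟨X, y, rfl⟩ := hjs c
      haveI := X.et
      have hy : X.f y = 0 := by rw [← hγψ X]; exact hc
      obtain ⟨S, _, _, _, φ, g, hgφ, hφy⟩ := exists_kill A I Cb h X.Q X.f y hy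
      obtain ⟨Z, e, he⟩ := exists_obj (A := A) (B := Cb) S g
      let m : X ⟶ Z := ⟨e.toAlgHom.comp φ, by rw [← AlgHom.comp_assoc, he, hgφ]⟩
      have h1 : ψ X y = ψ Z (e (φ y)) := by
        rw [← hψφ X Z m]
        rfl
      rw [h1]
      have h2 : ψ Z (e (φ y)) ∈ (I.map (algebraMap A S)).map
          ((ψ Z).toRingHom.comp e.toAlgHom.toRingHom) := Ideal.mem_map_of_mem _ hφy
      rw [Ideal.map_map] at h2
      have h3 : (((ψ Z).toRingHom.comp e.toAlgHom.toRingHom).comp (algebraMap A S)) =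
          algebraMap A C := by
        ext r
        show ψ Z (e (algebraMap A S r)) = _
        rw [e.commutes, (ψ Z).commutes]
      rw [h3] at h2
      exact h2
    · rw [Ideal.map_le_iff_le_comap]
      intro a ha
      show γ (algebraMap A C a) = 0
      rw [γ.commutes, hI0 a ha]

end Groth.Agent.H23.IndEtLift
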