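import Mathlib
import Groth.Prelude.Def_PBC
import Groth.Prelude.Def_ProEtW
import Groth.Agent.Lead.IndZarTup

/-!
# General lemmas for the w-local ind-étale square (helper23)

* `etale_of_isLocalIso`, `isIndEtale_of_isIndZariski`;
* `isWLocal_of_jacobson`: an abstract criterion for `Spec C` to be w-local with closed points `V(K)`;
* `eq_of_le_of_isIndEtale`: primes of an ind-étale algebra in one fibre are incomparable.
-/

set_option autoImplicit false
set_option linter.style.haveILetI false
universe u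
open CategoryTheory CategoryTheory.Limits

namespace Groth.Agent.H23.WSq

/-- local isomorphisms are étale. -/
theorem etale_of_isLocalIso (A E : Type u) [CommRing A] [CommRing E] [Algebra A E]
    [Algebra.IsLocalIso A E] : Algebra.Etale A E := by
  have h := Algebra.IsLocalIso.span_isStandardOpenImmersion_eq_top A E
  have key : (algebraMap A E).Etale := by
    refine RingHom.Etale.ofLocalizationSpanTarget (algebraMap A E) _ h ?_
    rintro ⟨g, hg⟩
    obtain ⟨r, hr⟩ := hg.exists_away
    haveI : Algebra.Etale A (Localization.Away g) := Algebra.Etale.of_isLocalizationAway r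
    rw [← IsScalarTower.algebraMap_eq]
    exact RingHom.etale_algebraMap.mpr inferInstance
  exact RingHom.etale_algebraMap.mp key

/-- ind-Zariski algebras are ind-étale. -/
theorem isIndEtale_of_isIndZariski {A B : Type u} [CommRing A] [CommRing B] [Algebra A B]
    (h : EtPBC.IsIndZariski A B) : EtPBC.IsIndEtale A B := by
  obtain ⟨J, iJ, iF, D, c, hc, hD, e⟩ := h
  refine ⟨J, iJ, iF, D, c, hc, fun j => ?_, e⟩
  letI := (D.obj j).hom.hom.toAlgebra
  haveI : Algebra.IsLocalIso A (D.obj j).right := hD j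
  exact etale_of_isLocalIso A (D.obj j).right

/-- an abstract criterion for `Spec C` to be w-local with set of closed points `V(K)`. -/
theorem isWLocal_of_jacobson {C : Type u} [CommRing C] (K : Ideal C)
    (h1 : ∀ x ∈ K, IsUnit (1 + x))
    (h2 : ∀ q : Ideal C, q.IsPrime → K ≤ q → q.IsMaximal)
    (h3 : ∀ m₁ m₂ : Ideal C, m₁.IsMaximal → m₂.IsMaximal → K ≤ m₁ → K ≤ m₂ → m₁ ≠ m₂ →
      ∃ e : C, e * e = e ∧ e ∉ m₁ ∧ e ∈ m₂) :
    ProEtW.IsWLocal (PrimeSpectrum C) ∧
      ProEtW.closedPoints (PrimeSpectrum C) = PrimeSpectrum.zeroLocus (K : Set C) := by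
  have hjac : ∀ m : Ideal C, m.IsMaximal → K ≤ m := by
    intro m hm x hx
    by_contra hxm
    obtain ⟨y, i, hi, hyi⟩ := hm.exists_inv hxm
    have h1' : i = 1 + -(y * x) := by rw [← hyi]; ring
    have h2' : IsUnit i := by
      rw [h1']
      exact h1 _ (Ideal.neg_mem_iff _ |>.2 (Ideal.mul_mem_left _ _ hx))
    exact hm.ne_top (Ideal.eq_top_of_isUnit_mem _ hi h2')
  have hcl : ProEtW.closedPoints (PrimeSpectrum C) = PrimeSpectrum.zeroLocus (K : Set C) := by
    ext q
    show IsClosed ({q} : Set (PrimeSpectrum C)) ↔ _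
    rw [PrimeSpectrum.isClosed_singleton_iff_isMaximal, PrimeSpectrum.mem_zeroLocus,
      SetLike.coe_subset_coe]
    exact ⟨fun h => hjac _ h, fun h => h2 q.asIdeal q.2 h⟩
  refine ⟨⟨inferInstance, ?_, ?_⟩, hcl⟩
  · have : {x : PrimeSpectrum C | IsClosed ({x} : Set _)} =
        ProEtW.closedPoints (PrimeSpectrum C) := rfl
    rw [this, hcl]
    exact PrimeSpectrum.isClosed_zeroLocus _
  · intro q
    obtain ⟨m, hm, hqm⟩ := Ideal.exists_le_maximal q.asIdeal q.2.ne_top
    refine ⟨⟨m, hm.isPrime⟩, ⟨(PrimeSpectrum.isClosed_singleton_iff_isMaximal _).2 hm,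
      (PrimeSpectrum.le_iff_specializes q ⟨m, hm.isPrime⟩).1 hqm⟩, ?_⟩
    rintro y ⟨hy1, hy2⟩
    have hym : y.asIdeal.IsMaximal := (PrimeSpectrum.isClosed_singleton_iff_isMaximal _).1 hy1
    have hqy : q.asIdeal ≤ y.asIdeal := (PrimeSpectrum.le_iff_specializes q y).2 hy2
    by_contra hne
    have hne' : m ≠ y.asIdeal := fun h => hne (PrimeSpectrum.ext h.symm)
    obtain ⟨e, hee, he1, he2⟩ := h3 m y.asIdeal hm hym (hjac m hm) (hjac _ hym) hne'
    have hq0 : e * (1 - e) ∈ q.asIdeal := by
      have : e * (1 - e) = 0 := by rw [mul_sub, mul_one, hee, sub_self]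
      rw [this]
      exact q.asIdeal.zero_mem
    rcases q.2.mem_or_mem hq0 with h | h
    · exact he1 (hqm h)
    · exact hym.ne_top ((Ideal.eq_top_iff_one _).2
        (by simpa using y.asIdeal.add_mem (hqy h) he2))

/-- primes of an ind-étale algebra lying over the same prime are incomparable. -/
theorem eq_of_le_of_isIndEtale {R S : Type u} [CommRing R] [CommRing S] [Algebra R S]
    (h : EtPBC.IsIndEtale R S) (q q' : Ideal S) [q.IsPrime] [q'.IsPrime] (hle : q ≤ q')
    (hfib : q.comap (algebraMap R S) = q'.comap (algebraMap R S)) : q = q' := by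
  refine le_antisymm hle (fun x hx => ?_)
  obtain ⟨E, _, _, hE, b, y, hby, -⟩ :=
    Groth.Agent.Lead.IndZarTup.tuples_of_isIndEtale h 1 (fun _ => x) ∅ (by simp)
  haveI : Algebra.QuasiFinite R E := inferInstance
  have hP : q.comap b.toRingHom = q'.comap b.toRingHom := by
    apply Algebra.QuasiFinite.eq_of_le_of_under_eq (R := R)
    · exact Ideal.comap_mono hle
    · show (q.comap b.toRingHom).comap (algebraMap R E) = (q'.comap b.toRingHom).comap (algebraMap R E)
      rw [Ideal.comap_comap, Ideal.comap_comap]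
      have : b.toRingHom.comp (algebraMap R E) = algebraMap R S := b.comp_algebraMap
      rw [this, hfib]
  have h1 : y 0 ∈ q'.comap b.toRingHom := by
    show b (y 0) ∈ q'
    rw [hby]
    exact hx
  rw [← hP] at h1
  have h2 : b (y 0) ∈ q := h1
  rwa [hby] at h2

end Groth.Agent.H23.WSq
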