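import Mathlib
import Groth.Prelude.Def_PBC
import Groth.Prelude.Def_ProEtW
import Groth.Agent.H4.ZeroDimOld
import Groth.Agent.H12.IndEtD
import Groth.Agent.H23.IndEtLiftB
import Groth.Agent.H23.IndEtLiftC
import Groth.Agent.H23.WSq1

/-!
# The étale closure of `A'` in an ind-étale `A' ⧸ I`-algebra `Cb` (helper23)

`C` = étale closure of `A'` in `Cb` (`IsEtClosure A' Cb C ψ γ`), with `Cb` ind-étale over `A' ⧸ I`.
Then `γ : C → Cb` is surjective with kernel `I C`, elements of `C` which are units in `Cb` are units,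
`Spec C` is w-local with closed points `V(I C)` when `Cb` is zero-dimensional, and `C` has étale
retractions when `Cb` has.
-/

set_option autoImplicit false
set_option linter.style.haveILetI false
universe u
open CategoryTheory CategoryTheory.Limits

namespace Groth.Agent.H23.IndEtLift

open Groth.Agent.H12.IndEt

variable {A' Cb C : Type u} [CommRing A'] [CommRing Cb] [CommRing C] [Algebra A' Cb] [Algebra A' C]
  {ψ : ∀ X : Obj A' Cb, X.Q →ₐ[A'] C} {γ : C →ₐ[A'] Cb}

section quot

variable (I : Ideal A') [Algebra (A' ⧸ I) Cb] [IsScalarTower A' (A' ⧸ I) Cb]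

include I in
theorem IsEtClosure.surjective_gamma (H : IsEtClosure A' Cb C ψ γ)
    (h : EtPBC.IsIndEtale (A' ⧸ I) Cb) : Function.Surjective γ := by
  intro t
  obtain ⟨S, _, _, _, g, s, hgs⟩ := exists_hit A' I Cb h t
  obtain ⟨X, e, he⟩ := exists_obj (A := A') (B := Cb) S g
  refine ⟨ψ X (e s), ?_⟩
  rw [← AlgHom.comp_apply, H.fac X, ← hgs, ← he]
  rfl

theorem IsEtClosure.ker_gamma (H : IsEtClosure A' Cb C ψ γ)
    (h : EtPBC.IsIndEtale (A' ⧸ I) Cb) : RingHom.ker γ = I.map (algebraMap A' C) := by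
  have hI0 : ∀ a ∈ I, algebraMap A' Cb a = 0 := by
    intro a ha
    rw [IsScalarTower.algebraMap_apply A' (A' ⧸ I) Cb, Ideal.Quotient.algebraMap_eq,
      Ideal.Quotient.eq_zero_iff_mem.2 ha, map_zero]
  apply le_antisymm
  · intro c hc
    rw [RingHom.mem_ker] at hc
    obtain ⟨X, y, rfl⟩ := H.surj c
    haveI := X.et
    have hy : X.f y = 0 := by rw [← H.fac X]; exact hc
    obtain ⟨S, _, _, _, φ, g, hgφ, hφy⟩ := exists_kill A' I Cb h X.Q X.f y hy
    obtain ⟨Z, e, he⟩ := exists_obj (A := A') (B := Cb) S g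
    let m : X ⟶ Z := ⟨e.toAlgHom.comp φ, by rw [← AlgHom.comp_assoc, he, hgφ]⟩
    have h1 : ψ X y = ψ Z (e (φ y)) := by
      rw [← H.nat X Z m]
      rfl
    rw [h1]
    have h2 : ψ Z (e (φ y)) ∈ (I.map (algebraMap A' S)).map
        ((ψ Z).toRingHom.comp e.toAlgHom.toRingHom) := Ideal.mem_map_of_mem _ hφy
    rw [Ideal.map_map] at h2
    have h3 : (((ψ Z).toRingHom.comp e.toAlgHom.toRingHom).comp (algebraMap A' S)) =
        algebraMap A' C := by
      ext r
      show ψ Z (e (algebraMap A' S r)) = _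
      rw [e.commutes, (ψ Z).commutes]
    rw [h3] at h2
    exact h2
  · rw [Ideal.map_le_iff_le_comap]
    intro a ha
    show γ (algebraMap A' C a) = 0
    rw [γ.commutes, hI0 a ha]

end quot

/-- `γ` reflects units. -/
theorem IsEtClosure.isUnit_of_isUnit_gamma (H : IsEtClosure A' Cb C ψ γ) (c : C)
    (hc : IsUnit (γ c)) : IsUnit c := by
  obtain ⟨X, y, rfl⟩ := H.surj c
  haveI := X.et
  have hy : IsUnit (X.f.toRingHom y) := by
    have : X.f y = γ (ψ X y) := by rw [← AlgHom.comp_apply, H.fac]
    show IsUnit (X.f y)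
    rw [this]
    exact hc
  haveI : Algebra.Etale X.Q (Localization.Away y) := Algebra.Etale.of_isLocalizationAway y
  haveI : Algebra.Etale A' (Localization.Away y) := Algebra.Etale.comp A' X.Q (Localization.Away y)
  let f' : Localization.Away y →ₐ[A'] Cb :=
    { IsLocalization.Away.lift (S := Localization.Away y) y hy with
      commutes' := fun a => by
        show IsLocalization.Away.lift (S := Localization.Away y) y hy
          (algebraMap A' (Localization.Away y) a) = _
        rw [IsScalarTower.algebraMap_apply A' X.Q (Localization.Away y),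
          IsLocalization.Away.lift_eq]
        exact X.f.commutes a }
  have hf' : ∀ w : X.Q, f' (algebraMap X.Q (Localization.Away y) w) = X.f w :=
    fun w => IsLocalization.Away.lift_eq y hy w
  obtain ⟨Z, e, he⟩ := exists_obj (A := A') (B := Cb) (Localization.Away y) f'
  let m : X ⟶ Z := ⟨e.toAlgHom.comp (IsScalarTower.toAlgHom A' X.Q (Localization.Away y)), by
    rw [← AlgHom.comp_assoc, he]
    ext w
    exact hf' w⟩
  have h1 : ψ X y = ψ Z (e (algebraMap X.Q (Localization.Away y) y)) := by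
    rw [← H.nat X Z m]
    rfl
  rw [h1]
  have hu : IsUnit (algebraMap X.Q (Localization.Away y) y) :=
    IsLocalization.Away.algebraMap_isUnit y
  exact (hu.map e).map (ψ Z)

section wlocal

variable (I : Ideal A') [Algebra (A' ⧸ I) Cb] [IsScalarTower A' (A' ⧸ I) Cb]

/-- `Spec C` is w-local with closed points `V(I C)` when `Cb` is zero-dimensional. -/
theorem IsEtClosure.isWLocal (H : IsEtClosure A' Cb C ψ γ) (h : EtPBC.IsIndEtale (A' ⧸ I) Cb)
    (hdim : ∀ Q : Ideal Cb, Q.IsPrime → Q.IsMaximal) :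
    ProEtW.IsWLocal (PrimeSpectrum C) ∧
      ProEtW.closedPoints (PrimeSpectrum C) =
        PrimeSpectrum.zeroLocus (I.map (algebraMap A' C) : Set C) := by
  have hsurj := H.surjective_gamma I h
  have hker := H.ker_gamma I h
  have hinc : ∀ q q' : PrimeSpectrum Cb, q.asIdeal ≤ q'.asIdeal → q = q' := fun q q' hle =>
    PrimeSpectrum.ext ((hdim q.asIdeal q.2).eq_of_le q'.2.ne_top hle)
  haveI : T2Space (PrimeSpectrum Cb) := Groth.Agent.H4.t2Space_of_incomparable hinc
  haveI : TotallyDisconnectedSpace (PrimeSpectrum Cb) :=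
    Groth.Agent.H4.totallyDisconnectedSpace_of_incomparable hinc
  apply Groth.Agent.H23.WSq.isWLocal_of_jacobson
  · intro x hx
    apply H.isUnit_of_isUnit_gamma
    rw [← hker, RingHom.mem_ker] at hx
    rw [map_add, map_one, hx, add_zero]
    exact isUnit_one
  · intro q hq hKq
    rw [← hker] at hKq
    haveI : (q.map γ).IsPrime := Ideal.map_isPrime_of_surjective hsurj hKq
    haveI : (q.map γ).IsMaximal := hdim _ inferInstance
    have h1 : (q.map γ).comap γ = q := by
      rw [Ideal.comap_map_of_surjective' γ hsurj]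
      exact sup_eq_left.2 hKq
    rw [← h1]
    exact Ideal.comap_isMaximal_of_surjective γ hsurj
  · intro m₁ m₂ hm₁ hm₂ hK₁ hK₂ hne
    rw [← hker] at hK₁ hK₂
    haveI := hm₁.isPrime
    haveI := hm₂.isPrime
    haveI : (m₁.map γ).IsPrime := Ideal.map_isPrime_of_surjective hsurj hK₁
    haveI : (m₂.map γ).IsPrime := Ideal.map_isPrime_of_surjective hsurj hK₂
    have hc₁ : (m₁.map γ).comap γ = m₁ := by
      rw [Ideal.comap_map_of_surjective' γ hsurj]
      exact sup_eq_left.2 hK₁
    have hc₂ : (m₂.map γ).comap γ = m₂ := by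
      rw [Ideal.comap_map_of_surjective' γ hsurj]
      exact sup_eq_left.2 hK₂
    let Q₁ : PrimeSpectrum Cb := ⟨m₁.map γ, inferInstance⟩
    let Q₂ : PrimeSpectrum Cb := ⟨m₂.map γ, inferInstance⟩
    have hQ : Q₁ ≠ Q₂ := by
      intro hQQ
      apply hne
      have : m₁.map γ = m₂.map γ := congrArg PrimeSpectrum.asIdeal hQQ
      rw [← hc₁, ← hc₂, this]
    obtain ⟨W, hW, hQ₁W, hWsub⟩ := compact_exists_isClopen_in_isOpen
      (isOpen_compl_singleton : IsOpen ({Q₂}ᶜ : Set (PrimeSpectrum Cb)))
      (show Q₁ ∈ ({Q₂}ᶜ : Set _) from hQ)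
    have hQ₂W : Q₂ ∉ W := fun h => hWsub h rfl
    obtain ⟨eb, heb, hWe⟩ := PrimeSpectrum.isClopen_iff.1 hW
    have heb' : eb * eb = eb := heb.eq
    have h₁ : eb ∉ m₁.map γ := by
      have : Q₁ ∈ (PrimeSpectrum.basicOpen eb : Set (PrimeSpectrum Cb)) := hWe ▸ hQ₁W
      exact this
    have h₂ : eb ∈ m₂.map γ := by
      by_contra hcon
      apply hQ₂W
      rw [hWe]
      exact hcon
    -- lift the idempotent
    let f : (Fin 2 → A') →ₐ[A'] Cb :=
      { toFun := fun g => algebraMap A' Cb (g 0) * eb + algebraMap A' Cb (g 1) * (1 - eb)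
        map_one' := by simp
        map_mul' := fun g g' => by
          simp only [Pi.mul_apply, map_mul]
          linear_combination (-(algebraMap A' Cb (g 0) * algebraMap A' Cb (g' 0)) +
            algebraMap A' Cb (g 0) * algebraMap A' Cb (g' 1) +
            algebraMap A' Cb (g 1) * algebraMap A' Cb (g' 0) -
            algebraMap A' Cb (g 1) * algebraMap A' Cb (g' 1)) * heb'
        map_zero' := by simp
        map_add' := fun g g' => by
          simp only [Pi.add_apply, map_add]
          ring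
        commutes' := fun r => by
          show algebraMap A' Cb r * eb + algebraMap A' Cb r * (1 - eb) = algebraMap A' Cb r
          ring }
    haveI : Algebra.IsLocalIso A' (Fin 2 → A') :=
      Algebra.IsLocalIso.pi_of_finite A' (fun _ : Fin 2 => A')
    haveI : Algebra.Etale A' (Fin 2 → A') := Groth.Agent.H23.WSq.etale_of_isLocalIso A' _
    obtain ⟨τ₀, hτ₀, -⟩ := H.existsUnique_of_etale (Fin 2 → A') f
    let δ : Fin 2 → A' := Pi.single 0 1
    have hδ : δ * δ = δ := by
      funext i
      fin_cases i <;> simp [δ]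
    have hfδ : f δ = eb := by
      show algebraMap A' Cb (δ 0) * eb + algebraMap A' Cb (δ 1) * (1 - eb) = eb
      simp [δ]
    have hγe : γ (τ₀ δ) = eb := by
      rw [← AlgHom.comp_apply, hτ₀, hfδ]
    refine ⟨τ₀ δ, by rw [← map_mul, hδ], ?_, ?_⟩
    · intro hmem
      apply h₁
      rw [← hγe]
      exact Ideal.mem_map_of_mem γ hmem
    · obtain ⟨c, hc, hγc⟩ := (Ideal.mem_map_iff_of_surjective γ hsurj).1 h₂
      have h3 : τ₀ δ - c ∈ RingHom.ker γ := by
        rw [RingHom.mem_ker, map_sub, hγe, hγc, sub_self]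
      have := m₂.add_mem (hK₂ h3) hc
      simpa using this

end wlocal

/-- `C` has étale retractions when `Cb` has. -/
theorem IsEtClosure.hasEtaleRetractions (H : IsEtClosure A' Cb C ψ γ)
    (hret : ProEtW.HasEtaleRetractions Cb) : ProEtW.HasEtaleRetractions C := by
  intro F _ _ hff het
  letI algAF : Algebra A' F := ((algebraMap C F).comp (algebraMap A' C)).toAlgebra
  haveI : IsScalarTower A' C F := IsScalarTower.of_algebraMap_eq (fun _ => rfl)
  have hCF : EtPBC.IsIndEtale C F := isIndEtale_of_fact fact_of_etale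
  have hAF : EtPBC.IsIndEtale A' F := isIndEtale_trans H.ind hCF
  -- the retraction over `Cb`
  letI algCCb : Algebra C Cb := γ.toRingHom.toAlgebra
  haveI : Module.FaithfullyFlat Cb (TensorProduct C Cb F) := inferInstance
  obtain ⟨rb⟩ := hret (TensorProduct C Cb F) inferInstance inferInstance
  let ρ₀ : F →+* Cb := rb.toRingHom.comp
    (Algebra.TensorProduct.includeRight : F →ₐ[C] TensorProduct C Cb F).toRingHom
  have hρ₀ : ∀ c : C, ρ₀ (algebraMap C F c) = γ c := by
    intro c
    show rb ((Algebra.TensorProduct.includeRight : F →ₐ[C] TensorProduct C Cb F)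
      (algebraMap C F c)) = _
    rw [AlgHom.commutes, IsScalarTower.algebraMap_apply C Cb (TensorProduct C Cb F), rb.commutes]
    rfl
  let ρ : F →ₐ[A'] Cb :=
    { ρ₀ with
      commutes' := fun a => by
        show ρ₀ (algebraMap C F (algebraMap A' C a)) = _
        rw [hρ₀, γ.commutes] }
  obtain ⟨r, hr⟩ := H.exists_of_isIndEtale F hAF ρ
  have hσ : r.comp (IsScalarTower.toAlgHom A' C F) = AlgHom.id A' C := by
    apply H.endo_eq_id
    rw [← AlgHom.comp_assoc, hr]
    ext c
    exact hρ₀ c
  exact ⟨{ r.toRingHom with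
    commutes' := fun c => congrArg (fun t : C →ₐ[A'] C => t c) hσ }⟩

end Groth.Agent.H23.IndEtLift
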