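import Mathlib
import Groth.Prelude.Def_PBC
import Groth.Prelude.Def_ProEtW
import Groth.Agent.H12.IndEtD
import Groth.Agent.H23.EtRetr
import Groth.Agent.H23.WSq2
import Groth.Agent.S0694
import Groth.Agent.S0736

/-!
# Stage B of the w-local ind-étale square (helper23)

Every ring `A` has a faithfully flat ind-étale algebra `C` such that `Spec C` is w-local, its closed
points surject onto `Spec A`, and `C` has étale retractions (so all its local rings at maximal ideals
are strictly henselian).
-/

set_option autoImplicit false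
set_option linter.style.haveILetI false
universe u
open CategoryTheory CategoryTheory.Limits

namespace Groth.Agent.H23.WSq

open Groth.Agent.H12.IndEt Groth.Agent.H23.IndEtLift

/-- in a w-local spectrum the closed points are the zero locus of their vanishing ideal. -/
theorem zeroLocus_vanishingIdeal_closedPoints {A : Type u} [CommRing A]
    (hW : ProEtW.IsWLocal (PrimeSpectrum A)) :
    PrimeSpectrum.zeroLocus (R := A)
      (PrimeSpectrum.vanishingIdeal (ProEtW.closedPoints (PrimeSpectrum A))) =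
      ProEtW.closedPoints (PrimeSpectrum A) := by
  rw [PrimeSpectrum.zeroLocus_vanishingIdeal_eq_closure]
  exact IsClosed.closure_eq hW.2.1

theorem exists_stageB (A : Type u) [CommRing A] :
    ∃ (C : Type u) (_ : CommRing C) (_ : Algebra A C),
      Module.FaithfullyFlat A C ∧ EtPBC.IsIndEtale A C ∧ ProEtW.IsWLocal (PrimeSpectrum C) ∧
      PrimeSpectrum.comap (algebraMap A C) '' ProEtW.closedPoints (PrimeSpectrum C) = Set.univ ∧
      ProEtW.HasEtaleRetractions C := by
  obtain ⟨A', iA', iAA', hff, hIZ, hW, hbij⟩ := Groth.Agent.S0694.result A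
  let I : Ideal A' := PrimeSpectrum.vanishingIdeal (ProEtW.closedPoints (PrimeSpectrum A'))
  have hI : PrimeSpectrum.zeroLocus (R := A') I = ProEtW.closedPoints (PrimeSpectrum A') :=
    zeroLocus_vanishingIdeal_closedPoints hW
  -- all primes of `A' ⧸ I` are maximal
  have hmk : Function.Surjective (Ideal.Quotient.mk I) := Ideal.Quotient.mk_surjective
  have hdim0 : ∀ Q : Ideal (A' ⧸ I), Q.IsPrime → Q.IsMaximal := by
    intro Q hQ
    have h1 : (⟨Q.comap (Ideal.Quotient.mk I), inferInstance⟩ : PrimeSpectrum A') ∈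
        PrimeSpectrum.zeroLocus (R := A') I := by
      rw [PrimeSpectrum.mem_zeroLocus, SetLike.coe_subset_coe]
      intro a ha
      show Ideal.Quotient.mk I a ∈ Q
      rw [Ideal.Quotient.eq_zero_iff_mem.2 ha]
      exact Q.zero_mem
    rw [hI] at h1
    have h2 : (Q.comap (Ideal.Quotient.mk I)).IsMaximal :=
      (PrimeSpectrum.isClosed_singleton_iff_isMaximal _).1 h1
    rcases Ideal.map_eq_top_or_isMaximal_of_surjective (Ideal.Quotient.mk I) hmk h2 with h3 | h3
    · rw [Ideal.map_comap_of_surjective _ hmk] at h3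
      exact absurd h3 hQ.ne_top
    · rwa [Ideal.map_comap_of_surjective _ hmk] at h3
  obtain ⟨Cb, iCb, iACb, hffb, hIEb, hretb⟩ := exists_indEtale_hasEtaleRetractions (A' ⧸ I)
  letI algA'Cb : Algebra A' Cb :=
    ((algebraMap (A' ⧸ I) Cb).comp (algebraMap A' (A' ⧸ I))).toAlgebra
  haveI : IsScalarTower A' (A' ⧸ I) Cb := IsScalarTower.of_algebraMap_eq (fun _ => rfl)
  have hdim : ∀ Q : Ideal Cb, Q.IsPrime → Q.IsMaximal := by
    intro Q hQ
    obtain ⟨M, hM, hQM⟩ := Ideal.exists_le_maximal Q hQ.ne_top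
    haveI := hM.isPrime
    have h1 : Q.comap (algebraMap (A' ⧸ I) Cb) = M.comap (algebraMap (A' ⧸ I) Cb) :=
      (hdim0 _ inferInstance).eq_of_le (Ideal.comap_ne_top _ hM.ne_top) (Ideal.comap_mono hQM)
    rw [eq_of_le_of_isIndEtale hIEb Q M hQM h1]
    exact hM
  obtain ⟨C, iC, iA'C, ψ, γ, H⟩ := exists_isEtClosure A' Cb
  obtain ⟨hWC, hclC⟩ := H.isWLocal I hIEb hdim
  have hretC := H.hasEtaleRetractions hretb
  have hker := H.ker_gamma I hIEb
  -- primes of `C` over closed points of `A'`
  have hlift : ∀ m : PrimeSpectrum A', m ∈ ProEtW.closedPoints (PrimeSpectrum A') →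
      ∃ q : PrimeSpectrum C, q ∈ ProEtW.closedPoints (PrimeSpectrum C) ∧
        PrimeSpectrum.comap (algebraMap A' C) q = m := by
    intro m hm
    rw [← hI, PrimeSpectrum.mem_zeroLocus, SetLike.coe_subset_coe] at hm
    haveI : (m.asIdeal.map (Ideal.Quotient.mk I)).IsPrime := by
      apply Ideal.map_isPrime_of_surjective hmk
      rwa [Ideal.mk_ker]
    obtain ⟨Q, hQ⟩ := PrimeSpectrum.comap_surjective_of_faithfullyFlat (A := A' ⧸ I) (B := Cb)
      ⟨m.asIdeal.map (Ideal.Quotient.mk I), inferInstance⟩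
    refine ⟨PrimeSpectrum.comap γ.toRingHom Q, ?_, ?_⟩
    · rw [hclC, PrimeSpectrum.mem_zeroLocus, SetLike.coe_subset_coe, ← hker]
      intro c hc
      show γ c ∈ Q.asIdeal
      rw [RingHom.mem_ker.1 hc]
      exact Q.asIdeal.zero_mem
    · apply PrimeSpectrum.ext
      have h1 : Q.asIdeal.comap (algebraMap (A' ⧸ I) Cb) = m.asIdeal.map (Ideal.Quotient.mk I) :=
        congrArg PrimeSpectrum.asIdeal hQ
      show (Q.asIdeal.comap γ.toRingHom).comap (algebraMap A' C) = m.asIdeal
      rw [Ideal.comap_comap]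
      have h2 : γ.toRingHom.comp (algebraMap A' C) =
          (algebraMap (A' ⧸ I) Cb).comp (Ideal.Quotient.mk I) := by
        ext a
        show γ (algebraMap A' C a) = _
        rw [γ.commutes]
        rfl
      rw [h2, ← Ideal.comap_comap, h1, Ideal.comap_map_of_surjective' _ hmk, Ideal.mk_ker]
      exact sup_eq_left.2 hm
  haveI : Module.Flat A' C := (Groth.Agent.S0736.result A' C H.ind).flat
  haveI hffC : Module.FaithfullyFlat A' C := by
    refine ⟨fun m hm => ?_⟩
    haveI := hm.isPrime
    obtain ⟨q, -, hq⟩ := hlift ⟨m, inferInstance⟩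
      ((PrimeSpectrum.isClosed_singleton_iff_isMaximal _).2 hm)
    rw [Ideal.smul_top_eq_map]
    intro htop
    have h1 : m.map (algebraMap A' C) ≤ q.asIdeal := by
      rw [Ideal.map_le_iff_le_comap]
      have : q.asIdeal.comap (algebraMap A' C) = m := congrArg PrimeSpectrum.asIdeal hq
      rw [this]
    have h2 : (1 : C) ∈ m.map (algebraMap A' C) := by
      have : (1 : C) ∈ Submodule.restrictScalars A' (m.map (algebraMap A' C)) := by
        rw [htop]; trivial
      exact this
    exact q.2.ne_top ((Ideal.eq_top_iff_one _).2 (h1 h2))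
  letI algAC : Algebra A C := ((algebraMap A' C).comp (algebraMap A A')).toAlgebra
  haveI : IsScalarTower A A' C := IsScalarTower.of_algebraMap_eq (fun _ => rfl)
  refine ⟨C, iC, algAC, Module.FaithfullyFlat.trans A A' C,
    isIndEtale_trans (isIndEtale_of_isIndZariski hIZ) H.ind, hWC, ?_, hretC⟩
  rw [Set.eq_univ_iff_forall]
  intro p
  obtain ⟨m, hm, hmp⟩ := hbij.surjOn (Set.mem_univ p)
  obtain ⟨q, hq, hqm⟩ := hlift m hm
  refine ⟨q, hq, ?_⟩
  rw [← hmp, ← hqm]
  apply PrimeSpectrum.ext
  show q.asIdeal.comap (algebraMap A C) = (q.asIdeal.comap (algebraMap A' C)).comap (algebraMap A A')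
  rw [Ideal.comap_comap]
  rfl

end Groth.Agent.H23.WSq
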