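import Mathlib
import Groth.Prelude.Def_PBC
import Groth.Prelude.Def_ProEtW
import Groth.Agent.H12.IndEtD
import Groth.Agent.H78.SF2
import Groth.Agent.H23.WLocAlgRes
import Groth.Agent.H23.WSq3
import Groth.Agent.S0733
import Groth.Agent.S0736
import Groth.Agent.S0675

/-!
# Stage C of the w-local ind-étale square (helper23)

* `algRes_tensor`: algebraic residue field extensions are stable under base change;
* `exists_prime_of_quotient_bij`: primes lift along `R → S` when `R/K ≅ S/KS`;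
* `exists_square`: the w-local ind-étale square over `A → B` with algebraic residue extensions.
-/

set_option autoImplicit false
set_option linter.style.haveILetI false
universe u
open CategoryTheory CategoryTheory.Limits TensorProduct

namespace Groth.Agent.H23.WSq

open Groth.Agent.H12.IndEt Groth.Agent.H23.IndEtLift

attribute [local instance] Algebra.TensorProduct.rightAlgebra

/-- algebraic residue field extensions are stable under base change. -/
theorem algRes_tensor (A B C : Type u) [CommRing A] [CommRing B] [CommRing C] [Algebra A B]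
    [Algebra A C] (h : ProEtW.AlgebraicResidueExtensions A B) :
    ProEtW.AlgebraicResidueExtensions C (B ⊗[A] C) := by
  intro q hq
  let P : Ideal B := q.comap (algebraMap B (B ⊗[A] C))
  let p : Ideal C := q.comap (algebraMap C (B ⊗[A] C))
  let a₀ : Ideal A := P.comap (algebraMap A B)
  haveI : P.IsPrime := Ideal.comap_isPrime _ _
  haveI : p.IsPrime := Ideal.comap_isPrime _ _
  have hP : Algebra.IsAlgebraic (A ⧸ a₀) (B ⧸ P) := h P
  have htm : ∀ a : A, (algebraMap A B a) ⊗ₜ[A] (1 : C) = (1 : B) ⊗ₜ[A] (algebraMap A C a) := by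
    intro a
    rw [Algebra.algebraMap_eq_smul_one, Algebra.algebraMap_eq_smul_one, TensorProduct.smul_tmul]
  have ha₀ : a₀ = p.comap (algebraMap A C) := by
    ext a
    show (algebraMap A B a) ⊗ₜ[A] (1 : C) ∈ q ↔ (1 : B) ⊗ₜ[A] (algebraMap A C a) ∈ q
    rw [htm]
  letI alg1 : Algebra (A ⧸ a₀) (C ⧸ p) :=
    (Ideal.quotientMap p (algebraMap A C) (le_of_eq ha₀)).toAlgebra
  letI alg2 : Algebra (A ⧸ a₀) ((B ⊗[A] C) ⧸ q) :=
    ((algebraMap (B ⧸ P) ((B ⊗[A] C) ⧸ q)).comp (algebraMap (A ⧸ a₀) (B ⧸ P))).toAlgebra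
  haveI : IsScalarTower (A ⧸ a₀) (B ⧸ P) ((B ⊗[A] C) ⧸ q) :=
    IsScalarTower.of_algebraMap_eq (fun _ => rfl)
  haveI : IsScalarTower (A ⧸ a₀) (C ⧸ p) ((B ⊗[A] C) ⧸ q) := by
    refine IsScalarTower.of_algebraMap_eq (fun x => ?_)
    obtain ⟨a, rfl⟩ := Ideal.Quotient.mk_surjective x
    show Ideal.Quotient.mk q ((algebraMap A B a) ⊗ₜ[A] (1 : C)) =
      Ideal.Quotient.mk q ((1 : B) ⊗ₜ[A] (algebraMap A C a))
    rw [htm]
  have hinj : Function.Injective (algebraMap (A ⧸ a₀) (C ⧸ p)) :=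
    Ideal.quotientMap_injective' (le_of_eq ha₀.symm)
  have key1 : ∀ b : B, IsAlgebraic (C ⧸ p) (Ideal.Quotient.mk q (b ⊗ₜ[A] (1 : C))) := by
    intro b
    have h1 : IsAlgebraic (A ⧸ a₀) (Ideal.Quotient.mk P b) := hP.isAlgebraic _
    have h2 : IsAlgebraic (A ⧸ a₀) (algebraMap (B ⧸ P) ((B ⊗[A] C) ⧸ q) (Ideal.Quotient.mk P b)) :=
      h1.algebraMap
    exact h2.extendScalars hinj
  have key2 : ∀ c : C, IsAlgebraic (C ⧸ p) (Ideal.Quotient.mk q ((1 : B) ⊗ₜ[A] c)) := fun c =>
    isAlgebraic_algebraMap (R := C ⧸ p) (A := (B ⊗[A] C) ⧸ q) (Ideal.Quotient.mk p c)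
  refine ⟨fun x => ?_⟩
  obtain ⟨t, rfl⟩ := Ideal.Quotient.mk_surjective x
  induction t using TensorProduct.induction_on with
  | zero => rw [map_zero]; exact isAlgebraic_zero
  | tmul b c =>
    have : b ⊗ₜ[A] c = (b ⊗ₜ[A] (1 : C)) * ((1 : B) ⊗ₜ[A] c) := by
      rw [Algebra.TensorProduct.tmul_mul_tmul, mul_one, one_mul]
    rw [this, map_mul]
    exact (key1 b).mul (key2 c)
  | add x y hx hy => rw [map_add]; exact hx.add hy

/-- primes containing `K` lift along `f : R → S` when `R/K → S/KS` is bijective. -/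
theorem exists_prime_of_quotient_bij {R S : Type u} [CommRing R] [CommRing S] (f : R →+* S)
    (K : Ideal R)
    (hb : Function.Bijective (Ideal.quotientMap (K.map f) f Ideal.le_comap_map))
    (𝔮 : Ideal R) [𝔮.IsPrime] (hK : K ≤ 𝔮) : ∃ Q : Ideal S, Q.IsPrime ∧ Q.comap f = 𝔮 := by
  let e : R ⧸ K ≃+* S ⧸ K.map f := RingEquiv.ofBijective _ hb
  have hmk : Function.Surjective (Ideal.Quotient.mk K) := Ideal.Quotient.mk_surjective
  haveI h1 : (𝔮.map (Ideal.Quotient.mk K)).IsPrime := by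
    apply Ideal.map_isPrime_of_surjective hmk
    rwa [Ideal.mk_ker]
  refine ⟨((𝔮.map (Ideal.Quotient.mk K)).comap e.symm.toRingHom).comap
    (Ideal.Quotient.mk (K.map f)), inferInstance, ?_⟩
  ext x
  have h2 : e.symm (Ideal.Quotient.mk (K.map f) (f x)) = Ideal.Quotient.mk K x := by
    rw [RingEquiv.symm_apply_eq]
    rfl
  show e.symm (Ideal.Quotient.mk (K.map f) (f x)) ∈ 𝔮.map (Ideal.Quotient.mk K) ↔ x ∈ 𝔮
  rw [h2]
  have h3 : (𝔮.map (Ideal.Quotient.mk K)).comap (Ideal.Quotient.mk K) = 𝔮 := by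
    rw [Ideal.comap_map_of_surjective' _ hmk, Ideal.mk_ker]
    exact sup_eq_left.2 hK
  conv_rhs => rw [← h3]
  rfl

/-- flat + primes over maximal ideals ⇒ faithfully flat. -/
theorem faithfullyFlat_of_lift {R S : Type u} [CommRing R] [CommRing S] [Algebra R S]
    [Module.Flat R S]
    (h : ∀ m : Ideal R, m.IsMaximal → ∃ q : Ideal S, q.IsPrime ∧ q.comap (algebraMap R S) = m) :
    Module.FaithfullyFlat R S := by
  refine ⟨fun m hm => ?_⟩
  obtain ⟨q, hq, hqm⟩ := h m hm
  rw [Ideal.smul_top_eq_map]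
  intro htop
  have h1 : m.map (algebraMap R S) ≤ q := by
    rw [Ideal.map_le_iff_le_comap, hqm]
  have h2 : (1 : S) ∈ m.map (algebraMap R S) := by
    have : (1 : S) ∈ Submodule.restrictScalars R (m.map (algebraMap R S)) := by
      rw [htop]; trivial
    exact this
  exact hq.ne_top ((Ideal.eq_top_iff_one _).2 (h1 h2))

/-- **The w-local ind-étale square.** -/
theorem exists_square (A B : Type u) [CommRing A] [CommRing B] [Algebra A B]
    (h : ProEtW.AlgebraicResidueExtensions A B) :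
    ∃ (C D : Type u) (_ : CommRing C) (_ : CommRing D) (_ : Algebra A C) (_ : Algebra B D)
      (_ : Algebra C D) (_ : Algebra A D) (_ : IsScalarTower A C D) (_ : IsScalarTower A B D),
      Module.FaithfullyFlat A C ∧ EtPBC.IsIndEtale A C ∧ Module.FaithfullyFlat B D ∧
      EtPBC.IsIndEtale B D ∧ ProEtW.IsWLocal (PrimeSpectrum C) ∧ ProEtW.IsWLocal (PrimeSpectrum D) ∧
      ProEtW.IsWLocalMap (PrimeSpectrum.comap (algebraMap C D)) ∧
      ProEtW.closedPoints (PrimeSpectrum D) =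
        PrimeSpectrum.comap (algebraMap C D) ⁻¹' ProEtW.closedPoints (PrimeSpectrum C) ∧
      PrimeSpectrum.comap (algebraMap A C) '' ProEtW.closedPoints (PrimeSpectrum C) = Set.univ ∧
      PrimeSpectrum.comap (algebraMap B D) '' ProEtW.closedPoints (PrimeSpectrum D) = Set.univ ∧
      ∀ (m : Ideal C) [m.IsMaximal], EtCoh.IsStrictlyHenselianLocalRing (Localization.AtPrime m) := by
  obtain ⟨C, iC, iAC, hffC, hIEC, hWC, hsurjC, hretC⟩ := exists_stageB A
  let K : Ideal C := PrimeSpectrum.vanishingIdeal (ProEtW.closedPoints (PrimeSpectrum C))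
  have hK : PrimeSpectrum.zeroLocus (R := C) K = ProEtW.closedPoints (PrimeSpectrum C) :=
    zeroLocus_vanishingIdeal_closedPoints hWC
  have hres : ProEtW.AlgebraicResidueExtensions C (B ⊗[A] C) := algRes_tensor A B C h
  obtain ⟨-, D, iD, iB₁D, iCD, hT, hIZ, hbij, hWD, hmap, hclD⟩ :=
    Groth.Agent.H23.WLocClosed.exists_wLocal_algRes C (B ⊗[A] C) K hK hres
  letI algBD : Algebra B D :=
    ((algebraMap (B ⊗[A] C) D).comp (algebraMap B (B ⊗[A] C))).toAlgebra
  letI algAD : Algebra A D := ((algebraMap C D).comp (algebraMap A C)).toAlgebra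
  haveI t1 : IsScalarTower A C D := IsScalarTower.of_algebraMap_eq (fun _ => rfl)
  haveI t2 : IsScalarTower B (B ⊗[A] C) D := IsScalarTower.of_algebraMap_eq (fun _ => rfl)
  haveI t3 : IsScalarTower A B D := by
    refine IsScalarTower.of_algebraMap_eq (fun a => ?_)
    show algebraMap C D (algebraMap A C a) =
      algebraMap (B ⊗[A] C) D (algebraMap B (B ⊗[A] C) (algebraMap A B a))
    rw [IsScalarTower.algebraMap_apply C (B ⊗[A] C) D]
    congr 1
    show (1 : B) ⊗ₜ[A] (algebraMap A C a) = (algebraMap A B a) ⊗ₜ[A] (1 : C)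
    rw [Algebra.algebraMap_eq_smul_one, Algebra.algebraMap_eq_smul_one, TensorProduct.smul_tmul]
  have hIE1 : EtPBC.IsIndEtale B (B ⊗[A] C) := Groth.Agent.S0733.result A C B hIEC
  have hIED : EtPBC.IsIndEtale B D := isIndEtale_trans hIE1 (isIndEtale_of_isIndZariski hIZ)
  -- lifting primes of `B` to closed points of `D`
  have hlift : ∀ P : PrimeSpectrum B, ∃ Q : PrimeSpectrum D,
      Q ∈ ProEtW.closedPoints (PrimeSpectrum D) ∧ PrimeSpectrum.comap (algebraMap B D) Q = P := by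
    intro P
    have hm0 : PrimeSpectrum.comap (algebraMap A B) P ∈
        PrimeSpectrum.comap (algebraMap A C) '' ProEtW.closedPoints (PrimeSpectrum C) := by
      rw [hsurjC]; trivial
    obtain ⟨m, hm, hmP⟩ := hm0
    have hmP' : m.asIdeal.comap (algebraMap A C) = P.asIdeal.comap (algebraMap A B) :=
      congrArg PrimeSpectrum.asIdeal hmP
    obtain ⟨𝔮, h𝔮, h𝔮B, h𝔮C⟩ := Groth.Agent.H78.SF.exists_prime_tensor (A := A) (B := C) (C := B)
      m.asIdeal P.asIdeal hmP'
    have hKm : K ≤ m.asIdeal := by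
      rw [← hK, PrimeSpectrum.mem_zeroLocus, SetLike.coe_subset_coe] at hm
      exact hm
    have hK𝔮 : K.map (algebraMap C (B ⊗[A] C)) ≤ 𝔮 := by
      rw [Ideal.map_le_iff_le_comap]
      refine hKm.trans (le_of_eq ?_)
      rw [← h𝔮C]
      rfl
    obtain ⟨Q, hQ, hQ𝔮⟩ := exists_prime_of_quotient_bij (algebraMap (B ⊗[A] C) D)
      (K.map (algebraMap C (B ⊗[A] C))) hbij 𝔮 hK𝔮
    refine ⟨⟨Q, hQ⟩, ?_, ?_⟩
    · rw [hclD]
      show PrimeSpectrum.comap (algebraMap C D) ⟨Q, hQ⟩ ∈ ProEtW.closedPoints (PrimeSpectrum C)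
      have : PrimeSpectrum.comap (algebraMap C D) ⟨Q, hQ⟩ = m := by
        apply PrimeSpectrum.ext
        show Q.comap (algebraMap C D) = m.asIdeal
        rw [IsScalarTower.algebraMap_eq C (B ⊗[A] C) D, ← Ideal.comap_comap, hQ𝔮, ← h𝔮C]
        rfl
      rw [this]
      exact hm
    · apply PrimeSpectrum.ext
      show Q.comap (algebraMap B D) = P.asIdeal
      rw [IsScalarTower.algebraMap_eq B (B ⊗[A] C) D, ← Ideal.comap_comap, hQ𝔮, ← h𝔮B]
      rfl
  haveI : Module.Flat B D := (Groth.Agent.S0736.result B D hIED).flat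
  have hffD : Module.FaithfullyFlat B D := by
    apply faithfullyFlat_of_lift
    intro n hn
    haveI := hn.isPrime
    obtain ⟨Q, -, hQ⟩ := hlift ⟨n, inferInstance⟩
    exact ⟨Q.asIdeal, Q.2, congrArg PrimeSpectrum.asIdeal hQ⟩
  refine ⟨C, D, iC, iD, iAC, algBD, iCD, algAD, t1, t3, hffC, hIEC, hffD, hIED, hWC, hWD, hmap,
    hclD, hsurjC, ?_, fun m _ => Groth.Agent.S0675.result C hretC m⟩
  rw [Set.eq_univ_iff_forall]
  intro P
  obtain ⟨Q, hQ, hQP⟩ := hlift P
  exact ⟨Q, hQ, hQP⟩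

end Groth.Agent.H23.WSq
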