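import Mathlib
import Groth.Prelude.Def_PBC
import Groth.Prelude.Def_ProEtW
import Groth.Prelude.Def_EtBase
import Groth.Agent.H23.WSq4
import Groth.Agent.H23.WOliv1
import Groth.Agent.H23.WOliv2
import Groth.Agent.S0183
import Groth.Agent.S0678

/-!
# Weakly étale versus ind-étale, and w-contractible rings (helper23)

* `exists_indEtale_cover`: a weakly étale algebra has a faithfully flat ind-étale cover which is
  ind-étale over the base (Bhatt–Scholze 2.3.4).
* `isWContractible_iff_hasIndEtaleRetractions`.
* `isWContractible_iff`: the characterisation of w-contractible rings.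
-/

set_option autoImplicit false
set_option linter.style.haveILetI false
universe u

namespace Groth.Agent.H23.WOliv

open Groth.Agent.H12.IndEt Groth.Agent.H23.WSq

/-- maximal ideals contract to maximal ideals when closed points are the preimage of closed points. -/
theorem isMaximal_comap_of_closedPoints {C D : Type u} [CommRing C] [CommRing D] [Algebra C D]
    (hcl : ProEtW.closedPoints (PrimeSpectrum D) =
      PrimeSpectrum.comap (algebraMap C D) ⁻¹' ProEtW.closedPoints (PrimeSpectrum C))
    (n : Ideal D) (hn : n.IsMaximal) : (n.comap (algebraMap C D)).IsMaximal := by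
  haveI := hn.isPrime
  have h1 : (⟨n, inferInstance⟩ : PrimeSpectrum D) ∈ ProEtW.closedPoints (PrimeSpectrum D) :=
    (PrimeSpectrum.isClosed_singleton_iff_isMaximal _).2 hn
  rw [hcl] at h1
  exact (PrimeSpectrum.isClosed_singleton_iff_isMaximal _).1 h1

/-- **Bhatt–Scholze 2.3.4.** -/
theorem exists_indEtale_cover (A B : Type u) [CommRing A] [CommRing B] [Algebra A B]
    [Algebra.WeaklyEtale A B] :
    ∃ (B' : Type u) (_ : CommRing B') (_ : Algebra B B') (_ : Algebra A B')
      (_ : IsScalarTower A B B'),
      Module.FaithfullyFlat B B' ∧ EtPBC.IsIndEtale B B' ∧ EtPBC.IsIndEtale A B' := by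
  obtain ⟨C, D, iC, iD, iAC, iBD, iCD, iAD, t1, t2, hffC, hIEC, hffD, hIED, hWC, hWD, hmap, hcl,
    -, -, hsh⟩ := exists_square A B (algRes_of_weaklyEtale A B)
  haveI : Algebra.WeaklyEtale A C := Groth.Agent.S0736.result A C hIEC
  haveI : Algebra.WeaklyEtale B D := Groth.Agent.S0736.result B D hIED
  haveI : Algebra.WeaklyEtale A D := Algebra.WeaklyEtale.trans A B D
  haveI : Algebra.WeaklyEtale C D := Groth.Agent.S7127.result A C D
  have hid : EtPBC.IdentifiesLocalRings C D :=
    identifiesLocalRings_of_weaklyEtale (isMaximal_comap_of_closedPoints hcl) hsh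
  obtain ⟨D', iD', iDD', iCD', tD', hffD', hIZD', hIZCD'⟩ := Groth.Agent.S0183.result C D hid
  letI algBD' : Algebra B D' := ((algebraMap D D').comp (algebraMap B D)).toAlgebra
  letI algAD' : Algebra A D' := ((algebraMap D D').comp (algebraMap A D)).toAlgebra
  haveI : IsScalarTower B D D' := IsScalarTower.of_algebraMap_eq (fun _ => rfl)
  haveI : IsScalarTower A D D' := IsScalarTower.of_algebraMap_eq (fun _ => rfl)
  haveI t3 : IsScalarTower A B D' := by
    refine IsScalarTower.of_algebraMap_eq (fun a => ?_)
    show algebraMap D D' (algebraMap A D a) = algebraMap D D' (algebraMap B D (algebraMap A B a))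
    rw [← IsScalarTower.algebraMap_apply A B D]
  haveI : IsScalarTower A C D' := by
    refine IsScalarTower.of_algebraMap_eq (fun a => ?_)
    show algebraMap D D' (algebraMap A D a) = algebraMap C D' (algebraMap A C a)
    rw [IsScalarTower.algebraMap_apply A C D, ← IsScalarTower.algebraMap_apply C D D']
  exact ⟨D', iD', algBD', algAD', t3, Module.FaithfullyFlat.trans B D D',
    isIndEtale_trans hIED (isIndEtale_of_isIndZariski hIZD'),
    isIndEtale_trans hIEC (isIndEtale_of_isIndZariski hIZCD')⟩

/-- w-contractible ⇔ retractions for faithfully flat ind-étale algebras. -/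
theorem isWContractible_iff_hasIndEtaleRetractions (A : Type u) [CommRing A] :
    EtPBC.IsWContractible A ↔ ProEtW.HasIndEtaleRetractions A := by
  constructor
  · intro h B _ _ hff hIE
    exact h B hff (Groth.Agent.S0736.result A B hIE)
  · intro h B _ _ hff hWE
    haveI := hWE
    haveI := hff
    obtain ⟨B', iB', iBB', iAB', t, hffB', hIEB', hIEAB'⟩ := exists_indEtale_cover A B
    haveI := hffB'
    have hffAB' : Module.FaithfullyFlat A B' := Module.FaithfullyFlat.trans A B B'
    obtain ⟨r⟩ := h B' hffAB' hIEAB'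
    exact ⟨r.comp (IsScalarTower.toAlgHom A B B')⟩

/-- the characterisation of w-contractible rings. -/
theorem isWContractible_iff (A : Type u) [CommRing A] :
    EtPBC.IsWContractible A ↔
      (ProEtW.IsWLocal (PrimeSpectrum A) ∧
        ExtremallyDisconnected (_root_.ConnectedComponents (PrimeSpectrum A)) ∧
        ∀ (m : Ideal A) [m.IsMaximal],
          EtCoh.IsStrictlyHenselianLocalRing (Localization.AtPrime m)) := by
  constructor
  · intro h
    have hIE := (isWContractible_iff_hasIndEtaleRetractions A).1 h
    have hIZ : ProEtW.HasIndZariskiRetractions A := fun B _ _ hff hIZ =>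
      hIE B hff (isIndEtale_of_isIndZariski hIZ)
    have hEt : ProEtW.HasEtaleRetractions A := fun B _ _ hff het =>
      hIE B hff (isIndEtale_of_fact fact_of_etale)
    obtain ⟨h1, h2⟩ := (Groth.Agent.S0678.result A).1 hIZ
    exact ⟨h1, h2, fun m _ => Groth.Agent.S0675.result A hEt m⟩
  · rintro ⟨hW, hED, hsh⟩
    have hIZR : ProEtW.HasIndZariskiRetractions A := (Groth.Agent.S0678.result A).2 ⟨hW, hED⟩
    intro B _ _ hff hWE
    haveI := hWE
    haveI := hff
    let K : Ideal A := PrimeSpectrum.vanishingIdeal (ProEtW.closedPoints (PrimeSpectrum A))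
    have hK : PrimeSpectrum.zeroLocus (R := A) K = ProEtW.closedPoints (PrimeSpectrum A) :=
      zeroLocus_vanishingIdeal_closedPoints hW
    obtain ⟨-, D, iD, iBD, iAD, tD, hIZ, hbij, hWD, hmap, hclD⟩ :=
      Groth.Agent.H23.WLocClosed.exists_wLocal_algRes A B K hK (algRes_of_weaklyEtale A B)
    haveI : Algebra.WeaklyEtale B D :=
      Groth.Agent.S0736.result B D (isIndEtale_of_isIndZariski hIZ)
    haveI : Algebra.WeaklyEtale A D := Algebra.WeaklyEtale.trans A B D
    have hid : EtPBC.IdentifiesLocalRings A D :=
      identifiesLocalRings_of_weaklyEtale (isMaximal_comap_of_closedPoints hclD) hsh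
    obtain ⟨D', iD', iDD', iAD', tD', hffD', hIZD', hIZAD'⟩ := Groth.Agent.S0183.result A D hid
    haveI := hffD'
    haveI : Module.Flat A D' :=
      (Groth.Agent.S0736.result A D' (isIndEtale_of_isIndZariski hIZAD')).flat
    have hffAD' : Module.FaithfullyFlat A D' := by
      apply faithfullyFlat_of_lift
      intro m hm
      haveI := hm.isPrime
      have hKm : K ≤ m := by
        have h1 : (⟨m, inferInstance⟩ : PrimeSpectrum A) ∈
            ProEtW.closedPoints (PrimeSpectrum A) :=
          (PrimeSpectrum.isClosed_singleton_iff_isMaximal _).2 hm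
        rw [← hK, PrimeSpectrum.mem_zeroLocus, SetLike.coe_subset_coe] at h1
        exact h1
      obtain ⟨P, hP⟩ := PrimeSpectrum.comap_surjective_of_faithfullyFlat (A := A) (B := B)
        ⟨m, inferInstance⟩
      have hPm : P.asIdeal.comap (algebraMap A B) = m := congrArg PrimeSpectrum.asIdeal hP
      have hKP : K.map (algebraMap A B) ≤ P.asIdeal := by
        rw [Ideal.map_le_iff_le_comap, hPm]
        exact hKm
      obtain ⟨Q, hQ, hQP⟩ := exists_prime_of_quotient_bij (algebraMap B D)
        (K.map (algebraMap A B)) hbij P.asIdeal hKP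
      obtain ⟨Q', hQ'⟩ := PrimeSpectrum.comap_surjective_of_faithfullyFlat (A := D) (B := D')
        ⟨Q, hQ⟩
      have hQ'Q : Q'.asIdeal.comap (algebraMap D D') = Q := congrArg PrimeSpectrum.asIdeal hQ'
      refine ⟨Q'.asIdeal, Q'.2, ?_⟩
      rw [IsScalarTower.algebraMap_eq A D D', ← Ideal.comap_comap, hQ'Q,
        IsScalarTower.algebraMap_eq A B D, ← Ideal.comap_comap, hQP, hPm]
    obtain ⟨r⟩ := hIZR D' hffAD' hIZAD'
    exact ⟨r.comp ((IsScalarTower.toAlgHom A D D').comp (IsScalarTower.toAlgHom A B D))⟩

end Groth.Agent.H23.WOliv
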