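import Mathlib
import Groth.Prelude.Def_EtModW
import Groth.Prelude.Def_ARSys
import Groth.Agent.H23.AdicDefs
import Groth.Agent.H23.AdicB
import Groth.Agent.H89.Adic_A2
import Groth.Agent.H67.Adic_C2b
import Groth.Agent.H67.Adic_C1
import Groth.Agent.H97.Adic_A1
import Groth.Agent.H23.WCSigma
import Groth.Agent.S14017
import Groth.Agent.S0177
import Groth.Agent.S0736

/-!
# Limits of adic systems of pro-etale sheaves: the projections are quotient maps (helper23; pieces by helper97, helper89, helper67, helper38)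
-/

set_option autoImplicit false
universe u v
open CategoryTheory CategoryTheory.Limits AlgebraicGeometry Opposite
open Groth.Agent.H23.AdicDefs Groth.Agent.H23.AdicB Groth.Agent.H89.Adic_A2 Groth.Agent.H67.Adic_C2b Groth.Agent.H67.Adic_C1 Groth.Agent.H97.Adic_A1

namespace Groth.Agent.H23.AdicMain

theorem enoughWC (X : Scheme.{u}) : EnoughWC X := fun U =>
  Groth.Agent.H23.WCSigma.exists_cover_weaklyContractible (fun A _ => by
    obtain ⟨D, iD, iAD, hff, hIE, hWC⟩ := Groth.Agent.S0177.result A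
    exact ⟨D, iD, iAD, hff, Groth.Agent.S0736.result A D hIE, hWC⟩) U

variable (Λ : Type (u + 1)) [CommRing Λ] {X : Scheme.{u}}

/-- (C2a) -/
theorem mem_smul_top_of_π_eq_zero (I : Ideal Λ) (hI : I.FG) (H : ℕᵒᵖ ⥤ EtModW.ModP Λ X)
    (hH : ARSys.IsAdic I H) (W : X.ProEt) (hW : ProEtS.IsWC W) (n : ℕ)
    (x : (limit H).obj.obj (op W)) (hx : ((limit.π H (op n)).hom.app (op W)).hom x = 0) :
    x ∈ (I ^ (n + 1)) • (⊤ : Submodule Λ ((limit H).obj.obj (op W))) := by
  obtain ⟨hinj, hrange⟩ := secΦ_injective_range Λ H W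
  have hΦx : secΦ Λ H W x ∈ compat (secT Λ H W) := by
    rw [← hrange]; exact ⟨x, rfl⟩
  have hq : ∀ m, ARSys.IsQuot (I ^ (m + 1)) (H.map (homOfLE (Nat.le_succ m)).op) :=
    fun m => hH.2 m (m + 1) (Nat.le_succ m)
  have h17 := fun m => Groth.Agent.S14017.main (I ^ (m + 1)) (hI.pow) _ _ _ (hq m) W hW
  have hkill : ∀ m, ∀ a ∈ I ^ (m + 1), ∀ z : secM Λ H W m, a • z = 0 := by
    intro m a ha z
    have h := hH.1 m a ha
    have h2 : ((a • 𝟙 (H.obj (op m)) : H.obj (op m) ⟶ H.obj (op m)).hom.app (op W)).hom z = 0 := by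
      rw [h]; rfl
    exact h2
  have key := mem_smul_compat I hI (secM Λ H W) (secT Λ H W) (fun m => (h17 m).1)
    (fun m => (h17 m).2) hkill n (secΦ Λ H W x) hΦx hx
  rw [← hrange] at key
  have e : (I ^ (n + 1)) • LinearMap.range (secΦ Λ H W) =
      Submodule.map (secΦ Λ H W) ((I ^ (n + 1)) • ⊤) := by
    rw [Submodule.map_smul'', Submodule.map_top]
  rw [e] at key
  obtain ⟨x', hx', hxx'⟩ := key
  rwa [← hinj hxx']

/-- the projections of the limit of an adic system are quotient maps. -/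
theorem isQuot_limit_π (hE : EnoughWC X) (I : Ideal Λ) (hI : I.FG)
    (H : ℕᵒᵖ ⥤ EtModW.ModP Λ X) (hH : ARSys.IsAdic I H) (n : ℕ) :
    ARSys.IsQuot (I ^ (n + 1)) (limit.π H (op n)) := by
  haveI : Epi (limit.π H (op n)) := epi_limit_π Λ hE H
    (fun m => Groth.Agent.S14017.epi_of_isQuot _ (hH.2 m (m + 1) (Nat.le_succ m))) n
  refine ⟨hH.1 n, ?_⟩
  intro Y φ hφ
  have hz : kernel.ι (limit.π H (op n)) ≫ φ = 0 := by
    apply comp_eq_zero_of_local Λ hE _ φ (I ^ (n + 1)) hφ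
    intro W hW k
    apply mem_smul_top_of_π_eq_zero Λ I hI H hH W hW n
    have hc := kernel.condition (limit.π H (op n))
    have : ((kernel.ι (limit.π H (op n)) ≫ limit.π H (op n)).hom.app (op W)).hom k = 0 := by
      rw [hc]; rfl
    exact this
  refine ⟨Abelian.epiDesc (limit.π H (op n)) φ hz, Abelian.comp_epiDesc _ _ _, ?_⟩
  intro ψ hψ
  rw [← cancel_epi (limit.π H (op n)), hψ, Abelian.comp_epiDesc]

theorem main (I : Ideal Λ) (hI : I.FG) [ProEtS.EpsCont X]
    (G : ARSys.PS (EtModW.Mod Λ X)) (hG : ARSys.IsAdic I G) (n : ℕ) :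
    ARSys.IsQuot (I ^ (n + 1)) (limit.π (G ⋙ EtModW.epsPullMod Λ X) (op n)) :=
  isQuot_limit_π Λ (enoughWC X) I hI _ (isAdic_epsPullMod Λ I G hG) n

end Groth.Agent.H23.AdicMain
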