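import Mathlib
import Groth.Prelude.Def_EtModW
import Groth.Prelude.Def_ARSys
import Groth.Agent.H23.AdicDefs
import Groth.Agent.H23.AdicB
import Groth.Agent.H23.AdicMain

/-!
# Adic pro-etale sheaves are the limits of pulled back adic systems, given that `eps^{-1}` is fully
faithful on sheaves of modules (helper23, for S14010)
-/

set_option autoImplicit false
universe u v
open CategoryTheory CategoryTheory.Limits AlgebraicGeometry Opposite
open Groth.Agent.H23.AdicDefs

namespace Groth.Agent.H23.AdicIff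

section Abstract

universe u₁ v₁ u₂ v₂ w

variable {R : Type w} [CommRing R] {A : Type u₁} [Category.{v₁} A] {B : Type u₂} [Category.{v₂} B]
  [Preadditive A] [Preadditive B] [Linear R A] [Linear R B]

/-- quotient maps are stable under conjugation by isomorphisms. -/
theorem isQuot_iso_conj (J : Ideal R) {F F' Q Q' : A} (p : F ⟶ Q) (hp : ARSys.IsQuot J p)
    (e₁ : F' ≅ F) (e₂ : Q ≅ Q') : ARSys.IsQuot J (e₁.hom ≫ p ≫ e₂.hom) := by
  refine ⟨?_, ?_⟩
  · intro a ha
    have h := hp.1 a ha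
    have : (a • 𝟙 Q' : Q' ⟶ Q') = e₂.inv ≫ (a • 𝟙 Q) ≫ e₂.hom := by
      rw [Linear.smul_comp, Linear.comp_smul, Category.id_comp, e₂.inv_hom_id]
    rw [this, h, zero_comp, comp_zero]
  · intro Y φ hφ
    have hφ' : ARSys.HomKilledBy J (e₁.inv ≫ φ) := by
      intro a ha
      rw [← Linear.comp_smul, hφ a ha, comp_zero]
    obtain ⟨ψ, hψ, huniq⟩ := hp.2 Y (e₁.inv ≫ φ) hφ'
    refine ⟨e₂.inv ≫ ψ, ?_, ?_⟩
    · show (e₁.hom ≫ p ≫ e₂.hom) ≫ e₂.inv ≫ ψ = φ
      simp only [Category.assoc, Iso.hom_inv_id_assoc]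
      rw [hψ, Iso.hom_inv_id_assoc]
    · intro ψ₂ hψ₂
      have h2 : p ≫ (e₂.hom ≫ ψ₂) = e₁.inv ≫ φ := by
        rw [← hψ₂]
        simp only [Category.assoc, Iso.inv_hom_id_assoc]
      rw [← huniq _ h2, Iso.inv_hom_id_assoc]

/-- a quotient map is an epimorphism. -/
theorem epi_of_isQuot (J : Ideal R) {F Q : A} (p : F ⟶ Q) (hp : ARSys.IsQuot J p) : Epi p := by
  constructor
  intro Z ψ₁ ψ₂ h
  have hk : ARSys.HomKilledBy J (p ≫ ψ₁) := by
    intro a ha
    have : a • (p ≫ ψ₁) = p ≫ (a • 𝟙 Q) ≫ ψ₁ := by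
      rw [Linear.smul_comp, Category.id_comp, Linear.comp_smul]
    rw [this, hp.1 a ha, zero_comp, comp_zero]
  obtain ⟨ψ, _, hψ⟩ := hp.2 Z (p ≫ ψ₁) hk
  rw [hψ ψ₁ rfl, hψ ψ₂ h.symm]

/-- if `p` and `p ≫ t` are quotient maps modulo `J' ≤`-related ideals, then `t` is a quotient map. -/
theorem isQuot_of_comp (J J' : Ideal R) (hJ : J' ≤ J) {F Q Q' : A} (p : F ⟶ Q) (t : Q ⟶ Q')
    (hp : ARSys.IsQuot J' p) (hpt : ARSys.IsQuot J (p ≫ t)) : ARSys.IsQuot J t := by
  haveI := epi_of_isQuot J' p hp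
  refine ⟨hpt.1, ?_⟩
  intro Y φ hφ
  have hφ' : ARSys.HomKilledBy J (p ≫ φ) := by
    intro a ha
    rw [← Linear.comp_smul, hφ a ha, comp_zero]
  obtain ⟨ψ, hψ, huniq⟩ := hpt.2 Y (p ≫ φ) hφ'
  refine ⟨ψ, ?_, ?_⟩
  · show t ≫ ψ = φ
    rw [← cancel_epi p, ← Category.assoc, hψ]
  · intro ψ₂ hψ₂
    apply huniq
    rw [Category.assoc, hψ₂]

variable {L : A ⥤ B} {Rr : B ⥤ A}
  (adj : L ⊣ Rr) (hR : ∀ {X Y : B} (a : R) (f : X ⟶ Y), Rr.map (a • f) = a • Rr.map f)

include adj hR in
theorem map_smul_id (a : R) (Q : A) : L.map (a • 𝟙 Q) = a • 𝟙 (L.obj Q) := by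
  rw [Groth.Agent.H23.AdicB.smul_id_map adj hR a Q, Adjunction.homEquiv_naturality_left_symm]
  have : (adj.homEquiv Q (L.obj Q)).symm (adj.unit.app Q) = 𝟙 _ := by
    rw [Equiv.symm_apply_eq, Adjunction.homEquiv_unit, CategoryTheory.Functor.map_id]
    simp
  rw [this, Category.comp_id]

include adj hR in
theorem map_smul (a : R) {P Q : A} (f : P ⟶ Q) : L.map (a • f) = a • L.map f := by
  have : a • f = (a • 𝟙 P) ≫ f := by rw [Linear.smul_comp, Category.id_comp]
  rw [this, Functor.map_comp, map_smul_id adj hR, Linear.smul_comp, Category.id_comp]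

include adj hR in
theorem map_zero' {P Q : A} : L.map (0 : P ⟶ Q) = 0 := by
  have h := map_smul adj hR (0 : R) (0 : P ⟶ Q)
  rw [zero_smul, zero_smul] at h
  exact h

include adj hR in
theorem killedBy_of_obj [L.Faithful] (J : Ideal R) {Q : A} (hQ : ARSys.KilledBy J (L.obj Q)) :
    ARSys.KilledBy J Q := by
  intro a ha
  apply L.map_injective
  rw [map_smul_id adj hR, hQ a ha, map_zero' adj hR]

include adj hR in
/-- a fully faithful linear left adjoint reflects quotient maps. -/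
theorem isQuot_of_map [L.Full] [L.Faithful] (J : Ideal R) {F Q : A} (p : F ⟶ Q)
    (hp : ARSys.IsQuot J (L.map p)) : ARSys.IsQuot J p := by
  refine ⟨killedBy_of_obj adj hR J hp.1, ?_⟩
  intro Y φ hφ
  have hφ' : ARSys.HomKilledBy J (L.map φ) := by
    intro a ha
    rw [← map_smul adj hR, hφ a ha, map_zero' adj hR]
  obtain ⟨ψ', hψ', huniq⟩ := hp.2 (L.obj Y) (L.map φ) hφ'
  refine ⟨L.preimage ψ', ?_, ?_⟩
  · show p ≫ L.preimage ψ' = φ
    apply L.map_injective
    rw [Functor.map_comp, L.map_preimage, hψ']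
  · intro ψ₂ hψ₂
    apply L.map_injective
    rw [L.map_preimage]
    apply huniq
    rw [← Functor.map_comp, hψ₂]

end Abstract

variable (Λ : Type (u + 1)) [CommRing Λ] {X : Scheme.{u}} [ProEtS.EpsCont X]

theorem hR_eps {P Q : EtModW.ModP Λ X} (a : Λ) (f : P ⟶ Q) :
    ((ProEtS.eps X).sheafPushforwardContinuous (ModuleCat.{u + 1} Λ)
      X.smallEtaleTopology (Scheme.ProEt.topology X)).map (a • f) =
    a • ((ProEtS.eps X).sheafPushforwardContinuous (ModuleCat.{u + 1} Λ)
      X.smallEtaleTopology (Scheme.ProEt.topology X)).map f := rfl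

/-- S14010, given that `eps^{-1}` is fully faithful on sheaves of modules. -/
theorem iff_of_fullyFaithful [(EtModW.epsPullMod Λ X).Full] [(EtModW.epsPullMod Λ X).Faithful]
    (I : Ideal Λ) (hI : I.FG) (F : EtModW.ModP Λ X) :
    (∃ (Q : ℕᵒᵖ ⥤ EtModW.ModP Λ X) (p : (Functor.const ℕᵒᵖ).obj F ⟶ Q),
        (∀ n : ℕ, ARSys.IsQuot (I ^ (n + 1)) (p.app (op n))) ∧
        (∀ n : ℕ, ∃ E : EtModW.Mod Λ X, EtModW.IsConstructible Λ E ∧
          Nonempty ((EtModW.epsPullMod Λ X).obj E ≅ Q.obj (op n))) ∧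
        IsIso (limit.lift Q (Cone.mk F p))) ↔
      ∃ G : ARSys.PS (EtModW.Mod Λ X), ARSys.IsAdic I G ∧
        (∀ n : ℕ, EtModW.IsConstructible Λ (G.obj (op n))) ∧
        Nonempty (limit (G ⋙ EtModW.epsPullMod Λ X) ≅ F) := by
  have adj := (ProEtS.eps X).sheafAdjunctionContinuous (ModuleCat.{u + 1} Λ)
    X.smallEtaleTopology (Scheme.ProEt.topology X)
  have hR : ∀ {P Q : EtModW.ModP Λ X} (a : Λ) (f : P ⟶ Q),
      ((ProEtS.eps X).sheafPushforwardContinuous (ModuleCat.{u + 1} Λ)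
        X.smallEtaleTopology (Scheme.ProEt.topology X)).map (a • f) =
      a • ((ProEtS.eps X).sheafPushforwardContinuous (ModuleCat.{u + 1} Λ)
        X.smallEtaleTopology (Scheme.ProEt.topology X)).map f := fun a f => hR_eps Λ a f
  constructor
  · rintro ⟨Q, p, hq, hc, hiso⟩
    choose E hE iE using hc
    let iE' : ∀ n, (EtModW.epsPullMod Λ X).obj (E n) ≅ Q.obj (op n) := fun n => (iE n).some
    let t : ∀ n, E (n + 1) ⟶ E n := fun n => (EtModW.epsPullMod Λ X).preimage
      ((iE' (n + 1)).hom ≫ Q.map (homOfLE (Nat.le_add_right n 1)).op ≫ (iE' n).inv)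
    let G : ℕᵒᵖ ⥤ EtModW.Mod Λ X := Functor.ofOpSequence t
    let α : G ⋙ EtModW.epsPullMod Λ X ⟶ Q := NatTrans.ofOpSequence (fun n => (iE' n).hom) (by
      intro n
      show (EtModW.epsPullMod Λ X).map (G.map (homOfLE (Nat.le_add_right n 1)).op) ≫ (iE' n).hom =
        (iE' (n + 1)).hom ≫ Q.map (homOfLE (Nat.le_add_right n 1)).op
      have hG : G.map (homOfLE (Nat.le_add_right n 1)).op = t n :=
        Functor.ofOpSequence_map_homOfLE_succ t n
      have hm : (EtModW.epsPullMod Λ X).map (t n) =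
          (iE' (n + 1)).hom ≫ Q.map (homOfLE (Nat.le_add_right n 1)).op ≫ (iE' n).inv :=
        (EtModW.epsPullMod Λ X).map_preimage _
      have hm' : (EtModW.epsPullMod Λ X).map (t n) ≫ (iE' n).hom =
          (iE' (n + 1)).hom ≫ Q.map (homOfLE (Nat.le_add_right n 1)).op := by
        rw [hm, Category.assoc, Category.assoc, Iso.inv_hom_id, Category.comp_id]
      rw [hG]
      exact hm')
    haveI : IsIso α := by
      apply (config := { allowSynthFailures := true }) NatIso.isIso_of_isIso_app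
      intro k
      show IsIso (iE' k.unop).hom
      infer_instance
    have hQmap : ∀ (n m : ℕ) (h : n ≤ m), ARSys.IsQuot (I ^ (n + 1)) (Q.map (homOfLE h).op) := by
      intro n m h
      have hnat : p.app (op m) ≫ Q.map (homOfLE h).op = p.app (op n) := by
        have := p.naturality (homOfLE h).op
        simp only [Functor.const_obj_obj, Functor.const_obj_map, Category.id_comp] at this
        exact this.symm
      refine isQuot_of_comp (I ^ (n + 1)) (I ^ (m + 1)) (Ideal.pow_le_pow_right (by omega)) _ _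
        (hq m) ?_
      rw [hnat]
      exact hq n
    refine ⟨G, ⟨?_, ?_⟩, hE, ⟨?_⟩⟩
    · intro n
      apply killedBy_of_obj adj hR
      exact (isQuot_iso_conj (I ^ (n + 1)) (p.app (op n)) (hq n) (Iso.refl _) (iE' n).symm).1
    · intro n m h
      apply isQuot_of_map adj hR
      have hnat : (EtModW.epsPullMod Λ X).map (G.map (homOfLE h).op) =
          (iE' m).hom ≫ Q.map (homOfLE h).op ≫ (iE' n).inv := by
        have := α.naturality (homOfLE h).op
        have h2 : (EtModW.epsPullMod Λ X).map (G.map (homOfLE h).op) ≫ (iE' n).hom =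
            (iE' m).hom ≫ Q.map (homOfLE h).op := this
        rw [← Category.assoc]
        exact (Iso.eq_comp_inv (iE' n)).2 h2
      show ARSys.IsQuot _ ((EtModW.epsPullMod Λ X).map (G.map (homOfLE h).op))
      rw [hnat]
      exact isQuot_iso_conj _ _ (hQmap n m h) (iE' m) (iE' n).symm
    · haveI := hiso
      exact (HasLimit.isoOfNatIso (asIso α)) ≪≫ (asIso (limit.lift Q (Cone.mk F p))).symm
  · rintro ⟨G, hG, hc, ⟨e⟩⟩
    let p : (Functor.const ℕᵒᵖ).obj F ⟶ G ⋙ EtModW.epsPullMod Λ X :=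
      { app := fun k => e.inv ≫ limit.π (G ⋙ EtModW.epsPullMod Λ X) k
        naturality := fun k k' f => by
          simp only [Functor.const_obj_obj, Functor.const_obj_map, Category.id_comp,
            Category.assoc, limit.w] }
    refine ⟨G ⋙ EtModW.epsPullMod Λ X, p, ?_, ?_, ?_⟩
    · intro n
      have h := Groth.Agent.H23.AdicMain.main Λ I hI G hG n
      have h2 := isQuot_iso_conj (I ^ (n + 1)) _ h e.symm (Iso.refl _)
      simpa using h2
    · intro n
      exact ⟨G.obj (op n), hc n, ⟨Iso.refl _⟩⟩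
    · have : limit.lift (G ⋙ EtModW.epsPullMod Λ X) (Cone.mk F p) = e.inv := by
        apply limit.hom_ext
        intro k
        rw [limit.lift_π]
      rw [this]
      infer_instance

end Groth.Agent.H23.AdicIff
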