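import Mathlib
import Groth.Prelude
import Groth.Agent.S0565
import Groth.Agent.H15.FlatLoc
import Groth.Agent.H63.StalkBaseChange
import Groth.Agent.Lead.CompleteNoetherian

/-!
# Regularity at points of the closed fibre of `B ⊗[A] Â`
-/

set_option autoImplicit false
set_option maxHeartbeats 800000
set_option linter.style.haveILetI false
set_option linter.unusedVariables false
set_option linter.unusedSectionVars false
universe u
open TensorProduct IsLocalRing

namespace Groth.Agent.H23.BcCplReg

variable (A : Type u) [CommRing A] [IsLocalRing A] [IsNoetherianRing A]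
  (B : Type u) [CommRing B] [Algebra A B]

local notation "Â" => AdicCompletion (maximalIdeal A) A

/-- every element of `Â` is congruent to an element of `A` modulo the maximal ideal. -/
theorem exists_sub_mem (z : Â) : ∃ a : A, z - algebraMap A Â a ∈ maximalIdeal Â := by
  obtain ⟨r, hr⟩ := (AdicCompletion.residueField_map_bijective A).2 (residue Â z)
  obtain ⟨a, rfl⟩ := residue_surjective r
  refine ⟨a, ?_⟩
  rw [IsLocalRing.ResidueField.map_residue] at hr
  rw [← Ideal.Quotient.eq]
  exact hr.symm

variable {A B}

/-- A prime of `B ⊗[A] Â` over the closed point of `Â` is extended from `B`. -/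
theorem eq_map_comap (q : Ideal (B ⊗[A] Â)) [q.IsPrime]
    (hq : q.comap (Algebra.TensorProduct.includeRight : Â →ₐ[A] B ⊗[A] Â).toRingHom =
      maximalIdeal Â) :
    q = (q.comap (algebraMap B (B ⊗[A] Â))).map (algebraMap B (B ⊗[A] Â)) := by
  set p := q.comap (algebraMap B (B ⊗[A] Â)) with hp
  set I := p.map (algebraMap B (B ⊗[A] Â)) with hI
  have hIq : I ≤ q := Ideal.map_comap_le
  have hm : ∀ a ∈ maximalIdeal A, algebraMap A B a ∈ p := by
    intro a ha
    rw [hp, Ideal.mem_comap]
    have h1 : algebraMap A Â a ∈ maximalIdeal Â := by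
      rw [AdicCompletion.maximalIdeal_eq_map]
      exact Ideal.mem_map_of_mem _ ha
    rw [← hq, Ideal.mem_comap] at h1
    have h2 : algebraMap B (B ⊗[A] Â) (algebraMap A B a) =
        (Algebra.TensorProduct.includeRight : Â →ₐ[A] B ⊗[A] Â).toRingHom (algebraMap A Â a) := by
      show algebraMap B (B ⊗[A] Â) (algebraMap A B a) =
        (Algebra.TensorProduct.includeRight : Â →ₐ[A] B ⊗[A] Â) (algebraMap A Â a)
      rw [AlgHom.commutes, ← IsScalarTower.algebraMap_apply]
    rw [h2]
    exact h1
  have hz : ∀ z ∈ maximalIdeal Â, ∀ b : B, b ⊗ₜ[A] z ∈ I := by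
    intro z hz
    rw [AdicCompletion.maximalIdeal_eq_map, Ideal.map] at hz
    induction hz using Submodule.span_induction with
    | mem z hz =>
      obtain ⟨a, ha, rfl⟩ := hz
      intro b
      have h1 : b ⊗ₜ[A] (algebraMap A Â a) = algebraMap B (B ⊗[A] Â) (algebraMap A B a * b) := by
        rw [Algebra.TensorProduct.algebraMap_apply, Algebra.algebraMap_self_apply,
          Algebra.algebraMap_eq_smul_one, Algebra.algebraMap_eq_smul_one (R := A) (A := B),
          TensorProduct.tmul_smul, smul_mul_assoc, one_mul, TensorProduct.smul_tmul']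
      rw [h1]
      exact Ideal.mem_map_of_mem _ (p.mul_mem_right _ (hm a ha))
    | zero => intro b; rw [TensorProduct.tmul_zero]; exact I.zero_mem
    | add x y _ _ hx hy => intro b; rw [TensorProduct.tmul_add]; exact I.add_mem (hx b) (hy b)
    | smul r x _ hx =>
      intro b
      have h1 : b ⊗ₜ[A] (r • x) = ((1 : B) ⊗ₜ[A] r) * (b ⊗ₜ[A] x) := by
        rw [Algebra.TensorProduct.tmul_mul_tmul, one_mul, smul_eq_mul]
      rw [h1]
      exact I.mul_mem_left _ (hx b)
  have main : ∀ c : B ⊗[A] Â, ∃ b : B, c - algebraMap B (B ⊗[A] Â) b ∈ I := by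
    intro c
    induction c using TensorProduct.induction_on with
    | zero => exact ⟨0, by simp⟩
    | tmul b z =>
      obtain ⟨a, ha⟩ := exists_sub_mem A z
      refine ⟨algebraMap A B a * b, ?_⟩
      have h1 : b ⊗ₜ[A] (algebraMap A Â a) = algebraMap B (B ⊗[A] Â) (algebraMap A B a * b) := by
        rw [Algebra.TensorProduct.algebraMap_apply, Algebra.algebraMap_self_apply,
          Algebra.algebraMap_eq_smul_one, Algebra.algebraMap_eq_smul_one (R := A) (A := B),
          TensorProduct.tmul_smul, smul_mul_assoc, one_mul, TensorProduct.smul_tmul']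
      rw [← h1, ← TensorProduct.tmul_sub]
      exact hz _ ha b
    | add x y hx hy =>
      obtain ⟨b1, h1⟩ := hx
      obtain ⟨b2, h2⟩ := hy
      refine ⟨b1 + b2, ?_⟩
      have : x + y - algebraMap B (B ⊗[A] Â) (b1 + b2) =
        (x - algebraMap B (B ⊗[A] Â) b1) + (y - algebraMap B (B ⊗[A] Â) b2) := by
        rw [map_add]; ring
      rw [this]
      exact I.add_mem h1 h2
  apply le_antisymm _ hIq
  intro c hc
  obtain ⟨b, hb⟩ := main c
  have h1 : algebraMap B (B ⊗[A] Â) b ∈ q := by
    have := q.sub_mem hc (hIq hb)
    simpa using this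
  have h2 : b ∈ p := h1
  have h3 : algebraMap B (B ⊗[A] Â) b ∈ I := Ideal.mem_map_of_mem _ h2
  have := I.add_mem hb h3
  simpa using this

/-- Regularity of `(B ⊗[A] Â)_q` for `q` over the closed point, in terms of `B_p`. -/
theorem regular_iff [Algebra.FiniteType A B] (q : Ideal (B ⊗[A] Â)) [q.IsPrime]
    (hq : q.comap (Algebra.TensorProduct.includeRight : Â →ₐ[A] B ⊗[A] Â).toRingHom =
      maximalIdeal Â) :
    IsRegularLocalRing (Localization.AtPrime q) ↔
      IsRegularLocalRing (Localization.AtPrime (q.comap (algebraMap B (B ⊗[A] Â)))) := by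
  haveI : IsNoetherianRing B := Algebra.FiniteType.isNoetherianRing A B
  haveI : IsNoetherianRing Â :=
    Groth.Agent.Lead.isNoetherianRing_adicCompletion (maximalIdeal A) (IsNoetherian.noetherian _)
  haveI : IsNoetherianRing (B ⊗[A] Â) := by
    haveI : IsNoetherianRing (Â ⊗[A] B) := Algebra.FiniteType.isNoetherianRing Â _
    exact isNoetherianRing_of_ringEquiv _ (Algebra.TensorProduct.comm A Â B).toRingEquiv
  haveI : Module.Flat A Â := AdicCompletion.flat_of_isNoetherian (maximalIdeal A)
  haveI : Module.Flat B (B ⊗[A] Â) := inferInstance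
  set p := q.comap (algebraMap B (B ⊗[A] Â)) with hp
  have hflat : (algebraMap B (B ⊗[A] Â)).Flat := RingHom.flat_algebraMap_iff.mpr inferInstance
  have hφflat := RingHom.Flat.localRingHom hflat q p rfl
  let φ : Localization.AtPrime p →+* Localization.AtPrime q :=
    Localization.localRingHom p q (algebraMap B (B ⊗[A] Â)) rfl
  letI : Algebra (Localization.AtPrime p) (Localization.AtPrime q) := φ.toAlgebra
  haveI : IsLocalHom (algebraMap (Localization.AtPrime p) (Localization.AtPrime q)) :=
    Localization.isLocalHom_localRingHom p q _ rfl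
  haveI : Module.Flat (Localization.AtPrime p) (Localization.AtPrime q) := hφflat
  constructor
  · intro h
    haveI := h
    exact Groth.Agent.S0565.result (Localization.AtPrime p) (Localization.AtPrime q)
  · intro h
    apply Groth.Agent.H15.FlatLoc.isRegularLocalRing_of_flat (A := Localization.AtPrime p) h
    -- the closed fibre is a field
    have hmax : EGA4.mB (Localization.AtPrime p) (Localization.AtPrime q) =
        maximalIdeal (Localization.AtPrime q) := by
      show (maximalIdeal (Localization.AtPrime p)).map φ = _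
      rw [← Localization.AtPrime.map_eq_maximalIdeal, ← Localization.AtPrime.map_eq_maximalIdeal,
        Ideal.map_map]
      have h1 : φ.comp (algebraMap B (Localization.AtPrime p)) =
          (algebraMap (B ⊗[A] Â) (Localization.AtPrime q)).comp (algebraMap B (B ⊗[A] Â)) := by
        ext x
        exact Localization.localRingHom_to_map p q _ rfl x
      rw [h1, ← Ideal.map_map, ← eq_map_comap q hq]
    have hmaxI : (EGA4.mB (Localization.AtPrime p) (Localization.AtPrime q)).IsMaximal := by
      rw [hmax]; exact IsLocalRing.maximalIdeal.isMaximal _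
    haveI := hmaxI
    have hfield : IsField (EGA4.FibRing (Localization.AtPrime p) (Localization.AtPrime q)) :=
      (Ideal.Quotient.maximal_ideal_iff_isField_quotient _).mp hmaxI
    haveI : IsPrincipalIdealRing (EGA4.FibRing (Localization.AtPrime p) (Localization.AtPrime q)) :=
      hfield.isPrincipalIdealRing
    haveI : IsDomain (EGA4.FibRing (Localization.AtPrime p) (Localization.AtPrime q)) :=
      Ideal.Quotient.isDomain _
    haveI : IsLocalRing (EGA4.FibRing (Localization.AtPrime p) (Localization.AtPrime q)) :=
      IsLocalRing.of_surjective' (Ideal.Quotient.mk _) Ideal.Quotient.mk_surjective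
    infer_instance

end Groth.Agent.H23.BcCplReg
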