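import Mathlib
import Groth.Prelude
import Groth.Agent.H63.StalkBaseChange

/-!
# Local rings of a base change `X ×_{Spec k} Spec K` along a ring map `k → K`

Generalization of `H63.StalkBaseChange.exists_prime_ringEquiv_stalk` to arbitrary commutative rings
`k → K`, recording also the contraction of the prime to `K` and finite-typeness of the chart.
-/

set_option autoImplicit false
set_option maxHeartbeats 800000
set_option linter.style.haveILetI false
set_option linter.unusedVariables false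
universe u
open CategoryTheory Limits AlgebraicGeometry TensorProduct

namespace Groth.Agent.H23.BcStalk

variable {k K : Type u} [CommRing k] [CommRing K] [Algebra k K] {X Y : Scheme.{u}}

/-- For a cartesian square `Y = X ×_{Spec k} Spec K` and `x' ∈ Y`: there is a `k`-algebra `B`
(sections of an affine open around the image `x` of `x'`), a prime `p` of `B` with `B_p ≅ O_{X,x}`,
and a prime `q'` of `K ⊗[k] B` over `p` and over the image of `x'` in `Spec K`, with
`(K ⊗ B)_{q'} ≅ O_{Y,x'}`. If `f` is locally of finite type, `B` is of finite type over `k`. -/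
theorem exists_chart (f : X ⟶ Spec (CommRingCat.of k)) (π : Y ⟶ X)
    (s : Y ⟶ Spec (CommRingCat.of K))
    (H : IsPullback π s f (Spec.map (CommRingCat.ofHom (algebraMap k K)))) (x' : Y) :
    ∃ (B : Type u) (_ : CommRing B) (_ : Algebra k B) (p : Ideal B) (_ : p.IsPrime)
      (q' : Ideal (K ⊗[k] B)) (_ : q'.IsPrime),
      (LocallyOfFiniteType f → Algebra.FiniteType k B) ∧
      q'.comap (Algebra.TensorProduct.includeRight : B →ₐ[k] K ⊗[k] B).toRingHom = p ∧
      q'.comap (algebraMap K (K ⊗[k] B)) = (s.base x').asIdeal ∧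
      Nonempty (Localization.AtPrime p ≃+* X.presheaf.stalk (π.base x')) ∧
      Nonempty (Localization.AtPrime q' ≃+* Y.presheaf.stalk x') := by
  -- affine open neighbourhood of `x`
  obtain ⟨U, hU, hxU, -⟩ := TopologicalSpace.Opens.isBasis_iff_nbhd.mp X.isBasis_affineOpens
    (U := ⊤) (x := π.base x') trivial
  have hU : IsAffineOpen U := hU
  let ι := Spec.map (CommRingCat.ofHom (algebraMap k K))
  let US : (Spec (CommRingCat.of k)).Opens := ⊤
  let UT : (Spec (CommRingCat.of K)).Opens := ⊤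
  have hUS : IsAffineOpen US := isAffineOpen_top _
  have hUT : IsAffineOpen UT := isAffineOpen_top _
  have hUST : UT ≤ ι ⁻¹ᵁ US := le_top
  have hUSX : U ≤ f ⁻¹ᵁ US := le_top
  let UY : Y.Opens := π ⁻¹ᵁ U ⊓ s ⁻¹ᵁ UT
  have hUY : UY = π ⁻¹ᵁ U ⊓ s ⁻¹ᵁ UT := rfl
  have hx'UY : x' ∈ UY := ⟨hxU, trivial⟩
  have hUY' : IsAffineOpen UY := by
    have : IsAffine _ := hUS
    have : IsAffine _ := hUT
    have : IsAffine _ := hU
    exact .of_isIso (Scheme.Hom.isPullback_resLE H hUST hUSX hUY).isoPullback.hom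
  have hiso := isIso_pushoutSection_of_isAffineOpen H hUST hUSX hUY hUS hUT hU
  have hPO := (isIso_pushoutSection_iff H hUST hUSX hUY).mp hiso
  -- transport to a pushout square over `k`
  let fk : CommRingCat.of k ⟶ Γ(X, U) :=
    (Scheme.ΓSpecIso (CommRingCat.of k)).inv ≫ f.appLE US U hUSX
  have hUYT : UY ≤ s ⁻¹ᵁ UT := by simp [UY]
  have hUYU : UY ≤ π ⁻¹ᵁ U := by simp [UY]
  let fK : CommRingCat.of K ⟶ Γ(Y, UY) :=
    (Scheme.ΓSpecIso (CommRingCat.of K)).inv ≫ s.appLE UT UY hUYT
  have hPO' : IsPushout fk (CommRingCat.ofHom (algebraMap k K)) (π.appLE U UY hUYU) fK := by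
    refine IsPushout.of_iso hPO (Scheme.ΓSpecIso (CommRingCat.of k)) (Iso.refl _)
      (Scheme.ΓSpecIso (CommRingCat.of K)) (Iso.refl _) ?_ ?_ ?_ ?_
    · simp [fk]
    · have : ι.appLE US UT hUST = ι.appTop := by
        rw [Scheme.Hom.appTop, Scheme.Hom.app_eq_appLE]
        rfl
      rw [this]
      exact Scheme.ΓSpecIso_naturality _
    · simp
    · simp [fK]
  letI algA : Algebra k Γ(X, U) := fk.hom.toAlgebra
  have hT := (CommRingCat.isPushout_tensorProduct k K Γ(X, U)).flip
  have hfk : CommRingCat.ofHom (algebraMap k Γ(X, U)) = fk := rfl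
  rw [hfk] at hT
  let e := hT.isoIsPushout _ _ hPO'
  have he_inl : CommRingCat.ofHom (Algebra.TensorProduct.includeRight (R := k) (A := K)
      (B := Γ(X, U))).toRingHom ≫ e.hom = π.appLE U UY hUYU :=
    hT.inl_isoIsPushout_hom _ _ hPO'
  have he_inr : CommRingCat.ofHom (algebraMap K (K ⊗[k] Γ(X, U))) ≫ e.hom = fK :=
    hT.inr_isoIsPushout_hom _ _ hPO'
  let eR : K ⊗[k] Γ(X, U) ≃+* Γ(Y, UY) := e.commRingCatIsoToRingEquiv
  -- primes
  let q'' : Ideal Γ(Y, UY) := (hUY'.primeIdealOf ⟨x', hx'UY⟩).asIdeal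
  let q' : Ideal (K ⊗[k] Γ(X, U)) := q''.comap eR.toRingHom
  let p : Ideal Γ(X, U) := (hU.primeIdealOf ⟨π.base x', hxU⟩).asIdeal
  have hp : q'.comap (Algebra.TensorProduct.includeRight : Γ(X, U) →ₐ[k] K ⊗[k] Γ(X, U)).toRingHom
      = p := by
    have h1 := IsAffineOpen.comap_primeIdealOf_appLE (f := π) U hU UY hUY' hUYU hx'UY
    have h2 := congrArg PrimeSpectrum.asIdeal h1
    refine Eq.trans ?_ h2
    show Ideal.comap _ (Ideal.comap eR.toRingHom q'') = Ideal.comap _ q''
    rw [Ideal.comap_comap]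
    congr 1
    rw [← he_inl]
    rfl
  have hK : q'.comap (algebraMap K (K ⊗[k] Γ(X, U))) = (s.base x').asIdeal := by
    have h1 := IsAffineOpen.comap_primeIdealOf_appLE (f := s) UT hUT UY hUY' hUYT hx'UY
    have h2 := congrArg PrimeSpectrum.asIdeal h1
    have h3 : (hUT.fromSpec (hUT.primeIdealOf ⟨s.base x', trivial⟩)) = s.base x' :=
      hUT.fromSpec_primeIdealOf ⟨s.base x', trivial⟩
    have h4 : hUT.fromSpec = Spec.map (Scheme.ΓSpecIso (CommRingCat.of K)).inv := by
      rw [IsAffineOpen.fromSpec_top, Scheme.isoSpec_Spec_inv]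
    rw [h4] at h3
    have h5 : ((hUT.primeIdealOf ⟨s.base x', trivial⟩).asIdeal).comap
        (Scheme.ΓSpecIso (CommRingCat.of K)).inv.hom = (s.base x').asIdeal :=
      congrArg PrimeSpectrum.asIdeal h3
    rw [← h5, ← h2]
    show Ideal.comap _ (Ideal.comap eR.toRingHom q'') = Ideal.comap _ (Ideal.comap _ q'')
    rw [Ideal.comap_comap, Ideal.comap_comap]
    congr 1
    have : fK.hom = (s.appLE UT UY hUYT).hom.comp (Scheme.ΓSpecIso (CommRingCat.of K)).inv.hom :=
      rfl
    rw [← this, ← he_inr]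
    rfl
  -- the stalks as localizations
  letI algx : Algebra Γ(X, U) (X.presheaf.stalk (π.base x')) :=
    TopCat.Presheaf.algebra_section_stalk X.presheaf ⟨π.base x', hxU⟩
  letI algx' : Algebra Γ(Y, UY) (Y.presheaf.stalk x') :=
    TopCat.Presheaf.algebra_section_stalk Y.presheaf ⟨x', hx'UY⟩
  haveI hlx : IsLocalization.AtPrime (X.presheaf.stalk (π.base x')) p :=
    hU.isLocalization_stalk ⟨π.base x', hxU⟩
  haveI hlx' : IsLocalization.AtPrime (Y.presheaf.stalk x') q'' :=
    hUY'.isLocalization_stalk ⟨x', hx'UY⟩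
  haveI hpp : p.IsPrime := (hU.primeIdealOf ⟨π.base x', hxU⟩).isPrime
  haveI hq''p : q''.IsPrime := (hUY'.primeIdealOf ⟨x', hx'UY⟩).isPrime
  haveI hq'p : q'.IsPrime := Ideal.comap_isPrime _ _
  refine ⟨Γ(X, U), inferInstance, algA, p, hpp, q', hq'p, ?_, hp, hK, ?_, ?_⟩
  · intro hft
    have h1 : (f.appLE US U hUSX).hom.FiniteType :=
      HasRingHomProperty.appLE (P := @LocallyOfFiniteType) f hft ⟨US, hUS⟩ ⟨U, hU⟩ hUSX
    have h2 : ((Scheme.ΓSpecIso (CommRingCat.of k)).inv).hom.FiniteType :=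
      RingHom.FiniteType.of_surjective _
        ((Scheme.ΓSpecIso (CommRingCat.of k)).symm.commRingCatIsoToRingEquiv.surjective)
    have h3 : fk.hom.FiniteType := RingHom.FiniteType.comp h1 h2
    exact h3
  · exact ⟨(IsLocalization.algEquiv p.primeCompl (Localization.AtPrime p)
      (X.presheaf.stalk (π.base x'))).toRingEquiv⟩
  · exact ⟨IsLocalization.ringEquivOfRingEquiv (M := q'.primeCompl) (T := q''.primeCompl)
        (Localization.AtPrime q') (Y.presheaf.stalk x') eR
        (Groth.Agent.H63.StalkBaseChange.primeCompl_map_ringEquiv eR q'')⟩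

end Groth.Agent.H23.BcStalk
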