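import Mathlib
import Groth.Prelude.Def_ProEtS
set_option autoImplicit false
open CategoryTheory CategoryTheory.Limits AlgebraicGeometry Opposite
universe u
open ProEtS

namespace Groth.Agent.H23.BigSmall

set_option backward.isDefEq.respectTransparency.types false in
theorem cocont (S : Scheme.{u}) : (Scheme.ProEt.forget S).IsCocontinuous (Scheme.ProEt.topology S)
    (Scheme.proetaleTopology.over S) := by
  have h : Scheme.ProEt.topology S =
      (Scheme.ProEt.forget S).restrictedTopology (Scheme.proetaleTopology.over S) :=
    MorphismProperty.toGrothendieck_comap_forget_eq_restrictedTopology _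
      Scheme.proetalePrecoverage_le_precoverage_weaklyEtale
  rw [h]
  infer_instance

attribute [local instance] cocont

noncomputable def adj2 (S : Scheme.{u}) : ((Scheme.ProEt.forget S).sheafPushforwardContinuous AddCommGrpCat.{u + 1} (Scheme.ProEt.topology S)
      (Scheme.proetaleTopology.over S)) ⊣ ((Scheme.ProEt.forget S).sheafPushforwardCocontinuous AddCommGrpCat.{u + 1} (Scheme.ProEt.topology S)
      (Scheme.proetaleTopology.over S)) := (Scheme.ProEt.forget S).sheafAdjunctionCocontinuous _ _ _

theorem isIso_counit (S : Scheme.{u}) : IsIso (adj2 S).counit := by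
  apply (config := { allowSynthFailures := true }) NatIso.isIso_of_isIso_app
  intro F
  rw [← isIso_iff_of_reflects_iso _ (sheafToPresheaf _ _)]
  change IsIso ((adj2 S).counit.app F).hom
  rw [adj2, Functor.sheafAdjunctionCocontinuous_counit_app_hom]
  rw [Functor.ranAdjunction_counit]
  apply (config := { allowSynthFailures := true }) NatIso.isIso_of_isIso_app
  intro X
  exact (Functor.isPointwiseRightKanExtensionRanCounit (Scheme.ProEt.forget S).op F.obj
    ((Scheme.ProEt.forget S).op.obj X)).isIso_hom_app

theorem isIso_unit (S : Scheme.{u}) : IsIso ((Scheme.ProEt.forget S).sheafAdjunctionContinuous AddCommGrpCat.{u + 1}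
      (Scheme.ProEt.topology S) (Scheme.proetaleTopology.over S)).unit := by
  exact (Adjunction.Triple.mk ((Scheme.ProEt.forget S).sheafAdjunctionContinuous AddCommGrpCat.{u + 1}
      (Scheme.ProEt.topology S) (Scheme.proetaleTopology.over S)) (adj2 S)).isIso_unit_iff_isIso_counit.2
      (isIso_counit S)




theorem isZero_rightDerived_of_exact {C D : Type*} [Category C] [Category D] [Abelian C] [Abelian D]
    [HasInjectiveResolutions C] (R : C ⥤ D) [R.Additive] [PreservesFiniteLimits R]
    [PreservesFiniteColimits R] (X : C) (q : ℕ) (hq : 0 < q) :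
    IsZero ((R.rightDerived q).obj X) := by
  obtain ⟨n, rfl⟩ : ∃ n, q = n + 1 := ⟨q - 1, by omega⟩
  let I : InjectiveResolution X := Classical.choice (HasInjectiveResolution.out (Z := X))
  refine IsZero.of_iso ?_ (I.isoRightDerivedObj R (n + 1))
  change IsZero (((R.mapHomologicalComplex (ComplexShape.up ℕ)).obj I.cocomplex).homology (n + 1))
  rw [← HomologicalComplex.exactAt_iff_isZero_homology]
  have h := I.cocomplex_exactAt_succ n
  exact ShortComplex.Exact.map h R

end Groth.Agent.H23.BigSmall
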