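import Mathlib
import Groth.Prelude.Def_BlowUp2
import Groth.Agent.H82.FiltColim

/-!
# The affine blow-up algebra as the colimit of `I^0 → I^1 → I^2 → ⋯` (helper23)

`A[I/a] = colim (I^n, ·a)` as `A`-modules (for `a ∈ I`).
-/

set_option autoImplicit false
set_option linter.unusedSectionVars false
set_option linter.style.haveILetI false

universe u

open CategoryTheory CategoryTheory.Limits

namespace Groth.Agent.H23.BlowupColim

variable {A : Type u} [CommRing A] (I : Ideal A) (a : A)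

/-- the inverse of `a` in `A_a` -/
noncomputable def uu : Localization.Away a := IsLocalization.Away.invSelf a

lemma map_mul_uu : algebraMap A (Localization.Away a) a * uu a = 1 :=
  IsLocalization.Away.mul_invSelf a

lemma uu_mul_map : uu a * algebraMap A (Localization.Away a) a = 1 := by
  rw [mul_comm]; exact map_mul_uu a

lemma uu_pow_mul_map_pow (n : ℕ) : uu a ^ n * algebraMap A (Localization.Away a) (a ^ n) = 1 := by
  rw [map_pow, ← mul_pow, uu_mul_map, one_pow]

lemma mk'_eq (x : A) :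
    IsLocalization.mk' (Localization.Away a) x ⟨a, Submonoid.mem_powers a⟩ =
      uu a * algebraMap A (Localization.Away a) x := by
  rw [uu, IsLocalization.Away.invSelf, mul_comm, IsLocalization.mul_mk'_eq_mk'_of_mul, mul_one]

/-- `y ↦ y / a^n` -/
noncomputable def fn (n : ℕ) : A →ₗ[A] Localization.Away a :=
  (LinearMap.mulLeft A (uu a ^ n)) ∘ₗ (Algebra.linearMap A (Localization.Away a))

@[simp] lemma fn_apply (n : ℕ) (y : A) :
    fn a n y = uu a ^ n * algebraMap A (Localization.Away a) y := rfl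

lemma fn_mem (n : ℕ) : ∀ y ∈ I ^ n, fn a n y ∈ BlowUp.affineAlgebra A I a := by
  induction n with
  | zero =>
    intro y _
    rw [fn_apply, pow_zero, one_mul]
    exact Subalgebra.algebraMap_mem _ y
  | succ n ih =>
    intro y hy
    rw [pow_succ'] at hy
    refine Submodule.mul_induction_on hy ?_ ?_
    · intro x hx z hz
      have h1 : fn a (n + 1) (x * z) = (uu a * algebraMap A _ x) * fn a n z := by
        rw [fn_apply, fn_apply, map_mul, pow_succ]; ring
      rw [h1]
      refine Subalgebra.mul_mem _ ?_ (ih z hz)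
      rw [← mk'_eq]
      exact Algebra.subset_adjoin ⟨x, hx, rfl⟩
    · intro x z hx hz
      rw [map_add]
      exact Subalgebra.add_mem _ hx hz

/-- `I^n → A[I/a]`, `y ↦ y/a^n` -/
noncomputable def iotaB (n : ℕ) : ↥(I ^ n) →ₗ[A] ↥(BlowUp.affineAlgebra A I a) :=
  LinearMap.codRestrict (Subalgebra.toSubmodule (BlowUp.affineAlgebra A I a))
    ((fn a n) ∘ₗ (I ^ n).subtype) (fun y => fn_mem I a n y.1 y.2)

@[simp] lemma iotaB_coe (n : ℕ) (y : ↥(I ^ n)) :
    ((iotaB I a n y : ↥(BlowUp.affineAlgebra A I a)) : Localization.Away a) =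
      uu a ^ n * algebraMap A (Localization.Away a) y.1 := rfl

variable (ha : a ∈ I)

include ha in
lemma mul_pow_mem {n m : ℕ} (h : n ≤ m) {y : A} (hy : y ∈ I ^ n) : a ^ (m - n) * y ∈ I ^ m := by
  have h1 : I ^ (m - n) * I ^ n = I ^ m := by
    rw [← pow_add]; congr 1; omega
  rw [← h1]
  exact Ideal.mul_mem_mul (Ideal.pow_mem_pow ha _) hy

/-- `I^n → I^m`, multiplication by `a^(m-n)` -/
noncomputable def sh (n m : ℕ) (h : n ≤ m) : ↥(I ^ n) →ₗ[A] ↥(I ^ m) :=
  (LinearMap.lsmul A A (a ^ (m - n))).restrict (p := I ^ n) (q := I ^ m)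
    (fun _ hy => mul_pow_mem I a ha h hy)

@[simp] lemma sh_coe (n m : ℕ) (h : n ≤ m) (y : ↥(I ^ n)) :
    ((sh I a ha n m h y : ↥(I ^ m)) : A) = a ^ (m - n) * y.1 := rfl

lemma iotaB_sh (n m : ℕ) (h : n ≤ m) (y : ↥(I ^ n)) :
    iotaB I a m (sh I a ha n m h y) = iotaB I a n y := by
  apply Subtype.ext
  rw [iotaB_coe, iotaB_coe, sh_coe, map_mul]
  have h1 : uu a ^ m = uu a ^ n * uu a ^ (m - n) := by
    rw [← pow_add]; congr 1; omega
  rw [h1]
  calc uu a ^ n * uu a ^ (m - n) * (algebraMap A _ (a ^ (m - n)) * algebraMap A _ y.1)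
      = (uu a ^ (m - n) * algebraMap A _ (a ^ (m - n))) * (uu a ^ n * algebraMap A _ y.1) := by
        ring
    _ = uu a ^ n * algebraMap A _ y.1 := by rw [uu_pow_mul_map_pow, one_mul]

include ha in
/-- every element of `A[I/a]` is `y/a^n` with `y ∈ I^n` -/
lemma exists_iotaB_eq (b : ↥(BlowUp.affineAlgebra A I a)) :
    ∃ (n : ℕ) (y : ↥(I ^ n)), iotaB I a n y = b := by
  obtain ⟨b, hb⟩ := b
  suffices h : ∃ (n : ℕ) (y : A), y ∈ I ^ n ∧ uu a ^ n * algebraMap A _ y = b by
    obtain ⟨n, y, hy, hyb⟩ := h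
    exact ⟨n, ⟨y, hy⟩, Subtype.ext hyb⟩
  refine Algebra.adjoin_induction (p := fun b _ => ∃ (n : ℕ) (y : A), y ∈ I ^ n ∧
    uu a ^ n * algebraMap A _ y = b) ?_ ?_ ?_ ?_ hb
  · rintro _ ⟨x, hx, rfl⟩
    exact ⟨1, x, by rwa [pow_one], by rw [pow_one, mk'_eq]⟩
  · intro r
    exact ⟨0, r, by rw [pow_zero, Ideal.one_eq_top]; trivial, by rw [pow_zero, one_mul]⟩
  · rintro _ _ _ _ ⟨n, y, hy, rfl⟩ ⟨m, z, hz, rfl⟩
    refine ⟨n + m, a ^ m * y + a ^ n * z, ?_, ?_⟩
    · refine Ideal.add_mem _ ?_ ?_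
      · rw [add_comm, pow_add]; exact Ideal.mul_mem_mul (Ideal.pow_mem_pow ha m) hy
      · rw [pow_add]; exact Ideal.mul_mem_mul (Ideal.pow_mem_pow ha n) hz
    · rw [map_add, map_mul, map_mul, pow_add]
      have e1 := uu_pow_mul_map_pow a m
      have e2 := uu_pow_mul_map_pow a n
      calc uu a ^ n * uu a ^ m * (algebraMap A _ (a ^ m) * algebraMap A _ y +
            algebraMap A _ (a ^ n) * algebraMap A _ z)
          = (uu a ^ m * algebraMap A _ (a ^ m)) * (uu a ^ n * algebraMap A _ y) +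
            (uu a ^ n * algebraMap A _ (a ^ n)) * (uu a ^ m * algebraMap A _ z) := by ring
        _ = _ := by rw [e1, e2, one_mul, one_mul]
  · rintro _ _ _ _ ⟨n, y, hy, rfl⟩ ⟨m, z, hz, rfl⟩
    refine ⟨n + m, y * z, ?_, ?_⟩
    · rw [pow_add]; exact Ideal.mul_mem_mul hy hz
    · rw [map_mul, pow_add]; ring

lemma exists_sh_eq_zero (n : ℕ) (y : ↥(I ^ n)) (hy : iotaB I a n y = 0) :
    ∃ (m : ℕ) (h : n ≤ m), sh I a ha n m h y = 0 := by
  have h1 : uu a ^ n * algebraMap A (Localization.Away a) y.1 = 0 := by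
    have := congrArg Subtype.val hy
    simpa using this
  have h2 : algebraMap A (Localization.Away a) y.1 = 0 := by
    have := congrArg (fun z => algebraMap A (Localization.Away a) (a ^ n) * z) h1
    simp only [mul_zero] at this
    rw [← mul_assoc, mul_comm (algebraMap A _ (a ^ n)), uu_pow_mul_map_pow, one_mul] at this
    exact this
  rw [IsLocalization.map_eq_zero_iff (Submonoid.powers a)] at h2
  obtain ⟨⟨_, l, rfl⟩, hl⟩ := h2
  refine ⟨n + l, Nat.le_add_right n l, Subtype.ext ?_⟩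
  rw [sh_coe]
  simpa using hl

/-! ### The colimit cocone -/

instance : IsDirected (ULift.{u} ℕ) (· ≤ ·) :=
  ⟨fun x y => ⟨⟨max x.down y.down⟩, le_max_left x.down y.down, le_max_right x.down y.down⟩⟩

lemma down_le {n m : ULift.{u} ℕ} (f : n ⟶ m) : n.down ≤ m.down := by
  have h : n ≤ m := leOfHom f
  exact h

/-- the diagram `I^0 → I^1 → ⋯` -/
noncomputable def DD : ULift.{u} ℕ ⥤ ModuleCat.{u} A where
  obj n := ModuleCat.of A ↥(I ^ n.down)
  map {n m} f := ModuleCat.ofHom (sh I a ha n.down m.down (down_le f))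
  map_id n := by
    refine ModuleCat.hom_ext (LinearMap.ext fun y => Subtype.ext ?_)
    show a ^ (n.down - n.down) * y.1 = y.1
    rw [Nat.sub_self, pow_zero, one_mul]
  map_comp {n m l} f g := by
    refine ModuleCat.hom_ext (LinearMap.ext fun y => Subtype.ext ?_)
    show a ^ (l.down - n.down) * y.1 = a ^ (l.down - m.down) * (a ^ (m.down - n.down) * y.1)
    have h1 : n.down ≤ m.down := down_le f
    have h2 : m.down ≤ l.down := down_le g
    rw [← mul_assoc, ← pow_add]
    congr 2; omega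

/-- the cocone with vertex `A[I/a]` -/
noncomputable def cc : Cocone (DD I a ha) where
  pt := ModuleCat.of A ↥(BlowUp.affineAlgebra A I a)
  ι :=
    { app := fun n => ModuleCat.ofHom (iotaB I a n.down)
      naturality := fun n m f => by
        refine ModuleCat.hom_ext (LinearMap.ext fun y => ?_)
        exact iotaB_sh I a ha n.down m.down (down_le f) y }

theorem nonempty_isColimit_cc : Nonempty (IsColimit (cc I a ha)) := by
  apply Groth.Agent.H82.FiltColim.nonempty_isColimit_of_rep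
  · intro b
    obtain ⟨n, y, hy⟩ := exists_iotaB_eq I a ha b
    exact ⟨⟨n⟩, y, hy⟩
  · intro n y hy
    obtain ⟨m, h, hm⟩ := exists_sh_eq_zero I a ha n.down y hy
    exact ⟨⟨m⟩, homOfLE (show (n : ULift.{u} ℕ) ≤ ⟨m⟩ from h), hm⟩

end Groth.Agent.H23.BlowupColim
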