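import Mathlib

/-!
# Algebra behind uniform bounds for `Tor(M, A/I^q)` (helper23)

For an ideal `I = I₀ ⊔ (a)` of a Noetherian ring `A` we work in `A[X]` with
`J = I₀ A[X] + (X)` and the monic (hence regular) element `y = X - a`.
* `mem_J_pow_iff` : `f ∈ J^q ↔ ∀ j, coeff f j ∈ I₀^(q-j)`;
* `map_eval_J_pow` : `eval_a (J^q) = I^q`;
* `exists_AR` : Artin–Rees, `y f ∈ J^q → f ∈ J^(q-k)`;
* `C_mul_mem_of_mul_mem` : `I^k` kills `(J^q : y)/J^q`;
* `exists_sub_mul_mem` : `eval_a f ∈ I^q → f ∈ J^q + (y)`.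
-/

set_option autoImplicit false

open Polynomial

namespace Groth.Agent.H23.TorPowAlg

universe u

variable {A : Type u} [CommRing A] (I₀ : Ideal A) (a : A)

/-- the ideal `I₀ A[X] + (X)` -/
noncomputable def J : Ideal A[X] := I₀.map C ⊔ Ideal.span {X}

/-- the element `X - a` -/
noncomputable def y : A[X] := X - C a

/-- polynomials whose `j`-th coefficient lies in `I₀^(q-j)` -/
noncomputable def NN (q : ℕ) : Ideal A[X] where
  carrier := {f | ∀ j, f.coeff j ∈ I₀ ^ (q - j)}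
  add_mem' := fun {f g} hf hg j => by
    rw [coeff_add]; exact Ideal.add_mem _ (hf j) (hg j)
  zero_mem' := fun j => by simp
  smul_mem' := fun g f hf j => by
    rw [smul_eq_mul, coeff_mul]
    refine Ideal.sum_mem _ fun p hp => ?_
    have hle : p.2 ≤ j := by
      have := Finset.HasAntidiagonal.mem_antidiagonal.mp hp
      omega
    exact Ideal.mul_mem_left _ _ (Ideal.pow_le_pow_right (by omega) (hf p.2))

lemma mem_NN {q : ℕ} {f : A[X]} : f ∈ NN I₀ q ↔ ∀ j, f.coeff j ∈ I₀ ^ (q - j) := Iff.rfl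

lemma mul_X_mem_NN {q : ℕ} {f : A[X]} (hf : f ∈ NN I₀ q) : f * X ∈ NN I₀ (q + 1) := by
  intro j
  rcases j with _ | j
  · simp
  · rw [coeff_mul_X]
    have := hf j
    rwa [show q + 1 - (j + 1) = q - j by omega]

lemma mul_mem_NN_of_coeff {q : ℕ} {f g : A[X]} (hf : f ∈ NN I₀ q) (hg : ∀ l, g.coeff l ∈ I₀) :
    f * g ∈ NN I₀ (q + 1) := by
  intro j
  rw [coeff_mul]
  refine Ideal.sum_mem _ fun p hp => ?_
  have hle : p.1 ≤ j := by
    have := Finset.HasAntidiagonal.mem_antidiagonal.mp hp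
    omega
  have h1 : f.coeff p.1 * g.coeff p.2 ∈ I₀ ^ (q - p.1 + 1) := by
    rw [pow_succ]
    exact Ideal.mul_mem_mul (hf p.1) (hg p.2)
  exact Ideal.pow_le_pow_right (by omega) h1

lemma J_pow_le_NN (q : ℕ) : J I₀ ^ q ≤ NN I₀ q := by
  induction q with
  | zero =>
    intro f _ j
    simp
  | succ q ih =>
    rw [pow_succ, Ideal.mul_le]
    intro f hf g hg
    have hf' := ih hf
    obtain ⟨g₁, hg₁, g₂, hg₂, rfl⟩ := Submodule.mem_sup.mp hg
    rw [mul_add]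
    refine Ideal.add_mem _ ?_ ?_
    · exact mul_mem_NN_of_coeff I₀ hf' (Ideal.mem_map_C_iff.mp hg₁)
    · obtain ⟨h, rfl⟩ := Ideal.mem_span_singleton.mp hg₂
      rw [← mul_assoc]
      exact Ideal.mul_mem_right _ _ (mul_X_mem_NN I₀ hf')

lemma C_mem_J_pow {m : ℕ} {r : A} (hr : r ∈ I₀ ^ m) : C r ∈ J I₀ ^ m := by
  have h1 : C r ∈ (I₀ ^ m).map (C : A →+* A[X]) := Ideal.mem_map_of_mem _ hr
  rw [Ideal.map_pow] at h1
  exact Ideal.pow_right_mono le_sup_left m h1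

lemma X_pow_mem_J_pow (j : ℕ) : (X : A[X]) ^ j ∈ J I₀ ^ j :=
  Ideal.pow_mem_pow (le_sup_right (a := I₀.map C) (Ideal.subset_span (Set.mem_singleton X))) j

lemma NN_le_J_pow (q : ℕ) : NN I₀ q ≤ J I₀ ^ q := by
  intro f hf
  rw [f.as_sum_support_C_mul_X_pow]
  refine Ideal.sum_mem _ fun j _ => ?_
  have h1 : C (f.coeff j) * X ^ j ∈ J I₀ ^ (q - j) * J I₀ ^ j :=
    Ideal.mul_mem_mul (C_mem_J_pow I₀ (hf j)) (X_pow_mem_J_pow I₀ j)
  rw [← pow_add] at h1
  exact Ideal.pow_le_pow_right (by omega) h1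

lemma mem_J_pow_iff {q : ℕ} {f : A[X]} : f ∈ J I₀ ^ q ↔ ∀ j, f.coeff j ∈ I₀ ^ (q - j) :=
  ⟨fun h => J_pow_le_NN I₀ q h, fun h => NN_le_J_pow I₀ q h⟩

lemma evalRingHom_surjective : Function.Surjective (evalRingHom a) := fun r => ⟨C r, by simp⟩

lemma map_eval_J_pow (q : ℕ) :
    (J I₀ ^ q).map (evalRingHom a) = (I₀ ⊔ Ideal.span {a}) ^ q := by
  rw [Ideal.map_pow]
  congr 1
  rw [J, Ideal.map_sup, Ideal.map_map, Ideal.map_span, Set.image_singleton]
  have h1 : (evalRingHom a).comp (C : A →+* A[X]) = RingHom.id A := by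
    ext r; simp
  rw [h1, Ideal.map_id]
  simp

lemma y_isRegular : IsRegular (y a) := (monic_X_sub_C a).isRegular

section Noeth

variable [IsNoetherianRing A]

/-- Artin–Rees for the regular element `y` -/
lemma exists_AR : ∃ k : ℕ, ∀ (q : ℕ) (f : A[X]), y a * f ∈ J I₀ ^ q → f ∈ J I₀ ^ (q - k) := by
  obtain ⟨k, hk⟩ := Ideal.exists_pow_inf_eq_pow_smul (R := A[X]) (M := A[X]) (J I₀)
    (Ideal.span {y a} : Ideal A[X])
  refine ⟨k, fun q f hf => ?_⟩
  by_cases hq : k ≤ q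
  · have h1 : y a * f ∈ (J I₀ ^ q • (⊤ : Submodule A[X] A[X]) ⊓ (Ideal.span {y a} : Ideal A[X]) :
        Submodule A[X] A[X]) := by
      refine Submodule.mem_inf.mpr ⟨?_, ?_⟩
      · have : (J I₀ ^ q • (⊤ : Submodule A[X] A[X])) = J I₀ ^ q := by
          rw [Ideal.smul_eq_mul]; exact Ideal.mul_top _
        rw [this]; exact hf
      · exact Ideal.mul_mem_right _ _ (Ideal.subset_span (Set.mem_singleton _))
    rw [hk q hq] at h1
    have h2 : y a * f ∈ J I₀ ^ (q - k) * Ideal.span {y a} := by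
      have h3 : (J I₀ ^ (q - k) • (J I₀ ^ k • (⊤ : Submodule A[X] A[X]) ⊓
          (Ideal.span {y a} : Ideal A[X])) : Submodule A[X] A[X]) ≤
          J I₀ ^ (q - k) * Ideal.span {y a} := by
        rw [← Ideal.smul_eq_mul]
        exact Submodule.smul_mono le_rfl inf_le_right
      exact h3 h1
    rw [mul_comm (J I₀ ^ (q - k)), Ideal.mem_span_singleton_mul] at h2
    obtain ⟨z, hz, hzf⟩ := h2
    have : z = f := (y_isRegular a).left hzf
    rwa [← this]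
  · rw [Nat.sub_eq_zero_of_le (by omega), pow_zero, Ideal.one_eq_top]
    exact Submodule.mem_top

end Noeth

/-- `I^k` kills `(J^q : y) / J^q` as soon as `(J^q : y) ⊆ J^(q-k)` -/
lemma C_mul_mem_of_mul_mem {k : ℕ}
    (hk : ∀ (q : ℕ) (f : A[X]), y a * f ∈ J I₀ ^ q → f ∈ J I₀ ^ (q - k))
    {d : A} (hd : d ∈ (I₀ ⊔ Ideal.span {a}) ^ k) {q : ℕ} {f : A[X]} (hf : y a * f ∈ J I₀ ^ q) :
    C d * f ∈ J I₀ ^ q := by
  rw [← map_eval_J_pow I₀ a k] at hd
  obtain ⟨D, hD, hDd⟩ := (Ideal.mem_map_iff_of_surjective _ (evalRingHom_surjective a)).mp hd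
  have hroot : (C d - D).IsRoot a := by
    simp only [IsRoot.def, eval_sub, eval_C]
    have : eval a D = d := hDd
    rw [this, sub_self]
  obtain ⟨h, hh⟩ := dvd_iff_isRoot.mpr hroot
  have hCd : C d = D + y a * h := by
    rw [y, ← hh]; ring
  rw [hCd, add_mul]
  refine Ideal.add_mem _ ?_ ?_
  · have h1 : D * f ∈ J I₀ ^ k * J I₀ ^ (q - k) := Ideal.mul_mem_mul hD (hk q f hf)
    rw [← pow_add] at h1
    by_cases hq : k ≤ q
    · rwa [show k + (q - k) = q by omega] at h1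
    · exact Ideal.pow_le_pow_right (by omega) h1
  · rw [mul_assoc, mul_comm h f, ← mul_assoc]
    exact Ideal.mul_mem_right _ _ hf

/-- exactness: `eval_a f ∈ I^q` implies `f ∈ J^q + (y)` -/
lemma exists_sub_mul_mem {q : ℕ} {f : A[X]} (hf : eval a f ∈ (I₀ ⊔ Ideal.span {a}) ^ q) :
    ∃ g : A[X], f - y a * g ∈ J I₀ ^ q := by
  rw [← map_eval_J_pow I₀ a q] at hf
  obtain ⟨g₀, hg₀, hg₀f⟩ := (Ideal.mem_map_iff_of_surjective _ (evalRingHom_surjective a)).mp hf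
  have hroot : (f - g₀).IsRoot a := by
    simp only [IsRoot.def, eval_sub]
    have : eval a g₀ = eval a f := hg₀f
    rw [this, sub_self]
  obtain ⟨g, hg⟩ := dvd_iff_isRoot.mpr hroot
  refine ⟨g, ?_⟩
  have : f - y a * g = g₀ := by rw [y, ← hg]; ring
  rw [this]; exact hg₀

lemma eval_mem_of_mem_J_pow {q : ℕ} {f : A[X]} (hf : f ∈ J I₀ ^ q) :
    eval a f ∈ (I₀ ⊔ Ideal.span {a}) ^ q := by
  rw [← map_eval_J_pow I₀ a q]
  exact Ideal.mem_map_of_mem (evalRingHom a) hf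

end Groth.Agent.H23.TorPowAlg
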