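import Mathlib
import Groth.Agent.H23.TorPowAlg

/-!
# The two short exact sequences relating `A[X]/J^q` and `A/I^q` (helper23)

`N_q = A[X]/J^q` (as `A`-module), `μ_q` = multiplication by `y = X - a`,
`W_q = ker μ_q`, `Y_q = im μ_q`, `E_q = A/I^q = coker μ_q`.
-/

set_option autoImplicit false
set_option linter.unusedSectionVars false

universe u

open CategoryTheory Polynomial

namespace Groth.Agent.H23.TorPowSeq

open Groth.Agent.H23.TorPowAlg

variable {A : Type u} [CommRing A] (I₀ : Ideal A) (a : A)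

/-- `J^q` as an `A`-submodule of `A[X]` -/
noncomputable def Jq (q : ℕ) : Submodule A A[X] := (J I₀ ^ q).restrictScalars A

lemma mem_Jq {q : ℕ} {f : A[X]} : f ∈ Jq I₀ q ↔ f ∈ J I₀ ^ q := Iff.rfl

/-- `N_q = A[X]/J^q` -/
abbrev Nq (q : ℕ) : Type u := A[X] ⧸ Jq I₀ q

/-- multiplication by `y` on `N_q` -/
noncomputable def mu (q : ℕ) : Nq I₀ q →ₗ[A] Nq I₀ q :=
  Submodule.mapQ _ _ (LinearMap.mulLeft A (y a)) (fun f hf => Ideal.mul_mem_left _ _ hf)

/-- transition `N_n → N_m` -/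
noncomputable def trN (n m : ℕ) (h : m ≤ n) : Nq I₀ n →ₗ[A] Nq I₀ m :=
  Submodule.mapQ _ _ LinearMap.id (fun _ hf => Ideal.pow_le_pow_right h hf)

/-- the ideal `I = I₀ + (a)` -/
abbrev II : Ideal A := I₀ ⊔ Ideal.span {a}

/-- evaluation `N_q → A/I^q` -/
noncomputable def ev (q : ℕ) : Nq I₀ q →ₗ[A] A ⧸ (II I₀ a) ^ q :=
  Submodule.mapQ _ _ (Polynomial.leval a) (fun _ hf => eval_mem_of_mem_J_pow I₀ a hf)

/-- transition `A/I^n → A/I^m` in the form of the statements -/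
noncomputable def trE (I : Ideal A) (n m : ℕ) (h : m ≤ n) : (A ⧸ I ^ n) →ₗ[A] (A ⧸ I ^ m) :=
  Submodule.mapQ (I ^ n) (I ^ m) LinearMap.id (Ideal.pow_le_pow_right h)

@[simp] lemma mu_mk (q : ℕ) (f : A[X]) :
    mu I₀ a q (Submodule.Quotient.mk f) = Submodule.Quotient.mk (y a * f) := rfl

@[simp] lemma trN_mk (n m : ℕ) (h : m ≤ n) (f : A[X]) :
    trN I₀ n m h (Submodule.Quotient.mk f) = Submodule.Quotient.mk f := rfl

@[simp] lemma ev_mk (q : ℕ) (f : A[X]) :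
    ev I₀ a q (Submodule.Quotient.mk f) = Submodule.Quotient.mk (eval a f) := rfl

@[simp] lemma trE_mk (I : Ideal A) (n m : ℕ) (h : m ≤ n) (r : A) :
    trE I n m h (Submodule.Quotient.mk r) = Submodule.Quotient.mk r := rfl

lemma mk_eq_zero_iff {q : ℕ} {f : A[X]} :
    (Submodule.Quotient.mk f : Nq I₀ q) = 0 ↔ f ∈ J I₀ ^ q :=
  Submodule.Quotient.mk_eq_zero _

lemma trN_mu (n m : ℕ) (h : m ≤ n) (w : Nq I₀ n) :
    trN I₀ n m h (mu I₀ a n w) = mu I₀ a m (trN I₀ n m h w) := by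
  obtain ⟨f, rfl⟩ := Submodule.Quotient.mk_surjective _ w
  rfl

lemma ev_trN (n m : ℕ) (h : m ≤ n) (w : Nq I₀ n) :
    ev I₀ a m (trN I₀ n m h w) = trE (II I₀ a) n m h (ev I₀ a n w) := by
  obtain ⟨f, rfl⟩ := Submodule.Quotient.mk_surjective _ w
  rfl

lemma ev_mu (q : ℕ) (w : Nq I₀ q) : ev I₀ a q (mu I₀ a q w) = 0 := by
  obtain ⟨f, rfl⟩ := Submodule.Quotient.mk_surjective _ w
  rw [mu_mk, ev_mk]
  have : eval a (y a * f) = 0 := by simp [y]
  rw [this]; rfl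

lemma ev_surjective (q : ℕ) : Function.Surjective (ev I₀ a q) := by
  intro z
  obtain ⟨r, rfl⟩ := Submodule.Quotient.mk_surjective _ z
  exact ⟨Submodule.Quotient.mk (C r), by rw [ev_mk, eval_C]⟩

lemma ker_ev (q : ℕ) : LinearMap.ker (ev I₀ a q) = LinearMap.range (mu I₀ a q) := by
  apply le_antisymm
  · intro w hw
    obtain ⟨f, rfl⟩ := Submodule.Quotient.mk_surjective _ w
    rw [LinearMap.mem_ker, ev_mk] at hw
    have hf : eval a f ∈ (II I₀ a) ^ q := (Submodule.Quotient.mk_eq_zero _).mp hw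
    obtain ⟨g, hg⟩ := exists_sub_mul_mem I₀ a hf
    refine ⟨Submodule.Quotient.mk g, ?_⟩
    rw [mu_mk, eq_comm, ← sub_eq_zero, ← Submodule.Quotient.mk_sub]
    exact (mk_eq_zero_iff I₀).mpr hg
  · rintro _ ⟨w, rfl⟩
    exact ev_mu I₀ a q w

/-! ### The short exact sequences -/

/-- `W_q → N_q` -/
noncomputable def f₁ (q : ℕ) : LinearMap.ker (mu I₀ a q) →ₗ[A] Nq I₀ q :=
  (LinearMap.ker (mu I₀ a q)).subtype

/-- `N_q → Y_q` -/
noncomputable def g₁ (q : ℕ) : Nq I₀ q →ₗ[A] LinearMap.range (mu I₀ a q) :=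
  (mu I₀ a q).rangeRestrict

/-- `Y_q → N_q` -/
noncomputable def f₂ (q : ℕ) : LinearMap.range (mu I₀ a q) →ₗ[A] Nq I₀ q :=
  (LinearMap.range (mu I₀ a q)).subtype

lemma exact₁ (q : ℕ) : Function.Exact (f₁ I₀ a q) (g₁ I₀ a q) := by
  rw [LinearMap.exact_iff, f₁, g₁, LinearMap.ker_rangeRestrict, Submodule.range_subtype]

lemma exact₂ (q : ℕ) : Function.Exact (f₂ I₀ a q) (ev I₀ a q) := by
  rw [LinearMap.exact_iff, f₂, Submodule.range_subtype, ker_ev]

/-- first sequence `0 → W_q → N_q → Y_q → 0` -/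
noncomputable def S₁ (q : ℕ) : ShortComplex (ModuleCat.{u} A) :=
  ShortComplex.mk (ModuleCat.ofHom (f₁ I₀ a q)) (ModuleCat.ofHom (g₁ I₀ a q)) (by
    rw [← ModuleCat.ofHom_comp, (exact₁ I₀ a q).linearMap_comp_eq_zero]; rfl)

/-- second sequence `0 → Y_q → N_q → A/I^q → 0` -/
noncomputable def S₂ (q : ℕ) : ShortComplex (ModuleCat.{u} A) :=
  ShortComplex.mk (ModuleCat.ofHom (f₂ I₀ a q)) (ModuleCat.ofHom (ev I₀ a q)) (by
    rw [← ModuleCat.ofHom_comp, (exact₂ I₀ a q).linearMap_comp_eq_zero]; rfl)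

lemma S₁_shortExact (q : ℕ) : (S₁ I₀ a q).ShortExact := by
  refine ModuleCat.shortComplex_shortExact (S₁ I₀ a q) ?_ ?_ ?_
  · show Function.Exact (ModuleCat.ofHom (f₁ I₀ a q)).hom (ModuleCat.ofHom (g₁ I₀ a q)).hom
    exact exact₁ I₀ a q
  · show Function.Injective (f₁ I₀ a q)
    exact Submodule.injective_subtype (LinearMap.ker (mu I₀ a q))
  · show Function.Surjective (g₁ I₀ a q)
    exact LinearMap.surjective_rangeRestrict (mu I₀ a q)

lemma S₂_shortExact (q : ℕ) : (S₂ I₀ a q).ShortExact := by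
  refine ModuleCat.shortComplex_shortExact (S₂ I₀ a q) ?_ ?_ ?_
  · show Function.Exact (ModuleCat.ofHom (f₂ I₀ a q)).hom (ModuleCat.ofHom (ev I₀ a q)).hom
    exact exact₂ I₀ a q
  · show Function.Injective (f₂ I₀ a q)
    exact Submodule.injective_subtype (LinearMap.range (mu I₀ a q))
  · show Function.Surjective (ev I₀ a q)
    exact ev_surjective I₀ a q

/-! ### Transition morphisms -/

/-- `W_n → W_m` -/
noncomputable def trW (n m : ℕ) (h : m ≤ n) :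
    LinearMap.ker (mu I₀ a n) →ₗ[A] LinearMap.ker (mu I₀ a m) :=
  (trN I₀ n m h).restrict (fun w hw => by
    rw [LinearMap.mem_ker] at hw ⊢
    rw [← trN_mu, hw, map_zero])

/-- `Y_n → Y_m` -/
noncomputable def trY (n m : ℕ) (h : m ≤ n) :
    LinearMap.range (mu I₀ a n) →ₗ[A] LinearMap.range (mu I₀ a m) :=
  (trN I₀ n m h).restrict (fun w hw => by
    obtain ⟨v, rfl⟩ := hw
    exact ⟨trN I₀ n m h v, (trN_mu I₀ a n m h v).symm⟩)

/-- morphism `S₁ n ⟶ S₁ m` -/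
noncomputable def φ₁ (n m : ℕ) (h : m ≤ n) : S₁ I₀ a n ⟶ S₁ I₀ a m where
  τ₁ := ModuleCat.ofHom (trW I₀ a n m h)
  τ₂ := ModuleCat.ofHom (trN I₀ n m h)
  τ₃ := ModuleCat.ofHom (trY I₀ a n m h)
  comm₁₂ := by
    refine ModuleCat.hom_ext (LinearMap.ext fun w => ?_)
    rfl
  comm₂₃ := by
    refine ModuleCat.hom_ext (LinearMap.ext fun w => ?_)
    apply Subtype.ext
    exact (trN_mu I₀ a n m h w).symm

/-- morphism `S₂ n ⟶ S₂ m` -/
noncomputable def φ₂ (n m : ℕ) (h : m ≤ n) : S₂ I₀ a n ⟶ S₂ I₀ a m where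
  τ₁ := ModuleCat.ofHom (trY I₀ a n m h)
  τ₂ := ModuleCat.ofHom (trN I₀ n m h)
  τ₃ := ModuleCat.ofHom (trE (II I₀ a) n m h)
  comm₁₂ := by
    refine ModuleCat.hom_ext (LinearMap.ext fun w => ?_)
    rfl
  comm₂₃ := by
    refine ModuleCat.hom_ext (LinearMap.ext fun w => ?_)
    exact ev_trN I₀ a n m h w

lemma trE_comp (I : Ideal A) (n m l : ℕ) (h : m ≤ n) (h' : l ≤ m) :
    ModuleCat.ofHom (trE I n m h) ≫ ModuleCat.ofHom (trE I m l h') =
      ModuleCat.ofHom (trE I n l (h'.trans h)) := by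
  refine ModuleCat.hom_ext (LinearMap.ext fun w => ?_)
  obtain ⟨r, rfl⟩ := Submodule.Quotient.mk_surjective _ w
  rfl

lemma trY_comp (n m l : ℕ) (h : m ≤ n) (h' : l ≤ m) :
    ModuleCat.ofHom (trY I₀ a n m h) ≫ ModuleCat.ofHom (trY I₀ a m l h') =
      ModuleCat.ofHom (trY I₀ a n l (h'.trans h)) := by
  refine ModuleCat.hom_ext (LinearMap.ext fun w => ?_)
  apply Subtype.ext
  obtain ⟨w, hw⟩ := w
  obtain ⟨f, rfl⟩ := Submodule.Quotient.mk_surjective _ w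
  rfl

/-! ### Artin–Rees consequences -/

section AR

variable {k : ℕ}
  (hk : ∀ (q : ℕ) (f : A[X]), y a * f ∈ J I₀ ^ q → f ∈ J I₀ ^ (q - k))

include hk

lemma trW_eq_zero (n : ℕ) : trW I₀ a n (n - k) (Nat.sub_le n k) = 0 := by
  refine LinearMap.ext fun w => ?_
  apply Subtype.ext
  obtain ⟨w, hw⟩ := w
  obtain ⟨f, rfl⟩ := Submodule.Quotient.mk_surjective _ w
  rw [LinearMap.mem_ker, mu_mk, mk_eq_zero_iff] at hw
  exact (mk_eq_zero_iff I₀).mpr (hk n f hw)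

lemma smul_W_eq_zero (q : ℕ) {d : A} (hd : d ∈ (II I₀ a) ^ k)
    (w : LinearMap.ker (mu I₀ a q)) : d • w = 0 := by
  apply Subtype.ext
  obtain ⟨w, hw⟩ := w
  obtain ⟨f, rfl⟩ := Submodule.Quotient.mk_surjective _ w
  rw [LinearMap.mem_ker, mu_mk, mk_eq_zero_iff] at hw
  show d • (Submodule.Quotient.mk f : Nq I₀ q) = 0
  rw [← Submodule.Quotient.mk_smul, mk_eq_zero_iff, Polynomial.smul_eq_C_mul]
  exact C_mul_mem_of_mul_mem I₀ a hk hd hw

end AR

/-! ### Coefficientwise decomposition of `N_q` -/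

/-- `j`-th coefficient `N_q → A/I₀^(q-j)` -/
noncomputable def pi (q j : ℕ) : Nq I₀ q →ₗ[A] A ⧸ I₀ ^ (q - j) :=
  Submodule.mapQ _ (I₀ ^ (q - j)) (Polynomial.lcoeff A j)
    (fun _ hf => (mem_J_pow_iff I₀).mp hf j)

/-- `r ↦ r X^j`, `A/I₀^m → N_q` for `q ≤ m + j` -/
noncomputable def iota (m j q : ℕ) (h : q ≤ m + j) : (A ⧸ I₀ ^ m) →ₗ[A] Nq I₀ q :=
  Submodule.mapQ (I₀ ^ m) _ (Polynomial.monomial j) (fun r hr => by
    refine (mem_J_pow_iff I₀).mpr fun l => ?_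
    show ((monomial j) r).coeff l ∈ _
    rw [coeff_monomial]
    split_ifs
    · exact Ideal.pow_le_pow_right (by omega) hr
    · exact zero_mem _)

@[simp] lemma pi_mk (q j : ℕ) (f : A[X]) :
    pi I₀ q j (Submodule.Quotient.mk f) = Submodule.Quotient.mk (f.coeff j) := rfl

@[simp] lemma iota_mk (m j q : ℕ) (h : q ≤ m + j) (r : A) :
    iota I₀ m j q h (Submodule.Quotient.mk r) = Submodule.Quotient.mk (monomial j r) := rfl

lemma decomp (q : ℕ) (w : Nq I₀ q) :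
    ∑ j ∈ Finset.range q, iota I₀ (q - j) j q (by omega) (pi I₀ q j w) = w := by
  obtain ⟨f, rfl⟩ := Submodule.Quotient.mk_surjective _ w
  simp only [pi_mk, iota_mk]
  have hsum : ∑ j ∈ Finset.range q, (Submodule.Quotient.mk (monomial j (f.coeff j)) : Nq I₀ q) =
      Submodule.Quotient.mk (∑ j ∈ Finset.range q, monomial j (f.coeff j)) :=
    (map_sum (Jq I₀ q).mkQ _ _).symm
  rw [hsum, eq_comm, ← sub_eq_zero, ← Submodule.Quotient.mk_sub,
    mk_eq_zero_iff, mem_J_pow_iff]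
  intro l
  by_cases hl : l < q
  · have : (f - ∑ j ∈ Finset.range q, monomial j (f.coeff j)).coeff l = 0 := by
      rw [coeff_sub, finsetSum_coeff]
      simp [coeff_monomial, hl]
    rw [this]; exact zero_mem _
  · rw [Nat.sub_eq_zero_of_le (by omega), pow_zero, Ideal.one_eq_top]; trivial

lemma decomp_hom (q : ℕ) :
    𝟙 (ModuleCat.of A (Nq I₀ q)) = ∑ j ∈ Finset.range q,
      ModuleCat.ofHom (pi I₀ q j) ≫ ModuleCat.ofHom (iota I₀ (q - j) j q (by omega)) := by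
  refine ModuleCat.hom_ext (LinearMap.ext fun w => ?_)
  simp only [ModuleCat.hom_id, ModuleCat.hom_sum, ModuleCat.hom_comp, ModuleCat.hom_ofHom,
    LinearMap.id_apply, LinearMap.sum_apply, LinearMap.comp_apply]
  exact (decomp I₀ q w).symm

lemma iota_trN (m j n n' c : ℕ) (h : n ≤ m + j) (h' : n' ≤ n) (h'' : n' ≤ (m - c) + j) :
    ModuleCat.ofHom (iota I₀ m j n h) ≫ ModuleCat.ofHom (trN I₀ n n' h') =
      ModuleCat.ofHom (trE I₀ m (m - c) (Nat.sub_le m c)) ≫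
        ModuleCat.ofHom (iota I₀ (m - c) j n' h'') := by
  refine ModuleCat.hom_ext (LinearMap.ext fun w => ?_)
  obtain ⟨r, rfl⟩ := Submodule.Quotient.mk_surjective _ w
  rfl

end Groth.Agent.H23.TorPowSeq
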