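import Mathlib
import Groth.Agent.H23.TorPowAlg
import Groth.Agent.H23.TorPowSeq
import Groth.Agent.H23.TorPowGen

/-!
# Uniform bounds for `Tor_i(M, A/I^q)`, `i >` number of generators (helper23)
-/

set_option autoImplicit false
set_option linter.unusedSectionVars false
set_option linter.style.haveILetI false

universe u

open CategoryTheory Polynomial

namespace Groth.Agent.H23.TorPowMain

open Groth.Agent.H23.TorPowAlg Groth.Agent.H23.TorPowSeq Groth.Agent.H23.TorPowGen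
open Groth.Agent.H82

variable {A : Type u} [CommRing A]

/-- strict form of uniform vanishing -/
def Zs (I : Ideal A) (thr c : ℕ) : Prop :=
  ∀ (M : ModuleCat.{u} A) (i n : ℕ), thr < i →
    (T M i).map (ModuleCat.ofHom (trE I n (n - c) (Nat.sub_le n c))) = 0

/-- flexible form of uniform vanishing -/
def Zf (I : Ideal A) (thr c : ℕ) : Prop :=
  ∀ (M : ModuleCat.{u} A) (i n m : ℕ) (h : m ≤ n), m + c ≤ n → thr < i →
    (T M i).map (ModuleCat.ofHom (trE I n m h)) = 0

lemma Zf_of_Zs {I : Ideal A} {thr c : ℕ} (h : Zs I thr c) : Zf I thr c := by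
  intro M i n m hmn hc hi
  have h1 : m ≤ n - c := by omega
  rw [← trE_comp I n (n - c) m (Nat.sub_le n c) h1, Functor.map_comp, h M i n hi, Limits.zero_comp]

lemma quot_pow_zero_eq_zero (I : Ideal A) (w : A ⧸ I ^ 0) : w = 0 := by
  obtain ⟨r, rfl⟩ := Submodule.Quotient.mk_surjective _ w
  refine (Submodule.Quotient.mk_eq_zero _).mpr ?_
  rw [pow_zero, Ideal.one_eq_top]; trivial

lemma trE_zero (I : Ideal A) (n : ℕ) : trE I n 0 (Nat.zero_le n) = 0 :=
  LinearMap.ext fun w => quot_pow_zero_eq_zero I _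

lemma Zs_of_Zf {I : Ideal A} {thr c : ℕ} (h : Zf I thr c) : Zs I thr c := by
  intro M i n hi
  by_cases hc : c ≤ n
  · exact h M i n (n - c) (Nat.sub_le n c) (by omega) hi
  · have h0 : n - c = 0 := by omega
    have : ∀ (m : ℕ) (hm : m = 0) (hmn : m ≤ n),
        (T M i).map (ModuleCat.ofHom (trE I n m hmn)) = 0 := by
      intro m hm hmn
      subst hm
      rw [trE_zero]
      exact Functor.map_zero _ _ _
    exact this _ h0 _

/-- base case: quotients by powers of `⊥` are flat -/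
lemma flat_quot_bot_pow (m : ℕ) : Module.Flat A (A ⧸ (⊥ : Ideal A) ^ m) := by
  rcases m with _ | m
  · haveI : Subsingleton (A ⧸ (⊥ : Ideal A) ^ 0) :=
      ⟨fun x y => (quot_pow_zero_eq_zero ⊥ x).trans (quot_pow_zero_eq_zero ⊥ y).symm⟩
    infer_instance
  · have h : (⊥ : Ideal A) ^ (m + 1) = ⊥ := by
      rw [← Ideal.zero_eq_bot]; exact zero_pow (Nat.succ_ne_zero m)
    rw [h]
    exact Module.Flat.of_linearEquiv (Submodule.quotEquivOfEqBot ⊥ rfl)

lemma Zs_bot (c : ℕ) : Zs (⊥ : Ideal A) 0 c := by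
  intro M i n hi
  haveI := flat_quot_bot_pow (A := A) n
  exact map_eq_zero_of_flat M i hi (A ⧸ (⊥ : Ideal A) ^ n) _

/-! ### Tor of `N_q` via the coefficient decomposition -/

section Decomp

variable (I₀ : Ideal A)

lemma map_trN_eq_zero {thr c₀ : ℕ} (IH : Zs I₀ thr c₀) (M : ModuleCat.{u} A) (i : ℕ)
    (hi : thr < i) (n n' : ℕ) (h : n' ≤ n) (hc : n' + c₀ ≤ n) :
    (T M i).map (ModuleCat.ofHom (trN I₀ n n' h)) = 0 := by
  have h1 : ModuleCat.ofHom (trN I₀ n n' h) =
      𝟙 (ModuleCat.of A (Nq I₀ n)) ≫ ModuleCat.ofHom (trN I₀ n n' h) := (Category.id_comp _).symm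
  rw [h1, decomp_hom I₀ n, Preadditive.sum_comp, Functor.map_sum]
  refine Finset.sum_eq_zero fun j hj => ?_
  have hj' : j < n := Finset.mem_range.mp hj
  rw [Category.assoc, iota_trN I₀ (n - j) j n n' c₀ (by omega) h (by omega), Functor.map_comp,
    Functor.map_comp, IH M i (n - j) hi, Limits.zero_comp, Limits.comp_zero]

lemma smul_N_eq_zero (M : ModuleCat.{u} A) (i : ℕ) (d : A)
    (hd : ∀ (m : ℕ) (x : (T M i).obj (ModuleCat.of A (A ⧸ I₀ ^ m))), d • x = 0) (q : ℕ)
    (x : (T M i).obj (ModuleCat.of A (Nq I₀ q))) : d • x = 0 := by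
  have h1 : x = ((T M i).map (𝟙 (ModuleCat.of A (Nq I₀ q)))) x := by
    rw [CategoryTheory.Functor.map_id]; rfl
  rw [h1, decomp_hom I₀ q, Functor.map_sum]
  simp only [ModuleCat.hom_sum, LinearMap.sum_apply, Finset.smul_sum]
  refine Finset.sum_eq_zero fun j _ => ?_
  rw [Functor.map_comp, FiltColim.app_comp, ← map_smul, hd, map_zero]

end Decomp

/-! ### The induction steps -/

section Step

variable [IsNoetherianRing A] (I₀ : Ideal A) (a : A)

theorem step_vanish {thr c₀ : ℕ} (IH : Zs I₀ thr c₀) : ∃ c, Zf (II I₀ a) (thr + 1) c := by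
  obtain ⟨k, hk⟩ := exists_AR I₀ a
  refine ⟨k + c₀ + c₀, ?_⟩
  intro M i n m hmn hc hi
  obtain ⟨j, rfl⟩ : ∃ j, i = j + 1 + 1 := ⟨i - 2, by omega⟩
  have hj : thr < j + 1 := by omega
  refine ModuleCat.hom_ext (LinearMap.ext fun x => ?_)
  have hn1 : n - k ≤ n := Nat.sub_le n k
  have hn2 : m + c₀ ≤ n - k := by omega
  have hn2' : m + c₀ ≤ n := by omega
  have hm2 : m ≤ m + c₀ := Nat.le_add_right m c₀
  -- chase 1 : `T_{j+1}(Y_n → Y_{m+c₀}) = 0`
  have c1 : ∀ x₁ : (T M (j + 1)).obj (ModuleCat.of A (LinearMap.range (mu I₀ a n))),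
      ((T M (j + 1)).map (ModuleCat.ofHom (trY I₀ a n (m + c₀) hn2'))) x₁ = 0 := by
    intro x₁
    have hz : (φ₁ I₀ a n (n - k) hn1).τ₁ = 0 := by
      show ModuleCat.ofHom (trW I₀ a n (n - k) hn1) = 0
      rw [trW_eq_zero I₀ a hk n]; rfl
    have := chaseA M (S₁_shortExact I₀ a n) (S₁_shortExact I₀ a (n - k))
      (φ₁ I₀ a n (n - k) hn1) (φ₁ I₀ a (n - k) (m + c₀) hn2) j x₁
      (by rw [hz, Functor.map_zero]; rfl)
      (map_trN_eq_zero I₀ IH M (j + 1) hj (n - k) (m + c₀) hn2 (by omega))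
    rw [← trY_comp I₀ a n (n - k) (m + c₀) hn1 hn2]
    exact this
  -- chase 2
  have := chaseA M (S₂_shortExact I₀ a n) (S₂_shortExact I₀ a (m + c₀))
    (φ₂ I₀ a n (m + c₀) hn2') (φ₂ I₀ a (m + c₀) m hm2) (j + 1) x (c1 _)
    (map_trN_eq_zero I₀ IH M (j + 1 + 1) (by omega) (m + c₀) m hm2 le_rfl)
  rw [← trE_comp (II I₀ a) n (m + c₀) m hn2' hm2]
  exact this

/-- uniform annihilation hypothesis -/
def Hann (I 𝔡 : Ideal A) (thr e : ℕ) : Prop :=
  ∀ (M : ModuleCat.{u} A) (i q : ℕ), thr ≤ i → ∀ d ∈ 𝔡 ^ e,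
    ∀ x : (T M i).obj (ModuleCat.of A (A ⧸ I ^ q)), d • x = 0

theorem step_ann (𝔡 : Ideal A) (h𝔡 : 𝔡 ≤ II I₀ a) {thr e₀ : ℕ} (hthr : 1 ≤ thr)
    (IH : Hann I₀ 𝔡 thr e₀) : ∃ e, Hann (II I₀ a) 𝔡 (thr + 1) e := by
  obtain ⟨k, hk⟩ := exists_AR I₀ a
  refine ⟨e₀ + (e₀ + k), ?_⟩
  intro M i q hi d hd x
  obtain ⟨j, rfl⟩ : ∃ j, i = j + 1 + 1 := ⟨i - 2, by omega⟩
  have hj : thr ≤ j + 1 := by omega
  have hle : 𝔡 ^ e₀ * (𝔡 ^ e₀ * (II I₀ a) ^ k) ≤ Ideal.torsionOf A _ x := by
    rw [Ideal.mul_le]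
    intro b hb r hr
    rw [Ideal.mem_torsionOf_iff]
    refine chaseB M (S₂_shortExact I₀ a q) (j + 1) r b ?_ ?_ x
    · intro w
      have hle2 : 𝔡 ^ e₀ * (II I₀ a) ^ k ≤ Ideal.torsionOf A _ w := by
        rw [Ideal.mul_le]
        intro b' hb' r' hr'
        rw [Ideal.mem_torsionOf_iff]
        refine chaseB M (S₁_shortExact I₀ a q) j r' b' ?_ ?_ w
        · intro w'
          exact smul_eq_zero_of_smul_id M j _ r'
            (fun v => smul_W_eq_zero I₀ a hk q hr' v) w'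
        · intro w'
          exact smul_N_eq_zero I₀ M (j + 1) b'
            (fun m x' => IH M (j + 1) m hj b' hb' x') q w'
      exact (Ideal.mem_torsionOf_iff _ _).mp (hle2 hr)
    · intro w
      exact smul_N_eq_zero I₀ M (j + 1 + 1) b
        (fun m x' => IH M (j + 1 + 1) m (by omega) b hb x') q w
  have hd' : d ∈ 𝔡 ^ e₀ * (𝔡 ^ e₀ * (II I₀ a) ^ k) := by
    rw [pow_add, pow_add] at hd
    exact Ideal.mul_mono_right (Ideal.mul_mono_right (Ideal.pow_right_mono h𝔡 k)) hd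
  exact (Ideal.mem_torsionOf_iff _ _).mp (hle hd')

end Step

/-! ### Final results -/

section Final

variable [IsNoetherianRing A]

theorem vanish_span (s : Finset A) : ∃ c, Zs (Ideal.span (s : Set A)) s.card c := by
  classical
  induction s using Finset.induction_on with
  | empty =>
    refine ⟨0, ?_⟩
    rw [Finset.coe_empty, Ideal.span_empty, Finset.card_empty]
    exact Zs_bot 0
  | insert b s hb ih =>
    obtain ⟨c₀, h₀⟩ := ih
    obtain ⟨c, hc⟩ := step_vanish (Ideal.span (s : Set A)) b h₀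
    refine ⟨c, ?_⟩
    rw [Finset.card_insert_of_notMem hb, Finset.coe_insert, Ideal.span_insert, sup_comm]
    exact Zs_of_Zf hc

lemma Hann_bot (𝔡 : Ideal A) : Hann (⊥ : Ideal A) 𝔡 1 0 := by
  intro M i q hi d _ x
  haveI := flat_quot_bot_pow (A := A) q
  rw [smul_eq_zero_of_flat M i (by omega) (A ⧸ (⊥ : Ideal A) ^ q) x, smul_zero]

theorem ann_gen : ∀ (n : ℕ) (s : Finset A), s.card = n → ∀ b ∈ s,
    ∃ e, Hann (Ideal.span (s : Set A)) (Ideal.span {b}) (n + 1) e := by
  classical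
  intro n
  induction n with
  | zero =>
    intro s hs b hb
    rw [Finset.card_eq_zero] at hs
    subst hs
    simp at hb
  | succ n ih =>
    intro s hs b hb
    rcases Nat.eq_zero_or_pos n with hn | hn
    · subst hn
      obtain ⟨b', hb'⟩ := Finset.card_eq_one.mp hs
      subst hb'
      have hbb : b = b' := Finset.mem_singleton.mp hb
      subst hbb
      obtain ⟨e, he⟩ := step_ann (⊥ : Ideal A) b (Ideal.span {b}) le_sup_right (le_refl 1)
        (Hann_bot _)
      refine ⟨e, ?_⟩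
      have hspan : Ideal.span ((({b} : Finset A)) : Set A) = II (⊥ : Ideal A) b := by
        rw [Finset.coe_singleton]; simp [II]
      rw [hspan]; exact he
    · obtain ⟨b', hb's, hne⟩ : ∃ b' ∈ s, b' ≠ b := by
        have h1 : 1 < s.card := by omega
        obtain ⟨x, hx, y, hy, hxy⟩ := Finset.one_lt_card.mp h1
        by_cases hxb : x = b
        · exact ⟨y, hy, fun h => hxy (hxb.trans h.symm)⟩
        · exact ⟨x, hx, hxb⟩
      have hcard : (s.erase b').card = n := by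
        rw [Finset.card_erase_of_mem hb's, hs]; rfl
      obtain ⟨e₀, he₀⟩ := ih (s.erase b') hcard b (Finset.mem_erase.mpr ⟨hne.symm, hb⟩)
      have hspan : Ideal.span (s : Set A) =
          II (Ideal.span ((s.erase b' : Finset A) : Set A)) b' := by
        conv_lhs => rw [← Finset.insert_erase hb's]
        rw [Finset.coe_insert, Ideal.span_insert, sup_comm]
      have hle : Ideal.span {b} ≤ II (Ideal.span ((s.erase b' : Finset A) : Set A)) b' := by
        rw [← hspan]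
        exact Ideal.span_mono (by simpa using hb)
      obtain ⟨e, he⟩ := step_ann _ b' (Ideal.span {b}) hle (by omega : 1 ≤ n + 1) he₀
      exact ⟨e, by rw [hspan]; exact he⟩

theorem ann_span (s : Finset A) :
    ∃ c, Hann (Ideal.span (s : Set A)) (Ideal.span (s : Set A)) (s.card + 1) c := by
  have h := ann_gen s.card s rfl
  choose! e he using h
  let E := s.sup e
  let Ju : Ideal A := Ideal.span ((fun b => b ^ E) '' (s : Set A))
  have hrad : Ideal.span (s : Set A) ≤ Ju.radical := by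
    rw [Ideal.span_le]
    intro b hb
    exact ⟨E, Ideal.subset_span ⟨b, hb, rfl⟩⟩
  obtain ⟨N, hN⟩ := Ideal.exists_pow_le_of_le_radical_of_fg hrad ⟨s, rfl⟩
  refine ⟨N, ?_⟩
  intro M i q hi d hd x
  have hle : Ju ≤ Ideal.torsionOf A _ x := by
    rw [Ideal.span_le]
    rintro _ ⟨b, hb, rfl⟩
    show b ^ E ∈ Ideal.torsionOf A _ x
    rw [Ideal.mem_torsionOf_iff]
    have hbE : b ^ E ∈ Ideal.span {b} ^ e b := by
      have h1 : e b ≤ E := Finset.le_sup (f := e) hb
      exact Ideal.pow_le_pow_right h1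
        (Ideal.pow_mem_pow (Ideal.subset_span (Set.mem_singleton b)) E)
    exact he b hb M i q hi _ hbE x
  exact (Ideal.mem_torsionOf_iff _ _).mp (hle (hN hd))

end Final

end Groth.Agent.H23.TorPowMain
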