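import Mathlib
import Groth.Prelude.Def_BlowUp2
import Groth.Agent.H23.BlowupColim
import Groth.Agent.H23.TorPowMain
import Groth.Agent.H82.TorSymm
import Groth.Agent.H82.TorColim

/-!
# `Tor_i^A(A[I/a_0], M)` is killed by a power of `I` for `i > t` (helper23)
-/

set_option autoImplicit false
set_option linter.unusedSectionVars false
set_option linter.style.haveILetI false

universe u

open CategoryTheory CategoryTheory.Limits

namespace Groth.Agent.H23.BlowupTor

open Groth.Agent.H23.TorPowGen Groth.Agent.H23.TorPowMain Groth.Agent.H23.BlowupColim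
open Groth.Agent.H82

variable {A : Type u} [CommRing A]

/-- the sequence `0 → I^q → A → A/I^q → 0` -/
noncomputable def SI (I : Ideal A) (q : ℕ) : ShortComplex (ModuleCat.{u} A) :=
  ShortComplex.mk (ModuleCat.ofHom (I ^ q).subtype) (ModuleCat.ofHom (I ^ q).mkQ) (by
    refine ModuleCat.hom_ext (LinearMap.ext fun y => ?_)
    exact (Submodule.Quotient.mk_eq_zero _).mpr y.2)

lemma SI_shortExact (I : Ideal A) (q : ℕ) : (SI I q).ShortExact := by
  refine ModuleCat.shortComplex_shortExact (SI I q) ?_ ?_ ?_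
  · show Function.Exact (ModuleCat.ofHom (I ^ q).subtype).hom (ModuleCat.ofHom (I ^ q).mkQ).hom
    intro y
    constructor
    · intro hy
      exact ⟨⟨y, (Submodule.Quotient.mk_eq_zero _).mp hy⟩, rfl⟩
    · rintro ⟨z, rfl⟩
      exact (Submodule.Quotient.mk_eq_zero _).mpr z.2
  · show Function.Injective (I ^ q).subtype
    exact Submodule.injective_subtype _
  · show Function.Surjective (I ^ q).mkQ
    exact Submodule.mkQ_surjective _

/-- annihilation passes from `Tor_{i+1}(M, A/I^q)` to `Tor_i(M, I^q)` -/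
lemma smul_tor_pow_eq_zero (I : Ideal A) (q : ℕ) (M : ModuleCat.{u} A) (i : ℕ) (hi : 0 < i) (d : A)
    (hd : ∀ z : (T M (i + 1)).obj (SI I q).X₃, d • z = 0)
    (x : (T M i).obj (SI I q).X₁) : d • x = 0 := by
  have hex := (TorColim.natLES_tor M).exact₁ (SI I q) (SI_shortExact I q) i
  rw [ShortComplex.moduleCat_exact_iff] at hex
  have h0 : ((T M i).map (SI I q).f) x = 0 :=
    smul_eq_zero_of_flat M i hi A _
  obtain ⟨z, hz⟩ := hex x h0
  have hz' : ((TorColim.natLES_tor M).δ (SI I q) (SI_shortExact I q) i) z = x := hz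
  rw [← hz', ← map_smul, hd z, map_zero]

/-- annihilation passes to the filtered colimit `A[I/a]` -/
lemma smul_tor_blowup_eq_zero (I : Ideal A) (a : A) (ha : a ∈ I) (M : ModuleCat.{u} A) (i : ℕ)
    (d : A) (hd : ∀ (n : ℕ) (x : (T M i).obj (ModuleCat.of A ↥(I ^ n))), d • x = 0)
    (y : (T M i).obj (ModuleCat.of A ↥(BlowUp.affineAlgebra A I a))) : d • y = 0 := by
  obtain ⟨hc⟩ := nonempty_isColimit_cc I a ha
  haveI := TorColim.preserves_tor M i (ULift.{u} ℕ)
  have hc' := isColimitOfPreserves (T M i) hc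
  have key : d • 𝟙 ((T M i).obj (ModuleCat.of A ↥(BlowUp.affineAlgebra A I a))) = 0 := by
    refine hc'.hom_ext fun n => ?_
    show (T M i).map (ModuleCat.ofHom (iotaB I a n.down)) ≫ (d • 𝟙 _) =
      (T M i).map (ModuleCat.ofHom (iotaB I a n.down)) ≫ 0
    rw [comp_zero, Linear.comp_smul, Category.comp_id]
    refine ModuleCat.hom_ext (LinearMap.ext fun x => ?_)
    show d • ((T M i).map (ModuleCat.ofHom (iotaB I a n.down))) x = 0
    rw [← map_smul]
    have : d • x = 0 := hd n.down x
    rw [this, map_zero]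
  have := FiltColim.app_congr key y
  exact this

variable [IsNoetherianRing A]

theorem main (t : ℕ) (a : Fin (t + 1) → A) : ∃ c : ℕ, ∀ (M : ModuleCat.{u} A) (i : ℕ), t + 1 ≤ i →
    ∀ x ∈ Ideal.span (Set.range a) ^ c,
    ∀ y : ((Tor (ModuleCat.{u} A) i).obj
      (ModuleCat.of A ↥(BlowUp.affineAlgebra A (Ideal.span (Set.range a)) (a 0)))).obj M,
      x • y = 0 := by
  classical
  have hspan : Ideal.span ((Finset.univ.image a : Finset A) : Set A) = Ideal.span (Set.range a) := by
    rw [Finset.coe_image, Finset.coe_univ, Set.image_univ]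
  have hcard : (Finset.univ.image a).card ≤ t + 1 := by
    refine Finset.card_image_le.trans ?_
    simp
  obtain ⟨c, hc⟩ := ann_span (Finset.univ.image a)
  rw [hspan] at hc
  have ha0 : a 0 ∈ Ideal.span (Set.range a) := Ideal.subset_span ⟨0, rfl⟩
  refine ⟨c, fun M i hi x hx y => ?_⟩
  obtain ⟨e⟩ := TorSymm.nonempty_tor_iso_flip (A := A) i
  -- transport to the second variable
  let B := ModuleCat.of A ↥(BlowUp.affineAlgebra A (Ideal.span (Set.range a)) (a 0))
  let φ : ((Tor (ModuleCat.{u} A) i).obj B).obj M ≅ (T M i).obj B := (e.app B).app M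
  have h1 : x • (φ.hom y) = 0 := by
    refine smul_tor_blowup_eq_zero _ (a 0) ha0 M i x (fun n w => ?_) _
    refine smul_tor_pow_eq_zero _ n M i (by omega) x (fun z => ?_) w
    exact hc M (i + 1) n (by omega) x hx z
  have h2 : φ.hom (x • y) = 0 := by rw [map_smul]; exact h1
  have h3 : φ.inv (φ.hom (x • y)) = x • y := by
    rw [← FiltColim.app_comp, Iso.hom_inv_id]; rfl
  rw [← h3, h2, map_zero]

end Groth.Agent.H23.BlowupTor
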