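import Mathlib
import Groth.Agent.H70.BranchCount

/-!
# Irreducible components through a point vs minimal primes of the stalk (helper23)
-/

set_option autoImplicit false
set_option linter.style.haveILetI false
set_option linter.unusedSectionVars false
universe u
open AlgebraicGeometry CategoryTheory TopologicalSpace

namespace Groth.Agent.H23.BranchStalk

/-- minimal primes of a localization at a prime `p` ↔ minimal primes contained in `p` -/
theorem encard_minimalPrimes_atPrime {R S : Type*} [CommRing R] [CommRing S] [Algebra R S]
    (p : Ideal R) [p.IsPrime] [IsLocalization.AtPrime S p] :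
    (minimalPrimes S).encard = {P : Ideal R | P ∈ minimalPrimes R ∧ P ≤ p}.encard := by
  have h1 : minimalPrimes S = Ideal.under R ⁻¹' (minimalPrimes R) := by
    have := IsLocalization.minimalPrimes_map p.primeCompl S (⊥ : Ideal R)
    rwa [Ideal.map_bot] at this
  have himg : (Ideal.comap (algebraMap R S)) '' (minimalPrimes S) =
      {P | P ∈ minimalPrimes R ∧ P ≤ p} := by
    ext P
    constructor
    · rintro ⟨Q, hQ, rfl⟩
      have hQ' : Q.under R ∈ minimalPrimes R := by rw [h1] at hQ; exact hQ
      refine ⟨hQ', ?_⟩
      have hQp : Q.IsPrime := hQ.1.1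
      have hd := ((IsLocalization.isPrime_iff_isPrime_disjoint p.primeCompl S Q).mp hQp).2
      intro x hx
      by_contra hxp
      exact Set.disjoint_left.mp hd hxp hx
    · rintro ⟨hP, hPp⟩
      have hPprime : P.IsPrime := hP.1.1
      have hdisj : Disjoint (p.primeCompl : Set R) P :=
        Set.disjoint_left.mpr (fun x hx hxP => hx (hPp hxP))
      have hc : (P.map (algebraMap R S)).under R = P :=
        IsLocalization.under_map_of_isPrime_disjoint p.primeCompl S hPprime hdisj
      refine ⟨P.map (algebraMap R S), ?_, hc⟩
      rw [h1]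
      show (P.map (algebraMap R S)).under R ∈ minimalPrimes R
      rw [hc]; exact hP
  rw [← himg, Set.InjOn.encard_image]
  intro Q _ Q' _ h
  have h' : Q.under R = Q'.under R := h
  rw [← IsLocalization.map_comap p.primeCompl S Q, ← IsLocalization.map_comap p.primeCompl S Q']
  show Ideal.map (algebraMap R S) (Q.under R) = Ideal.map (algebraMap R S) (Q'.under R)
  rw [h']

/-- On a scheme, the number of irreducible components through `u` is the number of minimal
primes of the local ring at `u`. -/
theorem encard_irreducibleComponents_eq_minimalPrimes_stalk {U : Scheme.{u}} (u : U) :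
    {Z : Set U | Z ∈ irreducibleComponents U ∧ u ∈ Z}.encard =
      (minimalPrimes (U.presheaf.stalk u)).encard := by
  obtain ⟨W, hW, huW, -⟩ :=
    exists_isAffineOpen_mem_and_subset (x := u) (U := (⊤ : U.Opens)) trivial
  rw [Groth.Agent.H70.BranchTop.encard_scheme u hW huW]
  letI algSt : Algebra Γ(U, W) (U.presheaf.stalk u) :=
    TopCat.Presheaf.algebra_section_stalk U.presheaf (⟨u, huW⟩ : W)
  haveI : IsLocalization.AtPrime (U.presheaf.stalk u) (hW.primeIdealOf ⟨u, huW⟩).asIdeal :=
    hW.isLocalization_stalk ⟨u, huW⟩
  exact (encard_minimalPrimes_atPrime (S := U.presheaf.stalk u)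
    (hW.primeIdealOf ⟨u, huW⟩).asIdeal).symm

end Groth.Agent.H23.BranchStalk
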