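import Mathlib
import Groth.Prelude.Def_Brnch

/-!
# Branch invariants are invariant under ring isomorphisms across universes (helper23)

For local rings `A : Type u`, `B : Type w` and `e : A ≃+* B`:
`IsUnibranch`, `IsGeomUnibranch`, `numBranches`, `numGeomBranches` agree.
-/

set_option autoImplicit false
set_option linter.style.haveILetI false
set_option linter.unusedSectionVars false

universe u w

open IsLocalRing

namespace Groth.Agent.H23.BranchULift

/-- A ring isomorphism induces an isomorphism of integral closures in total fraction rings. -/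
theorem exists_integralClosure_ringEquiv {A : Type u} {B : Type w} [CommRing A] [CommRing B]
    (e : A ≃+* B) :
    ∃ ψ : integralClosure A (FractionRing A) ≃+* integralClosure B (FractionRing B),
      ∀ a : A, ψ (algebraMap A _ a) = algebraMap B _ (e a) := by
  let ē : FractionRing A ≃+* FractionRing B := IsFractionRing.ringEquivOfRingEquiv e
  have hē : ∀ a, ē (algebraMap A (FractionRing A) a) = algebraMap B (FractionRing B) (e a) :=
    IsFractionRing.ringEquivOfRingEquiv_algebraMap e
  have hēs : ∀ b, ē.symm (algebraMap B (FractionRing B) b) =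
      algebraMap A (FractionRing A) (e.symm b) := by
    intro b
    apply ē.injective
    rw [ē.apply_symm_apply, hē, e.apply_symm_apply]
  have hint : ∀ x : FractionRing A, IsIntegral A x → IsIntegral B (ē x) := fun x hx =>
    IsIntegral.map_of_comp_eq (e : A →+* B) (ē : FractionRing A →+* FractionRing B)
      (by ext a; exact (hē a).symm) hx
  have hint' : ∀ y : FractionRing B, IsIntegral B y → IsIntegral A (ē.symm y) := fun y hy =>
    IsIntegral.map_of_comp_eq (e.symm : B →+* A) (ē.symm : FractionRing B →+* FractionRing A)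
      (by ext b; exact (hēs b).symm) hy
  let f : integralClosure A (FractionRing A) →+* integralClosure B (FractionRing B) :=
    { toFun := fun x => ⟨ē x.1, hint x.1 x.2⟩
      map_one' := Subtype.ext (map_one ē)
      map_mul' := fun x y => Subtype.ext (map_mul ē x.1 y.1)
      map_zero' := Subtype.ext (map_zero ē)
      map_add' := fun x y => Subtype.ext (map_add ē x.1 y.1) }
  let g : integralClosure B (FractionRing B) →+* integralClosure A (FractionRing A) :=
    { toFun := fun y => ⟨ē.symm y.1, hint' y.1 y.2⟩
      map_one' := Subtype.ext (map_one ē.symm)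
      map_mul' := fun x y => Subtype.ext (map_mul ē.symm x.1 y.1)
      map_zero' := Subtype.ext (map_zero ē.symm)
      map_add' := fun x y => Subtype.ext (map_add ē.symm x.1 y.1) }
  refine ⟨RingEquiv.ofRingHom f g ?_ ?_, fun a => Subtype.ext (hē a)⟩
  · apply RingHom.ext
    intro y
    exact Subtype.ext (ē.apply_symm_apply y.1)
  · apply RingHom.ext
    intro x
    exact Subtype.ext (ē.symm_apply_apply x.1)

section

variable {A : Type u} {B : Type w} [CommRing A] [CommRing B] (e : A ≃+* B)

lemma nilradical_eq_map : nilradical B = (nilradical A).map (e : A →+* B) := by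
  ext b
  rw [Ideal.map_comap_of_equiv, Ideal.mem_comap, mem_nilradical, mem_nilradical]
  exact (IsNilpotent.map_iff e.symm.injective).symm

/-- the induced isomorphism of reductions -/
noncomputable def redEquiv : CAlg2.red A ≃+* CAlg2.red B :=
  Ideal.quotientEquiv (nilradical A) (nilradical B) e (nilradical_eq_map e)

lemma redEquiv_mk (a : A) :
    redEquiv e (Ideal.Quotient.mk (nilradical A) a) = Ideal.Quotient.mk (nilradical B) (e a) :=
  rfl

/-- the induced isomorphism of normalizations -/
noncomputable def normEquiv : CAlg2.normRed A ≃+* CAlg2.normRed B :=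
  (exists_integralClosure_ringEquiv (redEquiv e)).choose

lemma normEquiv_algebraMap (x : CAlg2.red A) :
    normEquiv e (algebraMap (CAlg2.red A) (CAlg2.normRed A) x) =
      algebraMap (CAlg2.red B) (CAlg2.normRed B) (redEquiv e x) :=
  (exists_integralClosure_ringEquiv (redEquiv e)).choose_spec x

/-- the image of a maximal ideal -/
noncomputable def mapMax (m' : MaximalSpectrum (CAlg2.normRed A)) :
    MaximalSpectrum (CAlg2.normRed B) :=
  ⟨m'.asIdeal.map (normEquiv e : CAlg2.normRed A →+* CAlg2.normRed B),
    (Ideal.isMaximal_map_iff_of_bijective (normEquiv e : CAlg2.normRed A →+* CAlg2.normRed B)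
      (normEquiv e).bijective).mpr m'.isMaximal⟩

lemma mapMax_injective : Function.Injective (mapMax e) := by
  intro m₁ m₂ h
  have h1 : m₁.asIdeal.map (normEquiv e : CAlg2.normRed A →+* CAlg2.normRed B) =
      m₂.asIdeal.map (normEquiv e : CAlg2.normRed A →+* CAlg2.normRed B) :=
    congrArg MaximalSpectrum.asIdeal h
  have h2 := congrArg (Ideal.comap (normEquiv e : CAlg2.normRed A →+* CAlg2.normRed B)) h1
  rw [Ideal.comap_map_of_bijective (normEquiv e : CAlg2.normRed A →+* CAlg2.normRed B)
      (normEquiv e).bijective,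
    Ideal.comap_map_of_bijective (normEquiv e : CAlg2.normRed A →+* CAlg2.normRed B)
      (normEquiv e).bijective] at h2
  exact MaximalSpectrum.ext h2

/-- the induced isomorphism of residue fields of the normalization -/
noncomputable def quotEquiv (m' : Ideal (CAlg2.normRed A)) (n' : Ideal (CAlg2.normRed B))
    (h : n' = m'.map (normEquiv e : CAlg2.normRed A →+* CAlg2.normRed B)) :
    (CAlg2.normRed A ⧸ m') ≃+* (CAlg2.normRed B ⧸ n') :=
  Ideal.quotientEquiv m' n' (normEquiv e) h

/-- the composite `A → A'/m'` -/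
noncomputable def toRes (m' : Ideal (CAlg2.normRed A)) : A →+* CAlg2.normRed A ⧸ m' :=
  (Ideal.Quotient.mk m').comp
    ((algebraMap (CAlg2.red A) (CAlg2.normRed A)).comp (Ideal.Quotient.mk (nilradical A)))

lemma quotEquiv_toRes (m' : Ideal (CAlg2.normRed A)) (n' : Ideal (CAlg2.normRed B))
    (h : n' = m'.map (normEquiv e : CAlg2.normRed A →+* CAlg2.normRed B)) (a : A) :
    quotEquiv e m' n' h (toRes m' a) = toRes n' (e a) := by
  show Ideal.Quotient.mk n' (normEquiv e (algebraMap (CAlg2.red A) (CAlg2.normRed A)
    (Ideal.Quotient.mk (nilradical A) a))) = _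
  rw [normEquiv_algebraMap, redEquiv_mk]
  rfl

lemma ringExpChar_eq_of_ringEquiv {R : Type u} {S : Type w} [NonAssocSemiring R]
    [NonAssocSemiring S] (f : R ≃+* S) : ringExpChar S = ringExpChar R := by
  have h : ringChar S = ringChar R := by
    haveI : CharP S (ringChar R) :=
      charP_of_injective_ringHom (f := (f : R →+* S)) f.injective (ringChar R)
    exact ringChar.eq S (ringChar R)
  unfold ringExpChar
  rw [h]

end

section Local

variable {A : Type u} {B : Type w} [CommRing A] [CommRing B] [IsLocalRing A] [IsLocalRing B]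
  (e : A ≃+* B)

include e

theorem isUnibranch_of_ringEquiv (h : CAlg2.IsUnibranch A) : CAlg2.IsUnibranch B := by
  obtain ⟨hdom, hloc⟩ := h
  refine ⟨?_, ?_⟩
  · haveI := hdom
    exact MulEquiv.isDomain (CAlg2.red A) (redEquiv e).symm.toMulEquiv
  · haveI := hloc
    exact RingEquiv.isLocalRing (normEquiv e)

theorem isGeomUnibranch_of_ringEquiv (h : CAlg2.IsGeomUnibranch A) : CAlg2.IsGeomUnibranch B := by
  obtain ⟨huni, hres⟩ := h
  refine ⟨isUnibranch_of_ringEquiv e huni, ?_⟩
  intro n' hn' x
  let ψ : CAlg2.normRed A →+* CAlg2.normRed B := (normEquiv e : CAlg2.normRed A →+* CAlg2.normRed B)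
  let m' : Ideal (CAlg2.normRed A) := n'.comap ψ
  haveI hm' : m'.IsMaximal := Ideal.comap_isMaximal_of_surjective ψ (normEquiv e).surjective
  have hn'm' : n' = m'.map ψ := (Ideal.map_comap_of_surjective ψ (normEquiv e).surjective n').symm
  let χ := quotEquiv e m' n' hn'm'
  obtain ⟨k, hk⟩ := hres m' (χ.symm x)
  obtain ⟨a, ha⟩ := hk
  have ha' : toRes m' a = (χ.symm x) ^ (ringExpChar (CAlg2.normRed A ⧸ m')) ^ k := ha
  refine ⟨k, e a, ?_⟩
  show toRes n' (e a) = x ^ (ringExpChar (CAlg2.normRed B ⧸ n')) ^ k
  rw [← quotEquiv_toRes e m' n' hn'm', ha', map_pow, RingEquiv.apply_symm_apply]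
  have hp : ringExpChar (CAlg2.normRed B ⧸ n') = ringExpChar (CAlg2.normRed A ⧸ m') :=
    ringExpChar_eq_of_ringEquiv χ
  rw [hp]

theorem isGeomUnibranch_iff_of_ringEquiv : CAlg2.IsGeomUnibranch A ↔ CAlg2.IsGeomUnibranch B :=
  ⟨isGeomUnibranch_of_ringEquiv e, isGeomUnibranch_of_ringEquiv e.symm⟩

theorem isUnibranch_iff_of_ringEquiv : CAlg2.IsUnibranch A ↔ CAlg2.IsUnibranch B :=
  ⟨isUnibranch_of_ringEquiv e, isUnibranch_of_ringEquiv e.symm⟩

lemma minimalPrimes_finite_of_ringEquiv (h : (minimalPrimes B).Finite) :
    (minimalPrimes A).Finite := by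
  have h1 : minimalPrimes A = Ideal.comap (e : A →+* B) '' minimalPrimes B := by
    have := Ideal.comap_minimalPrimes_eq_of_surjective (f := (e : A →+* B)) e.surjective
      (⊥ : Ideal B)
    rw [Ideal.comap_bot_of_injective (e : A →+* B) e.injective] at this
    exact this
  rw [h1]
  exact h.image _

/-- the residue field isomorphism on algebraic closures -/
noncomputable def acEquiv :
    AlgebraicClosure (ResidueField A) ≃+* AlgebraicClosure (ResidueField B) :=
  IsAlgClosure.equivOfEquiv (AlgebraicClosure (ResidueField A))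
    (AlgebraicClosure (ResidueField B)) (ResidueField.mapEquiv e)

lemma acEquiv_toClosure (a : A) : acEquiv e (Brnch.toClosure A a) = Brnch.toClosure B (e a) := by
  show acEquiv e (algebraMap (ResidueField A) (AlgebraicClosure (ResidueField A))
    (residue A a)) = algebraMap (ResidueField B) (AlgebraicClosure (ResidueField B))
    (residue B (e a))
  rw [acEquiv, IsAlgClosure.equivOfEquiv_algebraMap]
  rfl

/-- transport of embeddings -/
noncomputable def embMap (m' : MaximalSpectrum (CAlg2.normRed A)) (σ : Brnch.Emb A m') :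
    Brnch.Emb B (mapMax e m') :=
  ⟨(acEquiv e).toRingHom.comp (σ.1.comp
    (quotEquiv e m'.asIdeal (mapMax e m').asIdeal rfl).symm.toRingHom), by
    apply RingHom.ext
    intro b
    obtain ⟨a, rfl⟩ := e.surjective b
    have h1 : Brnch.toResidue B (mapMax e m') (e a) =
        quotEquiv e m'.asIdeal (mapMax e m').asIdeal rfl (Brnch.toResidue A m' a) :=
      (quotEquiv_toRes e m'.asIdeal (mapMax e m').asIdeal rfl a).symm
    have h2 : σ.1 (Brnch.toResidue A m' a) = Brnch.toClosure A a :=
      RingHom.congr_fun σ.2 a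
    show acEquiv e (σ.1 ((quotEquiv e m'.asIdeal (mapMax e m').asIdeal rfl).symm
      (Brnch.toResidue B (mapMax e m') (e a)))) = _
    rw [h1, RingEquiv.symm_apply_apply, h2, acEquiv_toClosure]⟩

lemma embMap_injective (m' : MaximalSpectrum (CAlg2.normRed A)) :
    Function.Injective (embMap e m') := by
  intro σ₁ σ₂ h
  apply Subtype.ext
  apply RingHom.ext
  intro x
  have h1 := congrArg Subtype.val h
  have h2 := RingHom.congr_fun h1 (quotEquiv e m'.asIdeal (mapMax e m').asIdeal rfl x)
  have h3 : acEquiv e (σ₁.1 ((quotEquiv e m'.asIdeal (mapMax e m').asIdeal rfl).symm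
      (quotEquiv e m'.asIdeal (mapMax e m').asIdeal rfl x))) =
      acEquiv e (σ₂.1 ((quotEquiv e m'.asIdeal (mapMax e m').asIdeal rfl).symm
      (quotEquiv e m'.asIdeal (mapMax e m').asIdeal rfl x))) := h2
  rw [RingEquiv.symm_apply_apply] at h3
  exact (acEquiv e).injective h3

theorem numGeomBranches_le_of_ringEquiv :
    Brnch.numGeomBranches A ≤ Brnch.numGeomBranches B := by
  classical
  unfold Brnch.numGeomBranches
  by_cases hB : (minimalPrimes B).Finite
  · have hA : (minimalPrimes A).Finite := minimalPrimes_finite_of_ringEquiv e hB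
    rw [if_pos hA, if_pos hB]
    refine ENat.card_le_card_of_injective
      (f := fun p : (Σ m' : MaximalSpectrum (CAlg2.normRed A), Brnch.Emb A m') =>
        (⟨mapMax e p.1, embMap e p.1 p.2⟩ :
          Σ n' : MaximalSpectrum (CAlg2.normRed B), Brnch.Emb B n')) ?_
    rintro ⟨m₁, σ₁⟩ ⟨m₂, σ₂⟩ h
    have hm : m₁ = m₂ := mapMax_injective e (congrArg Sigma.fst h)
    subst hm
    have h2 : embMap e m₁ σ₁ = embMap e m₁ σ₂ := eq_of_heq (Sigma.mk.inj h).2
    rw [embMap_injective e m₁ h2]
  · rw [if_neg hB]
    exact le_top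

theorem numGeomBranches_eq_of_ringEquiv :
    Brnch.numGeomBranches A = Brnch.numGeomBranches B :=
  le_antisymm (numGeomBranches_le_of_ringEquiv e) (numGeomBranches_le_of_ringEquiv e.symm)

theorem numBranches_le_of_ringEquiv : Brnch.numBranches A ≤ Brnch.numBranches B := by
  classical
  unfold Brnch.numBranches
  by_cases hB : (minimalPrimes B).Finite
  · have hA : (minimalPrimes A).Finite := minimalPrimes_finite_of_ringEquiv e hB
    rw [if_pos hA, if_pos hB]
    exact ENat.card_le_card_of_injective (mapMax_injective e)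
  · rw [if_neg hB]
    exact le_top

theorem numBranches_eq_of_ringEquiv : Brnch.numBranches A = Brnch.numBranches B :=
  le_antisymm (numBranches_le_of_ringEquiv e) (numBranches_le_of_ringEquiv e.symm)

end Local

section ULift

variable (A : Type u) [CommRing A] [IsLocalRing A]

theorem isLocalRing_ulift : IsLocalRing (ULift.{w} A) :=
  RingEquiv.isLocalRing (ULift.ringEquiv (R := A)).symm

variable [IsLocalRing (ULift.{w} A)]

theorem isGeomUnibranch_ulift_iff :
    CAlg2.IsGeomUnibranch (ULift.{w} A) ↔ CAlg2.IsGeomUnibranch A :=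
  isGeomUnibranch_iff_of_ringEquiv ULift.ringEquiv

theorem isUnibranch_ulift_iff : CAlg2.IsUnibranch (ULift.{w} A) ↔ CAlg2.IsUnibranch A :=
  isUnibranch_iff_of_ringEquiv ULift.ringEquiv

theorem numGeomBranches_ulift : Brnch.numGeomBranches (ULift.{w} A) = Brnch.numGeomBranches A :=
  numGeomBranches_eq_of_ringEquiv ULift.ringEquiv

theorem numBranches_ulift : Brnch.numBranches (ULift.{w} A) = Brnch.numBranches A :=
  numBranches_eq_of_ringEquiv ULift.ringEquiv

end ULift

end Groth.Agent.H23.BranchULift
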