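import Mathlib
import Groth.Agent.H47.HensCompletion

/-!
# Dimension of components along a flat local map with `𝔪_S Ŝ = 𝔪_Ŝ`
-/

set_option autoImplicit false
set_option linter.style.haveILetI false
set_option linter.unusedSectionVars false
universe u
open IsLocalRing

namespace Groth.Agent.H23.C2Cpl

/-- For a ring map of local rings with `𝔪_R R' = 𝔪_R'` and `R'` Noetherian, `dim R' ≤ dim R`. -/
theorem ringKrullDim_le_of_map_maximalIdeal {R R' : Type*} [CommRing R] [CommRing R']
    [IsLocalRing R] [IsLocalRing R'] [IsNoetherianRing R] [IsNoetherianRing R'] (g : R →+* R')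
    (hg : (maximalIdeal R).map g = maximalIdeal R') : ringKrullDim R' ≤ ringKrullDim R := by
  algebraize [g]
  have hg' : (maximalIdeal R).map (algebraMap R R') = maximalIdeal R' := hg
  haveI : (maximalIdeal R').LiesOver (maximalIdeal R) := by
    constructor
    apply le_antisymm
    · rw [Ideal.under_def, ← Ideal.map_le_iff_le_comap, hg']
    · apply IsLocalRing.le_maximalIdeal
      exact (Ideal.comap_isPrime (algebraMap R R') (maximalIdeal R')).ne_top
  have h := Ideal.height_le_height_add_of_liesOver (maximalIdeal R) (maximalIdeal R')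
  rw [hg', Ideal.map_quotient_self] at h
  haveI : Nontrivial (R' ⧸ maximalIdeal R') :=
    Ideal.Quotient.nontrivial_iff.mpr (maximalIdeal.isMaximal R').ne_top
  rw [Ideal.height_bot, add_zero] at h
  rw [← IsLocalRing.maximalIdeal_height_eq_ringKrullDim,
    ← IsLocalRing.maximalIdeal_height_eq_ringKrullDim]
  exact_mod_cast h

/-- Noetherian bound for quotients. -/
theorem ringKrullDim_quotient_map_le {S S' : Type*} [CommRing S] [CommRing S'] [IsLocalRing S]
    [IsLocalRing S'] [IsNoetherianRing S] [IsNoetherianRing S'] (f : S →+* S')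
    (hmax : (maximalIdeal S).map f = maximalIdeal S') (I : Ideal S) (hI : I ≠ ⊤) :
    ringKrullDim (S' ⧸ I.map f) ≤ ringKrullDim (S ⧸ I) := by
  have hI' : I.map f ≠ ⊤ := by
    intro h
    have h1 : I.map f ≤ maximalIdeal S' := by
      rw [← hmax]
      exact Ideal.map_mono (IsLocalRing.le_maximalIdeal hI)
    rw [h] at h1
    exact (maximalIdeal.isMaximal S').ne_top (top_le_iff.mp h1)
  haveI : Nontrivial (S ⧸ I) := Ideal.Quotient.nontrivial_iff.mpr hI
  haveI : Nontrivial (S' ⧸ I.map f) := Ideal.Quotient.nontrivial_iff.mpr hI'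
  haveI : IsLocalRing (S ⧸ I) :=
    IsLocalRing.of_surjective' (Ideal.Quotient.mk I) Ideal.Quotient.mk_surjective
  haveI : IsLocalRing (S' ⧸ I.map f) :=
    IsLocalRing.of_surjective' (Ideal.Quotient.mk (I.map f)) Ideal.Quotient.mk_surjective
  refine ringKrullDim_le_of_map_maximalIdeal (Ideal.quotientMap (I.map f) f Ideal.le_comap_map) ?_
  rw [← IsLocalRing.map_maximalIdeal_of_surjective (Ideal.Quotient.mk I)
    Ideal.Quotient.mk_surjective, Ideal.map_map, Ideal.quotientMap_comp_mk, ← Ideal.map_map, hmax,
    IsLocalRing.map_maximalIdeal_of_surjective _ Ideal.Quotient.mk_surjective]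

/-- Faithfully flat bound for quotients. -/
theorem ringKrullDim_quotient_le_map {S S' : Type*} [CommRing S] [CommRing S'] [Algebra S S']
    [Module.FaithfullyFlat S S'] (I : Ideal S) :
    ringKrullDim (S ⧸ I) ≤ ringKrullDim (S' ⧸ I.map (algebraMap S S')) := by
  rw [ringKrullDim_quotient, ringKrullDim_quotient]
  unfold Order.krullDim
  refine iSup_le fun l => ?_
  let l' : LTSeries (PrimeSpectrum S) := l.map Subtype.val (fun _ _ h => h)
  obtain ⟨P₀, hP₀, hP₀l⟩ :=
    Ideal.exists_isPrime_liesOver_of_faithfullyFlat (B := S') l'.last.asIdeal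
  obtain ⟨L, hlen, -, spec⟩ := Ideal.exists_ltSeries_of_hasGoingDown l' P₀
  have hhead : L.head.asIdeal.under S = l'.head.asIdeal := by
    rw [← L.toList_getElem_zero_eq_head, ← l'.toList_getElem_zero_eq_head, Ideal.under_def]
    have : l'.toList[0] = (PrimeSpectrum.comap (algebraMap S S')) L.toList[0] := by
      rw [List.getElem_map_rev (PrimeSpectrum.comap (algebraMap S S')),
        List.getElem_of_eq spec.symm _]
    rw [PrimeSpectrum.ext_iff] at this
    exact this.symm
  have hIhead : I.map (algebraMap S S') ≤ L.head.asIdeal := by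
    rw [Ideal.map_le_iff_le_comap]
    have h1 : I ≤ l'.head.asIdeal := by
      have h2 : l'.head = l.head.1 := LTSeries.head_map _ _ _
      rw [h2]
      have := l.head.2
      rw [PrimeSpectrum.mem_zeroLocus] at this
      exact SetLike.coe_subset_coe.mp this
    rw [← hhead] at h1
    exact h1
  have hmem : ∀ i, L i ∈ PrimeSpectrum.zeroLocus (R := S') (I.map (algebraMap S S')) := by
    intro i
    rw [PrimeSpectrum.mem_zeroLocus]
    apply SetLike.coe_subset_coe.mpr
    have h1 : L.head ≤ L i := L.strictMono.monotone (Fin.zero_le i)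
    exact le_trans hIhead ((PrimeSpectrum.asIdeal_le_asIdeal _ _).mpr h1)
  let L' : LTSeries (PrimeSpectrum.zeroLocus (R := S') (I.map (algebraMap S S'))) :=
    { length := L.length
      toFun := fun i => ⟨L i, hmem i⟩
      step := fun i => L.step i }
  have h2 : (l.length : WithBot ℕ∞) = (L'.length : WithBot ℕ∞) := by
    have : L'.length = l.length := by
      show L.length = l.length
      rw [hlen]
      rfl
    rw [this]
  rw [h2]
  exact le_iSup (fun p : LTSeries (PrimeSpectrum.zeroLocus (R := S')
    (I.map (algebraMap S S'))) => (p.length : WithBot ℕ∞)) L'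

theorem eq_one_of_lt_two {d : WithBot ℕ∞} (h1 : 1 ≤ d) (h2 : ¬ (2 : WithBot ℕ∞) ≤ d) : d = 1 := by
  rw [not_le] at h2
  induction d using WithBot.recBotCoe with
  | bot => exact absurd h1 (by simp)
  | coe e =>
    induction e using ENat.recTopCoe with
    | top => exact absurd h2 (by simp)
    | coe k =>
      have h1' : 1 ≤ k := by exact_mod_cast h1
      have h2'' : ((k : ℕ∞) : WithBot ℕ∞) < ((2 : ℕ∞) : WithBot ℕ∞) := h2
      rw [WithBot.coe_lt_coe] at h2''
      have h2' : k < 2 := by exact_mod_cast h2''
      have : k = 1 := by omega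
      rw [this]
      rfl

/-- The comparison of the `c₂` conditions along `S → S'` flat local with `𝔪_S S' = 𝔪_S'`. -/
theorem c2_cpl_iff (S S' : Type u) [CommRing S] [CommRing S'] [IsLocalRing S] [IsLocalRing S']
    [IsNoetherianRing S] [IsNoetherianRing S'] [Algebra S S'] [Module.Flat S S']
    [IsLocalHom (algebraMap S S')]
    (hmax : (maximalIdeal S).map (algebraMap S S') = maximalIdeal S')
    (h1 : ∀ q ∈ minimalPrimes S', ringKrullDim (S' ⧸ q) = 1 →
      ∃ P ∈ minimalPrimes S, (P.map (algebraMap S S')).radical = q) :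
    (∀ P ∈ minimalPrimes S, (2 : WithBot ℕ∞) ≤ ringKrullDim (S ⧸ P)) ↔
      (∀ q ∈ minimalPrimes S', (2 : WithBot ℕ∞) ≤ ringKrullDim (S' ⧸ q)) := by
  haveI : Module.FaithfullyFlat S S' := Module.FaithfullyFlat.of_flat_of_isLocalHom
  constructor
  · intro h q hq
    by_contra hlt
    haveI hqp : q.IsPrime := hq.1.1
    by_cases hqm : q = maximalIdeal S'
    · have hP := Groth.Agent.H47.HensCompletion.comap_mem_minimalPrimes (S := S) hq
      have hPm : q.comap (algebraMap S S') = maximalIdeal S := by
        rw [hqm]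
        have hloc : IsLocalHom (algebraMap S S') := inferInstance
        exact ((IsLocalRing.local_hom_TFAE (algebraMap S S')).out 0 4).mp hloc
      rw [hPm] at hP
      have h2 := h _ hP
      have hF := (Ideal.Quotient.maximal_ideal_iff_isField_quotient (maximalIdeal S)).mp
        (maximalIdeal.isMaximal S)
      rw [ringKrullDim_eq_zero_of_isField hF] at h2
      exact absurd h2 (by norm_num)
    · have hqlt : q < maximalIdeal S' :=
        lt_of_le_of_ne (IsLocalRing.le_maximalIdeal hqp.ne_top) hqm
      have hge : (1 : WithBot ℕ∞) ≤ ringKrullDim (S' ⧸ q) := by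
        rw [ringKrullDim_quotient, Order.one_le_krullDim_iff]
        refine ⟨⟨⟨q, hqp⟩, ?_⟩, ⟨⟨maximalIdeal S', inferInstance⟩, ?_⟩, ?_⟩
        · rw [PrimeSpectrum.mem_zeroLocus]
        · rw [PrimeSpectrum.mem_zeroLocus]
          exact SetLike.coe_subset_coe.mpr hqlt.le
        · exact Subtype.mk_lt_mk.mpr ((PrimeSpectrum.asIdeal_lt_asIdeal _ _).mp hqlt)
      have hd := eq_one_of_lt_two hge hlt
      obtain ⟨P, hP, hPq⟩ := h1 q hq hd
      have h2 := h P hP
      have h3 := ringKrullDim_quotient_le_map (S' := S') P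
      have h4 : ringKrullDim (S' ⧸ P.map (algebraMap S S')) = ringKrullDim (S' ⧸ q) := by
        rw [ringKrullDim_quotient, ringKrullDim_quotient, ← hPq, PrimeSpectrum.zeroLocus_radical]
      rw [h4, hd] at h3
      exact absurd (le_trans h2 h3) (by norm_num)
  · intro h P hP
    haveI hPp : P.IsPrime := hP.1.1
    have hPtop : P.map (algebraMap S S') ≠ ⊤ := by
      intro htop
      have h1 : P.map (algebraMap S S') ≤ maximalIdeal S' := by
        rw [← hmax]
        exact Ideal.map_mono (IsLocalRing.le_maximalIdeal hPp.ne_top)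
      rw [htop] at h1
      exact (maximalIdeal.isMaximal S').ne_top (top_le_iff.mp h1)
    obtain ⟨q, hq⟩ := Ideal.nonempty_minimalPrimes hPtop
    obtain ⟨hqmin, -⟩ := Groth.Agent.H47.HensCompletion.minimalPrimes_map_subset hP hq
    have h2 := h q hqmin
    have h3 : ringKrullDim (S' ⧸ q) ≤ ringKrullDim (S' ⧸ P.map (algebraMap S S')) :=
      ringKrullDim_le_of_surjective (Ideal.Quotient.factor hq.1.2)
        (Ideal.Quotient.factor_surjective hq.1.2)
    have h4 := ringKrullDim_quotient_map_le (algebraMap S S') hmax P hPp.ne_top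
    exact le_trans h2 (le_trans h3 h4)

end Groth.Agent.H23.C2Cpl
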