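import Mathlib
import Groth.Prelude.Def_EGA4b
import Groth.Agent.H23.NagataAU
import Groth.Agent.H23.JapStab
import Groth.Agent.S0568
import Groth.Agent.S2646
import Groth.Agent.H34.ComplQuot
import Groth.Agent.H3.HInt
import Groth.Agent.H86.TameEisenstein
import Groth.Agent.H54.IntegralDim
import Groth.Agent.H87.ComplFlat

/-!
# The `c_2` condition under flat local homomorphisms (helper23)

`main`: if `R₀` is a complete Noetherian local ring all of whose irreducible components have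
dimension `≥ 2` and `R₀ → S₀` is a flat local homomorphism of Noetherian local rings, then all
irreducible components of `Spec S₀` have dimension `≥ 2`.
-/

set_option autoImplicit false
set_option maxHeartbeats 800000
set_option linter.style.haveILetI false
set_option linter.unusedVariables false
set_option linter.unusedSectionVars false

universe u

open TensorProduct IsLocalRing

namespace Groth.Agent.H23.C2Flat

theorem two_le_ringKrullDim_quotient {S : Type*} [CommRing S] (Q P1 P2 : Ideal S) [Q.IsPrime]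
    [P1.IsPrime] [P2.IsPrime] (h1 : Q < P1) (h2 : P1 < P2) :
    (2 : WithBot ℕ∞) ≤ ringKrullDim (S ⧸ Q) := by
  rw [ringKrullDim_quotient]
  let a0 : PrimeSpectrum.zeroLocus (Q : Set S) :=
    ⟨⟨Q, inferInstance⟩, (PrimeSpectrum.mem_zeroLocus _ _).mpr (fun a ha => ha)⟩
  let a1 : PrimeSpectrum.zeroLocus (Q : Set S) :=
    ⟨⟨P1, inferInstance⟩, (PrimeSpectrum.mem_zeroLocus _ _).mpr (fun a ha => h1.le ha)⟩
  let a2 : PrimeSpectrum.zeroLocus (Q : Set S) :=
    ⟨⟨P2, inferInstance⟩, (PrimeSpectrum.mem_zeroLocus _ _).mpr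
      (fun a ha => (h1.trans h2).le ha)⟩
  have h01 : a0 < a1 := h1
  have h12 : a1 < a2 := h2
  let l : LTSeries (PrimeSpectrum.zeroLocus (Q : Set S)) := LTSeries.mk 2 ![a0, a1, a2] (by
    rw [Fin.strictMono_iff_lt_succ]
    intro i
    fin_cases i
    · exact h01
    · exact h12)
  have := Order.LTSeries.length_le_krullDim l
  exact_mod_cast this

/-- Core: an associated prime `Q` of a finite module `M` over a Noetherian local ring admitting an
`M`-regular sequence `x, y` of length two in the maximal ideal has a chain `Q < P1 < m`. -/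
theorem core {S : Type*} [CommRing S] [IsNoetherianRing S] [IsLocalRing S] {M : Type*}
    [AddCommGroup M] [Module S M] [Module.Finite S M]
    (Q : Ideal S) (hQ : Q ∈ associatedPrimes S M) (x y : S) (hxm : x ∈ maximalIdeal S)
    (hym : y ∈ maximalIdeal S) (hx : ∀ m : M, x • m = 0 → m = 0)
    (hy : ∀ m : M, (∃ m', y • m = x • m') → ∃ m'', m = x • m'') :
    ∃ P1 : Ideal S, P1.IsPrime ∧ Q < P1 ∧ P1 < maximalIdeal S := by
  obtain ⟨hQp, m₀, hm₀⟩ := isAssociatedPrime_iff.mp hQ
  have hQmem : ∀ s, s ∈ Q ↔ s • m₀ = 0 := by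
    intro s; rw [hm₀, Submodule.mem_colon_singleton, Submodule.mem_bot]
  have hm₀ne : m₀ ≠ 0 := by
    rintro rfl
    exact hQp.ne_top ((Ideal.eq_top_iff_one _).mpr ((hQmem 1).mpr (smul_zero _)))
  have hxQ : x ∉ Q := fun h => hm₀ne (hx m₀ ((hQmem x).mp h))
  let N : Submodule S M :=
    { carrier := {m | ∀ q ∈ Q, q • m = 0}
      add_mem' := fun {a b} ha hb q hq => by rw [smul_add, ha q hq, hb q hq, add_zero]
      zero_mem' := fun q _ => smul_zero q
      smul_mem' := fun c m hm q hq => by rw [smul_comm, hm q hq, smul_zero] }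
  have hm₀N : m₀ ∈ N := fun q hq => (hQmem q).mp hq
  let xM : Submodule S M := LinearMap.range (LinearMap.lsmul S M x)
  have hxMmem : ∀ m, m ∈ xM ↔ ∃ m', x • m' = m := fun m => LinearMap.mem_range
  have hex : ∃ n ∈ N, n ∉ xM := by
    by_contra hcon
    push Not at hcon
    have hle : N ≤ (Ideal.span {x}) • N := by
      intro n hn
      obtain ⟨m', rfl⟩ := (hxMmem n).mp (hcon n hn)
      have hm'N : m' ∈ N := by
        intro q hq
        apply hx
        rw [smul_comm]
        exact hn q hq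
      exact Submodule.smul_mem_smul (Ideal.mem_span_singleton_self x) hm'N
    have hjac : Ideal.span {x} ≤ Ideal.jacobson ⊥ := by
      rw [IsLocalRing.jacobson_eq_maximalIdeal ⊥ bot_ne_top, Ideal.span_singleton_le_iff_mem]
      exact hxm
    haveI : IsNoetherian S M := isNoetherian_of_isNoetherianRing_of_finite S M
    have hfg : N.FG := IsNoetherian.noetherian N
    have hbot := Submodule.eq_bot_of_le_smul_of_le_jacobson_bot (Ideal.span {x}) N hfg hle hjac
    exact hm₀ne ((Submodule.mem_bot S).mp (hbot ▸ hm₀N))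
  obtain ⟨n, hnN, hnx⟩ := hex
  have hne : (Submodule.Quotient.mk n : M ⧸ xM) ≠ 0 :=
    fun h => hnx ((Submodule.Quotient.mk_eq_zero xM).mp h)
  obtain ⟨P1, hP1, hle⟩ := exists_le_isAssociatedPrime_of_isNoetherianRing S _ hne
  obtain ⟨hP1p, n₁bar, hn₁⟩ := isAssociatedPrime_iff.mp hP1
  obtain ⟨n₁, rfl⟩ := Submodule.Quotient.mk_surjective xM n₁bar
  have hP1mem : ∀ s, s ∈ P1 ↔ s • n₁ ∈ xM := by
    intro s
    rw [hn₁, Submodule.mem_colon_singleton, Submodule.mem_bot, ← Submodule.Quotient.mk_smul,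
      Submodule.Quotient.mk_eq_zero]
  have hQP : Q ≤ P1 := fun q hq => hle (by
    rw [Submodule.mem_colon_singleton, Submodule.mem_bot, ← Submodule.Quotient.mk_smul,
      hnN q hq, Submodule.Quotient.mk_zero])
  have hxP : x ∈ P1 := hle (by
    rw [Submodule.mem_colon_singleton, Submodule.mem_bot, ← Submodule.Quotient.mk_smul,
      Submodule.Quotient.mk_eq_zero]
    exact (hxMmem _).mpr ⟨n, rfl⟩)
  have hyP : y ∉ P1 := by
    intro h
    obtain ⟨m', hm'⟩ := (hxMmem _).mp ((hP1mem y).mp h)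
    obtain ⟨m'', hm''⟩ := hy n₁ ⟨m', hm'.symm⟩
    have h1 : (1 : S) ∈ P1 := (hP1mem 1).mpr (by
      rw [one_smul]; exact (hxMmem _).mpr ⟨m'', hm''.symm⟩)
    exact hP1p.ne_top ((Ideal.eq_top_iff_one _).mpr h1)
  exact ⟨P1, hP1p, lt_of_le_of_ne hQP (fun h => hxQ (h ▸ hxP)),
    lt_of_le_of_ne (IsLocalRing.le_maximalIdeal hP1p.ne_top) (fun h => hyP (h ▸ hym))⟩

/-- In a Noetherian normal local domain `R'` of dimension `≥ 2` integral over a local ring `R₀`,
every `x ∈ R₀` with nonzero image can be completed to an `R'`-regular sequence `x, y` with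
`y ∈ m_{R₀}`. -/
theorem exists_regular_pair (R₀ : Type u) [CommRing R₀] [IsLocalRing R₀] (R' : Type u)
    [CommRing R'] [IsDomain R'] [IsNoetherianRing R'] [IsIntegrallyClosed R'] [IsLocalRing R']
    [Algebra R₀ R'] [Algebra.IsIntegral R₀ R'] (hdim : (2 : WithBot ℕ∞) ≤ ringKrullDim R')
    (x : R₀) (hx : algebraMap R₀ R' x ≠ 0) :
    ∃ y ∈ maximalIdeal R₀, ∀ r : R', (∃ r', y • r = x • r') → ∃ r'', r = x • r'' := by
  classical
  have hfin := associatedPrimes.finite R' (R' ⧸ Ideal.span {algebraMap R₀ R' x})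
  have hne : ∀ p' ∈ associatedPrimes R' (R' ⧸ Ideal.span {algebraMap R₀ R' x}),
      ¬ (maximalIdeal R₀ ≤ p'.comap (algebraMap R₀ R')) := by
    intro p' hp' hle
    haveI hp'p : p'.IsPrime := hp'.isPrime
    haveI := Groth.Agent.H23.NagataAU.dvr_of_ass R' _ hx p' hp'
    have h1 : ringKrullDim (Localization.AtPrime p') = 1 :=
      IsDiscreteValuationRing.ringKrullDim_eq_one _
    rw [IsLocalization.AtPrime.ringKrullDim_eq_height p' (Localization.AtPrime p')] at h1
    have hmax : (p'.comap (algebraMap R₀ R')).IsMaximal := by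
      have : maximalIdeal R₀ = p'.comap (algebraMap R₀ R') :=
        (maximalIdeal.isMaximal R₀).eq_of_le (Ideal.comap_ne_top _ hp'p.ne_top) hle
      rw [← this]; exact maximalIdeal.isMaximal R₀
    have hp'max : p'.IsMaximal := Ideal.isMaximal_of_isIntegral_of_isMaximal_comap (R := R₀) p' hmax
    have hp'eq : p' = maximalIdeal R' := IsLocalRing.eq_maximalIdeal hp'max
    rw [hp'eq, IsLocalRing.maximalIdeal_height_eq_ringKrullDim] at h1
    rw [h1] at hdim
    exact absurd hdim (by norm_num)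
  have hnot : ¬ ((maximalIdeal R₀ : Set R₀) ⊆ ⋃ p' ∈ (hfin.toFinset : Set (Ideal R')),
      (p'.comap (algebraMap R₀ R') : Set R₀)) := by
    intro hsub
    obtain ⟨p', hp', hle⟩ := (Ideal.subset_union_prime (R := R₀) (s := hfin.toFinset)
      (f := fun p' => p'.comap (algebraMap R₀ R')) ⊥ ⊥ (fun p' hp' _ _ => by
        haveI : p'.IsPrime := ((Set.Finite.mem_toFinset hfin).mp hp').isPrime
        exact Ideal.comap_isPrime _ _)).mp hsub
    exact hne p' ((Set.Finite.mem_toFinset hfin).mp hp') hle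
  rw [Set.not_subset] at hnot
  obtain ⟨y, hym, hy⟩ := hnot
  refine ⟨y, hym, ?_⟩
  rintro r ⟨r', hr⟩
  by_contra hcon
  have hrne : (Ideal.Quotient.mk (Ideal.span {algebraMap R₀ R' x}) r) ≠ 0 := by
    intro h0
    rw [Ideal.Quotient.eq_zero_iff_mem, Ideal.mem_span_singleton'] at h0
    obtain ⟨a, ha⟩ := h0
    exact hcon ⟨a, by rw [Algebra.smul_def, ← ha, mul_comm]⟩
  obtain ⟨P, hP, hle⟩ := exists_le_isAssociatedPrime_of_isNoetherianRing R' _ hrne
  apply hy
  simp only [Set.mem_iUnion]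
  refine ⟨P, (Set.Finite.mem_toFinset hfin).mpr hP, ?_⟩
  show y ∈ P.comap (algebraMap R₀ R')
  rw [Ideal.mem_comap]
  apply hle
  rw [Submodule.mem_colon_singleton, Submodule.mem_bot]
  show Ideal.Quotient.mk _ (algebraMap R₀ R' y * r) = 0
  rw [Ideal.Quotient.eq_zero_iff_mem, Ideal.mem_span_singleton']
  exact ⟨r', by rw [mul_comm, ← Algebra.smul_def, ← hr, Algebra.smul_def]⟩

theorem lTensor_lsmul {R₀ S₀ : Type*} [CommRing R₀] [CommRing S₀] [Algebra R₀ S₀] {P : Type*}
    [AddCommGroup P] [Module R₀ P] (a : R₀) (t : S₀ ⊗[R₀] P) :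
    LinearMap.lTensor S₀ (LinearMap.lsmul R₀ P a) t = (algebraMap R₀ S₀ a) • t := by
  induction t using TensorProduct.induction_on with
  | zero => simp
  | tmul s r =>
    rw [LinearMap.lTensor_tmul, LinearMap.lsmul_apply, TensorProduct.tmul_smul,
      TensorProduct.smul_tmul', TensorProduct.smul_tmul', Algebra.smul_def, smul_eq_mul]
  | add u v hu hv => rw [map_add, hu, hv, smul_add]

theorem tmul_one_eq_zero {R₀ S₀ R' : Type*} [CommRing R₀] [CommRing S₀] [CommRing R']
    [Algebra R₀ S₀] [Algebra R₀ R'] [Module.Flat R₀ S₀] (s : S₀)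
    (h : s ⊗ₜ[R₀] (1 : R') = 0) :
    s ∈ (RingHom.ker (algebraMap R₀ R')).map (algebraMap R₀ S₀) := by
  let j : (R₀ ⧸ RingHom.ker (algebraMap R₀ R')) →ₗ[R₀] R' :=
    Submodule.liftQ (RingHom.ker (algebraMap R₀ R')) (Algebra.linearMap R₀ R')
      (fun a ha => by simpa using ha)
  have hj : Function.Injective j := by
    rw [← LinearMap.ker_eq_bot]
    apply Submodule.ker_liftQ_eq_bot
    intro a ha
    simpa using ha
  have hj' := Module.Flat.lTensor_preserves_injective_linearMap (M := S₀) j hj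
  have h1 : s ⊗ₜ[R₀] (1 : R₀ ⧸ RingHom.ker (algebraMap R₀ R')) = 0 := by
    apply hj'
    rw [map_zero, LinearMap.lTensor_tmul]
    have : j 1 = 1 := by
      show j (Submodule.Quotient.mk 1) = 1
      rw [Submodule.liftQ_apply]; simp
    rw [this, h]
  have h2 := Algebra.TensorProduct.quotIdealMapEquivTensorQuot_mk S₀
    (RingHom.ker (algebraMap R₀ R')) s
  rw [h1] at h2
  have h3 : (Ideal.Quotient.mk ((RingHom.ker (algebraMap R₀ R')).map (algebraMap R₀ S₀)) s) = 0 :=
    (Algebra.TensorProduct.quotIdealMapEquivTensorQuot S₀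
      (RingHom.ker (algebraMap R₀ R'))).injective (h2.trans (map_zero _).symm)
  exact Ideal.Quotient.eq_zero_iff_mem.mp h3

theorem main (R₀ S₀ : Type u) [CommRing R₀] [CommRing S₀] [IsNoetherianRing R₀]
    [IsNoetherianRing S₀] [IsLocalRing R₀] [IsLocalRing S₀]
    [IsAdicComplete (maximalIdeal R₀) R₀] [Algebra R₀ S₀] [IsLocalHom (algebraMap R₀ S₀)]
    [Module.Flat R₀ S₀]
    (hR : ∀ q ∈ minimalPrimes R₀, (2 : WithBot ℕ∞) ≤ ringKrullDim (R₀ ⧸ q)) :
    ∀ Q ∈ minimalPrimes S₀, (2 : WithBot ℕ∞) ≤ ringKrullDim (S₀ ⧸ Q) := by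
  intro Q hQ
  haveI hQprime : Q.IsPrime := hQ.1.1
  have hq : Q.comap (algebraMap R₀ S₀) ∈ minimalPrimes R₀ :=
    Groth.Agent.H23.JapStab.comap_mem_minimalPrimes Q hQ
  haveI hqprime : (Q.comap (algebraMap R₀ S₀)).IsPrime := hq.1.1
  have hdimR := hR _ hq
  generalize hqdef : Q.comap (algebraMap R₀ S₀) = q at *
  haveI : IsDomain (R₀ ⧸ q) := Ideal.Quotient.isDomain q
  haveI : IsAdicComplete (maximalIdeal (R₀ ⧸ q)) (R₀ ⧸ q) :=
    Groth.Agent.H34.ComplQuot.isAdicComplete_quotient q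
  have hN : CAlg.IsNagata (R₀ ⧸ q) := Groth.Agent.S0568.result (R₀ ⧸ q)
  haveI hfin : Module.Finite (R₀ ⧸ q) (integralClosure (R₀ ⧸ q) (FractionRing (R₀ ⧸ q))) :=
    Groth.Agent.S2646.finite_integralClosure_fractionRing (R₀ ⧸ q) hN
  haveI : HenselianLocalRing (R₀ ⧸ q) :=
    Groth.Agent.H3.henselianLocalRing_of_henselianRing_maximalIdeal (R₀ ⧸ q)
  haveI : IsLocalRing (integralClosure (R₀ ⧸ q) (FractionRing (R₀ ⧸ q))) :=
    Groth.Agent.H86.TameKummer.isLocalRing_of_finite_domain (R₀ ⧸ q) _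
  haveI : IsIntegrallyClosed (integralClosure (R₀ ⧸ q) (FractionRing (R₀ ⧸ q))) :=
    integralClosure.isIntegrallyClosedOfFiniteExtension (FractionRing (R₀ ⧸ q))
  haveI : IsNoetherianRing (integralClosure (R₀ ⧸ q) (FractionRing (R₀ ⧸ q))) :=
    Algebra.FiniteType.isNoetherianRing (R₀ ⧸ q) _
  have hinj2 : Function.Injective (algebraMap (R₀ ⧸ q)
      (integralClosure (R₀ ⧸ q) (FractionRing (R₀ ⧸ q)))) := by
    have h1 : Function.Injective (algebraMap (R₀ ⧸ q) (FractionRing (R₀ ⧸ q))) :=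
      IsFractionRing.injective _ _
    rw [IsScalarTower.algebraMap_eq (R₀ ⧸ q)
      (integralClosure (R₀ ⧸ q) (FractionRing (R₀ ⧸ q)))
      (FractionRing (R₀ ⧸ q)), RingHom.coe_comp] at h1
    exact Function.Injective.of_comp h1
  have hdim' : (2 : WithBot ℕ∞) ≤
      ringKrullDim (integralClosure (R₀ ⧸ q) (FractionRing (R₀ ⧸ q))) := by
    rw [Groth.Agent.H54.ringKrullDim_eq_of_isIntegral_of_injective hinj2]
    exact hdimR
  haveI hfin0 : Module.Finite R₀ (integralClosure (R₀ ⧸ q) (FractionRing (R₀ ⧸ q))) :=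
    Module.Finite.trans (R₀ ⧸ q) _
  have hker : RingHom.ker (algebraMap R₀ (integralClosure (R₀ ⧸ q) (FractionRing (R₀ ⧸ q)))) =
      q := by
    ext a
    rw [RingHom.mem_ker, IsScalarTower.algebraMap_apply R₀ (R₀ ⧸ q)
      (integralClosure (R₀ ⧸ q) (FractionRing (R₀ ⧸ q))), map_eq_zero_iff _ hinj2]
    exact Ideal.Quotient.eq_zero_iff_mem
  -- the element x
  have hqlt : q < maximalIdeal R₀ := by
    refine lt_of_le_of_ne (IsLocalRing.le_maximalIdeal hqprime.ne_top) (fun h => ?_)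
    have hmax : q.IsMaximal := h ▸ maximalIdeal.isMaximal R₀
    have h0 : ringKrullDim (R₀ ⧸ q) = 0 :=
      ringKrullDim_eq_zero_of_isField ((Ideal.Quotient.maximal_ideal_iff_isField_quotient q).mp hmax)
    rw [h0] at hdimR
    exact absurd hdimR (by norm_num)
  obtain ⟨x, hxm, hxq⟩ := SetLike.exists_of_lt hqlt
  have hx' : algebraMap R₀ (integralClosure (R₀ ⧸ q) (FractionRing (R₀ ⧸ q))) x ≠ 0 := by
    intro h
    apply hxq
    rw [← hker]
    exact h
  obtain ⟨y, hym, hy⟩ := exists_regular_pair R₀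
    (integralClosure (R₀ ⧸ q) (FractionRing (R₀ ⧸ q))) hdim' x hx'
  -- the module
  haveI : Module.Finite S₀ (S₀ ⊗[R₀] (integralClosure (R₀ ⧸ q) (FractionRing (R₀ ⧸ q)))) :=
    Module.Finite.base_change R₀ S₀ _
  have hann : Module.annihilator S₀
      (S₀ ⊗[R₀] (integralClosure (R₀ ⧸ q) (FractionRing (R₀ ⧸ q)))) ≤ Q := by
    intro s hs
    have h1 : s • ((1 : S₀) ⊗ₜ[R₀]
        (1 : integralClosure (R₀ ⧸ q) (FractionRing (R₀ ⧸ q)))) = 0 :=
      Module.mem_annihilator.mp hs _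
    rw [TensorProduct.smul_tmul', smul_eq_mul, mul_one] at h1
    have h2 := tmul_one_eq_zero s h1
    rw [hker, ← hqdef] at h2
    exact Ideal.map_le_iff_le_comap.mpr le_rfl h2
  have hQass : Q ∈ associatedPrimes S₀
      (S₀ ⊗[R₀] (integralClosure (R₀ ⧸ q) (FractionRing (R₀ ⧸ q)))) :=
    Module.associatedPrimes.minimalPrimes_annihilator_subset_associatedPrimes S₀ _
      ⟨⟨hQprime, hann⟩, fun P hP hPQ => hQ.2 ⟨hP.1, bot_le⟩ hPQ⟩
  have hloc : (maximalIdeal R₀).map (algebraMap R₀ S₀) ≤ maximalIdeal S₀ := by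
    have h := (IsLocalRing.local_hom_TFAE (algebraMap R₀ S₀)).out 0 2
    exact h.mp inferInstance
  have hxs : algebraMap R₀ S₀ x ∈ maximalIdeal S₀ := hloc (Ideal.mem_map_of_mem _ hxm)
  have hys : algebraMap R₀ S₀ y ∈ maximalIdeal S₀ := hloc (Ideal.mem_map_of_mem _ hym)
  -- regularity of x
  have hxreg : ∀ m : S₀ ⊗[R₀] (integralClosure (R₀ ⧸ q) (FractionRing (R₀ ⧸ q))),
      (algebraMap R₀ S₀ x) • m = 0 → m = 0 := by
    have h1 : Function.Injective (LinearMap.lsmul R₀
        (integralClosure (R₀ ⧸ q) (FractionRing (R₀ ⧸ q))) x) := by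
      intro r1 r2 h
      have h' : x • r1 = x • r2 := h
      rw [Algebra.smul_def, Algebra.smul_def] at h'
      exact mul_left_cancel₀ hx' h'
    have h2 := Module.Flat.lTensor_preserves_injective_linearMap (M := S₀) _ h1
    intro m hm
    apply h2
    rw [lTensor_lsmul, hm, map_zero]
  -- regularity of y modulo x
  have hyreg : ∀ m : S₀ ⊗[R₀] (integralClosure (R₀ ⧸ q) (FractionRing (R₀ ⧸ q))),
      (∃ m', (algebraMap R₀ S₀ y) • m = (algebraMap R₀ S₀ x) • m') →
      ∃ m'', m = (algebraMap R₀ S₀ x) • m'' := by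
    let fx := LinearMap.lsmul R₀ (integralClosure (R₀ ⧸ q) (FractionRing (R₀ ⧸ q))) x
    let π := (LinearMap.range fx).mkQ
    have hexact : Function.Exact fx π := LinearMap.exact_map_mkQ_range fx
    have hπsurj : Function.Surjective π := Submodule.mkQ_surjective _
    have hE := lTensor_exact S₀ hexact hπsurj
    have hyN : Function.Injective (LinearMap.lsmul R₀
        ((integralClosure (R₀ ⧸ q) (FractionRing (R₀ ⧸ q))) ⧸ LinearMap.range fx) y) := by
      rw [injective_iff_map_eq_zero]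
      intro nbar hn
      obtain ⟨r, rfl⟩ := hπsurj nbar
      have hn' : π (y • r) = 0 := by rw [map_smul]; exact hn
      obtain ⟨r', hr'⟩ := (hexact (y • r)).mp hn'
      obtain ⟨r'', hr''⟩ := hy r ⟨r', hr'.symm⟩
      exact (hexact r).mpr ⟨r'', hr''.symm⟩
    have h4 := Module.Flat.lTensor_preserves_injective_linearMap (M := S₀) _ hyN
    have hPi : ∀ (s : S₀) (m : S₀ ⊗[R₀] (integralClosure (R₀ ⧸ q) (FractionRing (R₀ ⧸ q)))),
        LinearMap.lTensor S₀ π (s • m) = s • LinearMap.lTensor S₀ π m := by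
      intro s m
      induction m using TensorProduct.induction_on with
      | zero => simp
      | tmul a b => simp [TensorProduct.smul_tmul']
      | add a b ha hb => rw [smul_add, map_add, ha, hb, map_add, smul_add]
    rintro m ⟨m', hm'⟩
    have h5 : LinearMap.lTensor S₀ π ((algebraMap R₀ S₀ x) • m') = 0 := by
      rw [← lTensor_lsmul]
      exact hE.apply_apply_eq_zero m'
    have h6 : LinearMap.lTensor S₀ π m = 0 := by
      apply h4
      rw [lTensor_lsmul, ← hPi, hm', h5, map_zero]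
    obtain ⟨m'', hm''⟩ := (hE m).mp h6
    exact ⟨m'', by rw [← hm'', lTensor_lsmul]⟩
  obtain ⟨P1, hP1p, hQP1, hP1m⟩ := core Q hQass _ _ hxs hys hxreg hyreg
  exact two_le_ringKrullDim_quotient Q P1 (maximalIdeal S₀) hQP1 hP1m

end Groth.Agent.H23.C2Flat
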