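import Mathlib
import Groth.Agent.H47.BranchCount
import Groth.Agent.H47.BranchCountStrict
import Groth.Agent.H47.HensNoeth2
import Groth.Agent.H54.IntegralDim
import Groth.Agent.S5043

/-!
# Dimension of the local rings of the normalization versus the components of a henselization

Generic comparison: for `C` a henselian ind-étale local `A`-algebra (henselization or strict
henselization), `n ≤ dim (A')_N` for all maximal `N` of `A' = normRed A` iff `n ≤ dim C/P` for all
minimal primes `P` of `C`.
-/

set_option autoImplicit false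
set_option linter.style.haveILetI false
set_option linter.unusedSectionVars false
universe u
open TensorProduct IsLocalRing

namespace Groth.Agent.H23.C2Gen

section Height

variable {R T : Type*} [CommRing R] [CommRing T] [Algebra R T]

/-- Incomparability bound: if every prime containing `P'` is contained in `m`, then
`dim T/P' ≤ ht (m ∩ R)`. -/
theorem ringKrullDim_quotient_le_height
    (hinc : ∀ Q Q' : Ideal T, Q.IsPrime → Q'.IsPrime → Q ≤ Q' → Q.under R = Q'.under R → Q = Q')
    (m P' : Ideal T) [m.IsPrime]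
    (hm : ∀ Q : Ideal T, Q.IsPrime → P' ≤ Q → Q ≤ m) :
    ringKrullDim (T ⧸ P') ≤ ((m.under R).height : WithBot ℕ∞) := by
  rw [ringKrullDim_quotient,
    show (m.under R).height = Order.height (⟨m.under R, inferInstance⟩ : PrimeSpectrum R) from
      PrimeSpectrum.height_eq_orderHeight ⟨m.under R, inferInstance⟩,
    Order.height_eq_krullDim_Iic]
  let f : PrimeSpectrum.zeroLocus (R := T) P' →
      Set.Iic (⟨m.under R, inferInstance⟩ : PrimeSpectrum R) := fun Q =>
    ⟨⟨Q.1.asIdeal.under R, inferInstance⟩, by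
      have h1 : P' ≤ Q.1.asIdeal := by
        have := Q.2
        rw [PrimeSpectrum.mem_zeroLocus] at this
        exact SetLike.coe_subset_coe.mp this
      have h2 := hm Q.1.asIdeal Q.1.isPrime h1
      show (⟨Q.1.asIdeal.under R, inferInstance⟩ : PrimeSpectrum R) ≤ ⟨m.under R, inferInstance⟩
      rw [← PrimeSpectrum.asIdeal_le_asIdeal]
      exact Ideal.comap_mono h2⟩
  refine Order.krullDim_le_of_strictMono f ?_
  intro Q Q' hQQ'
  have hlt : Q.1.asIdeal < Q'.1.asIdeal := (PrimeSpectrum.asIdeal_lt_asIdeal _ _).mpr hQQ'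
  have hle : Q.1.asIdeal.under R ≤ Q'.1.asIdeal.under R := Ideal.comap_mono hlt.le
  show (⟨Q.1.asIdeal.under R, inferInstance⟩ : PrimeSpectrum R) <
    ⟨Q'.1.asIdeal.under R, inferInstance⟩
  rw [← PrimeSpectrum.asIdeal_lt_asIdeal]
  refine lt_of_le_of_ne hle ?_
  intro heq
  exact hlt.ne (hinc _ _ Q.1.isPrime Q'.1.isPrime hlt.le heq)

/-- Going-down bound: if every prime contained in `m` contains `P'`, then
`ht (m ∩ R) ≤ dim T/P'`. -/
theorem height_le_ringKrullDim_quotient [Algebra.HasGoingDown R T]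
    (m P' : Ideal T) [m.IsPrime]
    (hP : ∀ Q : Ideal T, Q.IsPrime → Q ≤ m → P' ≤ Q) :
    ((m.under R).height : WithBot ℕ∞) ≤ ringKrullDim (T ⧸ P') := by
  rw [ringKrullDim_quotient,
    show (m.under R).height = Order.height (⟨m.under R, inferInstance⟩ : PrimeSpectrum R) from
      PrimeSpectrum.height_eq_orderHeight ⟨m.under R, inferInstance⟩,
    Order.height_eq_krullDim_Iic]
  unfold Order.krullDim
  refine iSup_le fun l => ?_
  let l' : LTSeries (PrimeSpectrum R) := l.map Subtype.val (fun _ _ h => h)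
  have hlast : l'.last.asIdeal ≤ m.under R := by
    have h1 : l'.last = l.last.1 := LTSeries.last_map _ _ _
    rw [h1]
    exact (PrimeSpectrum.asIdeal_le_asIdeal _ _).mpr l.last.2
  haveI : m.LiesOver (m.under R) := ⟨rfl⟩
  obtain ⟨m0, hm0le, hm0p, hm0lo⟩ :=
    Ideal.exists_ideal_le_liesOver_of_le (p := l'.last.asIdeal) (q := m.under R) m hlast
  haveI := hm0p
  haveI := hm0lo
  obtain ⟨L, hlen, hLlast, -⟩ := Ideal.exists_ltSeries_of_hasGoingDown l' m0
  have hmem : ∀ i, L i ∈ PrimeSpectrum.zeroLocus (R := T) P' := by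
    intro i
    rw [PrimeSpectrum.mem_zeroLocus]
    apply SetLike.coe_subset_coe.mpr
    apply hP _ (L i).isPrime
    have h1 : L i ≤ L.last := L.strictMono.monotone (Fin.le_last i)
    rw [hLlast] at h1
    exact le_trans ((PrimeSpectrum.asIdeal_le_asIdeal _ _).mpr h1) hm0le
  let L' : LTSeries (PrimeSpectrum.zeroLocus (R := T) P') :=
    { length := L.length
      toFun := fun i => ⟨L i, hmem i⟩
      step := fun i => L.step i }
  have h2 : (l.length : WithBot ℕ∞) = (L'.length : WithBot ℕ∞) := by
    have : L'.length = l.length := by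
      show L.length = l.length
      rw [hlen]
      rfl
    rw [this]
  rw [h2]
  exact le_iSup (fun p : LTSeries (PrimeSpectrum.zeroLocus (R := T) P') =>
    (p.length : WithBot ℕ∞)) L'

end Height

section Main

attribute [local instance] Algebra.TensorProduct.rightAlgebra

open Groth.Agent.H47.BranchCount Groth.Agent.H47.HensNoeth

variable (A : Type u) [CommRing A] [IsLocalRing A]
  (C : Type u) [CommRing C] [IsLocalRing C] [Algebra A C] [IsLocalHom (algebraMap A C)]

theorem tmul_algebraMap_eq (A' : Type u) [CommRing A'] [Algebra A A'] (a : A) :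
    (1 : A') ⊗ₜ[A] (algebraMap A C a) = (algebraMap A A' a) ⊗ₜ[A] (1 : C) := by
  rw [Algebra.algebraMap_eq_smul_one, Algebra.algebraMap_eq_smul_one, TensorProduct.smul_tmul]

/-- Incomparability for `A' → A' ⊗[A] C` with `A'` integral and `C` ind-étale local over `A`. -/
theorem inc_tensor (A' : Type u) [CommRing A'] [Algebra A A'] [Algebra.IsIntegral A A']
    (hI : IsIndEtaleLocal A C)
    (Q Q' : Ideal (A' ⊗[A] C)) (hQ : Q.IsPrime) (hQ' : Q'.IsPrime) (hle : Q ≤ Q')
    (h : Q.under A' = Q'.under A') : Q = Q' := by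
  haveI : Algebra.IsIntegral C (A' ⊗[A] C) := isIntegral_right' A C A'
  haveI : (Q.under C).IsPrime := Ideal.comap_isPrime _ _
  haveI : (Q'.under C).IsPrime := Ideal.comap_isPrime _ _
  have hC : Q.under C = Q'.under C := by
    apply Groth.Agent.S5043.eq_of_le_of_comap_eq hI (Ideal.comap_mono hle)
    ext a
    have key : ∀ I : Ideal (A' ⊗[A] C), a ∈ (I.under C).comap (algebraMap A C) ↔
        algebraMap A A' a ∈ I.under A' := by
      intro I
      rw [Ideal.mem_comap, Ideal.under_def, Ideal.mem_comap, Ideal.under_def, Ideal.mem_comap,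
        Algebra.TensorProduct.algebraMap_apply]
      show (1 : A') ⊗ₜ[A] (algebraMap A C a) ∈ I ↔ _
      rw [tmul_algebraMap_eq]
      rfl
    rw [key, key, h]
  by_contra hne
  have hlt : Q < Q' := lt_of_le_of_ne hle hne
  have := Ideal.IsIntegral.comap_lt_comap (R := C) hlt
  exact this.ne hC

theorem contr'_eq_under (A' : Type u) [CommRing A'] [Algebra A A']
    (m : Ideal (A' ⊗[A] C)) : contr' A C A' m = m.under A' := by
  ext a'
  rw [mem_contr', Ideal.under_def, Ideal.mem_comap, Algebra.TensorProduct.algebraMap_apply]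
  rfl

/-- Quotients by corresponding primes have the same dimension. -/
theorem ringKrullDim_quotient_comap (A' : Type u) [CommRing A'] [Algebra A A']
    [Algebra.IsIntegral A A'] (P' : Ideal (A' ⊗[A] C)) :
    ringKrullDim ((A' ⊗[A] C) ⧸ P') =
      ringKrullDim (C ⧸ P'.comap (algebraMap C (A' ⊗[A] C))) := by
  haveI : Algebra.IsIntegral C (A' ⊗[A] C) := isIntegral_right' A C A'
  refine Groth.Agent.H54.ringKrullDim_eq_of_ringHom_isIntegral_of_injective
    (Ideal.quotientMap P' (algebraMap C (A' ⊗[A] C)) le_rfl) ?_ Ideal.quotientMap_injective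
  exact RingHom.IsIntegral.quotient _ (algebraMap_isIntegral_iff.mpr inferInstance)

/-- The generic comparison. -/
theorem c2_iff [HenselianLocalRing C] (A' : Type u) [CommRing A'] [Algebra A A']
    [Algebra.IsIntegral A A'] (hI : IsIndEtaleLocal A C)
    (hbij : Set.BijOn (fun P : Ideal (A' ⊗[A] C) =>
        P.comap (Algebra.TensorProduct.includeRight.toRingHom : C →+* A' ⊗[A] C))
      (minimalPrimes (A' ⊗[A] C)) (minimalPrimes C))
    (hloc : ∀ (m : Ideal (A' ⊗[A] C)) [m.IsMaximal], LocDom m) (n : ℕ) :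
    (∀ N : MaximalSpectrum A',
        (n : WithBot ℕ∞) ≤ ringKrullDim (Localization.AtPrime N.asIdeal)) ↔
    (∀ P ∈ minimalPrimes C, (n : WithBot ℕ∞) ≤ ringKrullDim (C ⧸ P)) := by
  haveI : Module.Flat A C := hI.flat
  haveI : Module.FaithfullyFlat A C := hI.faithfullyFlat
  haveI : Algebra.IsIntegral C (A' ⊗[A] C) := isIntegral_right' A C _
  haveI hprime : ∀ (m : Ideal (A' ⊗[A] C)) [m.IsMaximal],
      (contr' A C A' m).IsPrime :=
    fun m _ => (isMaximal_contr' A C A' m).isPrime
  have hheight : ∀ (m : Ideal (A' ⊗[A] C)) [m.IsMaximal],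
      ringKrullDim (Localization.AtPrime (contr' A C A' m)) =
        ((m.under A').height : WithBot ℕ∞) := by
    intro m _
    haveI := isMaximal_contr' A C A' m
    rw [IsLocalization.AtPrime.ringKrullDim_eq_height (contr' A C A' m)
      (Localization.AtPrime (contr' A C A' m)), contr'_eq_under]
  constructor
  · intro h P hP
    obtain ⟨P', hP', hPP'⟩ := hbij.surjOn hP
    haveI hP'prime : P'.IsPrime := hP'.1.1
    obtain ⟨m, hm, hP'm⟩ := Ideal.exists_le_maximal P' hP'prime.ne_top
    haveI := hm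
    have hN : (n : WithBot ℕ∞) ≤
        ringKrullDim (Localization.AtPrime (contr' A C A' m)) :=
      h ⟨contr' A C A' m, isMaximal_contr' A C A' m⟩
    rw [hheight m] at hN
    have hPeq : P = P'.comap (algebraMap C (A' ⊗[A] C)) := hPP'.symm
    rw [hPeq, ← ringKrullDim_quotient_comap]
    refine le_trans hN (height_le_ringKrullDim_quotient (R := A') m P' ?_)
    intro Q hQ hQm
    obtain ⟨q, -, huniq⟩ := existsUnique_minimalPrime_le m (hloc m)
    obtain ⟨q', hq', hq'Q⟩ := Ideal.exists_minimalPrimes_le (I := (⊥ : Ideal _)) (J := Q) bot_le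
    have h1 : q' = q := huniq q' ⟨hq', le_trans hq'Q hQm⟩
    have h2 : P' = q := huniq P' ⟨hP', hP'm⟩
    rw [h2, ← h1]
    exact hq'Q
  · intro h N
    haveI := N.isMaximal
    obtain ⟨m, hm, hmN⟩ := exists_isMaximal_contr'_eq A C A' N.asIdeal
    haveI := hm
    obtain ⟨P', ⟨hP', hP'm⟩, huniq⟩ := existsUnique_minimalPrime_le m (hloc m)
    haveI hP'prime : P'.IsPrime := hP'.1.1
    have hP := hbij.mapsTo hP'
    have h2 : (n : WithBot ℕ∞) ≤
      ringKrullDim (C ⧸ P'.comap (algebraMap C (A' ⊗[A] C))) := h _ hP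
    rw [← ringKrullDim_quotient_comap] at h2
    have h4 : ringKrullDim (Localization.AtPrime N.asIdeal) =
        ((m.under A').height : WithBot ℕ∞) := by
      rw [IsLocalization.AtPrime.ringKrullDim_eq_height N.asIdeal
        (Localization.AtPrime N.asIdeal), ← hmN, contr'_eq_under]
    rw [h4]
    refine le_trans h2 (ringKrullDim_quotient_le_height (R := A')
      (fun Q Q' hQ hQ' hle hu => inc_tensor A C A' hI Q Q' hQ hQ' hle hu) m P' ?_)
    intro Q hQ hP'Q
    obtain ⟨m', hm', hQm'⟩ := Ideal.exists_le_maximal Q hQ.ne_top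
    obtain ⟨m0, -, hm0⟩ := existsUnique_isMaximal_ge C (A' ⊗[A] C) P'
    have e1 : m' = m0 := hm0 m' ⟨hm', le_trans hP'Q hQm'⟩
    have e2 : m = m0 := hm0 m ⟨hm, hP'm⟩
    rw [e2, ← e1]
    exact hQm'

end Main

end Groth.Agent.H23.C2Gen
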