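import Mathlib

set_option autoImplicit false
universe u

namespace Groth.Agent.H23

open AlgebraicGeometry CategoryTheory CategoryTheory.Limits

section
variable {X' X'' Y : Scheme.{u}} (f' : X' ⟶ Y) (f'' : X'' ⟶ Y)

theorem desc_inl_apply (x : X') :
    (coprod.desc f' f'').base ((coprod.inl : X' ⟶ X' ⨿ X'').base x) = f'.base x := by
  have h : ((coprod.inl : X' ⟶ X' ⨿ X'') ≫ coprod.desc f' f'').base x = f'.base x := by
    rw [coprod.inl_desc]
  exact h

theorem desc_inr_apply (x : X'') :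
    (coprod.desc f' f'').base ((coprod.inr : X'' ⟶ X' ⨿ X'').base x) = f''.base x := by
  have h : ((coprod.inr : X'' ⟶ X' ⨿ X'') ≫ coprod.desc f' f'').base x = f''.base x := by
    rw [coprod.inr_desc]
  exact h

theorem range_inl_eq_compl :
    Set.range (coprod.inl : X' ⟶ X' ⨿ X'').base = (Set.range (coprod.inr : X'' ⟶ X' ⨿ X'').base)ᶜ :=
  (isCompl_range_inl_inr X' X'').eq_compl

theorem isClopen_range_inl : IsClopen (Set.range (coprod.inl : X' ⟶ X' ⨿ X'').base) := by
  refine ⟨?_, (coprod.inl : X' ⟶ X' ⨿ X'').isOpenEmbedding.isOpen_range⟩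
  rw [range_inl_eq_compl]
  exact (coprod.inr : X'' ⟶ X' ⨿ X'').isOpenEmbedding.isOpen_range.isClosed_compl

theorem isClopen_range_inr : IsClopen (Set.range (coprod.inr : X'' ⟶ X' ⨿ X'').base) := by
  have h := (isClopen_range_inl (X' := X') (X'' := X'')).compl
  rwa [range_inl_eq_compl, compl_compl] at h

theorem isClosedEmbedding_inl :
    Topology.IsClosedEmbedding (coprod.inl : X' ⟶ X' ⨿ X'').base :=
  ⟨(coprod.inl : X' ⟶ X' ⨿ X'').isOpenEmbedding.isEmbedding, isClopen_range_inl.isClosed⟩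

theorem isClosedEmbedding_inr :
    Topology.IsClosedEmbedding (coprod.inr : X'' ⟶ X' ⨿ X'').base :=
  ⟨(coprod.inr : X'' ⟶ X' ⨿ X'').isOpenEmbedding.isEmbedding, isClopen_range_inr.isClosed⟩

instance quasiCompact_inl : QuasiCompact (coprod.inl : X' ⟶ X' ⨿ X'') :=
  ⟨fun _ _ hUc => isClosedEmbedding_inl.isCompact_preimage hUc⟩

instance quasiCompact_inr : QuasiCompact (coprod.inr : X'' ⟶ X' ⨿ X'') :=
  ⟨fun _ _ hUc => isClosedEmbedding_inr.isCompact_preimage hUc⟩

theorem preimage_desc_inter_range_inl (U : Set Y) :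
    (coprod.desc f' f'').base ⁻¹' U ∩ Set.range (coprod.inl : X' ⟶ X' ⨿ X'').base =
      (coprod.inl : X' ⟶ X' ⨿ X'').base '' (f'.base ⁻¹' U) := by
  ext z
  constructor
  · rintro ⟨hz, x, rfl⟩
    refine ⟨x, ?_, rfl⟩
    rw [Set.mem_preimage, desc_inl_apply] at hz
    exact hz
  · rintro ⟨x, hx, rfl⟩
    exact ⟨by rw [Set.mem_preimage, desc_inl_apply]; exact hx, x, rfl⟩

theorem preimage_desc_inter_range_inr (U : Set Y) :
    (coprod.desc f' f'').base ⁻¹' U ∩ Set.range (coprod.inr : X'' ⟶ X' ⨿ X'').base =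
      (coprod.inr : X'' ⟶ X' ⨿ X'').base '' (f''.base ⁻¹' U) := by
  ext z
  constructor
  · rintro ⟨hz, x, rfl⟩
    refine ⟨x, ?_, rfl⟩
    rw [Set.mem_preimage, desc_inr_apply] at hz
    exact hz
  · rintro ⟨x, hx, rfl⟩
    exact ⟨by rw [Set.mem_preimage, desc_inr_apply]; exact hx, x, rfl⟩

theorem preimage_desc_eq_union (U : Set Y) :
    (coprod.desc f' f'').base ⁻¹' U =
      (coprod.inl : X' ⟶ X' ⨿ X'').base '' (f'.base ⁻¹' U) ∪
      (coprod.inr : X'' ⟶ X' ⨿ X'').base '' (f''.base ⁻¹' U) := by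
  rw [← preimage_desc_inter_range_inl, ← preimage_desc_inter_range_inr, ← Set.inter_union_distrib_left,
    range_inl_eq_compl, Set.compl_union_self, Set.inter_univ]

end

theorem isQuasiSeparated_of_clopen {α : Type*} [TopologicalSpace α] {s C : Set α} (hC : IsClopen C)
    (h1 : IsQuasiSeparated (s ∩ C)) (h2 : IsQuasiSeparated (s ∩ Cᶜ)) : IsQuasiSeparated s := by
  intro U V hUs hUo hUc hVs hVo hVc
  have e : U ∩ V = ((U ∩ C) ∩ (V ∩ C)) ∪ ((U ∩ Cᶜ) ∩ (V ∩ Cᶜ)) := by
    ext z
    by_cases hz : z ∈ C <;> simp [hz]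
  rw [e]
  refine IsCompact.union ?_ ?_
  · exact h1 _ _ (Set.inter_subset_inter_left _ hUs) (hUo.inter hC.isOpen)
      (hUc.inter_right hC.isClosed) (Set.inter_subset_inter_left _ hVs) (hVo.inter hC.isOpen)
      (hVc.inter_right hC.isClosed)
  · exact h2 _ _ (Set.inter_subset_inter_left _ hUs) (hUo.inter hC.compl.isOpen)
      (hUc.inter_right hC.compl.isClosed) (Set.inter_subset_inter_left _ hVs)
      (hVo.inter hC.compl.isOpen) (hVc.inter_right hC.compl.isClosed)

theorem quasiCompact_coprod_desc_iff {X' X'' Y : Scheme.{u}} (f' : X' ⟶ Y) (f'' : X'' ⟶ Y) :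
    QuasiCompact (coprod.desc f' f'') ↔ QuasiCompact f' ∧ QuasiCompact f'' := by
  constructor
  · intro h
    constructor
    · have : f' = coprod.inl ≫ coprod.desc f' f'' := (coprod.inl_desc _ _).symm
      rw [this]; infer_instance
    · have : f'' = coprod.inr ≫ coprod.desc f' f'' := (coprod.inr_desc _ _).symm
      rw [this]; infer_instance
  · rintro ⟨h', h''⟩
    refine ⟨fun U hUo hUc => ?_⟩
    change IsCompact ((coprod.desc f' f'').base ⁻¹' U)
    rw [preimage_desc_eq_union]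
    exact ((h'.isCompact_preimage U hUo hUc).image (coprod.inl : X' ⟶ X' ⨿ X'').continuous).union
      ((h''.isCompact_preimage U hUo hUc).image (coprod.inr : X'' ⟶ X' ⨿ X'').continuous)

theorem quasiSeparated_coprod_desc_iff {X' X'' Y : Scheme.{u}} (f' : X' ⟶ Y) (f'' : X'' ⟶ Y) :
    QuasiSeparated (coprod.desc f' f'') ↔ QuasiSeparated f' ∧ QuasiSeparated f'' := by
  constructor
  · intro h
    constructor
    · have : f' = coprod.inl ≫ coprod.desc f' f'' := (coprod.inl_desc _ _).symm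
      rw [this]; infer_instance
    · have : f'' = coprod.inr ≫ coprod.desc f' f'' := (coprod.inr_desc _ _).symm
      rw [this]; infer_instance
  · rintro ⟨h', h''⟩
    rw [HasAffineProperty.eq_targetAffineLocally (P := @QuasiSeparated)]
    intro U
    change QuasiSeparatedSpace ↥((coprod.desc f' f'') ⁻¹ᵁ U.1).toScheme
    refine (isQuasiSeparated_iff_quasiSeparatedSpace _ ((coprod.desc f' f'') ⁻¹ᵁ U.1).2).mp ?_
    have hU : IsQuasiSeparated (U.1 : Set Y) := U.2.isQuasiSeparated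
    refine isQuasiSeparated_of_clopen (isClopen_range_inl (X' := X') (X'' := X'')) ?_ ?_
    · change IsQuasiSeparated ((coprod.desc f' f'').base ⁻¹' (U.1 : Set Y) ∩ _)
      rw [preimage_desc_inter_range_inl]
      exact (f'.isQuasiSeparated_preimage hU).image_of_isEmbedding
        (coprod.inl : X' ⟶ X' ⨿ X'').isOpenEmbedding.isEmbedding
    · change IsQuasiSeparated ((coprod.desc f' f'').base ⁻¹' (U.1 : Set Y) ∩ _)
      rw [range_inl_eq_compl, compl_compl, preimage_desc_inter_range_inr]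
      exact (f''.isQuasiSeparated_preimage hU).image_of_isEmbedding
        (coprod.inr : X'' ⟶ X' ⨿ X'').isOpenEmbedding.isEmbedding

end Groth.Agent.H23
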