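import Mathlib
import Groth.Agent.H23.C2Flat
import Groth.Agent.H15.FlatLoc
import Groth.Agent.H15.SerreNormal
import Groth.Agent.H15.NormalAscent
import Groth.Agent.H15.NorCpl
import Groth.Agent.H29.CplFinite
import Groth.Agent.H34.FibLoc
import Groth.Agent.S2659

/-!
# Normality of the completion of a finite subalgebra (helper23)

`normal_of_finite_overring`: `B → B'` flat (Noetherian), `B` normal, `B ⊆ C` finite with
`B' ⊗[B] C` normal ⇒ `B'` normal (Serre's criterion + faithfully flat descent of normality).
`cpl_normal_of_sub`: for finite algebras `B ⊆ C` over a Noetherian local ring `A`, `B` normal and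
`Ĉ` normal ⇒ `B̂` normal.
-/

set_option autoImplicit false
set_option linter.style.haveILetI false
set_option linter.unusedSectionVars false
universe u
open Polynomial IsLocalRing TensorProduct

namespace Groth.Agent.H23.CplNormalSub



/-- Descent of "integrally closed domain" along a faithfully flat ring map. -/
theorem normal_descent {R S : Type*} [CommRing R] [CommRing S] [Algebra R S]
    [Module.FaithfullyFlat R S] [IsDomain S] [IsIntegrallyClosed S] :
    IsDomain R ∧ IsIntegrallyClosed R := by
  have hinj : Function.Injective (algebraMap R S) := FaithfulSMul.algebraMap_injective R S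
  haveI hdom : IsDomain R := hinj.isDomain (algebraMap R S)
  refine ⟨hdom, ?_⟩
  apply Groth.Agent.H15.NormalAscent.isIntegrallyClosed_of_forall_scaleRoots
  intro a b ha p hp h
  have ha' : algebraMap R S a ≠ 0 := fun h0 => ha (hinj (h0.trans (map_zero _).symm))
  have hp' : (p.map (algebraMap R S)).Monic := hp.map _
  have h' : ((p.map (algebraMap R S)).scaleRoots (algebraMap R S a)).eval (algebraMap R S b) = 0 := by
    rw [← Polynomial.map_scaleRoots p a (algebraMap R S) (by rw [hp.leadingCoeff, map_one]; exact one_ne_zero),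
      Polynomial.eval_map, Polynomial.eval₂_at_apply, h, map_zero]
  obtain ⟨c, hc⟩ := Groth.Agent.H15.SerreNormal.dvd_of_scaleRoots_eval ha' hp' h'
  have hmem : algebraMap R S b ∈ (Ideal.span {a}).map (algebraMap R S) := by
    rw [Ideal.map_span, Set.image_singleton, hc]
    exact Ideal.mul_mem_right _ _ (Ideal.mem_span_singleton_self _)
  have : b ∈ ((Ideal.span {a}).map (algebraMap R S)).comap (algebraMap R S) := hmem
  rwa [Ideal.comap_map_eq_self_of_faithfullyFlat] at this

open Groth.Agent.H15.FlatLoc in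
/-- Serre's criterion along a flat map: if `A` is normal, `A → B` is flat (Noetherian rings) and
`B_q` is a normal domain for all primes `q` lying over primes of height `≤ 1`, then `B` is normal. -/
theorem normal_of_flat_of_height_le_one (A B : Type u) [CommRing A] [CommRing B] [Algebra A B]
    [IsNoetherianRing A] [IsNoetherianRing B] [Module.Flat A B]
    (hA : EGA4.IsNormalRing A)
    (h : ∀ (q : Ideal B) [q.IsPrime], (q.comap (algebraMap A B)).height ≤ ((1 : ℕ) : ℕ∞) →
      IsDomain (Localization.AtPrime q) ∧ IsIntegrallyClosed (Localization.AtPrime q)) :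
    EGA4.IsNormalRing B := by
  have key : ∀ (q' : Ideal B) [q'.IsPrime],
      (q'.height ≤ ((1 : ℕ) : ℕ∞) → IsRegularLocalRing (Localization.AtPrime q')) ∧
      min ((2 : ℕ) : ℕ∞) q'.height ≤
        LocCoh.depth (Localization.AtPrime q') (Localization.AtPrime q') := by
    intro q' _
    haveI := isLocalRing_fibLocRing A B q'
    obtain ⟨hdim, hdepth, hreg⟩ := flat_data A B q'
    rw [← IsLocalRing.maximalIdeal_height_eq_ringKrullDim] at hdim
    have hdim' : q'.height = (q'.comap (algebraMap A B)).height +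
        (maximalIdeal (EGA4.FibLocRing A B q')).height := by exact_mod_cast hdim
    have hhtq : (maximalIdeal (Localization.AtPrime q')).height = q'.height := by
      have e1 : (((maximalIdeal (Localization.AtPrime q')).height : ℕ∞) : WithBot ℕ∞) =
          ((q'.height : ℕ∞) : WithBot ℕ∞) := by
        rw [IsLocalRing.maximalIdeal_height_eq_ringKrullDim,
          IsLocalization.AtPrime.ringKrullDim_eq_height q' (Localization.AtPrime q')]
      exact WithBot.coe_injective e1
    by_cases hp : (q'.comap (algebraMap A B)).height ≤ ((1 : ℕ) : ℕ∞)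
    · obtain ⟨hd, hic⟩ := h q' hp
      constructor
      · intro h1
        haveI := Groth.Agent.H15.NormalAscent.isPrincipalIdealRing_of_normal_of_dim_le_one
          (Localization.AtPrime q') (by
            rw [IsLocalization.AtPrime.ringKrullDim_eq_height q' (Localization.AtPrime q')]
            exact_mod_cast h1)
        infer_instance
      · have := min_two_le_depth_of_normal (Localization.AtPrime q')
        rwa [hhtq] at this
    · constructor
      · intro h1
        exact absurd (le_trans (hdim' ▸ le_self_add) h1) hp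
      · obtain ⟨hAd, hAic⟩ := hA (q'.comap (algebraMap A B))
        have hdA := min_two_le_depth_of_normal (Localization.AtPrime (q'.comap (algebraMap A B)))
        have hhtA : (maximalIdeal (Localization.AtPrime (q'.comap (algebraMap A B)))).height =
            (q'.comap (algebraMap A B)).height := by
          have e1 : (((maximalIdeal (Localization.AtPrime (q'.comap (algebraMap A B)))).height : ℕ∞) :
              WithBot ℕ∞) = (((q'.comap (algebraMap A B)).height : ℕ∞) : WithBot ℕ∞) := by
            rw [IsLocalRing.maximalIdeal_height_eq_ringKrullDim,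
              IsLocalization.AtPrime.ringKrullDim_eq_height (q'.comap (algebraMap A B))
                (Localization.AtPrime (q'.comap (algebraMap A B)))]
          exact WithBot.coe_injective e1
        rw [hhtA] at hdA
        have h2 : ((2 : ℕ) : ℕ∞) ≤ (q'.comap (algebraMap A B)).height := by
          rw [not_le] at hp
          have := Order.add_one_le_of_lt hp
          exact_mod_cast this
        rw [min_eq_left h2] at hdA
        rw [hdepth]
        exact le_trans (min_le_left _ _) (le_trans hdA le_self_add)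
  have hR1 : LocCoh.HasRk 1 B := fun Q hQ hht => (key Q).1 hht
  have hS2 : LocCoh.HasSk 2 B B := by
    rw [Groth.Agent.S2659.hasSk_self_iff]
    intro Q hQ
    have d1 : LocCoh.depth (Localization.AtPrime Q) (LocalizedModule Q.primeCompl B) =
        LocCoh.depth (Localization.AtPrime Q) (Localization.AtPrime Q) :=
      Groth.Agent.H15.DepthSpread.idealDepth_congr (Groth.Agent.S0602.locSelfEquiv Q.primeCompl)
    rw [d1]
    exact (key Q).2
  intro P hP
  exact Groth.Agent.H15.SerreNormal.normal_of_hasRk_hasSk hR1 hS2 P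

/-- existence of a prime of `B' ⊗[B] C` over a prime `q` of `B'` and containing the extension of a
prime `P₀` of `C`, when `B'` is flat over `B` and `C` is finite over `B`. -/
theorem exists_prime_over {B C B' : Type*} [CommRing B] [CommRing C] [CommRing B'] [Algebra B C]
    [Algebra B B'] [Module.Flat B B'] [Module.Finite B C] (P₀ : Ideal C) (q : Ideal B') [q.IsPrime]
    (hle : (P₀.comap (algebraMap B C)).map (algebraMap B B') ≤ q) :
    ∃ q' : Ideal (B' ⊗[B] C), q'.IsPrime ∧
      P₀.map (Algebra.TensorProduct.includeRight : C →ₐ[B] B' ⊗[B] C).toRingHom ≤ q' ∧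
      q'.comap (algebraMap B' (B' ⊗[B] C)) = q := by
  haveI : Algebra.IsIntegral B' (B' ⊗[B] C) := Algebra.IsIntegral.of_finite B' (B' ⊗[B] C)
  have h : (P₀.map (Algebra.TensorProduct.includeRight : C →ₐ[B] B' ⊗[B] C).toRingHom).comap
      (algebraMap B' (B' ⊗[B] C)) ≤ q := by
    intro x hx
    apply hle
    -- the quotient map
    let π : B' ⊗[B] C →ₐ[B'] B' ⊗[B] (C ⧸ P₀) :=
      Algebra.TensorProduct.map (AlgHom.id B' B') (Ideal.Quotient.mkₐ B P₀)
    have hker : P₀.map (Algebra.TensorProduct.includeRight : C →ₐ[B] B' ⊗[B] C).toRingHom ≤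
        RingHom.ker π.toRingHom := by
      rw [Ideal.map_le_iff_le_comap]
      intro c hc
      rw [Ideal.mem_comap, RingHom.mem_ker]
      show π (1 ⊗ₜ c) = 0
      simp only [π, Algebra.TensorProduct.map_tmul, Ideal.Quotient.mkₐ_eq_mk]
      rw [Ideal.Quotient.eq_zero_iff_mem.mpr hc, TensorProduct.tmul_zero]
    have h0 : π (algebraMap B' (B' ⊗[B] C) x) = 0 := hker hx
    have h1 : x ⊗ₜ[B] (1 : C ⧸ P₀) = 0 := by
      rw [← h0]
      simp [π, Algebra.TensorProduct.algebraMap_apply]
    have h2 := Groth.Agent.H23.C2Flat.tmul_one_eq_zero (R₀ := B) (S₀ := B') (R' := C ⧸ P₀) x h1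
    have h3 : RingHom.ker (algebraMap B (C ⧸ P₀)) = P₀.comap (algebraMap B C) := by
      ext b
      rw [RingHom.mem_ker, Ideal.mem_comap, IsScalarTower.algebraMap_apply B C (C ⧸ P₀),
        Ideal.Quotient.algebraMap_eq, Ideal.Quotient.eq_zero_iff_mem]
    rwa [h3] at h2
  obtain ⟨q', hq'le, hq'p, hq'o⟩ := Ideal.exists_ideal_over_prime_of_isIntegral q _ h
  exact ⟨q', hq'p, hq'le, hq'o⟩

/-- The `𝔪_A C`-adic completion of a finite `A`-algebra `C` is `C ⊗[A] Â`. -/
theorem nonempty_cplEquiv (A : Type u) [CommRing A] [IsNoetherianRing A] [IsLocalRing A]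
    (C : Type u) [CommRing C] [Algebra A C] [Module.Finite A C] :
    Nonempty (AdicCompletion ((maximalIdeal A).map (algebraMap A C)) C ≃+*
      C ⊗[A] EGA4.Cpl A) := by
  obtain ⟨N, hN⟩ := Groth.Agent.H29.CplFinite.exists_jacobson_pow_le A C
  let I : Ideal (C ⊗[A] EGA4.Cpl A) :=
    ((maximalIdeal A).map (algebraMap A C)).map (algebraMap C (C ⊗[A] EGA4.Cpl A))
  have hsurj : ∀ (n : ℕ) (s : C ⊗[A] EGA4.Cpl A),
      ∃ c : C, s - Algebra.ofId C (C ⊗[A] EGA4.Cpl A) c ∈ I ^ n := by
    intro n s
    obtain ⟨c, hc⟩ := Groth.Agent.H29.CplFinite.hsurj A C (N * n) s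
    refine ⟨c, ?_⟩
    have hle : (Groth.Agent.H29.CplFinite.JS A C) ^ (N * n) ≤ I ^ n := by
      rw [pow_mul (Groth.Agent.H29.CplFinite.JS A C) N n]
      apply Ideal.pow_right_mono
      show (((⊥ : Ideal C).jacobson).map (algebraMap C (C ⊗[A] EGA4.Cpl A))) ^ N ≤ I
      rw [← Ideal.map_pow]
      exact Ideal.map_mono hN
    exact hle hc
  have hinj : ∀ (n : ℕ) (c : C), Algebra.ofId C (C ⊗[A] EGA4.Cpl A) c ∈ I ^ n →
      c ∈ ((maximalIdeal A).map (algebraMap A C)) ^ n := by
    intro n c hc
    have h1 : I ^ n = (((maximalIdeal A).map (algebraMap A C)) ^ n).map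
        (algebraMap C (C ⊗[A] EGA4.Cpl A)) := (Ideal.map_pow _ _ _).symm
    rw [h1] at hc
    have h2 : c ∈ ((((maximalIdeal A).map (algebraMap A C)) ^ n).map
        (algebraMap C (C ⊗[A] EGA4.Cpl A))).comap (algebraMap C (C ⊗[A] EGA4.Cpl A)) := hc
    rwa [Ideal.comap_map_eq_self_of_faithfullyFlat] at h2
  obtain ⟨e1⟩ := Groth.Agent.H87.ComplIso.nonempty_algEquiv (R := C)
    ((maximalIdeal A).map (algebraMap A C)) I (Algebra.ofId C (C ⊗[A] EGA4.Cpl A))
    (fun x hx => Ideal.mem_map_of_mem _ hx) hsurj hinj
  haveI : IsAdicComplete I (C ⊗[A] EGA4.Cpl A) :=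
    Groth.Agent.H29.CplFinite.isAdicComplete_tensor_map A C
  let e2 : C ⊗[A] EGA4.Cpl A ≃ₐ[C ⊗[A] EGA4.Cpl A] AdicCompletion I (C ⊗[A] EGA4.Cpl A) :=
    AdicCompletion.ofAlgEquiv I
  exact ⟨e1.toRingEquiv.trans e2.symm.toRingEquiv⟩

section Right

attribute [local instance] Algebra.TensorProduct.rightAlgebra


/-- Steps (i)-(v). -/
theorem exists_flat_point {B C B' : Type u} [CommRing B] [CommRing C] [CommRing B']
    [Algebra B C] [Algebra B B'] [IsNoetherianRing B] [Module.Flat B B']
    [Module.Finite B C] (hinj : Function.Injective (algebraMap B C))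
    (hB : EGA4.IsNormalRing B) (hC' : EGA4.IsNormalRing (B' ⊗[B] C))
    (q : Ideal B') [q.IsPrime] (hp : (q.comap (algebraMap B B')).height ≤ ((1 : ℕ) : ℕ∞)) :
    ∃ (q' : Ideal (B' ⊗[B] C)) (_ : q'.IsPrime), q'.comap (algebraMap B' (B' ⊗[B] C)) = q ∧
      Module.Flat B (Localization.AtPrime (q'.comap (algebraMap C (B' ⊗[B] C)))) := by
  classical
  set p := q.comap (algebraMap B B') with hpdef
  obtain ⟨hBd, hBic⟩ := hB p
  haveI hPID : IsPrincipalIdealRing (Localization.AtPrime p) :=
    Groth.Agent.H15.NormalAscent.isPrincipalIdealRing_of_normal_of_dim_le_one _ (by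
      rw [IsLocalization.AtPrime.ringKrullDim_eq_height p (Localization.AtPrime p)]
      exact_mod_cast hp)
  let p₀ : Ideal B := RingHom.ker (algebraMap B (Localization.AtPrime p))
  haveI hp₀ : p₀.IsPrime := RingHom.ker_isPrime _
  have hp₀p : p₀ ≤ p := by
    intro b hb
    rw [RingHom.mem_ker, IsLocalization.map_eq_zero_iff p.primeCompl] at hb
    obtain ⟨s, hs⟩ := hb
    have : (s : B) * b ∈ p := by rw [hs]; exact p.zero_mem
    exact (Ideal.IsPrime.mem_or_mem inferInstance this).resolve_left s.2
  haveI : Algebra.IsIntegral B C := Algebra.IsIntegral.of_finite B C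
  obtain ⟨P₀, -, hP₀p, hP₀o⟩ := Ideal.exists_ideal_over_prime_of_isIntegral p₀ (⊥ : Ideal C) (by
    rw [← RingHom.ker_eq_comap_bot, (RingHom.injective_iff_ker_eq_bot _).mp hinj]
    exact bot_le)
  haveI := hP₀p
  obtain ⟨q', hq'p, hq'le, hq'o⟩ := exists_prime_over (B := B) (C := C) (B' := B') P₀ q (by
    rw [hP₀o, Ideal.map_le_iff_le_comap]
    exact hp₀p)
  haveI := hq'p
  refine ⟨q', hq'p, hq'o, ?_⟩
  set P := q'.comap (algebraMap C (B' ⊗[B] C)) with hPdef
  have hP₀P : P₀ ≤ P := by
    rw [hPdef, ← Ideal.map_le_iff_le_comap]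
    exact hq'le
  -- C_P is a normal domain
  have hflatC : (algebraMap C (B' ⊗[B] C)).Flat :=
    RingHom.Flat.isStableUnderBaseChange B B' C (B' ⊗[B] C)
      (RingHom.flat_algebraMap_iff.mpr inferInstance)
  have hloc := RingHom.Flat.localRingHom hflatC q' P rfl
  obtain ⟨hCPd, hCPic⟩ : IsDomain (Localization.AtPrime P) ∧
      IsIntegrallyClosed (Localization.AtPrime P) := by
    letI : Algebra (Localization.AtPrime P) (Localization.AtPrime q') :=
      (Localization.localRingHom P q' (algebraMap C (B' ⊗[B] C)) rfl).toAlgebra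
    haveI : Module.Flat (Localization.AtPrime P) (Localization.AtPrime q') := hloc
    haveI : IsLocalHom (algebraMap (Localization.AtPrime P) (Localization.AtPrime q')) :=
      Localization.isLocalHom_localRingHom _ _ _ _
    haveI : Module.FaithfullyFlat (Localization.AtPrime P) (Localization.AtPrime q') :=
      Module.FaithfullyFlat.of_flat_of_isLocalHom
    obtain ⟨hC'd, hC'ic⟩ := hC' q'
    exact normal_descent (R := Localization.AtPrime P) (S := Localization.AtPrime q')
  -- B_p → C_P
  have hPp : p = P.comap (algebraMap B C) := by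
    rw [hPdef, Ideal.comap_comap, ← IsScalarTower.algebraMap_eq B C (B' ⊗[B] C),
      IsScalarTower.algebraMap_eq B B' (B' ⊗[B] C), ← Ideal.comap_comap, hq'o]
  letI : Algebra (Localization.AtPrime p) (Localization.AtPrime P) :=
    (Localization.localRingHom p P (algebraMap B C) hPp).toAlgebra
  haveI : IsScalarTower B (Localization.AtPrime p) (Localization.AtPrime P) :=
    IsScalarTower.of_algebraMap_eq (fun x => by
      rw [RingHom.algebraMap_toAlgebra, Localization.localRingHom_to_map,
        ← IsScalarTower.algebraMap_apply B C (Localization.AtPrime P)])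
  have hinjloc : Function.Injective (algebraMap (Localization.AtPrime p) (Localization.AtPrime P)) := by
    rw [injective_iff_map_eq_zero]
    intro x hx
    obtain ⟨b, s, rfl⟩ := IsLocalization.exists_mk'_eq p.primeCompl x
    rw [RingHom.algebraMap_toAlgebra, Localization.localRingHom_mk',
      IsLocalization.mk'_eq_zero_iff] at hx
    obtain ⟨t, ht⟩ := hx
    have h1 : (t : C) * algebraMap B C b ∈ P₀ := by rw [ht]; exact P₀.zero_mem
    have h2 : algebraMap B C b ∈ P₀ :=
      (Ideal.IsPrime.mem_or_mem inferInstance h1).resolve_left (fun h => t.2 (hP₀P h))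
    have h3 : b ∈ p₀ := by
      rw [← hP₀o]; exact h2
    rw [IsLocalization.mk'_eq_zero_iff]
    exact (IsLocalization.map_eq_zero_iff p.primeCompl _ b).mp h3
  haveI : Module.IsTorsionFree (Localization.AtPrime p) (Localization.AtPrime P) :=
    (Module.isTorsionFree_iff_algebraMap_injective).mpr hinjloc
  haveI : Module.Flat (Localization.AtPrime p) (Localization.AtPrime P) := inferInstance
  exact Module.Flat.trans B (Localization.AtPrime p) (Localization.AtPrime P)

/-- Steps (vi)-(vii). -/
theorem normal_of_flat_point {B C B' : Type u} [CommRing B] [CommRing C] [CommRing B']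
    [Algebra B C] [Algebra B B']
    (hC' : EGA4.IsNormalRing (B' ⊗[B] C))
    (q : Ideal B') [q.IsPrime] (q' : Ideal (B' ⊗[B] C)) [q'.IsPrime]
    (hq' : q'.comap (algebraMap B' (B' ⊗[B] C)) = q)
    (hflat : Module.Flat B (Localization.AtPrime (q'.comap (algebraMap C (B' ⊗[B] C))))) :
    IsDomain (Localization.AtPrime q) ∧ IsIntegrallyClosed (Localization.AtPrime q) := by
  classical
  set P := q'.comap (algebraMap C (B' ⊗[B] C)) with hPdef
  -- M₁
  letI algM : Algebra (B' ⊗[B] C) (B' ⊗[B] Localization.AtPrime P) :=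
    (Algebra.TensorProduct.map (AlgHom.id B' B')
      (IsScalarTower.toAlgHom B C (Localization.AtPrime P))).toRingHom.toAlgebra
  haveI : IsScalarTower B' (B' ⊗[B] C) (B' ⊗[B] Localization.AtPrime P) :=
    IsScalarTower.of_algebraMap_eq (fun x => by
      rw [RingHom.algebraMap_toAlgebra]
      simp [Algebra.TensorProduct.algebraMap_apply])
  haveI hlocM : IsLocalization (P.primeCompl.map
      (Algebra.TensorProduct.includeRight (R := B) (A := B') (B := C)))
      (B' ⊗[B] Localization.AtPrime P) :=
    IsLocalization.tensorProduct_tensorProduct_right B B' P.primeCompl (Localization.AtPrime P) (by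
      ext c
      simp [RingHom.algebraMap_toAlgebra])
  have hdisj : Disjoint ((P.primeCompl.map
      (Algebra.TensorProduct.includeRight (R := B) (A := B') (B := C)) : Submonoid (B' ⊗[B] C)) :
        Set (B' ⊗[B] C)) (q' : Set (B' ⊗[B] C)) := by
    rw [Set.disjoint_left]
    rintro x ⟨c, hc, rfl⟩ hx
    exact hc hx
  let Q₁ : Ideal (B' ⊗[B] Localization.AtPrime P) :=
    q'.map (algebraMap (B' ⊗[B] C) (B' ⊗[B] Localization.AtPrime P))
  haveI hQ₁ : Q₁.IsPrime := IsLocalization.isPrime_of_isPrime_disjoint _ _ q' inferInstance hdisj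
  have hQ₁c : Q₁.comap (algebraMap (B' ⊗[B] C) (B' ⊗[B] Localization.AtPrime P)) = q' :=
    IsLocalization.under_map_of_isPrime_disjoint _ _ inferInstance hdisj
  -- (M₁)_{Q₁} is a normal domain
  obtain ⟨hTd, hTic⟩ : IsDomain (Localization.AtPrime Q₁) ∧
      IsIntegrallyClosed (Localization.AtPrime Q₁) := by
    haveI h1 : IsLocalization.AtPrime (Localization.AtPrime Q₁)
        (Q₁.comap (algebraMap (B' ⊗[B] C) (B' ⊗[B] Localization.AtPrime P))) :=
      IsLocalization.isLocalization_isLocalization_atPrime_isLocalization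
        (P.primeCompl.map (Algebra.TensorProduct.includeRight (R := B) (A := B') (B := C)))
        (Localization.AtPrime Q₁) Q₁
    obtain ⟨hd, hic⟩ := hC' (Q₁.comap (algebraMap (B' ⊗[B] C) (B' ⊗[B] Localization.AtPrime P)))
    let e : Localization.AtPrime (Q₁.comap (algebraMap (B' ⊗[B] C) (B' ⊗[B] Localization.AtPrime P)))
        ≃ₐ[B' ⊗[B] C] Localization.AtPrime Q₁ :=
      IsLocalization.algEquiv
        (Q₁.comap (algebraMap (B' ⊗[B] C) (B' ⊗[B] Localization.AtPrime P))).primeCompl _ _
    exact ⟨e.symm.toMulEquiv.isDomain _, IsIntegrallyClosed.of_equiv e.toRingEquiv⟩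
  -- flat local map B'_q → (M₁)_{Q₁}
  haveI := hflat
  have hφ : (algebraMap B' (B' ⊗[B] Localization.AtPrime P)).Flat :=
    RingHom.flat_algebraMap_iff.mpr inferInstance
  have hQ₁q : q = Q₁.comap (algebraMap B' (B' ⊗[B] Localization.AtPrime P)) := by
    rw [IsScalarTower.algebraMap_eq B' (B' ⊗[B] C) (B' ⊗[B] Localization.AtPrime P),
      ← Ideal.comap_comap, hQ₁c, hq']
  have hloc := RingHom.Flat.localRingHom hφ Q₁ q hQ₁q
  letI : Algebra (Localization.AtPrime q) (Localization.AtPrime Q₁) :=
    (Localization.localRingHom q Q₁ (algebraMap B' (B' ⊗[B] Localization.AtPrime P)) hQ₁q).toAlgebra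
  haveI : Module.Flat (Localization.AtPrime q) (Localization.AtPrime Q₁) := hloc
  haveI : IsLocalHom (algebraMap (Localization.AtPrime q) (Localization.AtPrime Q₁)) :=
    Localization.isLocalHom_localRingHom _ _ _ _
  haveI : Module.FaithfullyFlat (Localization.AtPrime q) (Localization.AtPrime Q₁) :=
    @Module.FaithfullyFlat.of_flat_of_isLocalHom (Localization.AtPrime q) (Localization.AtPrime Q₁)
      _ _ _ _ _ _ _
  exact normal_descent (R := Localization.AtPrime q) (S := Localization.AtPrime Q₁)

/-- **Core**: `B` normal Noetherian, `B → B'` flat with `B'` Noetherian, `B ⊆ C` finite with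
`B' ⊗[B] C` normal. Then `B'` is normal. -/
theorem normal_of_finite_overring {B C B' : Type u} [CommRing B] [CommRing C] [CommRing B']
    [Algebra B C] [Algebra B B'] [IsNoetherianRing B] [IsNoetherianRing B'] [Module.Flat B B']
    [Module.Finite B C] (hinj : Function.Injective (algebraMap B C))
    (hB : EGA4.IsNormalRing B) (hC' : EGA4.IsNormalRing (B' ⊗[B] C)) : EGA4.IsNormalRing B' := by
  refine normal_of_flat_of_height_le_one B B' hB (fun q _ hp => ?_)
  obtain ⟨q', hq'p, hq'o, hfl⟩ := exists_flat_point hinj hB hC' q hp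
  exact normal_of_flat_point hC' q q' hq'o hfl

end Right

/-- For finite algebras `B ⊆ C` over a Noetherian local ring `A`: if `B` is normal and the
`𝔪`-adic completion of `C` is normal, then the `𝔪`-adic completion of `B` is normal. -/
theorem cpl_normal_of_sub (A : Type u) [CommRing A] [IsLocalRing A] [IsNoetherianRing A]
    (B C : Type u) [CommRing B] [CommRing C] [Algebra A B] [Algebra A C] [Algebra B C]
    [IsScalarTower A B C] [Module.Finite A B] [Module.Finite A C]
    (hinj : Function.Injective (algebraMap B C)) (hB : EGA4.IsNormalRing B)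
    (hC : EGA4.IsNormalRing (AdicCompletion ((maximalIdeal A).map (algebraMap A C)) C)) :
    EGA4.IsNormalRing (AdicCompletion ((maximalIdeal A).map (algebraMap A B)) B) := by
  haveI : IsNoetherianRing B := Algebra.FiniteType.isNoetherianRing A B
  haveI : Module.Finite B C := Module.Finite.of_restrictScalars_finite A B C
  obtain ⟨eB⟩ := nonempty_cplEquiv A B
  obtain ⟨eC⟩ := nonempty_cplEquiv A C
  haveI : IsNoetherianRing (B ⊗[A] EGA4.Cpl A) := Groth.Agent.H15.NorCpl.isNoetherianRing_tensor A B
  haveI : Module.Flat A (EGA4.Cpl A) := AdicCompletion.flat_of_isNoetherian (maximalIdeal A)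
  haveI : Module.Flat B (B ⊗[A] EGA4.Cpl A) := inferInstance
  let e3 : (B ⊗[A] EGA4.Cpl A) ⊗[B] C ≃+* C ⊗[A] EGA4.Cpl A :=
    ((Algebra.TensorProduct.comm B (B ⊗[A] EGA4.Cpl A) C).trans
      (Algebra.TensorProduct.cancelBaseChange A B B C (EGA4.Cpl A))).toRingEquiv
  have hC' : EGA4.IsNormalRing ((B ⊗[A] EGA4.Cpl A) ⊗[B] C) :=
    Groth.Agent.H34.FibLoc.isNormalRing_of_ringEquiv (eC.trans e3.symm) hC
  have h := normal_of_finite_overring (B := B) (C := C) (B' := B ⊗[A] EGA4.Cpl A) hinj hB hC'
  exact Groth.Agent.H34.FibLoc.isNormalRing_of_ringEquiv eB.symm h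

end Groth.Agent.H23.CplNormalSub
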