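import Mathlib
import Groth.Agent.H78.SF2

/-!
# Extremally disconnected spectra under quasi-finite f.p. maps (helper23)

If `Spec A` is Hausdorff and extremally disconnected, all residue fields of `A` are separably
closed, and `A → B` is quasi-finite of finite presentation, then `Spec B` is extremally
disconnected.  Route: `Spec B → Spec A` is locally injective (the diagonal of
`Spec (B ⊗ B)` is clopen, and residue field extensions are purely inseparable), images of
basic opens are clopen (Chevalley), so `Spec B` is locally homeomorphic to clopens of `Spec A`.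
-/

set_option autoImplicit false
set_option linter.style.haveILetI false

open TensorProduct Topology PrimeSpectrum

namespace Groth.Agent.H23.EDSpec

universe u

/-- dimension zero: comparable primes are equal -/
def DimZero (C : Type*) [CommRing C] : Prop :=
  ∀ P Q : Ideal C, P.IsPrime → Q.IsPrime → P ≤ Q → P = Q

section T2

variable {C : Type*} [CommRing C]

lemma exists_mul_pow_eq_zero (h : DimZero C) (P : Ideal C) [hP : P.IsPrime] {f : C} (hf : f ∈ P) :
    ∃ s, s ∉ P ∧ ∃ n : ℕ, s * f ^ n = 0 := by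
  by_contra hcon
  push Not at hcon
  let M : Submonoid C := P.primeCompl ⊔ Submonoid.powers f
  have hdisj : Disjoint ((⊥ : Ideal C) : Set C) (M : Set C) := by
    rw [Set.disjoint_left]
    intro x hx hxM
    have hx0 : x = 0 := by simpa using hx
    obtain ⟨s, hs, b, ⟨n, rfl⟩, hsb⟩ := Submonoid.mem_sup.mp hxM
    exact hcon s hs n (by rw [hsb, hx0])
  obtain ⟨Q, hQ, -, hQM⟩ := Ideal.exists_le_prime_disjoint ⊥ M hdisj
  have hQP : Q ≤ P := by
    intro x hxQ
    by_contra hxP
    exact Set.disjoint_left.mp hQM hxQ (Submonoid.mem_sup_left hxP)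
  have hQeq : Q = P := h Q P hQ hP hQP
  exact Set.disjoint_left.mp hQM (hQeq ▸ hf) (Submonoid.mem_sup_right (Submonoid.mem_powers f))

lemma t2Space_of_dimZero (h : DimZero C) : T2Space (PrimeSpectrum C) := by
  refine ⟨fun x y hxy => ?_⟩
  have hnle : ¬ x.asIdeal ≤ y.asIdeal := fun hle =>
    hxy (PrimeSpectrum.ext (h _ _ x.2 y.2 hle))
  obtain ⟨f, hfx, hfy⟩ := Set.not_subset.mp hnle
  obtain ⟨s, hs, n, hsn⟩ := exists_mul_pow_eq_zero h x.asIdeal hfx
  refine ⟨basicOpen s, basicOpen f, (basicOpen s).2, (basicOpen f).2, hs, hfy, ?_⟩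
  rw [Set.disjoint_left]
  intro z hzs hzf
  have hmem : s * f ^ n ∈ z.asIdeal := by rw [hsn]; exact zero_mem _
  rcases z.2.mem_or_mem hmem with h1 | h1
  · exact hzs h1
  · exact hzf (z.2.mem_of_pow_mem n h1)

lemma dimZero_of_t1 (A : Type*) [CommRing A] [T1Space (PrimeSpectrum A)] : DimZero A := by
  intro P Q hP hQ hPQ
  have hmax : P.IsMaximal :=
    (PrimeSpectrum.isClosed_singleton_iff_isMaximal ⟨P, hP⟩).mp isClosed_singleton
  exact hmax.eq_of_le hQ.ne_top hPQ

lemma dimZero_of_quasiFinite (A B : Type*) [CommRing A] [CommRing B] [Algebra A B]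
    [Algebra.QuasiFinite A B] (hA : DimZero A) : DimZero B := by
  intro P Q hP hQ hPQ
  exact Algebra.QuasiFinite.eq_of_le_of_under_eq (R := A) P Q hPQ
    (hA _ _ (Ideal.comap_isPrime _ _) (Ideal.comap_isPrime _ _) (Ideal.comap_mono hPQ))

end T2

lemma isClopen_of_isConstructible {X : Type*} [TopologicalSpace X] [CompactSpace X] [T2Space X]
    {s : Set X} (hs : IsConstructible s) : IsClopen s := by
  induction hs using IsConstructible.empty_union_induction with
  | open_retrocompact U hUopen hUcomp => exact ⟨hUcomp.isCompact.isClosed, hUopen⟩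
  | union s hs t ht hs' ht' => exact hs'.union ht'
  | compl s hs hs' => exact hs'.compl

section Diag

variable {A B : Type u} [CommRing A] [CommRing B] [Algebra A B]

/-- Over a base with separably closed residue fields, a prime of `B ⊗ B` whose two contractions
agree contains the diagonal ideal. -/
lemma sub_mem_of_comap_eq [Algebra.QuasiFinite A B]
    (hres : ∀ p : PrimeSpectrum A, IsSepClosed p.asIdeal.ResidueField)
    (q : Ideal B) [q.IsPrime] (z : Ideal (B ⊗[A] B)) [z.IsPrime]
    (h1 : ∀ x : B, x ⊗ₜ[A] (1 : B) ∈ z ↔ x ∈ q)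
    (h2 : ∀ x : B, (1 : B) ⊗ₜ[A] x ∈ z ↔ x ∈ q) (b : B) :
    (1 : B) ⊗ₜ[A] b - b ⊗ₜ[A] (1 : B) ∈ z := by
  let p : Ideal A := q.under A
  haveI : q.LiesOver p := ⟨rfl⟩
  letI := Localization.AtPrime.algebraOfLiesOver p q
  haveI : IsSepClosed p.ResidueField := hres ⟨p, inferInstance⟩
  haveI : Module.Finite p.ResidueField q.ResidueField := inferInstance
  haveI : Algebra.IsAlgebraic p.ResidueField q.ResidueField := Algebra.IsAlgebraic.of_finite _ _
  haveI : IsPurelyInseparable p.ResidueField q.ResidueField := inferInstance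
  have htower : ∀ a : A, algebraMap p.ResidueField q.ResidueField (algebraMap A p.ResidueField a) =
      algebraMap B q.ResidueField (algebraMap A B a) := by
    intro a
    rw [← IsScalarTower.algebraMap_apply, ← IsScalarTower.algebraMap_apply]
  let φ₁ : B →+* z.ResidueField :=
    (algebraMap (B ⊗[A] B) z.ResidueField).comp Algebra.TensorProduct.includeLeftRingHom
  let φ₂ : B →+* z.ResidueField :=
    (algebraMap (B ⊗[A] B) z.ResidueField).comp
      (Algebra.TensorProduct.includeRight : B →ₐ[A] B ⊗[A] B).toRingHom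
  have hk1 : RingHom.ker φ₁ = q := by
    ext x
    simp only [φ₁, RingHom.mem_ker, RingHom.comp_apply, Ideal.algebraMap_residueField_eq_zero]
    exact h1 x
  have hk2 : RingHom.ker φ₂ = q := by
    ext x
    simp only [φ₂, RingHom.mem_ker, RingHom.comp_apply, Ideal.algebraMap_residueField_eq_zero]
    exact h2 x
  have hu1 : q.primeCompl ≤ (IsUnit.submonoid z.ResidueField).comap φ₁ := by
    intro x hx
    refine (isUnit_iff_ne_zero.mpr fun h0 => hx ?_)
    rw [← hk1]; exact h0
  have hu2 : q.primeCompl ≤ (IsUnit.submonoid z.ResidueField).comap φ₂ := by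
    intro x hx
    refine (isUnit_iff_ne_zero.mpr fun h0 => hx ?_)
    rw [← hk2]; exact h0
  let ψ₁ : q.ResidueField →+* z.ResidueField := Ideal.ResidueField.lift q φ₁ hk1.ge hu1
  let ψ₂ : q.ResidueField →+* z.ResidueField := Ideal.ResidueField.lift q φ₂ hk2.ge hu2
  have hA : ∀ a : A, φ₁ (algebraMap A B a) = φ₂ (algebraMap A B a) := by
    intro a
    simp only [φ₁, φ₂, RingHom.comp_apply]
    congr 1
    simp [Algebra.TensorProduct.includeLeftRingHom, Algebra.algebraMap_eq_smul_one,
      TensorProduct.smul_tmul]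
  have hcomp : ψ₁.comp (algebraMap p.ResidueField q.ResidueField) =
      ψ₂.comp (algebraMap p.ResidueField q.ResidueField) := by
    apply Ideal.ResidueField.ringHom_ext
    ext a
    simp only [RingHom.comp_apply]
    rw [htower a]
    simp only [ψ₁, ψ₂, Ideal.ResidueField.lift_algebraMap]
    exact hA a
  have hψ : ψ₁ = ψ₂ :=
    IsPurelyInseparable.injective_comp_algebraMap p.ResidueField q.ResidueField z.ResidueField hcomp
  have hb : φ₁ b = φ₂ b := by
    have e1 : ψ₁ (algebraMap B q.ResidueField b) = φ₁ b :=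
      Ideal.ResidueField.lift_algebraMap q φ₁ hk1.ge hu1 b
    have e2 : ψ₂ (algebraMap B q.ResidueField b) = φ₂ b :=
      Ideal.ResidueField.lift_algebraMap q φ₂ hk2.ge hu2 b
    rw [← e1, ← e2, hψ]
  rw [← Ideal.algebraMap_residueField_eq_zero (I := z), map_sub, sub_eq_zero]
  exact hb.symm

end Diag

section Main

variable {A B : Type u} [CommRing A] [CommRing B] [Algebra A B]

lemma exists_open_injOn [Algebra.QuasiFinite A B] [Algebra.FiniteType A B]
    (hres : ∀ p : PrimeSpectrum A, IsSepClosed p.asIdeal.ResidueField)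
    (hA : DimZero A) (q : PrimeSpectrum B) :
    ∃ W : Set (PrimeSpectrum B), IsOpen W ∧ q ∈ W ∧ Set.InjOn (comap (algebraMap A B)) W := by
  haveI : Algebra.QuasiFinite A (B ⊗[A] B) := Algebra.QuasiFinite.trans A B _
  have hB : DimZero B := dimZero_of_quasiFinite A B hA
  have hC : DimZero (B ⊗[A] B) := dimZero_of_quasiFinite A _ hA
  haveI := t2Space_of_dimZero hB
  haveI := t2Space_of_dimZero hC
  have hJfg : (KaehlerDifferential.ideal A B).FG := KaehlerDifferential.ideal_fg A B
  let K : Set (PrimeSpectrum (B ⊗[A] B)) := (zeroLocus (KaehlerDifferential.ideal A B : Set _))ᶜ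
  have hKcomp : IsCompact K := (isRetrocompact_zeroLocus_compl_of_fg hJfg).isCompact
  have hρ : Continuous (PrimeSpectrum.tensorProductTo A B B) :=
    PrimeSpectrum.continuous_tensorProductTo A B B
  have hρK : IsClosed (PrimeSpectrum.tensorProductTo A B B '' K) := (hKcomp.image hρ).isClosed
  have hleft : ∀ (z : PrimeSpectrum (B ⊗[A] B)) (x : B),
      x ⊗ₜ[A] (1 : B) ∈ z.asIdeal ↔ x ∈ (PrimeSpectrum.tensorProductTo A B B z).1.asIdeal := by
    intro z x
    simp [PrimeSpectrum.tensorProductTo, Algebra.TensorProduct.algebraMap_apply]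
  have hright : ∀ (z : PrimeSpectrum (B ⊗[A] B)) (x : B),
      (1 : B) ⊗ₜ[A] x ∈ z.asIdeal ↔ x ∈ (PrimeSpectrum.tensorProductTo A B B z).2.asIdeal := by
    intro z x
    simp [PrimeSpectrum.tensorProductTo]
  have hq : (q, q) ∉ PrimeSpectrum.tensorProductTo A B B '' K := by
    rintro ⟨z, hzK, hz⟩
    apply hzK
    rw [mem_zeroLocus, ← KaehlerDifferential.span_range_eq_ideal, SetLike.coe_subset_coe,
      Ideal.span_le]
    rintro _ ⟨b, rfl⟩
    refine sub_mem_of_comap_eq hres q.asIdeal z.asIdeal (fun x => ?_) (fun x => ?_) b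
    · rw [hleft, hz]
    · rw [hright, hz]
  obtain ⟨U, V, hU, hV, hqU, hqV, hUV⟩ := isOpen_prod_iff.mp hρK.isOpen_compl q q hq
  refine ⟨U ∩ V, hU.inter hV, ⟨hqU, hqV⟩, ?_⟩
  intro q₁ hq₁ q₂ hq₂ heq
  have heq' : q₂.asIdeal.comap (algebraMap A B) = q₁.asIdeal.comap (algebraMap A B) := by
    have := congrArg PrimeSpectrum.asIdeal heq
    simpa using this.symm
  obtain ⟨z, hz, hz1, hz2⟩ := Groth.Agent.H78.SF.exists_prime_tensor (A := A) q₂.asIdeal q₁.asIdeal heq'
  have hρz : PrimeSpectrum.tensorProductTo A B B ⟨z, hz⟩ = (q₁, q₂) := by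
    refine Prod.ext (PrimeSpectrum.ext ?_) (PrimeSpectrum.ext ?_)
    · rw [← hz1]; ext x
      simp [PrimeSpectrum.tensorProductTo, Algebra.TensorProduct.algebraMap_apply]
    · rw [← hz2]; rfl
  have hzK : (⟨z, hz⟩ : PrimeSpectrum (B ⊗[A] B)) ∉ K := by
    intro hzK
    have hmem : (q₁, q₂) ∈ U ×ˢ V := ⟨hq₁.1, hq₂.2⟩
    exact hUV hmem ⟨_, hzK, hρz⟩
  have hzJ : (KaehlerDifferential.ideal A B : Set (B ⊗[A] B)) ⊆ (z : Set (B ⊗[A] B)) := by
    simpa [K, mem_zeroLocus] using hzK
  apply PrimeSpectrum.ext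
  ext b
  have hb : (1 : B) ⊗ₜ[A] b - b ⊗ₜ[A] (1 : B) ∈ z :=
    hzJ (KaehlerDifferential.one_smul_sub_smul_one_mem_ideal A b)
  have h1 := hleft ⟨z, hz⟩ b
  have h2 := hright ⟨z, hz⟩ b
  rw [hρz] at h1 h2
  simp only at h1 h2
  rw [← h1, ← h2]
  constructor
  · intro h
    have := z.add_mem hb h
    simpa using this
  · intro h
    have := z.sub_mem h hb
    simpa using this

theorem extremallyDisconnected (A B : Type u) [CommRing A] [CommRing B] [Algebra A B]
    [Algebra.QuasiFinite A B] [Algebra.FinitePresentation A B]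
    (hres : ∀ p : PrimeSpectrum A, IsSepClosed p.asIdeal.ResidueField)
    [T2Space (PrimeSpectrum A)] [ExtremallyDisconnected (PrimeSpectrum A)] :
    ExtremallyDisconnected (PrimeSpectrum B) := by
  have hA : DimZero A := dimZero_of_t1 A
  have hB : DimZero B := dimZero_of_quasiFinite A B hA
  haveI := t2Space_of_dimZero hB
  have hπ : Continuous (comap (algebraMap A B)) := PrimeSpectrum.continuous_comap (algebraMap A B)
  refine ⟨fun U hU => ?_⟩
  rw [isOpen_iff_forall_mem_open]
  intro x hx
  obtain ⟨W₀, hW₀, hxW₀, hinj₀⟩ := exists_open_injOn hres hA x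
  obtain ⟨_, ⟨g, rfl⟩, hxg, hgW⟩ :=
    (PrimeSpectrum.isTopologicalBasis_basic_opens (R := B)).exists_subset_of_mem_open hxW₀ hW₀
  have hWopen : IsOpen (basicOpen g : Set (PrimeSpectrum B)) := (basicOpen g).2
  have hWclopen : IsClopen (basicOpen g : Set (PrimeSpectrum B)) :=
    isClopen_of_isConstructible isConstructible_basicOpen
  have hinj : Set.InjOn (comap (algebraMap A B)) (basicOpen g : Set (PrimeSpectrum B)) :=
    hinj₀.mono hgW
  have hπW : IsOpen (comap (algebraMap A B) '' (basicOpen g : Set (PrimeSpectrum B))) :=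
    (isClopen_of_isConstructible (isConstructible_comap_image
      (RingHom.finitePresentation_algebraMap.mpr inferInstance) isConstructible_basicOpen)).2
  have hO : IsOpen ((basicOpen g : Set (PrimeSpectrum B)) ∩ U) := hWopen.inter hU
  have hπO : IsOpen (comap (algebraMap A B) '' ((basicOpen g : Set (PrimeSpectrum B)) ∩ U)) := by
    have hc : IsClosed (comap (algebraMap A B) ''
        ((basicOpen g : Set (PrimeSpectrum B)) \ ((basicOpen g : Set (PrimeSpectrum B)) ∩ U))) :=
      ((hWclopen.1.sdiff hO).isCompact.image hπ).isClosed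
    have heq : comap (algebraMap A B) '' ((basicOpen g : Set (PrimeSpectrum B)) ∩ U) =
        comap (algebraMap A B) '' (basicOpen g : Set (PrimeSpectrum B)) \
          comap (algebraMap A B) ''
            ((basicOpen g : Set (PrimeSpectrum B)) \ ((basicOpen g : Set (PrimeSpectrum B)) ∩ U)) := by
      apply Set.Subset.antisymm
      · rintro _ ⟨o, ho, rfl⟩
        refine ⟨⟨o, ho.1, rfl⟩, ?_⟩
        rintro ⟨w, hw, hwo⟩
        have : w = o := hinj hw.1 ho.1 hwo
        exact hw.2 (this ▸ ho)
      · rintro _ ⟨⟨w, hw, rfl⟩, hnot⟩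
        by_cases hwU : w ∈ U
        · exact ⟨w, ⟨hw, hwU⟩, rfl⟩
        · exact absurd ⟨w, ⟨hw, fun h => hwU h.2⟩, rfl⟩ hnot
    rw [heq]; exact hπW.sdiff hc
  have hcl : IsOpen (closure (comap (algebraMap A B) '' ((basicOpen g : Set (PrimeSpectrum B)) ∩ U))) :=
    ExtremallyDisconnected.open_closure _ hπO
  have hsubW : closure ((basicOpen g : Set (PrimeSpectrum B)) ∩ U) ⊆ (basicOpen g : Set (PrimeSpectrum B)) :=
    hWclopen.1.closure_subset_iff.mpr Set.inter_subset_left
  have hclO : closure ((basicOpen g : Set (PrimeSpectrum B)) ∩ U) =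
      (basicOpen g : Set (PrimeSpectrum B)) ∩ comap (algebraMap A B) ⁻¹'
        closure (comap (algebraMap A B) '' ((basicOpen g : Set (PrimeSpectrum B)) ∩ U)) := by
    apply Set.Subset.antisymm
    · intro y hy
      exact ⟨hsubW hy, image_closure_subset_closure_image hπ ⟨y, hy, rfl⟩⟩
    · rintro y ⟨hyW, hyc⟩
      have hcc : IsClosed (comap (algebraMap A B) '' closure ((basicOpen g : Set (PrimeSpectrum B)) ∩ U)) :=
        (isClosed_closure.isCompact.image hπ).isClosed
      have hsub : closure (comap (algebraMap A B) '' ((basicOpen g : Set (PrimeSpectrum B)) ∩ U)) ⊆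
          comap (algebraMap A B) '' closure ((basicOpen g : Set (PrimeSpectrum B)) ∩ U) :=
        closure_minimal (Set.image_mono subset_closure) hcc
      obtain ⟨y', hy', hyy'⟩ := hsub hyc
      have : y' = y := hinj (hsubW hy') hyW hyy'
      exact this ▸ hy'
  refine ⟨closure ((basicOpen g : Set (PrimeSpectrum B)) ∩ U), closure_mono Set.inter_subset_right,
    ?_, hWopen.inter_closure ⟨hxg, hx⟩⟩
  rw [hclO]
  exact hWopen.inter (hcl.preimage hπ)

end Main

end Groth.Agent.H23.EDSpec
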