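import Mathlib
import Groth.Prelude.Def_PBC
import Groth.Prelude.Def_ProEtS
import Groth.Agent.H23.EpsDefs
import Groth.Agent.H23.WCover
import Groth.Agent.H23.WCMain
import Groth.Agent.S0177
import Groth.Agent.S0736

/-!
# Affine objects of `X_proet` have affine weakly contractible covers (helper23, piece (CV) of S0717)
-/

set_option autoImplicit false
set_option backward.isDefEq.respectTransparency.types false
universe u
open CategoryTheory CategoryTheory.Limits AlgebraicGeometry Opposite
open Groth.Agent.H23.EpsDefs Groth.Agent.H23.WCDefs Groth.Agent.H23.WCover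

namespace Groth.Agent.H23.EpsCV

theorem hasWContrCovers : HasWContrCovers.{u} := fun A _ => by
  obtain ⟨D, iD, iAD, hff, hIE, hWC⟩ := Groth.Agent.S0177.result A
  exact ⟨D, iD, iAD, hff, Groth.Agent.S0736.result A D hIE, hWC⟩

theorem hasWCCovers (X : Scheme.{u}) : HasWCCovers X := by
  intro Q hQ
  haveI := hQ
  obtain ⟨D, iD, iAD, hff, hwe, hWC⟩ := hasWContrCovers.{u} ↥(Γ(Q.left, ⊤))
  let p : Spec (CommRingCat.of D) ⟶ Spec (Γ(Q.left, ⊤)) :=
    Spec.map (CommRingCat.ofHom (algebraMap ↥(Γ(Q.left, ⊤)) D))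
  haveI hp1 : WeaklyEtale p := weaklyEtale_SpecMap ↥(Γ(Q.left, ⊤)) D
  haveI hp2 : Surjective p := surjective_SpecMap ↥(Γ(Q.left, ⊤)) D
  haveI hp3 : QuasiCompact p := by
    show QuasiCompact (Spec.map _)
    infer_instance
  let q₀ : Spec (CommRingCat.of D) ⟶ Q.left := p ≫ Q.left.isoSpec.inv
  haveI hq1 : WeaklyEtale q₀ := by
    show WeaklyEtale (p ≫ Q.left.isoSpec.inv)
    infer_instance
  haveI hq2 : Surjective q₀ := by
    show Surjective (p ≫ Q.left.isoSpec.inv)
    infer_instance
  haveI hq3 : QuasiCompact q₀ := by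
    show QuasiCompact (p ≫ Q.left.isoSpec.inv)
    infer_instance
  let G : Scheme.Cover.{u} Scheme.proetalePrecoverage Q.left :=
    @Scheme.Cover.ofQuasiCompactCover @WeaklyEtale _ (q₀.cover hq1)
      (QuasiCompactCover.homCover q₀ hq1)
  haveI hQ' : WeaklyEtale (q₀ ≫ Q.hom) := inferInstance
  let Q' : X.ProEt := @Scheme.ProEt.mk X _ (q₀ ≫ Q.hom) hQ'
  let q : Q' ⟶ Q := MorphismProperty.Over.homMk (A := Q') (B := Q) q₀ rfl trivial
  refine ⟨Q', q, ?_, ?_, ?_, ?_⟩
  · show IsAffine (Spec (CommRingCat.of D))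
    infer_instance
  · haveI : IsAffine Q'.left := by
      show IsAffine (Spec (CommRingCat.of D))
      infer_instance
    refine (Groth.Agent.H23.WCStmts.S0715 Q').1 ?_
    show EtPBC.IsWContractible ↥(Γ(Spec (CommRingCat.of D), ⊤))
    exact isWContractible_of_ringEquiv
      (Scheme.ΓSpecIso (CommRingCat.of D)).commRingCatIsoToRingEquiv.symm hWC
  · exact hq2.surj
  · have hR : Presieve.ofArrows (fun _ : G.I₀ => Q') (fun _ => q) ∈
        Scheme.ProEt.precoverage X Q := by
      simp only [Scheme.ProEt.precoverage, Precoverage.mem_comap_iff, Presieve.map_ofArrows]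
      exact G.mem₀
    have h := Precoverage.generate_mem_toGrothendieck hR
    refine (Scheme.ProEt.topology X).superset_covering ?_ h
    rw [Sieve.generate_le_iff]
    rintro Z f ⟨i⟩
    exact Sieve.le_generate _ _ _ (Presieve.singleton.mk)

end Groth.Agent.H23.EpsCV
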