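import Mathlib
import Groth.Prelude.Def_PBC
import Groth.Prelude.Def_ProEtS
import Groth.Agent.H23.EpsDefs
import Groth.Agent.H23.EpsIndDefs
import Groth.Agent.H23.EpsPairDefs

/-!
# Assembly of `LimData` from ind-etale presentation data (helper23)
-/

set_option autoImplicit false
set_option backward.isDefEq.respectTransparency.types false
universe u
open CategoryTheory CategoryTheory.Limits AlgebraicGeometry Opposite
open Groth.Agent.H23.EpsDefs Groth.Agent.H23.EpsIndDefs Groth.Agent.H23.EpsPairDefs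

namespace Groth.Agent.H23.EpsLimAsm

variable (X : Scheme.{u})

/-- the factorisation property (LB) as a hypothesis. -/
def L1 : Prop :=
  ∀ {U : X.Etale} (D : IndPre X U), (∀ j, IsAffine (D.St.obj j).left) → IsLimit D.cone →
    ∀ (V : X.Etale) (φ : D.W ⟶ (ProEtS.eps X).obj V),
      ∃ (j : D.J) (c : D.St.obj j ⟶ V), D.π j ≫ (ProEtS.eps X).map c = φ

/-- the uniqueness property (LB') as a hypothesis. -/
def L1' : Prop :=
  ∀ {U : X.Etale} (D : IndPre X U), (∀ j, IsAffine (D.St.obj j).left) → IsLimit D.cone →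
    ∀ (V : X.Etale) (j : D.J) (c c' : D.St.obj j ⟶ V),
      D.π j ≫ (ProEtS.eps X).map c = D.π j ≫ (ProEtS.eps X).map c' →
      ∃ (i : D.J) (f : i ⟶ j), D.St.map f ≫ c = D.St.map f ≫ c'

variable {X}

theorem eps_map_comp {A B C : X.Etale} (f : A ⟶ B) (g : B ⟶ C) :
    (ProEtS.eps X).map (f ≫ g) = (ProEtS.eps X).map f ≫ (ProEtS.eps X).map g :=
  (ProEtS.eps X).map_comp f g

/-- the `l2` field. -/
theorem l2_of_pairData (h1 : L1 X) (h1' : L1' X) {U : X.Etale} (D : IndData X U)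
    (PD : PairData X D)
    (V₁ : X.Etale) (b : V₁ ⟶ U) (ψ : D.W ⟶ (ProEtS.eps X).obj V₁)
    (hψ : ψ ≫ (ProEtS.eps X).map b = D.w)
    (E : X.Etale) (e₁ e₂ : E ⟶ V₁) (χ : PD.P.W ⟶ (ProEtS.eps X).obj E)
    (hχ₁ : χ ≫ (ProEtS.eps X).map e₁ = PD.p₁ ≫ ψ)
    (hχ₂ : χ ≫ (ProEtS.eps X).map e₂ = PD.p₂ ≫ ψ) :
    ∃ (V₂ : X.Etale) (d : V₂ ⟶ V₁) (ψ₂ : D.W ⟶ (ProEtS.eps X).obj V₂),
      ψ₂ ≫ (ProEtS.eps X).map d = ψ ∧
      ∀ (T : X.Etale) (t₁ t₂ : T ⟶ V₂), t₁ ≫ d ≫ b = t₂ ≫ d ≫ b →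
        ∃ S ∈ X.smallEtaleTopology T, ∀ {T' : X.Etale} (h : T' ⟶ T), S.arrows h →
          ∃ k : T' ⟶ E, k ≫ e₁ = h ≫ t₁ ≫ d ∧ k ≫ e₂ = h ≫ t₂ ≫ d := by
  -- step 1: factor ψ through a stage
  obtain ⟨j, c₀, hc₀⟩ := h1 D.toIndPre D.affSt D.isLimit V₁ ψ
  -- step 2: make it compatible with the maps to U
  obtain ⟨i, f, hf⟩ := h1' D.toIndPre D.affSt D.isLimit U j (c₀ ≫ b) (D.b j) (by
    rw [eps_map_comp, ← Category.assoc, hc₀, hψ, D.π_b])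
  have hc₁ : D.π i ≫ (ProEtS.eps X).map (D.St.map f ≫ c₀) = ψ := by
    rw [eps_map_comp, ← Category.assoc, D.π_nat f, hc₀]
  have hc₁b : (D.St.map f ≫ c₀) ≫ b = D.b i := by
    rw [Category.assoc, hf, D.b_nat f]
  -- step 3: factor χ through a stage of the pair system
  obtain ⟨k₀, c, hc⟩ := h1 PD.P PD.affSt PD.isLimit E χ
  -- step 4: common refinement
  obtain ⟨k₁, ⟨g₁⟩⟩ := PD.hG i
  let k₂ := IsCofiltered.min k₀ k₁
  let u : k₂ ⟶ k₀ := IsCofiltered.minToLeft k₀ k₁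
  let v : k₂ ⟶ k₁ := IsCofiltered.minToRight k₀ k₁
  let g : PD.G.obj k₂ ⟶ i := PD.G.map v ≫ g₁
  let c' : PD.P.St.obj k₂ ⟶ E := PD.P.St.map u ≫ c
  let c₂ : D.St.obj (PD.G.obj k₂) ⟶ V₁ := D.St.map g ≫ D.St.map f ≫ c₀
  have hc' : PD.P.π k₂ ≫ (ProEtS.eps X).map c' = χ := by
    rw [eps_map_comp, ← Category.assoc, PD.P.π_nat u, hc]
  have hc₂ : D.π (PD.G.obj k₂) ≫ (ProEtS.eps X).map c₂ = ψ := by
    rw [eps_map_comp, ← Category.assoc, D.π_nat g, hc₁]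
  have hc₂b : c₂ ≫ b = D.b (PD.G.obj k₂) := by
    rw [Category.assoc, hc₁b, D.b_nat g]
  -- step 5: equalise
  obtain ⟨k₃, u₁, hu₁⟩ := h1' PD.P PD.affSt PD.isLimit V₁ k₂ (c' ≫ e₁) (PD.pr₁ k₂ ≫ c₂) (by
    rw [eps_map_comp, ← Category.assoc, hc', hχ₁, eps_map_comp, ← Category.assoc, PD.π_pr₁,
      Category.assoc, hc₂])
  obtain ⟨k₄, u₂, hu₂⟩ := h1' PD.P PD.affSt PD.isLimit V₁ k₃ (PD.P.St.map u₁ ≫ c' ≫ e₂)
    (PD.P.St.map u₁ ≫ PD.pr₂ k₂ ≫ c₂) (by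
    rw [eps_map_comp, ← Category.assoc, PD.P.π_nat u₁, eps_map_comp, ← Category.assoc, hc', hχ₂,
      eps_map_comp, ← Category.assoc, PD.P.π_nat u₁, eps_map_comp, ← Category.assoc, PD.π_pr₂,
      Category.assoc, hc₂])
  let m : k₄ ⟶ k₂ := u₂ ≫ u₁
  have hm₁ : PD.P.St.map m ≫ c' ≫ e₁ = PD.P.St.map m ≫ PD.pr₁ k₂ ≫ c₂ := by
    simp only [m, Functor.map_comp, Category.assoc]
    rw [hu₁]
  have hm₂ : PD.P.St.map m ≫ c' ≫ e₂ = PD.P.St.map m ≫ PD.pr₂ k₂ ≫ c₂ := by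
    simp only [m, Functor.map_comp, Category.assoc]
    rw [hu₂]
  -- step 6
  refine ⟨D.St.obj (PD.G.obj k₄), D.St.map (PD.G.map m) ≫ c₂, D.π (PD.G.obj k₄), ?_, ?_⟩
  · rw [eps_map_comp, ← Category.assoc, D.π_nat (PD.G.map m), hc₂]
  · intro T t₁ t₂ ht
    have hdb : (D.St.map (PD.G.map m) ≫ c₂) ≫ b = D.b (PD.G.obj k₄) := by
      rw [Category.assoc, hc₂b, D.b_nat]
    have ht' : t₁ ≫ D.b (PD.G.obj k₄) = t₂ ≫ D.b (PD.G.obj k₄) := by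
      rw [← hdb]; exact ht
    obtain ⟨τ, hτ₁, hτ₂⟩ := PD.lift k₄ T t₁ t₂ ht'
    refine ⟨⊤, GrothendieckTopology.top_mem _ _, ?_⟩
    intro T' h _
    refine ⟨h ≫ τ ≫ PD.P.St.map m ≫ c', ?_, ?_⟩
    · simp only [Category.assoc]
      rw [hm₁, ← Category.assoc (PD.P.St.map m), PD.pr₁_nat m, Category.assoc,
        ← Category.assoc τ, hτ₁]
    · simp only [Category.assoc]
      rw [hm₂, ← Category.assoc (PD.P.St.map m), PD.pr₂_nat m, Category.assoc,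
        ← Category.assoc τ, hτ₂]

/-- assembly of `LimData`. -/
theorem nonempty_limData_of (h1 : L1 X) (h1' : L1' X) {U : X.Etale} (D : IndData X U)
    (PD : PairData X D) : Nonempty (LimData X U) := by
  refine ⟨{
    W := D.W
    w := D.w
    W₂ := PD.P.W
    p₁ := PD.p₁
    p₂ := PD.p₂
    affW := D.affW
    wcW := D.wcW
    affW₂ := PD.affW
    surj := D.surj
    cover := D.cover
    comm := PD.comm
    l1 := ?_
    l2 := ?_ }⟩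
  · intro V φ
    obtain ⟨j, c, hc⟩ := h1 D.toIndPre D.affSt D.isLimit V φ
    exact ⟨D.St.obj j, D.b j, D.π j, c, D.affSt j, D.π_b j, hc⟩
  · intro V₁ b ψ hψ E e₁ e₂ χ hχ₁ hχ₂
    exact l2_of_pairData h1 h1' D PD V₁ b ψ hψ E e₁ e₂ χ hχ₁ hχ₂

end Groth.Agent.H23.EpsLimAsm
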