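import Mathlib
import Groth.Prelude.Def_PBC
import Groth.Prelude.Def_ProEtS
import Groth.Agent.H23.EpsDefs

/-!
# Elementwise API for the Kan extension presheaf along `eps` (helper23)
-/

set_option autoImplicit false
set_option backward.isDefEq.respectTransparency.types false
universe u
open CategoryTheory CategoryTheory.Limits AlgebraicGeometry Opposite
open Groth.Agent.H23.EpsDefs

namespace Groth.Agent.H23.EpsRep

variable (X : Scheme.{u})

instance preservesFiniteLimits_eps : PreservesFiniteLimits (ProEtS.eps X) := by
  haveI : PreservesFiniteLimits (ProEtS.eps X ⋙ Scheme.ProEt.forget X) :=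
    inferInstanceAs (PreservesFiniteLimits (Scheme.Etale.forget X))
  haveI : ReflectsLimitsOfSize.{0, 0} (Scheme.ProEt.forget X) := inferInstance
  constructor
  intro J _ _
  exact preservesLimitsOfShape_of_reflects_of_preserves (ProEtS.eps X) (Scheme.ProEt.forget X)

instance flat_eps : RepresentablyFlat (ProEtS.eps X) := flat_of_preservesFiniteLimits _

instance (W : X.ProEt) : IsFiltered (CostructuredArrow (ProEtS.eps X).op (op W)) :=
  IsFiltered.of_equivalence (structuredArrowOpEquivalence (ProEtS.eps X) W)

/-- the colimit cocone computing the Kan extension at `W`. -/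
noncomputable def isColimitAt (F : X.Etaleᵒᵖ ⥤ AddCommGrpCat.{u + 1}) (W : X.ProEt) :
    IsColimit ((Functor.LeftExtension.mk _ ((ProEtS.eps X).op.leftKanExtensionUnit F)).coconeAt
      (op W)) :=
  Functor.isPointwiseLeftKanExtensionLeftKanExtensionUnit (ProEtS.eps X).op F (op W)

instance : PreservesFilteredColimitsOfSize.{u, u + 1} (forget AddCommGrpCat.{u + 1}) :=
  preservesFilteredColimitsOfSize_shrink.{u + 1, u + 1, u, u + 1} _

/-- the same cocone after forgetting to types is still a colimit (filtered). -/
noncomputable def isColimitAtForget (F : X.Etaleᵒᵖ ⥤ AddCommGrpCat.{u + 1}) (W : X.ProEt) :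
    IsColimit ((forget AddCommGrpCat.{u + 1}).mapCocone
      ((Functor.LeftExtension.mk _ ((ProEtS.eps X).op.leftKanExtensionUnit F)).coconeAt (op W))) :=
  isColimitOfPreserves (forget AddCommGrpCat.{u + 1}) (isColimitAt X F W)

theorem repAPI (F : X.Etaleᵒᵖ ⥤ AddCommGrpCat.{u + 1}) : RepAPI X F where
  r0 := by
    intro V V' a s
    have h := ConcreteCategory.congr_hom (((ProEtS.eps X).op.lanUnit.app F).naturality a.op) s
    simp only [ConcreteCategory.comp_apply] at h
    exact h.symm
  r1 := by
    intro W x
    obtain ⟨j, s, hs⟩ := Types.jointly_surjective_of_isColimit (isColimitAtForget X F W) x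
    exact ⟨j.left.unop, j.hom.unop, s, hs.symm⟩
  r2 := by
    intro W V V' φ φ' s s' h
    let j : CostructuredArrow (ProEtS.eps X).op (op W) :=
      CostructuredArrow.mk (Y := op V) (φ.op : (ProEtS.eps X).op.obj (op V) ⟶ op W)
    let j' : CostructuredArrow (ProEtS.eps X).op (op W) :=
      CostructuredArrow.mk (Y := op V') (φ'.op : (ProEtS.eps X).op.obj (op V') ⟶ op W)
    have h' : ((forget AddCommGrpCat.{u + 1}).mapCocone ((Functor.LeftExtension.mk _
        ((ProEtS.eps X).op.leftKanExtensionUnit F)).coconeAt (op W))).ι.app j s =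
        ((forget AddCommGrpCat.{u + 1}).mapCocone ((Functor.LeftExtension.mk _
        ((ProEtS.eps X).op.leftKanExtensionUnit F)).coconeAt (op W))).ι.app j' s' := h
    obtain ⟨k, g, g', hk⟩ :=
      (Types.FilteredColimit.isColimit_eq_iff _ (isColimitAtForget X F W)).1 h'
    refine ⟨k.left.unop, k.hom.unop, g.left.unop, g'.left.unop, ?_, ?_, hk⟩
    · have := CostructuredArrow.w g
      exact congrArg Quiver.Hom.unop this
    · have := CostructuredArrow.w g'
      exact congrArg Quiver.Hom.unop this
  r2' := by
    intro W V φ s s' h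
    let j : CostructuredArrow (ProEtS.eps X).op (op W) :=
      CostructuredArrow.mk (Y := op V) (φ.op : (ProEtS.eps X).op.obj (op V) ⟶ op W)
    have h' : ((forget AddCommGrpCat.{u + 1}).mapCocone ((Functor.LeftExtension.mk _
        ((ProEtS.eps X).op.leftKanExtensionUnit F)).coconeAt (op W))).ι.app j s =
        ((forget AddCommGrpCat.{u + 1}).mapCocone ((Functor.LeftExtension.mk _
        ((ProEtS.eps X).op.leftKanExtensionUnit F)).coconeAt (op W))).ι.app j s' := h
    obtain ⟨k, g, hk⟩ :=
      (Types.FilteredColimit.isColimit_eq_iff' (isColimitAtForget X F W) (i := j) s s').1 h'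
    refine ⟨k.left.unop, k.hom.unop, g.left.unop, ?_, hk⟩
    have := CostructuredArrow.w g
    exact congrArg Quiver.Hom.unop this

end Groth.Agent.H23.EpsRep
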