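import Mathlib
import Groth.Prelude.Def_PBC
import Groth.Prelude.Def_ProEtS
import Groth.Agent.H23.WCMain

/-!
# Sheafification does not change sections over affine weakly contractible objects, II (helper23)

The version of S0725 needing only that the presheaf turns finite clopen decompositions of `W` into
products.
-/

set_option autoImplicit false
set_option backward.isDefEq.respectTransparency.types false
universe u
open CategoryTheory CategoryTheory.Limits AlgebraicGeometry Opposite
open Groth.Agent.H23.WCDefs

namespace Groth.Agent.H23.WCSheafify2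

theorem sheafify_bijective_of_restrict_bijective {X : Scheme.{u}} (P : X.ProEtᵒᵖ ⥤ Type (u + 1))
    (W : X.ProEt) [IsAffine W.left] (hW : ProEtS.IsWC W)
    (hP : ∀ (n : ℕ) (V : Fin n → W.left.Opens),
      Pairwise (fun k l => Disjoint (V k : Set ↥W.left) (V l)) →
      (⋃ k, (V k : Set ↥W.left)) = Set.univ →
      Function.Bijective (fun (s : P.obj (op W)) (k : Fin n) => P.map (openIncl W (V k)).op s)) :
    Function.Bijective ((toSheafify (Scheme.ProEt.topology X) P).app (op W)) := by
  have hWC := (Groth.Agent.H23.WCStmts.S0715 W).2 hW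
  have hcl := Groth.Agent.H23.WCStmts.clopenRefines_of_isWContractible W hWC
  set η := toSheafify (Scheme.ProEt.topology X) P with hη
  let G : Sheaf (Scheme.ProEt.topology X) (Type (u + 1)) :=
    (presheafToSheaf (Scheme.ProEt.topology X) (Type (u + 1))).obj P
  constructor
  · intro s t hst
    have h1 := Presheaf.equalizerSieve_mem (Scheme.ProEt.topology X) η (X := op W) s t hst
    obtain ⟨n, V, hV1, hV2, hV3, hVR⟩ := hcl _ h1
    apply (hP n V hV2 hV3).1
    funext k
    exact hVR k
  · intro t
    have h1 := Presheaf.imageSieve_mem (Scheme.ProEt.topology X) η (U := op W) t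
    obtain ⟨n, V, hV1, hV2, hV3, hVR⟩ := hcl _ h1
    choose s hs using hVR
    obtain ⟨s₀, hs₀⟩ := (hP n V hV2 hV3).2 s
    refine ⟨s₀, ?_⟩
    apply (Groth.Agent.H23.WCStmts.bijective_restrict_disjoint_cover G W V hV2 hV3).1
    funext k
    have h2 := congrFun hs₀ k
    simp only at h2
    have h3 := FunctorToTypes.naturality η (openIncl W (V k)).op s₀
    show (sheafify (Scheme.ProEt.topology X) P).map _ (η.app (op W) s₀) = _
    rw [← h3, h2]
    exact hs k

end Groth.Agent.H23.WCSheafify2
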