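import Mathlib
import Groth.Prelude.Def_PBC
import Groth.Prelude.Def_ProEtS
import Groth.Agent.H23.EpsDefs
import Groth.Agent.H23.EpsRep
import Groth.Agent.H23.EpsE1b
import Groth.Agent.H23.WCSheafify2
import Groth.Agent.H96.Eps_E1a
import Groth.Agent.H96.Eps_E1c
import Groth.Agent.H96.Eps_U0
import Groth.Agent.H67.Eps_SURJ
import Groth.Agent.H67.Eps_SEP

/-!
# The unit of `eps^{-1} ⊣ eps_*` is an isomorphism, given weakly contractible covers and limit data
(helper23; pieces by helper96, helper67, helper97)
-/

set_option autoImplicit false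
set_option backward.isDefEq.respectTransparency.types false
universe u
open CategoryTheory CategoryTheory.Limits AlgebraicGeometry Opposite
open Groth.Agent.H23.EpsDefs Groth.Agent.H23.WCDefs

namespace Groth.Agent.H23.EpsMain

variable (X : Scheme.{u})

instance faithful_eps : (ProEtS.eps X).Faithful where
  map_injective {A B} f g h := by
    apply MorphismProperty.Over.Hom.ext
    exact congrArg (fun t => t.left) h

instance full_eps : (ProEtS.eps X).Full where
  map_surjective {A B} f := by
    refine ⟨MorphismProperty.Over.homMk f.left (MorphismProperty.Over.w f) trivial, ?_⟩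
    apply MorphismProperty.Over.Hom.ext
    rfl

theorem bijective_lanUE (F : X.Etaleᵒᵖ ⥤ AddCommGrpCat.{u + 1}) (U : X.Etale) :
    Function.Bijective (lanUE X F U) := by
  haveI : IsIso (((ProEtS.eps X).op.lanUnit.app F).app (op U)) := inferInstance
  exact (ConcreteCategory.isIso_iff_bijective _).1 this

/-- (E1) -/
theorem wcBij (F : EtCoh.Ab X) : WCBij X F := by
  intro W hW hWC
  haveI := hW
  apply Groth.Agent.H96.Eps_E1c.bijective_toSheafify_of_forget
  apply Groth.Agent.H23.WCSheafify2.sheafify_bijective_of_restrict_bijective _ W hWC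
  intro n V hdisj hcov
  exact Groth.Agent.H23.EpsE1b.bijective_restrict_lanE X F (Groth.Agent.H23.EpsRep.repAPI X F.obj)
    (Groth.Agent.H96.Eps_E1a.coprodAPI X F) W V hdisj hcov

/-- the key bijectivity on affine etale objects. -/
theorem bijective_key (hCV : HasWCCovers X)
    (hLim : ∀ (U : X.Etale), IsAffine U.left → Nonempty (LimData X U))
    (F : EtCoh.Ab X) [ProEtS.EpsCont X] (U : X.Etale) (hU : IsAffine U.left) :
    Function.Bijective (fun s : F.obj.obj (op U) =>
      ((thetaE X F.obj).app (op ((ProEtS.eps X).obj U))).hom (lanUE X F.obj U s)) := by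
  have hR := Groth.Agent.H23.EpsRep.repAPI X F.obj
  have hB := wcBij X F
  have hS := Groth.Agent.H67.Eps_SEP.sepAff X F hR hB hCV
  obtain ⟨L⟩ := hLim U hU
  refine ⟨?_, Groth.Agent.H67.Eps_SURJ.surjective_thetaE X F hR hB hS U L⟩
  -- injectivity: lanUE is injective (eps fully faithful) and theta is injective on affines
  intro s t hst
  have h1 := hS ((ProEtS.eps X).obj U) (by exact hU) hst
  exact (bijective_lanUE X F.obj U).1 h1

/-- the unit of the constructed adjunction is an isomorphism. -/
theorem isIso_unit_constructed (hCV : HasWCCovers X)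
    (hLim : ∀ (U : X.Etale), IsAffine U.left → Nonempty (LimData X U))
    (F : EtCoh.Ab X) [ProEtS.EpsCont X] :
    IsIso ((Functor.sheafPullbackConstruction.sheafAdjunctionContinuous (ProEtS.eps X)
      AddCommGrpCat.{u + 1} X.smallEtaleTopology (Scheme.ProEt.topology X)).unit.app F) := by
  apply Functor.IsCoverDense.iso_of_restrict_iso (G := Scheme.AffineEtale.Spec X)
  apply (config := { allowSynthFailures := true }) NatIso.isIso_of_isIso_app
  intro R
  rw [ConcreteCategory.isIso_iff_bijective]
  have hk := bijective_key X hCV hLim F ((Scheme.AffineEtale.Spec X).obj R.unop)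
    (by
      show IsAffine (Spec _)
      infer_instance)
  have h0 := Groth.Agent.H96.Eps_U0.unit_app_hom_app X F ((Scheme.AffineEtale.Spec X).obj R.unop)
  show Function.Bijective ((((Functor.sheafPullbackConstruction.sheafAdjunctionContinuous
    (ProEtS.eps X) AddCommGrpCat.{u + 1} X.smallEtaleTopology
    (Scheme.ProEt.topology X)).unit.app F).hom.app
      (op ((Scheme.AffineEtale.Spec X).obj R.unop))).hom)
  rw [h0]
  exact hk

theorem main_of (hCV : HasWCCovers X)
    (hLim : ∀ (U : X.Etale), IsAffine U.left → Nonempty (LimData X U))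
    (F : EtCoh.Ab X) [ProEtS.EpsCont X] : IsIso ((ProEtS.epsAdj X).unit.app F) := by
  have h := isIso_unit_constructed X hCV hLim F
  have e := Adjunction.unit_leftAdjointUniq_hom_app (ProEtS.epsAdj X)
    (Functor.sheafPullbackConstruction.sheafAdjunctionContinuous (ProEtS.eps X)
      AddCommGrpCat.{u + 1} X.smallEtaleTopology (Scheme.ProEt.topology X)) F
  haveI : IsIso ((ProEtS.epsAdj X).unit.app F ≫ (ProEtS.epsPush X).map
      (((ProEtS.epsAdj X).leftAdjointUniq
        (Functor.sheafPullbackConstruction.sheafAdjunctionContinuous (ProEtS.eps X)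
          AddCommGrpCat.{u + 1} X.smallEtaleTopology (Scheme.ProEt.topology X))).hom.app F)) := by
    rw [e]; exact h
  exact IsIso.of_isIso_comp_right _ ((ProEtS.epsPush X).map
      (((ProEtS.epsAdj X).leftAdjointUniq
        (Functor.sheafPullbackConstruction.sheafAdjunctionContinuous (ProEtS.eps X)
          AddCommGrpCat.{u + 1} X.smallEtaleTopology (Scheme.ProEt.topology X))).hom.app F))

end Groth.Agent.H23.EpsMain
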