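import Mathlib
import Groth.Prelude.Def_PBC
import Groth.Prelude.Def_ProEtS
import Groth.Prelude.Def_EtModW
import Groth.Agent.H23.EpsDefs
import Groth.Agent.H23.EpsDefsM
import Groth.Agent.H54.EpsM_E1c
import Groth.Agent.H54.EpsM_U0
import Groth.Agent.H10.EpsM_E1a
import Groth.Agent.H10.EpsM_E1b
import Groth.Agent.H68.EpsM_SEP
import Groth.Agent.H68.EpsM_SURJ
import Groth.Agent.H96.EpsM_R
import Groth.Agent.H23.WCSheafify2
import Groth.Agent.H23.EpsMain

/-!
# (Module version) The unit of `eps^{-1} ⊣ eps_*` is an isomorphism, given weakly contractible covers and limit data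
(helper23; pieces by helper96, helper67, helper97)
-/

set_option autoImplicit false
set_option backward.isDefEq.respectTransparency.types false
universe u
open CategoryTheory CategoryTheory.Limits AlgebraicGeometry Opposite
open Groth.Agent.H23.EpsDefs Groth.Agent.H23.EpsDefsM Groth.Agent.H23.WCDefs

namespace Groth.Agent.H23.EpsMainM

variable (Λ : Type (u + 1)) [CommRing Λ] (X : Scheme.{u})

theorem bijective_lanUE (F : X.Etaleᵒᵖ ⥤ (ModuleCat.{u + 1} Λ)) (U : X.Etale) :
    Function.Bijective (lanUE Λ X F U) := by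
  haveI : IsIso (((ProEtS.eps X).op.lanUnit.app F).app (op U)) := inferInstance
  exact (ConcreteCategory.isIso_iff_bijective _).1 this

/-- (E1) -/
theorem wcBij (F : EtModW.Mod Λ X) : WCBij Λ X F := by
  intro W hW hWC
  haveI := hW
  apply Groth.Agent.H54.EpsM_E1c.bijective_toSheafify_of_forget
  apply Groth.Agent.H23.WCSheafify2.sheafify_bijective_of_restrict_bijective _ W hWC
  intro n V hdisj hcov
  exact Groth.Agent.H10.EpsM_E1b.bijective_restrict_lanE Λ X F (Groth.Agent.H96.EpsM_R.repAPI Λ X F.obj)
    (Groth.Agent.H10.EpsM_E1a.coprodAPI Λ X F) W V hdisj hcov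

/-- the key bijectivity on affine etale objects. -/
theorem bijective_key (hCV : HasWCCovers X)
    (hLim : ∀ (U : X.Etale), IsAffine U.left → Nonempty (LimData X U))
    (F : EtModW.Mod Λ X) [ProEtS.EpsCont X] (U : X.Etale) (hU : IsAffine U.left) :
    Function.Bijective (fun s : F.obj.obj (op U) =>
      ((thetaE Λ X F.obj).app (op ((ProEtS.eps X).obj U))).hom (lanUE Λ X F.obj U s)) := by
  have hR := Groth.Agent.H96.EpsM_R.repAPI Λ X F.obj
  have hB := wcBij Λ X F
  have hS := Groth.Agent.H68.EpsM_SEP.sepAff Λ X F hR hB hCV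
  obtain ⟨L⟩ := hLim U hU
  refine ⟨?_, Groth.Agent.H68.EpsM_SURJ.surjective_thetaE Λ X F hR hB hS U L⟩
  -- injectivity: lanUE is injective (eps fully faithful) and theta is injective on affines
  intro s t hst
  have h1 := hS ((ProEtS.eps X).obj U) (by exact hU) hst
  exact (bijective_lanUE Λ X F.obj U).1 h1

/-- the unit of the constructed adjunction is an isomorphism. -/
theorem isIso_unit_constructed (hCV : HasWCCovers X)
    (hLim : ∀ (U : X.Etale), IsAffine U.left → Nonempty (LimData X U))
    (F : EtModW.Mod Λ X) [ProEtS.EpsCont X] :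
    IsIso ((Functor.sheafPullbackConstruction.sheafAdjunctionContinuous (ProEtS.eps X)
      (ModuleCat.{u + 1} Λ) X.smallEtaleTopology (Scheme.ProEt.topology X)).unit.app F) := by
  apply Functor.IsCoverDense.iso_of_restrict_iso (G := Scheme.AffineEtale.Spec X)
  apply (config := { allowSynthFailures := true }) NatIso.isIso_of_isIso_app
  intro R
  rw [ConcreteCategory.isIso_iff_bijective]
  have hk := bijective_key Λ X hCV hLim F ((Scheme.AffineEtale.Spec X).obj R.unop)
    (by
      show IsAffine (Spec _)
      infer_instance)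
  have h0 := Groth.Agent.H54.EpsM_U0.unit_app_hom_app Λ X F ((Scheme.AffineEtale.Spec X).obj R.unop)
  show Function.Bijective ((((Functor.sheafPullbackConstruction.sheafAdjunctionContinuous
    (ProEtS.eps X) (ModuleCat.{u + 1} Λ) X.smallEtaleTopology
    (Scheme.ProEt.topology X)).unit.app F).hom.app
      (op ((Scheme.AffineEtale.Spec X).obj R.unop))).hom)
  rw [h0]
  exact hk

theorem main_of (hCV : HasWCCovers X)
    (hLim : ∀ (U : X.Etale), IsAffine U.left → Nonempty (LimData X U))
    (F : EtModW.Mod Λ X) [ProEtS.EpsCont X] : IsIso (((ProEtS.eps X).sheafAdjunctionContinuous (ModuleCat.{u + 1} Λ) X.smallEtaleTopology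
      (Scheme.ProEt.topology X)).unit.app F) := by
  have h := isIso_unit_constructed Λ X hCV hLim F
  have e := Adjunction.unit_leftAdjointUniq_hom_app ((ProEtS.eps X).sheafAdjunctionContinuous (ModuleCat.{u + 1} Λ) X.smallEtaleTopology
      (Scheme.ProEt.topology X))
    (Functor.sheafPullbackConstruction.sheafAdjunctionContinuous (ProEtS.eps X)
      (ModuleCat.{u + 1} Λ) X.smallEtaleTopology (Scheme.ProEt.topology X)) F
  haveI : IsIso (((ProEtS.eps X).sheafAdjunctionContinuous (ModuleCat.{u + 1} Λ) X.smallEtaleTopology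
      (Scheme.ProEt.topology X)).unit.app F ≫ ((ProEtS.eps X).sheafPushforwardContinuous (ModuleCat.{u + 1} Λ) X.smallEtaleTopology
      (Scheme.ProEt.topology X)).map
      ((((ProEtS.eps X).sheafAdjunctionContinuous (ModuleCat.{u + 1} Λ) X.smallEtaleTopology
      (Scheme.ProEt.topology X)).leftAdjointUniq
        (Functor.sheafPullbackConstruction.sheafAdjunctionContinuous (ProEtS.eps X)
          (ModuleCat.{u + 1} Λ) X.smallEtaleTopology (Scheme.ProEt.topology X))).hom.app F)) := by
    rw [e]; exact h
  exact IsIso.of_isIso_comp_right _ (((ProEtS.eps X).sheafPushforwardContinuous (ModuleCat.{u + 1} Λ) X.smallEtaleTopology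
      (Scheme.ProEt.topology X)).map
      ((((ProEtS.eps X).sheafAdjunctionContinuous (ModuleCat.{u + 1} Λ) X.smallEtaleTopology
      (Scheme.ProEt.topology X)).leftAdjointUniq
        (Functor.sheafPullbackConstruction.sheafAdjunctionContinuous (ProEtS.eps X)
          (ModuleCat.{u + 1} Λ) X.smallEtaleTopology (Scheme.ProEt.topology X))).hom.app F))

end Groth.Agent.H23.EpsMainM
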