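import Mathlib
import Groth.Prelude.Def_PBC
import Groth.Prelude.Def_EtCore
import Groth.Agent.S6642
import Groth.Agent.S6645
import Groth.Agent.H24.EtCons.E
import Groth.Agent.H45.EtPullExact
set_option autoImplicit false
universe u
open CategoryTheory CategoryTheory.Limits AlgebraicGeometry Topology
open Groth.Agent.H24.EtCons

namespace Groth.Agent.H23.EtConsCommon

/-- Common refinement of two adapted stratifications. -/
theorem adapted_common {X : Scheme.{u}} (F G : EtCoh.Ab X) (S : Set X)
    (hF : EtPBC.AdaptedStrata F S) (hG : EtPBC.AdaptedStrata G S) :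
    ∃ (n : ℕ) (T : Fin n → Scheme.{u}) (g : ∀ i, T i ⟶ X),
      (∀ i, IsImmersion (g i)) ∧
      (∀ i, Topology.IsConstructible ((Subtype.val : S → X) ⁻¹' Set.range (g i))) ∧
      Pairwise (fun i j => Disjoint (Set.range (g i)) (Set.range (g j))) ∧
      (⋃ i, Set.range (g i)) = S ∧
      (∀ i, EtCoh.IsFiniteLocallyConstant ((EtCoh.pull (g i)).obj F)) ∧
      (∀ i, EtCoh.IsFiniteLocallyConstant ((EtCoh.pull (g i)).obj G)) := by
  obtain ⟨n, T, g, a1, a2, a3, a4, a5⟩ := hF
  obtain ⟨m, T', g', b1, b2, b3, b4, b5⟩ := hG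
  let e : Fin n × Fin m ≃ Fin (n * m) := finProdFinEquiv
  have hrange : ∀ k : Fin (n * m),
      Set.range (pullback.fst (g (e.symm k).1) (g' (e.symm k).2) ≫ g (e.symm k).1) =
        Set.range (g (e.symm k).1) ∩ Set.range (g' (e.symm k).2) := fun k =>
    Scheme.Pullback.range_fst_comp _ _
  refine ⟨n * m, fun k => pullback (g (e.symm k).1) (g' (e.symm k).2),
    fun k => pullback.fst (g (e.symm k).1) (g' (e.symm k).2) ≫ g (e.symm k).1,
    ?_, ?_, ?_, ?_, ?_, ?_⟩
  · intro k
    have := a1 (e.symm k).1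
    have := b1 (e.symm k).2
    infer_instance
  · intro k
    rw [hrange k, Set.preimage_inter]
    exact (a2 _).inter (b2 _)
  · intro k l hkl
    change Disjoint (Set.range _) (Set.range _)
    rw [hrange k, hrange l]
    have hne : e.symm k ≠ e.symm l := fun h => hkl (e.symm.injective h)
    by_cases h1 : (e.symm k).1 = (e.symm l).1
    · have h2 : (e.symm k).2 ≠ (e.symm l).2 := fun h2 => hne (Prod.ext h1 h2)
      have hd : Disjoint (Set.range (g' (e.symm k).2)) (Set.range (g' (e.symm l).2)) := b3 h2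
      exact hd.mono Set.inter_subset_right Set.inter_subset_right
    · have hd : Disjoint (Set.range (g (e.symm k).1)) (Set.range (g (e.symm l).1)) := a3 h1
      exact hd.mono Set.inter_subset_left Set.inter_subset_left
  · simp_rw [hrange]
    apply Set.Subset.antisymm
    · intro x hx
      obtain ⟨k, hk1, -⟩ := Set.mem_iUnion.mp hx
      rw [← a4]
      exact Set.mem_iUnion.mpr ⟨_, hk1⟩
    · intro x hx
      have hx1 : x ∈ ⋃ i, Set.range (g i) := a4 ▸ hx
      have hx2 : x ∈ ⋃ j, Set.range (g' j) := b4 ▸ hx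
      obtain ⟨i, hi⟩ := Set.mem_iUnion.mp hx1
      obtain ⟨j, hj⟩ := Set.mem_iUnion.mp hx2
      refine Set.mem_iUnion.mpr ⟨e (i, j), ?_⟩
      rw [Equiv.symm_apply_apply]
      exact ⟨hi, hj⟩
  · intro k
    exact flc_pull_comp F (g (e.symm k).1) (pullback.fst _ _) (a5 _)
  · intro k
    have h := flc_pull_comp G (g' (e.symm k).2)
      (pullback.snd (g (e.symm k).1) (g' (e.symm k).2)) (b5 _)
    rw [← pullback.condition] at h
    exact h

/-- General principle: a sheaf `P` whose pullback to any scheme over `X` is finite locally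
constant as soon as the pullbacks of `F` and `G` are, is constructible if `F` and `G` are. -/
theorem isConstructible_of_flc_of_flc {X : Scheme.{u}} (F G P : EtCoh.Ab X)
    (hF : EtPBC.IsConstructible F) (hG : EtPBC.IsConstructible G)
    (hP : ∀ {T : Scheme.{u}} (g : T ⟶ X),
      EtCoh.IsFiniteLocallyConstant ((EtCoh.pull g).obj F) →
      EtCoh.IsFiniteLocallyConstant ((EtCoh.pull g).obj G) →
      EtCoh.IsFiniteLocallyConstant ((EtCoh.pull g).obj P)) :
    EtPBC.IsConstructible P := by
  intro U hU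
  obtain ⟨n, T, g, c1, c2, c3, c4, c5, c6⟩ := adapted_common F G (U : Set X) (hF U hU) (hG U hU)
  exact ⟨n, T, g, c1, c2, c3, c4, fun i _ => hP (g i) (c5 i) (c6 i)⟩

instance {X Y : Scheme.{u}} (f : X ⟶ Y) : PreservesFiniteLimits (EtCoh.pull f) :=
  Groth.Agent.H45.preservesFiniteLimits_pullAb f

instance {X Y : Scheme.{u}} (f : X ⟶ Y) : PreservesColimitsOfSize.{u, u} (EtCoh.pull f) :=
  (EtCoh.pullPushAdj f).leftAdjoint_preservesColimits

instance {X Y : Scheme.{u}} (f : X ⟶ Y) : PreservesFiniteColimits (EtCoh.pull f) :=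
  PreservesColimitsOfSize.preservesFiniteColimits _

instance {X Y : Scheme.{u}} (f : X ⟶ Y) : (EtCoh.pull f).PreservesZeroMorphisms :=
  (EtCoh.pull f).preservesZeroMorphisms_of_preserves_terminal_object

theorem kernel_cokernel {X : Scheme.{u}} {F G : EtCoh.Ab X} (φ : F ⟶ G)
    (hF : EtPBC.IsConstructible F) (hG : EtPBC.IsConstructible G) :
    EtPBC.IsConstructible (kernel φ) ∧ EtPBC.IsConstructible (cokernel φ) := by
  constructor
  · refine isConstructible_of_flc_of_flc F G _ hF hG fun {T} g h1 h2 => ?_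
    have h := ((Groth.Agent.S6645.result T).1 _ _ ((EtCoh.pull g).map φ) h1 h2).1
    exact flc_of_iso (PreservesKernel.iso (EtCoh.pull g) φ).symm h
  · refine isConstructible_of_flc_of_flc F G _ hF hG fun {T} g h1 h2 => ?_
    have h := ((Groth.Agent.S6645.result T).1 _ _ ((EtCoh.pull g).map φ) h1 h2).2
    exact flc_of_iso (PreservesCokernel.iso (EtCoh.pull g) φ).symm h

theorem extension {X : Scheme.{u}} (S : ShortComplex (EtCoh.Ab X)) (hS : S.ShortExact)
    (h1 : EtPBC.IsConstructible S.X₁) (h3 : EtPBC.IsConstructible S.X₃) :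
    EtPBC.IsConstructible S.X₂ := by
  refine isConstructible_of_flc_of_flc S.X₁ S.X₃ _ h1 h3 fun {T} g k1 k3 => ?_
  have hS' : (S.map (EtCoh.pull g)).ShortExact := hS.map_of_exact (EtCoh.pull g)
  exact (Groth.Agent.S6645.result T).2.prop_X₂_of_shortExact hS' k1 k3

end Groth.Agent.H23.EtConsCommon
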