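import Mathlib
import Groth.Prelude.Def_PBC
import Groth.Prelude.Def_EtCore
import Groth.Agent.S6642
import Groth.Agent.H24.EtCons.Defs
import Groth.Agent.H24.EtCons.E
set_option autoImplicit false
universe u
open CategoryTheory CategoryTheory.Limits AlgebraicGeometry Topology
open Groth.Agent.H24.EtCons

namespace Groth.Agent.H23.EtCons

theorem adapted_pull {X Y : Scheme.{u}} (f : X ⟶ Y) (F : EtCoh.Ab Y) (V : Y.Opens) (U : X.Opens)
    (hU : IsAffineOpen U) (hV : IsAffineOpen V) (hUV : U ≤ f ⁻¹ᵁ V)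
    (h : EtPBC.AdaptedStrata F (V : Set Y)) :
    EtPBC.AdaptedStrata ((EtCoh.pull f).obj F) (U : Set X) := by
  obtain ⟨n, T, g, h1, h2, h3, h4, h5⟩ := h
  have : IsAffine U.toScheme := hU
  have : IsAffine V.toScheme := hV
  let φ : U.toScheme ⟶ V.toScheme := f.resLE V U hUV
  have hφ : ∀ y : U.toScheme, ((φ y).1 : Y) = f y.1 := fun y =>
    congr($(f.resLE_comp_ι hUV) y)
  have hrange : ∀ i, Set.range (pullback.snd (g i) (U.ι ≫ f) ≫ U.ι) =
      (U : Set X) ∩ f ⁻¹' Set.range (g i) := by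
    intro i
    ext x
    constructor
    · rintro ⟨t, rfl⟩
      have ht : (pullback.snd (g i) (U.ι ≫ f)) t ∈ (U.ι ≫ f) ⁻¹' Set.range (g i) := by
        rw [← Scheme.Pullback.range_snd]; exact ⟨t, rfl⟩
      refine ⟨?_, ?_⟩
      · exact ((pullback.snd (g i) (U.ι ≫ f)) t).2
      · exact ht
    · rintro ⟨hxU, hxf⟩
      have hx' : (⟨x, hxU⟩ : U.toScheme) ∈ (U.ι ≫ f) ⁻¹' Set.range (g i) := hxf
      rw [← Scheme.Pullback.range_snd] at hx'
      obtain ⟨t, ht⟩ := hx'
      refine ⟨t, ?_⟩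
      change U.ι ((pullback.snd (g i) (U.ι ≫ f)) t) = x
      rw [ht]
      rfl
  refine ⟨n, fun i => pullback (g i) (U.ι ≫ f), fun i => pullback.snd (g i) (U.ι ≫ f) ≫ U.ι,
    ?_, ?_, ?_, ?_, ?_⟩
  · intro i
    have := h1 i
    infer_instance
  · intro i
    rw [hrange i]
    have hA : Topology.IsConstructible
        (φ ⁻¹' ((Subtype.val : ↥(V : Set Y) → Y) ⁻¹' Set.range (g i)) : Set ↥U.toScheme) :=
      φ.isConstructible_preimage (h2 i)
    have hset : ((Subtype.val : ↥(U : Set X) → X) ⁻¹' ((U : Set X) ∩ f ⁻¹' Set.range (g i))) =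
        (φ ⁻¹' ((Subtype.val : ↥(V : Set Y) → Y) ⁻¹' Set.range (g i)) : Set ↥U.toScheme) := by
      ext ⟨x, hxU⟩
      have e : ((φ (⟨x, hxU⟩ : ↥U.toScheme)).1 : Y) = f x := hφ ⟨x, hxU⟩
      constructor
      · rintro ⟨-, hx⟩
        change ((φ (⟨x, hxU⟩ : ↥U.toScheme)).1 : Y) ∈ Set.range (g i)
        rw [e]; exact hx
      · intro hx
        refine ⟨hxU, ?_⟩
        change f x ∈ Set.range (g i)
        have : ((φ (⟨x, hxU⟩ : ↥U.toScheme)).1 : Y) ∈ Set.range (g i) := hx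
        rwa [e] at this
    rw [hset]
    exact hA
  · intro i j hij
    rw [hrange i, hrange j]
    have : Disjoint (Set.range (g i)) (Set.range (g j)) := h3 hij
    rw [Set.disjoint_left] at this ⊢
    rintro x ⟨-, hxi⟩ ⟨-, hxj⟩
    exact this hxi hxj
  · simp_rw [hrange]
    rw [← Set.inter_iUnion, ← Set.preimage_iUnion, h4]
    exact Set.inter_eq_left.mpr hUV
  · intro i _
    exact flc_pull_of_comm f F (g i) (pullback.snd (g i) (U.ι ≫ f) ≫ U.ι)
      (pullback.fst (g i) (U.ι ≫ f))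
      (by rw [Category.assoc, pullback.condition]) (h5 i)

end Groth.Agent.H23.EtCons
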