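import Mathlib
set_option autoImplicit false
universe u
open CategoryTheory CategoryTheory.Limits AlgebraicGeometry Topology

namespace Groth.Agent.H23.EtCons

/-- in a subspace `S` that is quasi-separated, the preimage of an open set `V ⊆ S` that is compact
is retrocompact. -/
theorem isRetrocompact_preimage_of_quasiSeparated {α : Type*} [TopologicalSpace α]
    (S V : Set α) (hS : IsQuasiSeparated S) (hSo : IsOpen S) (hVS : V ⊆ S) (hVo : IsOpen V)
    (hV : IsCompact V) :
    IsRetrocompact ((Subtype.val : ↥S → α) ⁻¹' V) := by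
  intro K hK hKo
  -- K compact open in S
  have hemb : Topology.IsOpenEmbedding (Subtype.val : ↥S → α) := hSo.isOpenEmbedding_subtypeVal
  have hK' : IsCompact ((Subtype.val : ↥S → α) '' K) := hK.image continuous_subtype_val
  have hKo' : IsOpen ((Subtype.val : ↥S → α) '' K) := hemb.isOpenMap _ hKo
  have hsub : (Subtype.val : ↥S → α) '' K ⊆ S := by
    rintro _ ⟨x, -, rfl⟩; exact x.2
  have hc : IsCompact (V ∩ (Subtype.val : ↥S → α) '' K) :=
    hS V _ hVS hVo hV hsub hKo' hK'
  have heq : (Subtype.val : ↥S → α) ⁻¹' V ∩ K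
      = (Subtype.val : ↥S → α) ⁻¹' (V ∩ (Subtype.val : ↥S → α) '' K) := by
    ext x
    simp only [Set.mem_inter_iff, Set.mem_preimage, Set.mem_image]
    constructor
    · rintro ⟨h1, h2⟩; exact ⟨h1, x, h2, rfl⟩
    · rintro ⟨h1, y, hy, hyx⟩
      have : y = x := Subtype.ext hyx
      exact ⟨h1, this ▸ hy⟩
  rw [heq]
  exact hemb.isInducing.isCompact_preimage' hc (by
    rintro y ⟨hy, -⟩
    exact ⟨⟨y, hVS hy⟩, rfl⟩)

theorem isRetrocompact_of_isAffineOpen {X : Scheme.{u}} (U V : X.Opens) (hU : IsAffineOpen U)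
    (hVU : V ≤ U) (hV : IsCompact (V : Set X)) :
    IsRetrocompact ((Subtype.val : ↥(U : Set X) → X) ⁻¹' (V : Set X)) :=
  isRetrocompact_preimage_of_quasiSeparated (U : Set X) (V : Set X) hU.isQuasiSeparated
    U.isOpen hVU V.isOpen hV

theorem isRetrocompact_top {X : Scheme.{u}} [QuasiSeparatedSpace X] (V : X.Opens)
    (hV : IsCompact (V : Set X)) :
    IsRetrocompact ((Subtype.val : ↥((⊤ : X.Opens) : Set X) → X) ⁻¹' (V : Set X)) :=
  isRetrocompact_preimage_of_quasiSeparated _ (V : Set X)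
    (by
      have : ((⊤ : X.Opens) : Set X) = Set.univ := rfl
      rw [this]
      exact isQuasiSeparated_univ_iff.mpr inferInstance)
    (⊤ : X.Opens).isOpen (fun _ _ => trivial) V.isOpen hV

end Groth.Agent.H23.EtCons
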