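import Mathlib
set_option autoImplicit false
universe u
open CategoryTheory CategoryTheory.Limits AlgebraicGeometry Topology

namespace Groth.Agent.H23.EtCons

theorem exists_affine_cover_pull {X Y : Scheme.{u}} (f : X ⟶ Y) (U : X.Opens)
    (hU : IsCompact (U : Set X)) {ι : Type u} (O : ι → X.Opens) (hO : U ≤ ⨆ i, O i) :
    ∃ (n : ℕ) (Uk : Fin n → X.Opens) (Vk : Fin n → Y.Opens) (i : Fin n → ι),
      (∀ k, IsAffineOpen (Uk k)) ∧ (∀ k, IsAffineOpen (Vk k)) ∧ (∀ k, Uk k ≤ f ⁻¹ᵁ Vk k) ∧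
      (∀ k, Uk k ≤ O (i k)) ∧ ⨆ k, Uk k = U := by
  classical
  -- pointwise data
  have key : ∀ x : U, ∃ (W : X.Opens) (V : Y.Opens) (i : ι), IsAffineOpen W ∧ IsAffineOpen V ∧
      W ≤ f ⁻¹ᵁ V ∧ W ≤ O i ∧ W ≤ U ∧ (x : X) ∈ W := by
    intro x
    have hx : (x : X) ∈ ⨆ i, O i := hO x.2
    obtain ⟨i, hi⟩ := TopologicalSpace.Opens.mem_iSup.mp hx
    obtain ⟨V, hV, hfV, -⟩ := Y.isBasis_affineOpens.exists_subset_of_mem_open
      (Set.mem_univ (f x.1)) isOpen_univ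
    obtain ⟨hVaff : IsAffineOpen _⟩ : ∃ h : IsAffineOpen (⟨V, by
        obtain ⟨W, -, rfl⟩ := hV; exact W.isOpen⟩ : Y.Opens), True := by
      obtain ⟨W, hW, rfl⟩ := hV
      exact ⟨hW, trivial⟩
    set V' : Y.Opens := ⟨V, by obtain ⟨W, -, rfl⟩ := hV; exact W.isOpen⟩ with hV'
    have hxm : (x : X) ∈ ((U ⊓ O i ⊓ f ⁻¹ᵁ V' : X.Opens) : Set X) := ⟨⟨x.2, hi⟩, hfV⟩
    obtain ⟨W, hW, hxW, hWsub⟩ := X.isBasis_affineOpens.exists_subset_of_mem_open hxm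
      (U ⊓ O i ⊓ f ⁻¹ᵁ V' : X.Opens).isOpen
    obtain ⟨W', hW', rfl⟩ := hW
    refine ⟨W', V', i, hW', hVaff, ?_, ?_, ?_, hxW⟩
    · intro y hy; exact (hWsub hy).2
    · intro y hy; exact (hWsub hy).1.2
    · intro y hy; exact (hWsub hy).1.1
  choose W V i hW hV hWV hWO hWU hxW using key
  obtain ⟨t, ht⟩ := hU.elim_finite_subcover (fun x : U => (W x : Set X))
    (fun x => (W x).isOpen) (by
      intro y hy
      exact Set.mem_iUnion.mpr ⟨⟨y, hy⟩, hxW ⟨y, hy⟩⟩)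
  let e := t.equivFin
  refine ⟨t.card, fun k => W (e.symm k).1, fun k => V (e.symm k).1, fun k => i (e.symm k).1,
    fun k => hW _, fun k => hV _, fun k => hWV _, fun k => hWO _, ?_⟩
  apply le_antisymm
  · exact iSup_le fun k => hWU _
  · intro y hy
    obtain ⟨x, hx⟩ := Set.mem_iUnion.mp (ht hy)
    obtain ⟨hxt, hyx⟩ := Set.mem_iUnion.mp hx
    refine TopologicalSpace.Opens.mem_iSup.mpr ⟨e ⟨x, hxt⟩, ?_⟩
    simpa using hyx
end Groth.Agent.H23.EtCons
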