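import Mathlib
import Groth.Prelude.Def_CAlg2
import Groth.Agent.H47.NormRedLocal
import Groth.Agent.H47.BranchCount

/-!
# The normalization of the reduction commutes with localization

For a ring `R` with finitely many minimal primes and a localization `A` of `R`, `normRed A` is the
localization of `normRed R`.
-/

set_option autoImplicit false
set_option linter.style.haveILetI false
set_option linter.unusedSectionVars false
universe u

namespace Groth.Agent.H23.GUCons1

section FractionRing

/-- The total ring of fractions of a localization of a reduced ring with finitely many minimal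
primes is the localization of the total ring of fractions. -/
theorem isLocalization_fractionRing {R₀ : Type*} [CommRing R₀] [IsReduced R₀]
    (M : Submonoid R₀) (B : Type*) [CommRing B] [Algebra R₀ B] [IsLocalization M B]
    (K₀ : Type*) [CommRing K₀] [Algebra R₀ K₀] [IsFractionRing R₀ K₀]
    (KB : Type*) [CommRing KB] [Algebra B KB] [IsFractionRing B KB] [Algebra R₀ KB]
    [IsScalarTower R₀ B KB] [Algebra K₀ KB] [IsScalarTower R₀ K₀ KB]
    (hfin : (minimalPrimes R₀).Finite) :
    IsLocalization (Algebra.algebraMapSubmonoid K₀ M) KB := by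
  rw [isLocalization_iff]
  refine ⟨?_, ?_, ?_⟩
  · rintro ⟨_, m, hm, rfl⟩
    show IsUnit (algebraMap K₀ KB (algebraMap R₀ K₀ m))
    rw [← IsScalarTower.algebraMap_apply, IsScalarTower.algebraMap_apply R₀ B KB]
    exact (IsLocalization.map_units B ⟨m, hm⟩).map (algebraMap B KB)
  · intro z
    obtain ⟨⟨b, c⟩, e1⟩ := IsLocalization.surj (nonZeroDivisors B) z
    obtain ⟨⟨r, m₁⟩, e2⟩ := IsLocalization.surj M b
    obtain ⟨⟨s, m₂⟩, e3⟩ := IsLocalization.surj M (c : B)
    dsimp only at e1 e2 e3
    -- `s/1` is a nonzerodivisor of `B`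
    have hs : algebraMap R₀ B s ∈ nonZeroDivisors B := by
      rw [← e3]
      exact mul_mem c.2 (IsUnit.mem_nonZeroDivisors (IsLocalization.map_units B m₂))
    obtain ⟨t, hst, hd⟩ :=
      Groth.Agent.H47.NormRedLocal.exists_mul_eq_zero_add_mem_nonZeroDivisors hfin s
    have ht : algebraMap R₀ B t = 0 := by
      have h1 : algebraMap R₀ B t * algebraMap R₀ B s = 0 := by
        rw [← map_mul, mul_comm, hst, map_zero]
      exact (mem_nonZeroDivisors_iff_right.mp hs) _ h1
    have e3' : (c : B) * algebraMap R₀ B m₂ = algebraMap R₀ B (s + t) := by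
      rw [e3, map_add, ht, add_zero]
    refine ⟨⟨IsLocalization.mk' K₀ (r * m₂) ⟨s + t, hd⟩,
      ⟨algebraMap R₀ K₀ m₁, m₁, m₁.2, rfl⟩⟩, ?_⟩
    show z * algebraMap K₀ KB (algebraMap R₀ K₀ m₁) =
      algebraMap K₀ KB (IsLocalization.mk' K₀ (r * m₂) ⟨s + t, hd⟩)
    have hu : IsUnit (algebraMap R₀ KB (s + t)) := by
      rw [IsScalarTower.algebraMap_apply R₀ K₀ KB]
      exact (IsLocalization.map_units K₀ (⟨s + t, hd⟩ : nonZeroDivisors R₀)).map (algebraMap K₀ KB)
    apply hu.mul_right_cancel
    have h4 : algebraMap K₀ KB (IsLocalization.mk' K₀ (r * m₂) ⟨s + t, hd⟩) *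
        algebraMap R₀ KB (s + t) = algebraMap R₀ KB (r * m₂) := by
      rw [IsScalarTower.algebraMap_apply R₀ K₀ KB (s + t), ← map_mul]
      have := IsLocalization.mk'_spec K₀ (r * m₂) (⟨s + t, hd⟩ : nonZeroDivisors R₀)
      rw [this, ← IsScalarTower.algebraMap_apply]
    rw [h4, ← IsScalarTower.algebraMap_apply]
    have E1 : z * algebraMap B KB c = algebraMap B KB b := e1
    have E2 : algebraMap B KB b * algebraMap R₀ KB m₁ = algebraMap R₀ KB r := by
      rw [IsScalarTower.algebraMap_apply R₀ B KB, ← map_mul, e2,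
        ← IsScalarTower.algebraMap_apply]
    have E3 : algebraMap B KB c * algebraMap R₀ KB m₂ = algebraMap R₀ KB (s + t) := by
      rw [IsScalarTower.algebraMap_apply R₀ B KB, ← map_mul, e3',
        ← IsScalarTower.algebraMap_apply]
    rw [map_mul]
    linear_combination (algebraMap R₀ KB m₁ * algebraMap R₀ KB m₂) * E1 +
      (algebraMap R₀ KB (m₂ : R₀)) * E2 - (z * algebraMap R₀ KB m₁) * E3
  · intro x y hxy
    obtain ⟨⟨r, d⟩, e1⟩ := IsLocalization.surj (nonZeroDivisors R₀) (x - y)
    dsimp only at e1
    have h1 : algebraMap R₀ KB r = 0 := by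
      rw [IsScalarTower.algebraMap_apply R₀ K₀ KB, ← e1, map_mul, map_sub, hxy, sub_self,
        zero_mul]
    rw [IsScalarTower.algebraMap_apply R₀ B KB] at h1
    have h2 : algebraMap R₀ B r = 0 :=
      (IsFractionRing.injective B KB) (by rw [h1, map_zero])
    obtain ⟨m, hm⟩ := (IsLocalization.map_eq_zero_iff M B r).mp h2
    refine ⟨⟨algebraMap R₀ K₀ m, m, m.2, rfl⟩, ?_⟩
    show algebraMap R₀ K₀ m * x = algebraMap R₀ K₀ m * y
    have hdu : IsUnit (algebraMap R₀ K₀ (d : R₀)) := IsLocalization.map_units K₀ d
    apply hdu.mul_right_cancel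
    have h3 : algebraMap R₀ K₀ m * (x - y) * algebraMap R₀ K₀ (d : R₀) = 0 := by
      rw [mul_assoc, e1, ← map_mul, hm, map_zero]
    linear_combination h3

end FractionRing

section NL

/-- The canonical map `X → normRed X`. -/
noncomputable def iota (X : Type u) [CommRing X] : X →+* CAlg2.normRed X :=
  (algebraMap (CAlg2.red X) (CAlg2.normRed X)).comp (Ideal.Quotient.mk (nilradical X))

theorem iota_apply (X : Type u) [CommRing X] (x : X) :
    iota X x = algebraMap (CAlg2.red X) (CAlg2.normRed X) (Ideal.Quotient.mk (nilradical X) x) :=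
  rfl

variable (R : Type u) [CommRing R] (M : Submonoid R) (A : Type u) [CommRing A] [Algebra R A]
  [IsLocalization M A]

theorem nilradical_le_comap : nilradical R ≤ (nilradical A).comap (algebraMap R A) := by
  intro r hr
  rw [Ideal.mem_comap, mem_nilradical]
  exact (mem_nilradical.mp hr).map _

include M in
theorem nilradical_eq_map : nilradical A = (nilradical R).map (algebraMap R A) := by
  have h := IsLocalization.map_radical M A (⊥ : Ideal R)
  rw [Ideal.map_bot] at h
  exact h.symm

/-- The map `R_red → A_red`. -/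
noncomputable def phi0 : CAlg2.red R →+* CAlg2.red A :=
  Ideal.quotientMap (nilradical A) (algebraMap R A) (nilradical_le_comap R A)

theorem phi0_mk (r : R) : phi0 R A (Ideal.Quotient.mk _ r) = Ideal.Quotient.mk _ (algebraMap R A r) :=
  Ideal.quotientMap_mk

include M in
/-- `normRed A` is the localization of `normRed R` for `A` a localization of `R`. -/
theorem exists_normRed_isLocalization (hfin : (minimalPrimes R).Finite) :
    ∃ j : CAlg2.normRed R →+* CAlg2.normRed A,
      j.comp (iota R) = (iota A).comp (algebraMap R A) ∧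
      @IsLocalization (CAlg2.normRed R) _ (M.map (iota R)) (CAlg2.normRed A) _ j.toAlgebra := by
  classical
  letI algRA0 : Algebra (CAlg2.red R) (CAlg2.red A) := (phi0 R A).toAlgebra
  have hφ : ∀ x : CAlg2.red R, algebraMap (CAlg2.red R) (CAlg2.red A) x = phi0 R A x := fun _ => rfl
  let M₀ : Submonoid (CAlg2.red R) := M.map (Ideal.Quotient.mk (nilradical R))
  haveI hloc₀ : IsLocalization M₀ (CAlg2.red A) := by
    refine IsLocalization.of_surjective M A (Ideal.Quotient.mk (nilradical R))
      Ideal.Quotient.mk_surjective (Ideal.Quotient.mk (nilradical A))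
      Ideal.Quotient.mk_surjective ?_ ?_
    · ext r
      exact (phi0_mk R A r).symm
    · rw [Ideal.mk_ker, Ideal.mk_ker, nilradical_eq_map R M A]
  haveI : IsReduced (CAlg2.red R) := Groth.Agent.H47.BranchCount.isReduced_red R
  have hfin₀ : (minimalPrimes (CAlg2.red R)).Finite :=
    Groth.Agent.H47.BranchCount.finite_minimalPrimes_red R hfin
  haveI tow1 : IsScalarTower (CAlg2.red R) (CAlg2.red A) (FractionRing (CAlg2.red A)) :=
    inferInstance
  have hunits : ∀ d : nonZeroDivisors (CAlg2.red R),
      IsUnit (algebraMap (CAlg2.red R) (FractionRing (CAlg2.red A)) d) := by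
    intro d
    have h1 : algebraMap (CAlg2.red R) (CAlg2.red A) d ∈ nonZeroDivisors (CAlg2.red A) :=
      IsLocalization.map_nonZeroDivisors_le M₀ (CAlg2.red A) ⟨d, d.2, rfl⟩
    rw [IsScalarTower.algebraMap_apply (CAlg2.red R) (CAlg2.red A)]
    exact IsLocalization.map_units (FractionRing (CAlg2.red A))
      (⟨_, h1⟩ : nonZeroDivisors (CAlg2.red A))
  let ψ : FractionRing (CAlg2.red R) →+* FractionRing (CAlg2.red A) :=
    IsLocalization.lift (M := nonZeroDivisors (CAlg2.red R)) hunits
  letI algKK : Algebra (FractionRing (CAlg2.red R)) (FractionRing (CAlg2.red A)) := ψ.toAlgebra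
  haveI tow2 : IsScalarTower (CAlg2.red R) (FractionRing (CAlg2.red R))
      (FractionRing (CAlg2.red A)) :=
    IsScalarTower.of_algebraMap_eq (fun r => (IsLocalization.lift_eq hunits r).symm)
  haveI hKloc : IsLocalization (Algebra.algebraMapSubmonoid (FractionRing (CAlg2.red R)) M₀)
      (FractionRing (CAlg2.red A)) :=
    isLocalization_fractionRing M₀ (CAlg2.red A) (FractionRing (CAlg2.red R))
      (FractionRing (CAlg2.red A)) hfin₀
  let θ : CAlg2.normRed R →+* CAlg2.normRed A :=
    RingHom.codRestrict
      ((algebraMap (FractionRing (CAlg2.red R)) (FractionRing (CAlg2.red A))).comp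
        (algebraMap (CAlg2.normRed R) (FractionRing (CAlg2.red R))))
      (integralClosure (CAlg2.red A) (FractionRing (CAlg2.red A)))
      (fun x => by
        have h1 : IsIntegral (CAlg2.red R)
            (algebraMap (FractionRing (CAlg2.red R)) (FractionRing (CAlg2.red A)) x.1) :=
          IsIntegral.map (IsScalarTower.toAlgHom (CAlg2.red R) (FractionRing (CAlg2.red R))
            (FractionRing (CAlg2.red A))) x.2
        exact h1.tower_top)
  letI algNN : Algebra (CAlg2.normRed R) (CAlg2.normRed A) := θ.toAlgebra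
  haveI tow3 : IsScalarTower (CAlg2.normRed R) (CAlg2.normRed A) (FractionRing (CAlg2.red A)) :=
    IsScalarTower.of_algebraMap_eq (fun _ => rfl)
  haveI tow4 : IsScalarTower (CAlg2.red R) (CAlg2.normRed R) (CAlg2.normRed A) :=
    IsScalarTower.of_algebraMap_eq (fun a => by
      apply Subtype.ext
      change algebraMap (CAlg2.red R) (FractionRing (CAlg2.red A)) a =
        algebraMap (FractionRing (CAlg2.red R)) (FractionRing (CAlg2.red A))
          (algebraMap (CAlg2.red R) (FractionRing (CAlg2.red R)) a)
      rw [← IsScalarTower.algebraMap_apply])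
  have hmain := IsLocalization.integralClosure (R := CAlg2.red R)
    (S := FractionRing (CAlg2.red R)) (Rf := CAlg2.red A) (Sf := FractionRing (CAlg2.red A)) M₀
  refine ⟨θ, ?_, ?_⟩
  · ext r
    show algebraMap (FractionRing (CAlg2.red R)) (FractionRing (CAlg2.red A))
      (algebraMap (CAlg2.red R) (FractionRing (CAlg2.red R)) (Ideal.Quotient.mk _ r)) =
      algebraMap (CAlg2.red A) (FractionRing (CAlg2.red A))
        (Ideal.Quotient.mk _ (algebraMap R A r))
    rw [← IsScalarTower.algebraMap_apply, IsScalarTower.algebraMap_apply (CAlg2.red R)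
      (CAlg2.red A), hφ, phi0_mk]
  · have hsub : Algebra.algebraMapSubmonoid (CAlg2.normRed R) M₀ = M.map (iota R) := by
      show M₀.map (algebraMap (CAlg2.red R) (CAlg2.normRed R)) = M.map (iota R)
      show (M.map (Ideal.Quotient.mk (nilradical R))).map
        (algebraMap (CAlg2.red R) (CAlg2.normRed R)) = M.map (iota R)
      ext x
      constructor
      · rintro ⟨y, ⟨m, hm, rfl⟩, rfl⟩
        exact ⟨m, hm, rfl⟩
      · rintro ⟨m, hm, rfl⟩
        exact ⟨_, ⟨m, hm, rfl⟩, rfl⟩
    rw [← hsub]
    exact hmain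

end NL

end Groth.Agent.H23.GUCons1
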