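import Mathlib
import Groth.Agent.H23.GUCons1
import Groth.Agent.H69.GUPointwise
import Groth.Agent.H47.MinPrimeTensor

/-!
# Pointwise criterion for geometric unibranchness (general rings)

For a Noetherian ring `R`, `R' = normRed R` and a prime `p`, the local ring `R_p` is geometrically
unibranch iff ring maps from `R'` to fields, whose restriction to `R` has kernel `p`, are
determined by their restriction to `R`.
-/

set_option autoImplicit false
set_option linter.style.haveILetI false
set_option linter.unusedSectionVars false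
universe u

namespace Groth.Agent.H23.GUCons2

open Groth.Agent.H23.GUCons1 IsLocalRing Groth.Agent.H69.GeomUnibranch

section Abstract

variable {A N : Type u} [CommRing A] [CommRing N] (ι : A →+* N)

/-- The ring-hom-extensionality condition at `p` for `ι : A → N`. -/
def REat (p : Ideal A) : Prop :=
  ∀ (L : Type u) [Field L] (f g : N →+* L),
    f.comp ι = g.comp ι → RingHom.ker (f.comp ι) = p → f = g

variable [IsLocalRing A]

theorem comap_eq_maximalIdeal (hι : ι.IsIntegral) (m : Ideal N) [m.IsMaximal] :
    m.comap ι = maximalIdeal A := by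
  letI : Algebra A N := ι.toAlgebra
  haveI : Algebra.IsIntegral A N := ⟨hι⟩
  exact IsLocalRing.eq_maximalIdeal
    (Ideal.isMaximal_comap_of_isIntegral_of_isMaximal (R := A) m)

theorem isLocalRing_of_REat [Nontrivial N] (hι : ι.IsIntegral)
    (h : REat ι (maximalIdeal A)) : IsLocalRing N := by
  letI : Algebra A N := ι.toAlgebra
  haveI : Algebra.IsIntegral A N := ⟨hι⟩
  apply IsLocalRing.of_unique_max_ideal
  obtain ⟨m₀, hm₀⟩ := Ideal.exists_maximal N
  refine ⟨m₀, hm₀, fun m₁ hm₁ => ?_⟩
  haveI := hm₀
  haveI := hm₁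
  obtain ⟨L, _, f₀, f₁, hk₀, hk₁, h01⟩ := exists_ringHom_of_isMaximal (R' := A) m₀ m₁
    ((comap_eq_maximalIdeal ι hι m₀).trans (comap_eq_maximalIdeal ι hι m₁).symm)
  have e : f₀ = f₁ := h L f₀ f₁ h01
    (by rw [← RingHom.comap_ker, hk₀, comap_eq_maximalIdeal ι hι m₀])
  rw [← hk₁, ← e, hk₀]

theorem insep_of_REat (hι : ι.IsIntegral) (h : REat ι (maximalIdeal A))
    (m' : Ideal N) [m'.IsMaximal] (x : N ⧸ m') :
    ∃ n : ℕ, x ^ (ringExpChar (N ⧸ m')) ^ n ∈ ((Ideal.Quotient.mk m').comp ι).range := by
  refine exists_pow_mem_range_of_ringHom_ext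
    ((Ideal.Quotient.maximal_ideal_iff_isField_quotient m').mp inferInstance)
    ((Ideal.Quotient.mk m').comp ι) ?_ ?_ x
  · exact RingHom.IsIntegral.trans _ _ hι
      (RingHom.isIntegral_of_surjective _ Ideal.Quotient.mk_surjective)
  · intro L _ σ τ hστ
    letI : Field (N ⧸ m') := Ideal.Quotient.field m'
    have e1 : σ.comp (Ideal.Quotient.mk m') = τ.comp (Ideal.Quotient.mk m') := by
      apply h L
      · rw [RingHom.comp_assoc, RingHom.comp_assoc]
        exact hστ
      · rw [RingHom.comp_assoc, ← comap_eq_maximalIdeal ι hι m']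
        ext a
        rw [RingHom.mem_ker, Ideal.mem_comap, RingHom.comp_apply, RingHom.comp_apply,
          map_eq_zero, Ideal.Quotient.eq_zero_iff_mem]
    exact Ideal.Quotient.ringHom_ext e1

theorem REat_of_isLocalRing [IsLocalRing N] (hι : ι.IsIntegral)
    (hres : ∀ (m' : Ideal N) [m'.IsMaximal] (x : N ⧸ m'),
      ∃ n : ℕ, x ^ (ringExpChar (N ⧸ m')) ^ n ∈ ((Ideal.Quotient.mk m').comp ι).range) :
    REat ι (maximalIdeal A) := by
  classical
  intro L _ f g hfg hker
  letI : Algebra A N := ι.toAlgebra
  haveI : Algebra.IsIntegral A N := ⟨hι⟩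
  have hkmax : ∀ h : N →+* L, RingHom.ker (h.comp ι) = maximalIdeal A →
      RingHom.ker h = maximalIdeal N := by
    intro h hk
    haveI : (RingHom.ker h).IsPrime := RingHom.ker_isPrime h
    apply IsLocalRing.eq_maximalIdeal
    apply Ideal.isMaximal_of_isIntegral_of_isMaximal_comap (R := A) (RingHom.ker h)
    have h1 : (RingHom.ker h).comap (algebraMap A N) = maximalIdeal A := by
      rw [← hk]
      rfl
    rw [h1]
    exact maximalIdeal.isMaximal A
  have hkf := hkmax f hker
  have hkg := hkmax g (by rw [← hfg]; exact hker)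
  set m := maximalIdeal N with hm
  haveI : m.IsMaximal := maximalIdeal.isMaximal _
  let fbar : N ⧸ m →+* L :=
    Ideal.Quotient.lift m f (fun a ha => by rw [← RingHom.mem_ker, hkf]; exact ha)
  have hfbar : Function.Injective fbar :=
    RingHom.lift_injective_of_ker_le_ideal m _ (le_of_eq hkf)
  haveI := ringExpChar.expChar (N ⧸ m)
  haveI : ExpChar L (ringExpChar (N ⧸ m)) := expChar_of_injective_ringHom hfbar _
  ext b
  obtain ⟨n, r, hr⟩ := hres m (Ideal.Quotient.mk m b)
  have hr' : ι r - b ^ (ringExpChar (N ⧸ m)) ^ n ∈ m := by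
    rw [← Ideal.Quotient.eq, map_pow]
    exact hr
  have e1 : f (ι r) = f b ^ (ringExpChar (N ⧸ m)) ^ n := by
    have : ι r - b ^ (ringExpChar (N ⧸ m)) ^ n ∈ RingHom.ker f := by
      rw [hkf]
      exact hr'
    rw [RingHom.mem_ker, map_sub, sub_eq_zero, map_pow] at this
    exact this
  have e2 : g (ι r) = g b ^ (ringExpChar (N ⧸ m)) ^ n := by
    have : ι r - b ^ (ringExpChar (N ⧸ m)) ^ n ∈ RingHom.ker g := by
      rw [hkg]
      exact hr'
    rw [RingHom.mem_ker, map_sub, sub_eq_zero, map_pow] at this
    exact this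
  have e3 : f (ι r) = g (ι r) := congrArg (fun h => h r) hfg
  apply iterateFrobenius_inj L (ringExpChar (N ⧸ m)) n
  rw [iterateFrobenius_def, iterateFrobenius_def, ← e1, ← e2, e3]

end Abstract

section Loc

variable {R A NR NA : Type u} [CommRing R] [CommRing A] [CommRing NR] [CommRing NA]
  (p : Ideal R) [p.IsPrime] [Algebra R A] [IsLocalization.AtPrime A p] [IsLocalRing A]
  (ιR : R →+* NR) (ιA : A →+* NA) (j : NR →+* NA)

theorem ker_eq_maximalIdeal_of_comap {L : Type u} [Field L] (h : A →+* L)
    (hk : RingHom.ker (h.comp (algebraMap R A)) = p) : RingHom.ker h = maximalIdeal A := by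
  have h1 : (RingHom.ker h).comap (algebraMap R A) = p := by
    rw [RingHom.comap_ker]
    exact hk
  have h2 := IsLocalization.map_comap p.primeCompl A (RingHom.ker h)
  rw [Ideal.under_def, h1] at h2
  rw [← h2, IsLocalization.AtPrime.map_eq_maximalIdeal p A]

theorem REat_localization_iff (hj : j.comp ιR = ιA.comp (algebraMap R A))
    (hloc : @IsLocalization NR _ (p.primeCompl.map ιR) NA _ j.toAlgebra) :
    REat ιA (maximalIdeal A) ↔ REat ιR p := by
  letI algN : Algebra NR NA := j.toAlgebra
  haveI := hloc
  have hjalg : algebraMap NR NA = j := rfl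
  constructor
  · intro hA L _ f g hfg hker
    have hfu : ∀ y : (p.primeCompl.map ιR), IsUnit (f y) := by
      rintro ⟨_, s, hs, rfl⟩
      refine isUnit_iff_ne_zero.mpr (fun h0 => hs ?_)
      rw [← hker]
      exact RingHom.mem_ker.mpr h0
    have hgu : ∀ y : (p.primeCompl.map ιR), IsUnit (g y) := by
      rintro ⟨_, s, hs, rfl⟩
      refine isUnit_iff_ne_zero.mpr (fun h0 => hs ?_)
      rw [← hker, hfg]
      exact RingHom.mem_ker.mpr h0
    let f' : NA →+* L := IsLocalization.lift hfu
    let g' : NA →+* L := IsLocalization.lift hgu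
    have hf' : f'.comp j = f := IsLocalization.lift_comp hfu
    have hg' : g'.comp j = g := IsLocalization.lift_comp hgu
    have hfA : (f'.comp ιA).comp (algebraMap R A) = f.comp ιR := by
      rw [RingHom.comp_assoc, ← hj, ← RingHom.comp_assoc, hf']
    have hgA : (g'.comp ιA).comp (algebraMap R A) = g.comp ιR := by
      rw [RingHom.comp_assoc, ← hj, ← RingHom.comp_assoc, hg']
    have e1 : f'.comp ιA = g'.comp ιA := by
      apply IsLocalization.ringHom_ext p.primeCompl
      rw [hfA, hgA, hfg]
    have e2 : RingHom.ker (f'.comp ιA) = maximalIdeal A :=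
      ker_eq_maximalIdeal_of_comap p (f'.comp ιA) (by rw [hfA]; exact hker)
    have e3 : f' = g' := hA L f' g' e1 e2
    rw [← hf', ← hg', e3]
  · intro hR L _ f' g' hfg hker
    have hfA : (f'.comp j).comp ιR = (f'.comp ιA).comp (algebraMap R A) := by
      rw [RingHom.comp_assoc, hj, ← RingHom.comp_assoc]
    have hgA : (g'.comp j).comp ιR = (g'.comp ιA).comp (algebraMap R A) := by
      rw [RingHom.comp_assoc, hj, ← RingHom.comp_assoc]
    have e1 : f'.comp j = g'.comp j := by
      apply hR L
      · rw [hfA, hgA, hfg]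
      · rw [hfA, ← RingHom.comap_ker, hker]
        exact IsLocalization.AtPrime.comap_maximalIdeal A p
    exact IsLocalization.ringHom_ext (p.primeCompl.map ιR) e1

end Loc

section Concrete

theorem iota_isIntegral (X : Type u) [CommRing X] : (iota X).IsIntegral :=
  RingHom.IsIntegral.trans _ _
    (RingHom.isIntegral_of_surjective _ Ideal.Quotient.mk_surjective)
    (algebraMap_isIntegral_iff.mpr inferInstance)

theorem algebraMap_red_normRed_injective (X : Type u) [CommRing X] :
    Function.Injective (algebraMap (CAlg2.red X) (CAlg2.normRed X)) := by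
  intro a b hab
  have hinj : Function.Injective (algebraMap (CAlg2.red X) (FractionRing (CAlg2.red X))) :=
    IsLocalization.injective _ (le_refl (nonZeroDivisors (CAlg2.red X)))
  apply hinj
  exact congrArg Subtype.val hab

/-- `RE R p`: ring maps from `normRed R` to fields with kernel `p` on `R` are determined by their
restriction to `R`. -/
def RE (R : Type u) [CommRing R] (p : Ideal R) : Prop := REat (iota R) p

theorem isDomain_red_of_isLocalRing_normRed (A : Type u) [CommRing A]
    (hfin : (minimalPrimes A).Finite) [IsLocalRing (CAlg2.normRed A)] :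
    IsDomain (CAlg2.red A) := by
  have hN := Groth.Agent.H47.BranchCount.normRed_localization A hfin
    (maximalIdeal (CAlg2.normRed A))
  have hinj : Function.Injective (algebraMap (CAlg2.normRed A)
      (Localization.AtPrime (maximalIdeal (CAlg2.normRed A)))) := by
    refine IsLocalization.injective (M := (maximalIdeal (CAlg2.normRed A)).primeCompl)
      (Localization.AtPrime (maximalIdeal (CAlg2.normRed A))) ?_
    intro s hs
    have hsu : IsUnit s := by
      by_contra h
      exact hs ((IsLocalRing.mem_maximalIdeal _).mpr h)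
    exact hsu.mem_nonZeroDivisors
  haveI : IsDomain (Localization.AtPrime (maximalIdeal (CAlg2.normRed A))) := hN.1
  haveI : IsDomain (CAlg2.normRed A) := hinj.isDomain (algebraMap _ _)
  exact (algebraMap_red_normRed_injective A).isDomain (algebraMap _ _)

theorem isGeomUnibranch_iff_RE (A : Type u) [CommRing A] [IsLocalRing A]
    (hfin : (minimalPrimes A).Finite) :
    CAlg2.IsGeomUnibranch A ↔ RE A (maximalIdeal A) := by
  constructor
  · intro hGU
    have hD := hGU.1.1
    obtain ⟨hloc, hres⟩ := (Groth.Agent.H69.GeomUnibranch.isGeomUnibranch_iff A hD).mp hGU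
    haveI := hloc
    refine REat_of_isLocalRing (iota A) (iota_isIntegral A) (fun m' _ x => ?_)
    obtain ⟨n, r', hr⟩ := hres m' x
    obtain ⟨r, rfl⟩ := Ideal.Quotient.mk_surjective r'
    exact ⟨n, r, hr⟩
  · intro hRE
    haveI : Nontrivial (CAlg2.red A) :=
      Ideal.Quotient.nontrivial_iff.mpr (fun h => by
        have h1 : nilradical A ≤ maximalIdeal A := nilradical_le_prime (maximalIdeal A)
        rw [h, top_le_iff] at h1
        exact (maximalIdeal.isMaximal A).ne_top h1)
    haveI : Nontrivial (CAlg2.normRed A) :=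
      (algebraMap_red_normRed_injective A).nontrivial
    have hloc : IsLocalRing (CAlg2.normRed A) :=
      isLocalRing_of_REat (iota A) (iota_isIntegral A) hRE
    haveI := hloc
    have hD := isDomain_red_of_isLocalRing_normRed A hfin
    rw [Groth.Agent.H69.GeomUnibranch.isGeomUnibranch_iff A hD]
    refine ⟨hloc, fun m' _ x => ?_⟩
    obtain ⟨n, r, hr⟩ := insep_of_REat (iota A) (iota_isIntegral A) hRE m' x
    exact ⟨n, Ideal.Quotient.mk _ r, hr⟩

theorem isGeomUnibranch_atPrime_iff (R : Type u) [CommRing R] [IsNoetherianRing R]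
    (p : Ideal R) [p.IsPrime] :
    CAlg2.IsGeomUnibranch (Localization.AtPrime p) ↔ RE R p := by
  have hfinR : (minimalPrimes R).Finite := minimalPrimes.finite_of_isNoetherianRing R
  haveI : IsNoetherianRing (Localization.AtPrime p) :=
    IsLocalization.isNoetherianRing p.primeCompl (Localization.AtPrime p) inferInstance
  have hfinA : (minimalPrimes (Localization.AtPrime p)).Finite :=
    minimalPrimes.finite_of_isNoetherianRing _
  obtain ⟨j, hj, hjloc⟩ :=
    exists_normRed_isLocalization R p.primeCompl (Localization.AtPrime p) hfinR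
  rw [isGeomUnibranch_iff_RE _ hfinA]
  exact REat_localization_iff p (iota R) (iota (Localization.AtPrime p)) j hj hjloc

/-- General model of the localization. -/
theorem isGeomUnibranch_iff_RE_of_isLocalization (R : Type u) [CommRing R] [IsNoetherianRing R]
    (p : Ideal R) [p.IsPrime] (A : Type u) [CommRing A] [IsLocalRing A] [Algebra R A]
    [IsLocalization.AtPrime A p] :
    CAlg2.IsGeomUnibranch A ↔ RE R p := by
  have hfinR : (minimalPrimes R).Finite := minimalPrimes.finite_of_isNoetherianRing R
  haveI : IsNoetherianRing A := IsLocalization.isNoetherianRing p.primeCompl A inferInstance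
  have hfinA : (minimalPrimes A).Finite := minimalPrimes.finite_of_isNoetherianRing _
  obtain ⟨j, hj, hjloc⟩ := exists_normRed_isLocalization R p.primeCompl A hfinR
  rw [isGeomUnibranch_iff_RE _ hfinA]
  exact REat_localization_iff p (iota R) (iota A) j hj hjloc

end Concrete

end Groth.Agent.H23.GUCons2
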