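import Mathlib
import Groth.Agent.H23.GUCons2

/-!
# Constructibility of the locus where `REat ι` holds, for a finite ring map over a Noetherian ring
-/

set_option autoImplicit false
set_option linter.style.haveILetI false
set_option linter.unusedSectionVars false
universe u

namespace Groth.Agent.H23.GUCons3

open Groth.Agent.H23.GUCons1 Groth.Agent.H23.GUCons2 TensorProduct Topology

section Abstract

variable {A N : Type u} [CommRing A] [CommRing N] [Algebra A N]

/-- The open set of primes of `N ⊗ N` not containing the diagonal ideal. -/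
def offDiag : Set (PrimeSpectrum (N ⊗[A] N)) :=
  {Q | ∃ x : N, x ⊗ₜ[A] (1 : N) - (1 : N) ⊗ₜ[A] x ∉ Q.asIdeal}

theorem isOpen_offDiag : IsOpen (offDiag (A := A) (N := N)) := by
  have : offDiag (A := A) (N := N) =
      ⋃ x : N, (PrimeSpectrum.basicOpen (x ⊗ₜ[A] (1 : N) - (1 : N) ⊗ₜ[A] x) :
        Set (PrimeSpectrum (N ⊗[A] N))) := by
    ext Q
    simp only [offDiag, Set.mem_setOf_eq, Set.mem_iUnion, SetLike.mem_coe,
      PrimeSpectrum.mem_basicOpen]
  rw [this]
  exact isOpen_iUnion fun x => (PrimeSpectrum.basicOpen _).isOpen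

theorem tmul_one_eq (a : A) :
    (algebraMap A N a) ⊗ₜ[A] (1 : N) = (1 : N) ⊗ₜ[A] (algebraMap A N a) := by
  rw [Algebra.algebraMap_eq_smul_one, TensorProduct.smul_tmul]

theorem not_REat_iff (p : PrimeSpectrum A) :
    ¬ REat (algebraMap A N) p.asIdeal ↔
      p ∈ PrimeSpectrum.comap (algebraMap A (N ⊗[A] N)) '' offDiag (A := A) (N := N) := by
  classical
  constructor
  · intro h
    unfold REat at h
    push Not at h
    obtain ⟨L, _, f, g, hfg, hker, hne⟩ := h
    letI : Algebra A L := (f.comp (algebraMap A N)).toAlgebra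
    let fA : N →ₐ[A] L := { f with commutes' := fun _ => rfl }
    let gA : N →ₐ[A] L := { g with commutes' := fun a => (RingHom.congr_fun hfg a).symm }
    let h : N ⊗[A] N →ₐ[A] L := Algebra.TensorProduct.productMap fA gA
    haveI : (RingHom.ker h.toRingHom).IsPrime := RingHom.ker_isPrime _
    refine ⟨⟨RingHom.ker h.toRingHom, inferInstance⟩, ?_, ?_⟩
    · obtain ⟨x, hx⟩ : ∃ x, f x ≠ g x := by
        by_contra hall
        push Not at hall
        exact hne (RingHom.ext hall)
      refine ⟨x, ?_⟩
      show ¬ (x ⊗ₜ[A] (1 : N) - (1 : N) ⊗ₜ[A] x ∈ RingHom.ker h.toRingHom)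
      rw [RingHom.mem_ker]
      show ¬ (h (x ⊗ₜ[A] (1 : N) - (1 : N) ⊗ₜ[A] x) = 0)
      rw [map_sub, Algebra.TensorProduct.productMap_apply_tmul,
        Algebra.TensorProduct.productMap_apply_tmul, map_one, map_one, mul_one, one_mul,
        sub_eq_zero]
      exact hx
    · apply PrimeSpectrum.ext
      show (RingHom.ker h.toRingHom).comap (algebraMap A (N ⊗[A] N)) = p.asIdeal
      rw [← hker, RingHom.comap_ker]
      congr 1
      ext a
      show h (algebraMap A (N ⊗[A] N) a) = f (algebraMap A N a)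
      rw [h.commutes]
      rfl
  · rintro ⟨Q, ⟨x, hx⟩, rfl⟩
    intro hRE
    let L := FractionRing ((N ⊗[A] N) ⧸ Q.asIdeal)
    let π : N ⊗[A] N →+* L :=
      (algebraMap ((N ⊗[A] N) ⧸ Q.asIdeal) L).comp (Ideal.Quotient.mk Q.asIdeal)
    have hπ : ∀ t, π t = 0 ↔ t ∈ Q.asIdeal := by
      intro t
      show algebraMap ((N ⊗[A] N) ⧸ Q.asIdeal) L (Ideal.Quotient.mk Q.asIdeal t) = 0 ↔ _
      rw [map_eq_zero_iff _ (IsFractionRing.injective ((N ⊗[A] N) ⧸ Q.asIdeal) L),
        Ideal.Quotient.eq_zero_iff_mem]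
    let f : N →+* L := π.comp (Algebra.TensorProduct.includeLeft : N →ₐ[A] N ⊗[A] N).toRingHom
    let g : N →+* L := π.comp (Algebra.TensorProduct.includeRight : N →ₐ[A] N ⊗[A] N).toRingHom
    have hfg : f.comp (algebraMap A N) = g.comp (algebraMap A N) := by
      ext a
      show π ((algebraMap A N a) ⊗ₜ[A] (1 : N)) = π ((1 : N) ⊗ₜ[A] (algebraMap A N a))
      rw [tmul_one_eq]
    have hker : RingHom.ker (f.comp (algebraMap A N)) =
        (PrimeSpectrum.comap (algebraMap A (N ⊗[A] N)) Q).asIdeal := by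
      ext a
      rw [RingHom.mem_ker]
      show π ((algebraMap A N a) ⊗ₜ[A] (1 : N)) = 0 ↔
        algebraMap A (N ⊗[A] N) a ∈ Q.asIdeal
      rw [hπ, Algebra.TensorProduct.algebraMap_apply]
    have hfgeq : f = g := hRE L f g hfg hker
    apply hx
    rw [← hπ, map_sub, sub_eq_zero]
    exact RingHom.congr_fun hfgeq x

theorem isConstructible_setOf_REat [IsNoetherianRing A] [Module.Finite A N] :
    IsConstructible {p : PrimeSpectrum A | REat (algebraMap A N) p.asIdeal} := by
  have h1 : {p : PrimeSpectrum A | REat (algebraMap A N) p.asIdeal} =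
      (PrimeSpectrum.comap (algebraMap A (N ⊗[A] N)) '' offDiag (A := A) (N := N))ᶜ := by
    ext p
    rw [Set.mem_compl_iff, ← not_REat_iff, not_not]
    rfl
  rw [h1]
  apply IsConstructible.compl
  haveI : Module.Finite A (N ⊗[A] N) := inferInstance
  haveI : Algebra.FiniteType A (N ⊗[A] N) := inferInstance
  have hfp : (algebraMap A (N ⊗[A] N)).FinitePresentation := by
    rw [← RingHom.FinitePresentation.of_finiteType, RingHom.finiteType_algebraMap]
    exact (inferInstance : Algebra.FiniteType A (N ⊗[A] N))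
  haveI : IsNoetherianRing (N ⊗[A] N) := Algebra.FiniteType.isNoetherianRing A (N ⊗[A] N)
  refine PrimeSpectrum.isConstructible_comap_image hfp ?_
  refine IsRetrocompact.isConstructible isOpen_offDiag ?_
  intro U _ _
  exact TopologicalSpace.NoetherianSpace.isCompact _

end Abstract

theorem isConstructible_setOf_RE (R : Type u) [CommRing R] [IsNoetherianRing R]
    (hfin : Module.Finite (CAlg2.red R) (CAlg2.normRed R)) :
    IsConstructible {p : PrimeSpectrum R | RE R p.asIdeal} := by
  letI algRN : Algebra R (CAlg2.normRed R) := (iota R).toAlgebra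
  haveI : IsScalarTower R (CAlg2.red R) (CAlg2.normRed R) :=
    IsScalarTower.of_algebraMap_eq (fun _ => rfl)
  haveI : Module.Finite R (CAlg2.red R) := inferInstance
  haveI : Module.Finite R (CAlg2.normRed R) := Module.Finite.trans (CAlg2.red R) _
  exact isConstructible_setOf_REat (A := R) (N := CAlg2.normRed R)

end Groth.Agent.H23.GUCons3
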