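import Mathlib

set_option autoImplicit false
universe u

namespace Groth.Agent.H23

open TensorProduct

/-- Algebraic core: a finite type algebraic injective extension of a domain hits a nonempty
principal open of the base. -/
theorem genericImage_core {A C : Type u} [CommRing A] [IsDomain A] [CommRing C] [Algebra A C]
    [Algebra.FiniteType A C] [Algebra.IsAlgebraic A C]
    (hinj : Function.Injective (algebraMap A C)) :
    ∃ g : A, g ≠ 0 ∧ ∀ p' : PrimeSpectrum A, g ∉ p'.asIdeal →
      p' ∈ Set.range (PrimeSpectrum.comap (algebraMap A C)) := by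
  classical
  obtain ⟨s, hs⟩ := (Algebra.FiniteType.out : (⊤ : Subalgebra A C).FG)
  have halg : ∀ c : C, ∃ p : Polynomial A, p ≠ 0 ∧ Polynomial.aeval c p = 0 :=
    fun c => Algebra.IsAlgebraic.isAlgebraic c
  choose P hP0 hPc using halg
  refine ⟨∏ c ∈ s, (P c).leadingCoeff, ?_, ?_⟩
  · exact Finset.prod_ne_zero_iff.mpr fun c _ => Polynomial.leadingCoeff_ne_zero.mpr (hP0 c)
  intro p' hg
  have hM : ∀ c ∈ s, (P c).leadingCoeff ∈ p'.asIdeal.primeCompl := by
    intro c hc hmem
    exact hg (Ideal.mem_of_dvd _ (Finset.dvd_prod_of_mem _ hc) hmem)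
  have hintC : ∀ c : C, IsIntegral (Localization.AtPrime p'.asIdeal)
      (algebraMap C (Localization (Algebra.algebraMapSubmonoid C p'.asIdeal.primeCompl)) c) := by
    intro c
    have hc : c ∈ Algebra.adjoin A (s : Set C) := by rw [hs]; trivial
    induction hc using Algebra.adjoin_induction with
    | mem x hx => exact is_integral_localization_at_leadingCoeff (P x) (hPc x) (hM x hx)
    | algebraMap a =>
      rw [← IsScalarTower.algebraMap_apply A C,
        IsScalarTower.algebraMap_apply A (Localization.AtPrime p'.asIdeal)]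
      exact isIntegral_algebraMap
    | add x y _ _ hx hy => rw [map_add]; exact hx.add hy
    | mul x y _ _ hx hy => rw [map_mul]; exact hx.mul hy
  have hint : Algebra.IsIntegral (Localization.AtPrime p'.asIdeal)
      (Localization (Algebra.algebraMapSubmonoid C p'.asIdeal.primeCompl)) := by
    constructor
    intro x
    obtain ⟨⟨c, ⟨m, hm⟩⟩, hx⟩ :=
      IsLocalization.surj (Algebra.algebraMapSubmonoid C p'.asIdeal.primeCompl) x
    obtain ⟨a, ha, rfl⟩ := hm
    have hunit : IsUnit (algebraMap A (Localization.AtPrime p'.asIdeal) a) :=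
      IsLocalization.map_units (Localization.AtPrime p'.asIdeal) ⟨a, ha⟩
    obtain ⟨v, hv⟩ := hunit.exists_right_inv
    have e1 : algebraMap C (Localization (Algebra.algebraMapSubmonoid C p'.asIdeal.primeCompl))
        (algebraMap A C a) =
        algebraMap (Localization.AtPrime p'.asIdeal) _
          (algebraMap A (Localization.AtPrime p'.asIdeal) a) := by
      rw [← IsScalarTower.algebraMap_apply A C,
        IsScalarTower.algebraMap_apply A (Localization.AtPrime p'.asIdeal)]
    have hx' : x = algebraMap C _ c * algebraMap (Localization.AtPrime p'.asIdeal) _ v := by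
      simp only at hx
      rw [← hx, e1, mul_assoc, ← map_mul, hv, map_one, mul_one]
    rw [hx']
    exact (hintC c).mul isIntegral_algebraMap
  have hinj' : Function.Injective (algebraMap (Localization.AtPrime p'.asIdeal)
      (Localization (Algebra.algebraMapSubmonoid C p'.asIdeal.primeCompl))) :=
    localizationAlgebra_injective _ _ hinj
  obtain ⟨Q, -, hQprime, hQ⟩ := Ideal.exists_ideal_over_prime_of_isIntegral
    (IsLocalRing.maximalIdeal (Localization.AtPrime p'.asIdeal))
    (⊥ : Ideal (Localization (Algebra.algebraMapSubmonoid C p'.asIdeal.primeCompl))) (by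
      rw [Ideal.comap_bot_of_injective _ hinj']; exact bot_le)
  refine ⟨⟨Q.comap (algebraMap C _), inferInstance⟩, ?_⟩
  apply PrimeSpectrum.ext
  change (Q.comap (algebraMap C _)).comap (algebraMap A C) = p'.asIdeal
  rw [Ideal.comap_comap, ← IsScalarTower.algebraMap_eq A C,
    IsScalarTower.algebraMap_eq A (Localization.AtPrime p'.asIdeal), ← Ideal.comap_comap, hQ]
  exact Localization.AtPrime.under_maximalIdeal

/-- Version through an algebraic field-valued point. -/
theorem genericImage_of_field {A B L : Type u} [CommRing A] [IsDomain A] [CommRing B] [Algebra A B]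
    [Algebra.FiniteType A B] [Field L] [Algebra A L] [Algebra.IsAlgebraic A L]
    (hinjL : Function.Injective (algebraMap A L)) (ψ : B →ₐ[A] L) :
    ∃ g : A, g ≠ 0 ∧ ∀ p' : PrimeSpectrum A, g ∉ p'.asIdeal →
      p' ∈ Set.range (PrimeSpectrum.comap (algebraMap A B)) := by
  have : Algebra.FiniteType A ψ.range :=
    Algebra.FiniteType.of_surjective ψ.rangeRestrict ψ.rangeRestrict_surjective
  have : Algebra.IsAlgebraic A ψ.range :=
    Algebra.IsAlgebraic.of_injective ψ.range.val Subtype.val_injective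
  have hinj : Function.Injective (algebraMap A ψ.range) := by
    intro a b h
    exact hinjL (congrArg Subtype.val h)
  obtain ⟨g, hg0, hg⟩ := genericImage_core (A := A) (C := ψ.range) hinj
  refine ⟨g, hg0, fun p' hp' => ?_⟩
  obtain ⟨Q, hQ⟩ := hg p' hp'
  refine ⟨PrimeSpectrum.comap (ψ.rangeRestrict : B →+* ψ.range) Q, ?_⟩
  rw [← hQ]
  apply PrimeSpectrum.ext
  change (Q.asIdeal.comap (ψ.rangeRestrict : B →+* ψ.range)).comap (algebraMap A B) =
    Q.asIdeal.comap (algebraMap A ψ.range)
  rw [Ideal.comap_comap]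
  congr 1
  exact ψ.rangeRestrict.comp_algebraMap

theorem genericImage_of_fractionField {A B K : Type u} [CommRing A] [IsDomain A] [CommRing B]
    [Algebra A B] [Algebra.FiniteType A B] [Field K] [Algebra A K] [IsFractionRing A K]
    [Nontrivial (K ⊗[A] B)] :
    ∃ g : A, g ≠ 0 ∧ ∀ p' : PrimeSpectrum A, g ∉ p'.asIdeal →
      p' ∈ Set.range (PrimeSpectrum.comap (algebraMap A B)) := by
  obtain ⟨𝔐, h𝔐⟩ := Ideal.exists_maximal (K ⊗[A] B)
  let : Field ((K ⊗[A] B) ⧸ 𝔐) := Ideal.Quotient.field 𝔐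
  have : Algebra.FiniteType K ((K ⊗[A] B) ⧸ 𝔐) :=
    Algebra.FiniteType.of_surjective (Ideal.Quotient.mkₐ K 𝔐) (Ideal.Quotient.mkₐ_surjective K 𝔐)
  have : Module.Finite K ((K ⊗[A] B) ⧸ 𝔐) := finite_of_finite_type_of_isJacobsonRing K _
  have : Algebra.IsAlgebraic K ((K ⊗[A] B) ⧸ 𝔐) := Algebra.IsAlgebraic.of_finite K _
  have : Algebra.IsAlgebraic A ((K ⊗[A] B) ⧸ 𝔐) :=
    (IsFractionRing.comap_isAlgebraic_iff (A := A) (K := K)).mpr inferInstance
  have hinjL : Function.Injective (algebraMap A ((K ⊗[A] B) ⧸ 𝔐)) := by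
    rw [IsScalarTower.algebraMap_eq A K]
    exact (algebraMap K ((K ⊗[A] B) ⧸ 𝔐)).injective.comp (IsFractionRing.injective A K)
  exact genericImage_of_field hinjL
    ((Ideal.Quotient.mkₐ A 𝔐).comp (Algebra.TensorProduct.includeRight : B →ₐ[A] K ⊗[A] B))

theorem genericImage_domain {A B : Type u} [CommRing A] [IsDomain A] [CommRing B] [Algebra A B]
    [Algebra.FiniteType A B]
    (h : (⟨⊥, Ideal.isPrime_bot⟩ : PrimeSpectrum A) ∈
      Set.range (PrimeSpectrum.comap (algebraMap A B))) :
    ∃ g : A, g ≠ 0 ∧ ∀ p' : PrimeSpectrum A, g ∉ p'.asIdeal →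
      p' ∈ Set.range (PrimeSpectrum.comap (algebraMap A B)) := by
  have : Nontrivial ((⊥ : Ideal A).ResidueField ⊗[A] B) :=
    (PrimeSpectrum.nontrivial_iff_mem_rangeComap ⟨⊥, Ideal.isPrime_bot⟩).mpr h
  exact genericImage_of_fractionField (K := (⊥ : Ideal A).ResidueField)

/-- If the unique generic point of `Spec A` lies in the image of `Spec B` for a finite type ring
map `A → B`, then the image contains a principal open neighbourhood of the generic point. -/
theorem genericImage {A B : Type u} [CommRing A] [CommRing B] (φ : A →+* B) (hφ : φ.FiniteType)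
    (q : PrimeSpectrum B) (hmin : ∀ p' : PrimeSpectrum A, PrimeSpectrum.comap φ q ≤ p') :
    ∃ g : A, g ∉ (PrimeSpectrum.comap φ q).asIdeal ∧ ∀ p' : PrimeSpectrum A, g ∉ p'.asIdeal →
      p' ∈ Set.range (PrimeSpectrum.comap φ) := by
  have hbarinj : Function.Injective (Ideal.quotientMap q.asIdeal φ le_rfl) :=
    Ideal.quotientMap_injective
  have hbarft : (Ideal.quotientMap q.asIdeal φ le_rfl).FiniteType := by
    refine RingHom.FiniteType.of_comp_finiteType (f := Ideal.Quotient.mk (q.asIdeal.comap φ)) ?_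
    rw [Ideal.quotientMap_comp_mk]
    exact (RingHom.FiniteType.of_surjective _ Ideal.Quotient.mk_surjective).comp hφ
  let : Algebra (A ⧸ q.asIdeal.comap φ) (B ⧸ q.asIdeal) :=
    (Ideal.quotientMap q.asIdeal φ le_rfl).toAlgebra
  have : Algebra.FiniteType (A ⧸ q.asIdeal.comap φ) (B ⧸ q.asIdeal) := hbarft
  have h0 : (⟨⊥, Ideal.isPrime_bot⟩ : PrimeSpectrum (A ⧸ q.asIdeal.comap φ)) ∈
      Set.range (PrimeSpectrum.comap (algebraMap (A ⧸ q.asIdeal.comap φ) (B ⧸ q.asIdeal))) := by
    refine ⟨⟨⊥, Ideal.isPrime_bot⟩, ?_⟩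
    apply PrimeSpectrum.ext
    exact Ideal.comap_bot_of_injective _ hbarinj
  obtain ⟨gbar, hg0', hgbar⟩ := genericImage_domain h0
  obtain ⟨g, rfl⟩ := Ideal.Quotient.mk_surjective gbar
  refine ⟨g, fun hg => hg0' (Ideal.Quotient.eq_zero_iff_mem.mpr hg), fun p' hp' => ?_⟩
  have hIp' : q.asIdeal.comap φ ≤ p'.asIdeal := hmin p'
  have hr : p' ∈ Set.range (PrimeSpectrum.comap (Ideal.Quotient.mk (q.asIdeal.comap φ))) := by
    rw [_root_.range_comap_of_surjective _ _ Ideal.Quotient.mk_surjective, Ideal.mk_ker]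
    exact hIp'
  obtain ⟨pbar, rfl⟩ := hr
  have hgp : Ideal.Quotient.mk (q.asIdeal.comap φ) g ∉ pbar.asIdeal := hp'
  obtain ⟨Qbar, hQbar⟩ := hgbar pbar hgp
  refine ⟨PrimeSpectrum.comap (Ideal.Quotient.mk q.asIdeal) Qbar, ?_⟩
  rw [← hQbar]
  apply PrimeSpectrum.ext
  change (Qbar.asIdeal.comap (Ideal.Quotient.mk q.asIdeal)).comap φ =
    (Qbar.asIdeal.comap (Ideal.quotientMap q.asIdeal φ le_rfl)).comap
      (Ideal.Quotient.mk (q.asIdeal.comap φ))
  rw [Ideal.comap_comap, Ideal.comap_comap, Ideal.quotientMap_comp_mk]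

end Groth.Agent.H23
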