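import Groth.Agent.H23.HensFib

/-!
# Formal fibres of henselian local rings, II (helper23)

`isDomain_tensor_cpl_of_finite'`: version of `HensFib.isDomain_tensor_cpl_of_finite` with an abstract
fraction field. `isDomain_fraction_tensor`: for `L = Frac Â`, `K = Frac A` and `k'/K` finite,
`L ⊗[K] k'` is a domain.
-/

set_option autoImplicit false
set_option maxHeartbeats 800000
set_option linter.style.haveILetI false
set_option linter.unusedVariables false
set_option linter.unusedSectionVars false

universe u

open TensorProduct IsLocalRing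

namespace Groth.Agent.H23.HensFib2

variable (A : Type u) [CommRing A] [IsNoetherianRing A] [HenselianLocalRing A] [IsDomain A]

theorem isDomain_tensor_cpl_of_finite' (hA : EGA4.HasGeomNormalFormalFibres A)
    (K : Type u) [Field K] [Algebra A K] [IsFractionRing A K]
    (k' : Type u) [Field k'] [Algebra K k'] [Algebra A k'] [IsScalarTower A K k']
    [FiniteDimensional K k'] : IsDomain (k' ⊗[A] EGA4.Cpl A) := by
  have hinj : Function.Injective (algebraMap A k') := by
    rw [IsScalarTower.algebraMap_eq A K k', RingHom.coe_comp]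
    exact (algebraMap K k').injective.comp (IsFractionRing.injective A K)
  haveI : FaithfulSMul A k' := (faithfulSMul_iff_algebraMap_injective _ _).mpr hinj
  letI : Algebra (FractionRing A) k' := FractionRing.liftAlgebra A k'
  haveI : IsScalarTower A (FractionRing A) k' := FractionRing.isScalarTower_liftAlgebra A k'
  haveI : FiniteDimensional (FractionRing A) k' := by
    refine Module.Finite.of_equiv_equiv (A₁ := K) (B₁ := k')
      (FractionRing.algEquiv A K).symm.toRingEquiv (RingEquiv.refl k') ?_
    apply IsLocalization.ringHom_ext (nonZeroDivisors A)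
    ext x
    simp only [RingHom.comp_apply, RingEquiv.coe_ringHom_refl, RingHom.id_apply,
      AlgEquiv.toRingEquiv_toRingHom, RingHom.coe_coe, AlgEquiv.commutes]
    rw [← IsScalarTower.algebraMap_apply A (FractionRing A) k',
      ← IsScalarTower.algebraMap_apply A K k']
  exact Groth.Agent.H23.HensFib.isDomain_tensor_cpl_of_finite A k' hA

theorem isDomain_fraction_tensor (hA : EGA4.HasGeomNormalFormalFibres A)
    [IsDomain (EGA4.Cpl A)]
    (K L : Type u) [Field K] [Field L] [Algebra A K] [IsFractionRing A K]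
    [Algebra (EGA4.Cpl A) L] [IsFractionRing (EGA4.Cpl A) L] [Algebra K L] [Algebra A L]
    [IsScalarTower A K L] [IsScalarTower A (EGA4.Cpl A) L]
    (k' : Type u) [Field k'] [Algebra K k'] [FiniteDimensional K k'] :
    IsDomain (L ⊗[K] k') := by
  letI : Algebra A k' := ((algebraMap K k').comp (algebraMap A K)).toAlgebra
  haveI : IsScalarTower A K k' := IsScalarTower.of_algebraMap_eq (fun _ => rfl)
  haveI h1 : IsDomain (k' ⊗[A] EGA4.Cpl A) := isDomain_tensor_cpl_of_finite' A hA K k'
  haveI h2 : IsDomain (EGA4.Cpl A ⊗[A] k') :=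
    (Algebra.TensorProduct.comm A (EGA4.Cpl A) k').toRingEquiv.toMulEquiv.isDomain _
  have hinjA : Function.Injective (algebraMap A k') := by
    rw [IsScalarTower.algebraMap_eq A K k', RingHom.coe_comp]
    exact (algebraMap K k').injective.comp (IsFractionRing.injective A K)
  have hinjC : Function.Injective (algebraMap (EGA4.Cpl A) (EGA4.Cpl A ⊗[A] k')) := by
    have h0 := Algebra.TensorProduct.includeLeft_injective (R := A) (S := A) (A := EGA4.Cpl A)
      (B := k') hinjA
    intro x y hxy
    apply h0
    simpa [Algebra.TensorProduct.algebraMap_apply] using hxy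
  letI := Algebra.TensorProduct.rightAlgebra (R := EGA4.Cpl A) (A := L)
    (B := EGA4.Cpl A ⊗[A] k')
  haveI hloc : IsLocalization
      (Algebra.algebraMapSubmonoid (EGA4.Cpl A ⊗[A] k') (nonZeroDivisors (EGA4.Cpl A)))
      (L ⊗[EGA4.Cpl A] (EGA4.Cpl A ⊗[A] k')) :=
    IsLocalization.tensorRight L (nonZeroDivisors (EGA4.Cpl A))
  have hle : Algebra.algebraMapSubmonoid (EGA4.Cpl A ⊗[A] k') (nonZeroDivisors (EGA4.Cpl A)) ≤
      nonZeroDivisors (EGA4.Cpl A ⊗[A] k') := by
    rintro _ ⟨b, hb, rfl⟩
    apply mem_nonZeroDivisors_of_ne_zero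
    intro h0
    have : b = 0 := hinjC (h0.trans (map_zero _).symm)
    exact nonZeroDivisors.ne_zero hb this
  haveI h3 : IsDomain (L ⊗[EGA4.Cpl A] (EGA4.Cpl A ⊗[A] k')) :=
    IsLocalization.isDomain_of_le_nonZeroDivisors
      (M := Algebra.algebraMapSubmonoid (EGA4.Cpl A ⊗[A] k') (nonZeroDivisors (EGA4.Cpl A)))
      (L ⊗[EGA4.Cpl A] (EGA4.Cpl A ⊗[A] k')) hle
  let e2 := Algebra.TensorProduct.cancelBaseChange A (EGA4.Cpl A) (EGA4.Cpl A) L k'
  haveI h4 : IsDomain (L ⊗[A] k') := e2.symm.toRingEquiv.toMulEquiv.isDomain _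
  let e3 := IsLocalization.algebraTensorEquiv (nonZeroDivisors A) K L k'
  exact e3.toRingEquiv.toMulEquiv.isDomain _

end Groth.Agent.H23.HensFib2
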