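import Mathlib
import Groth.Agent.H23.LenPow
import Groth.Agent.H23.JapStab
import Groth.Agent.H25.LenBC
import Groth.Agent.H63.LocTensor
import Groth.Agent.H63.StalkBaseChange

/-!
# Multiplicities of `K ⊗ L` at minimal primes: the purely inseparable step
-/

set_option autoImplicit false
set_option maxHeartbeats 800000
set_option linter.style.haveILetI false
set_option linter.unusedVariables false
set_option linter.unusedSectionVars false
universe u
open TensorProduct IsLocalRing

namespace Groth.Agent.H23.LenPowKey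

theorem comap_equiv_mem_minimalPrimes {A B : Type*} [CommRing A] [CommRing B] (e : A ≃+* B)
    (q : Ideal B) (hq : q ∈ minimalPrimes B) : q.comap e.toRingHom ∈ minimalPrimes A := by
  haveI := hq.1.1
  refine ⟨⟨Ideal.comap_isPrime _ _, bot_le⟩, fun P hP hle => ?_⟩
  haveI := hP.1
  have h1 : P.comap e.symm.toRingHom ≤ q := by
    intro x hx
    have h2 : e.symm x ∈ q.comap e.toRingHom := hle hx
    have h2' : e (e.symm x) ∈ q := h2
    rwa [e.apply_symm_apply] at h2'
  have h3 : q ≤ P.comap e.symm.toRingHom := hq.2 ⟨Ideal.comap_isPrime _ _, bot_le⟩ h1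
  intro x hx
  have h4 : e x ∈ P.comap e.symm.toRingHom := h3 hx
  have h4' : e.symm (e x) ∈ P := h4
  rwa [e.symm_apply_apply] at h4'

theorem length_localization_comap_equiv {A B : Type u} [CommRing A] [CommRing B] (e : A ≃+* B)
    (q : Ideal B) [q.IsPrime] [hq' : (q.comap e.toRingHom).IsPrime] :
    Module.length (Localization.AtPrime (q.comap e.toRingHom))
      (Localization.AtPrime (q.comap e.toRingHom)) =
    Module.length (Localization.AtPrime q) (Localization.AtPrime q) :=
  Groth.Agent.H25.LenBC.length_self_ringEquiv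
    (IsLocalization.ringEquivOfRingEquiv (M := (q.comap e.toRingHom).primeCompl)
      (T := q.primeCompl) (Localization.AtPrime (q.comap e.toRingHom)) (Localization.AtPrime q) e
      (Groth.Agent.H63.StalkBaseChange.primeCompl_map_ringEquiv e q))

section Pow

variable (M L F : Type u) [Field M] [Field L] [Field F] [Algebra M L] [Algebra M F]
  [IsPurelyInseparable M L] (p : ℕ) [ExpChar M p]

theorem exists_pow_mem_range (z : F ⊗[M] L) :
    ∃ n : ℕ, z ^ p ^ n ∈ (algebraMap F (F ⊗[M] L)).range := by
  have hinj : Function.Injective (algebraMap F (F ⊗[M] L)) :=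
    Algebra.TensorProduct.includeLeft_injective (S := F) (algebraMap M L).injective
  haveI : Nontrivial (F ⊗[M] L) := hinj.nontrivial
  haveI : ExpChar F p := expChar_of_injective_algebraMap (algebraMap M F).injective p
  haveI : ExpChar (F ⊗[M] L) p := expChar_of_injective_algebraMap hinj p
  induction z using TensorProduct.induction_on with
  | zero => exact ⟨0, 0, by simp⟩
  | tmul f l =>
    obtain ⟨n, c, hc⟩ := IsPurelyInseparable.pow_mem M p l
    refine ⟨n, c • f ^ p ^ n, ?_⟩
    rw [Algebra.TensorProduct.tmul_pow, ← hc, Algebra.TensorProduct.algebraMap_apply,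
      Algebra.algebraMap_self_apply, Algebra.algebraMap_eq_smul_one, TensorProduct.tmul_smul,
      TensorProduct.smul_tmul']
  | add x y hx hy =>
    obtain ⟨a, u, hu⟩ := hx
    obtain ⟨b, v, hv⟩ := hy
    refine ⟨a + b, u ^ p ^ b + v ^ p ^ a, ?_⟩
    rw [add_pow_expChar_pow, map_add, map_pow, map_pow, hu, hv, ← pow_mul, ← pow_mul,
      ← pow_add, ← pow_add, add_comm b a]

variable [FiniteDimensional M L]

theorem length_tensor_pow :
    ∃ n : ℕ, Module.length (F ⊗[M] L) (F ⊗[M] L) = (p ^ n : ℕ) := by
  classical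
  haveI : Algebra.IsIntegral M L := Algebra.IsIntegral.of_finite M L
  haveI hloc' : IsLocalRing (L ⊗[M] F) := Groth.Agent.H25.StalkBC.isLocalRing_tensor M L F
  haveI hloc : IsLocalRing (F ⊗[M] L) :=
    (Algebra.TensorProduct.comm M L F).toRingEquiv.isLocalRing
  have hinj : Function.Injective (algebraMap F (F ⊗[M] L)) :=
    Algebra.TensorProduct.includeLeft_injective (S := F) (algebraMap M L).injective
  haveI : ExpChar F p := expChar_of_injective_algebraMap (algebraMap M F).injective p
  haveI : Module.Finite F (F ⊗[M] L) := inferInstance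
  have hform := Groth.Agent.H23.LenPow.length_self_mul_finrank F (F ⊗[M] L)
  have hrank : Module.finrank F (F ⊗[M] L) = Module.finrank M L := Module.finrank_baseChange
  obtain ⟨m, hm⟩ := IsPurelyInseparable.finrank_eq_pow (F := M) L p
  -- the residue field is purely inseparable over `F`
  haveI : IsPurelyInseparable F (ResidueField (F ⊗[M] L)) := by
    rw [isPurelyInseparable_iff_pow_mem F p]
    intro x
    obtain ⟨z, rfl⟩ := residue_surjective x
    obtain ⟨n, u, hu⟩ := exists_pow_mem_range M L F p z
    refine ⟨n, u, ?_⟩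
    rw [← map_pow, ← hu]
    rfl
  haveI : Module.Finite F (ResidueField (F ⊗[M] L)) :=
    Module.Finite.of_surjective
      (IsScalarTower.toAlgHom F (F ⊗[M] L) (ResidueField (F ⊗[M] L))).toLinearMap
      residue_surjective
  obtain ⟨j, hj⟩ := IsPurelyInseparable.finrank_eq_pow (F := F) (ResidueField (F ⊗[M] L)) p
  rw [hrank, hm, hj] at hform
  -- arithmetic
  have hne : Module.length (F ⊗[M] L) (F ⊗[M] L) ≠ ⊤ := by
    intro htop
    rw [htop] at hform
    have hpos : ((p ^ j : ℕ) : ℕ∞) ≠ 0 := by
      have : 0 < p ^ j := Nat.pos_of_ne_zero (pow_ne_zero _ (expChar_pos M p).ne')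
      exact_mod_cast this.ne'
    rw [ENat.top_mul hpos] at hform
    exact ENat.top_ne_natCast _ hform
  obtain ⟨ℓ, hℓ⟩ := ENat.ne_top_iff_exists.mp hne
  rw [← hℓ] at hform ⊢
  have hnat : ℓ * p ^ j = p ^ m := by exact_mod_cast hform
  rcases expChar_is_prime_or_one M p with hp | hp
  · obtain ⟨i, -, hi⟩ := (Nat.dvd_prime_pow hp).mp (Dvd.intro _ hnat)
    exact ⟨i, by rw [hi]⟩
  · subst hp
    simp only [one_pow, mul_one] at hnat
    exact ⟨0, by rw [hnat]; rfl⟩

end Pow

/-- Key step: if `M ⊗[k] K` is reduced and `L / M` is finite purely inseparable, the local rings of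
`K ⊗[k] L` at minimal primes have length a power of the exponential characteristic. -/
theorem key (k K M L : Type u) [Field k] [Field K] [Field M] [Field L] [Algebra k K]
    [Algebra k M] [Algebra k L] [Algebra M L] [IsScalarTower k M L] [FiniteDimensional M L]
    [IsPurelyInseparable M L] (p : ℕ) [ExpChar k p] (hred : IsReduced (M ⊗[k] K))
    (q : Ideal (K ⊗[k] L)) [q.IsPrime] (hq : q ∈ minimalPrimes (K ⊗[k] L)) :
    ∃ n : ℕ, Module.length (Localization.AtPrime q) (Localization.AtPrime q) = (p ^ n : ℕ) := by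
  classical
  haveI : ExpChar M p := expChar_of_injective_algebraMap (algebraMap k M).injective p
  haveI : Algebra.IsIntegral M L := Algebra.IsIntegral.of_finite M L
  haveI : IsReduced (M ⊗[k] K) := hred
  obtain ⟨e, -⟩ : ∃ e : L ⊗[M] (M ⊗[k] K) ≃+* K ⊗[k] L, True :=
    ⟨(Algebra.TensorProduct.cancelBaseChange k M M L K).toRingEquiv.trans
      (Algebra.TensorProduct.comm k L K).toRingEquiv, trivial⟩
  let q' : Ideal (L ⊗[M] (M ⊗[k] K)) := q.comap e.toRingHom
  haveI hq'p : q'.IsPrime := Ideal.comap_isPrime _ _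
  have hq'min : q' ∈ minimalPrimes (L ⊗[M] (M ⊗[k] K)) := comap_equiv_mem_minimalPrimes e q hq
  let c : (M ⊗[k] K) ⊗[M] L ≃+* L ⊗[M] (M ⊗[k] K) :=
    (Algebra.TensorProduct.comm M (M ⊗[k] K) L).toRingEquiv
  have hq''min : q'.comap c.toRingHom ∈ minimalPrimes ((M ⊗[k] K) ⊗[M] L) :=
    comap_equiv_mem_minimalPrimes c q' hq'min
  let q0 : Ideal (M ⊗[k] K) := q'.comap
    (Algebra.TensorProduct.includeRight : (M ⊗[k] K) →ₐ[M] L ⊗[M] (M ⊗[k] K)).toRingHom
  haveI hq0p : q0.IsPrime := Ideal.comap_isPrime _ _
  have hq0eq : q0 = (q'.comap c.toRingHom).comap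
      (algebraMap (M ⊗[k] K) ((M ⊗[k] K) ⊗[M] L)) := by
    ext s
    simp only [q0, Ideal.mem_comap]
    have : c.toRingHom (algebraMap (M ⊗[k] K) ((M ⊗[k] K) ⊗[M] L) s) =
        (Algebra.TensorProduct.includeRight : (M ⊗[k] K) →ₐ[M] L ⊗[M] (M ⊗[k] K)).toRingHom s := by
      show (Algebra.TensorProduct.comm M (M ⊗[k] K) L)
        (algebraMap (M ⊗[k] K) ((M ⊗[k] K) ⊗[M] L) s) = _
      rw [Algebra.TensorProduct.algebraMap_apply, Algebra.algebraMap_self_apply,
        Algebra.TensorProduct.comm_tmul]
      rfl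
    rw [this]
  have hq0min : q0 ∈ minimalPrimes (M ⊗[k] K) := by
    rw [hq0eq]
    exact Groth.Agent.H23.JapStab.comap_mem_minimalPrimes _ hq''min
  haveI : Ring.KrullDimLE 0 (Localization.AtPrime q0) := .of_isLocalization _ hq0min _
  have hF : IsField (Localization.AtPrime q0) := Ring.KrullDimLE.isField_of_isReduced
  obtain ⟨Q, hQ, hQm, ⟨e2⟩⟩ :=
    Groth.Agent.H63.LocTensor.exists_prime_ringEquiv_localization_tensor M L (M ⊗[k] K) q' q0 rfl
      (Localization.AtPrime q0)
  haveI := hQ
  have hQm' : ∀ a ∈ maximalIdeal (Localization.AtPrime q0), (1 : L) ⊗ₜ[M] a ∈ Q := by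
    intro a ha
    apply hQm
    rw [Localization.AtPrime.map_eq_maximalIdeal]
    exact ha
  obtain ⟨e3⟩ := Groth.Agent.H25.StalkBC.nonempty_ringEquiv_localization_of_purelyInseparable M L
    (Localization.AtPrime q0) Q hQm'
  have h1 : Module.length (Localization.AtPrime q') (Localization.AtPrime q') =
      Module.length (Localization.AtPrime q) (Localization.AtPrime q) :=
    length_localization_comap_equiv e q
  have h2 : Module.length (Localization.AtPrime Q) (Localization.AtPrime Q) =
      Module.length (Localization.AtPrime q') (Localization.AtPrime q') :=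
    Groth.Agent.H25.LenBC.length_self_ringEquiv e2
  have h3 : Module.length (L ⊗[M] Localization.AtPrime q0) (L ⊗[M] Localization.AtPrime q0) =
      Module.length (Localization.AtPrime Q) (Localization.AtPrime Q) :=
    Groth.Agent.H25.LenBC.length_self_ringEquiv e3
  letI := hF.toField
  have h4 : Module.length (Localization.AtPrime q0 ⊗[M] L) (Localization.AtPrime q0 ⊗[M] L) =
      Module.length (L ⊗[M] Localization.AtPrime q0) (L ⊗[M] Localization.AtPrime q0) :=
    Groth.Agent.H25.LenBC.length_self_ringEquiv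
      (Algebra.TensorProduct.comm M (Localization.AtPrime q0) L).toRingEquiv
  obtain ⟨n, hn⟩ := length_tensor_pow M L (Localization.AtPrime q0) p
  exact ⟨n, by rw [← h1, ← h2, ← h3, ← h4]; exact hn⟩

end Groth.Agent.H23.LenPowKey
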