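import Mathlib
import Groth.Prelude.Def_EtModW
import Groth.Prelude.Def_ARSys
import Groth.Agent.H23.AdicDefs
import Groth.Agent.H23.AdicMain
import Groth.Agent.H23.AdicIff
import Groth.Agent.H26.ML_P1
import Groth.Agent.H52.ML_P2
import Groth.Agent.H89.ML_P3a
import Groth.Agent.H89.Adic_A2
import Groth.Agent.S14017

/-!
# `lim eps^{-1}` is exact on short exact sequences of systems whose kernel is adic up to translation
(helper23, S14012)
-/

set_option autoImplicit false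
universe u v
open CategoryTheory CategoryTheory.Limits AlgebraicGeometry Opposite
open Groth.Agent.H23.AdicDefs Groth.Agent.H26.ML_P1 Groth.Agent.H52.ML_P2 Groth.Agent.H89.ML_P3a

namespace Groth.Agent.H23.MLMain

variable (Λ : Type (u + 1)) [CommRing Λ] {X : Scheme.{u}} [ProEtS.EpsCont X]

/-- sections over `W`. -/
noncomputable abbrev ev (W : X.ProEt) : EtModW.ModP Λ X ⥤ ModuleCat.{u + 1} Λ :=
  sheafToPresheaf _ _ ⋙ (evaluation _ _).obj (op W)

theorem surj_limMap_sections (I : Ideal Λ)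
    (S : ShortComplex (ARSys.PS (EtModW.Mod Λ X))) (hS : S.ShortExact)
    (hA : ∃ (Y : ARSys.PS (EtModW.Mod Λ X)) (v : Y ⟶ S.X₁), ARSys.IsAdic I Y ∧ ARSys.IsARIso v)
    (W : X.ProEt) (hW : ProEtS.IsWC W) :
    Function.Surjective
      ((limMap (Functor.whiskerRight S.g (EtModW.epsPullMod Λ X))).hom.app (op W)).hom := by
  obtain ⟨Y, v, hY, hv⟩ := hA
  obtain ⟨r, hr⟩ := hv.2
  intro z
  obtain ⟨hinjC, hrangeC⟩ :=
    Groth.Agent.H89.Adic_A2.secΦ_injective_range Λ (S.X₃ ⋙ EtModW.epsPullMod Λ X) W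
  obtain ⟨hinjB, hrangeB⟩ :=
    Groth.Agent.H89.Adic_A2.secΦ_injective_range Λ (S.X₂ ⋙ EtModW.epsPullMod Λ X) W
  have hc : secΦ Λ (S.X₃ ⋙ EtModW.epsPullMod Λ X) W z ∈
      compat (secT Λ (S.X₃ ⋙ EtModW.epsPullMod Λ X) W) := by
    rw [← hrangeC]; exact ⟨z, rfl⟩
  -- termwise exactness
  have hTn : ∀ n : ℕ, (S.map ((evaluation ℕᵒᵖ (EtModW.Mod Λ X)).obj (op n))).Exact :=
    fun n => hS.exact.map _
  haveI := hS.epi_g
  have hgn : ∀ n : ℕ, Epi (S.map ((evaluation ℕᵒᵖ (EtModW.Mod Λ X)).obj (op n))).g := fun n => by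
    show Epi (S.g.app (op n))
    infer_instance
  have hP := fun n : ℕ => exact_sections_epsPullMod Λ
    (S.map ((evaluation ℕᵒᵖ (EtModW.Mod Λ X)).obj (op n))) (hTn n) (hgn n) W hW
  -- the cokernel complex
  let T' : ShortComplex (ARSys.PS (EtModW.Mod Λ X)) :=
    ShortComplex.mk v (cokernel.π v) (cokernel.condition v)
  have hT' : T'.Exact := ShortComplex.exact_of_g_is_cokernel T' (cokernelIsCokernel v)
  haveI : Epi T'.g := by
    show Epi (cokernel.π v)
    infer_instance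
  have hT'n : ∀ n : ℕ, (T'.map ((evaluation ℕᵒᵖ (EtModW.Mod Λ X)).obj (op n))).Exact :=
    fun n => hT'.map _
  have hg'n : ∀ n : ℕ, Epi (T'.map ((evaluation ℕᵒᵖ (EtModW.Mod Λ X)).obj (op n))).g := fun n => by
    show Epi ((cokernel.π v).app (op n))
    infer_instance
  have hP' := fun n : ℕ => exact_sections_epsPullMod Λ
    (T'.map ((evaluation ℕᵒᵖ (EtModW.Mod Λ X)).obj (op n))) (hT'n n) (hg'n n) W hW
  -- surjectivity of the transition maps of `Y`
  have hYs : ∀ n : ℕ, Function.Surjective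
      ((Y ⋙ EtModW.epsPullMod Λ X ⋙ ev Λ W).map (homOfLE (Nat.le_succ n)).op).hom := by
    intro n
    haveI : Epi (Y.map (homOfLE (Nat.le_succ n)).op) :=
      Groth.Agent.H23.AdicIff.epi_of_isQuot (I ^ (n + 1)) _ (hY.2 n (n + 1) (Nat.le_succ n))
    haveI : (EtModW.epsPullMod Λ X).PreservesEpimorphisms :=
      Functor.preservesEpimorphisms_of_adjunction
        ((ProEtS.eps X).sheafAdjunctionContinuous (ModuleCat.{u + 1} Λ)
          X.smallEtaleTopology (Scheme.ProEt.topology X))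
    haveI : Epi ((EtModW.epsPullMod Λ X).map (Y.map (homOfLE (Nat.le_succ n)).op)) :=
      Functor.map_epi _ _
    exact Groth.Agent.S14017.surj_of_epi Λ X
      ((EtModW.epsPullMod Λ X).map (Y.map (homOfLE (Nat.le_succ n)).op)) W hW
  -- the AR-null condition
  have hr' : ∀ (n : ℕ) (a : (S.X₁ ⋙ EtModW.epsPullMod Λ X ⋙ ev Λ W).obj (op (n + r))),
      ∃ y : (Y ⋙ EtModW.epsPullMod Λ X ⋙ ev Λ W).obj (op n),
        ((Functor.whiskerRight (Functor.whiskerRight v (EtModW.epsPullMod Λ X)) (ev Λ W)).app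
          (op n)).hom y =
        ((S.X₁ ⋙ EtModW.epsPullMod Λ X ⋙ ev Λ W).map (homOfLE (Nat.le_add_right n r)).op).hom a := by
    intro n a
    apply (hP' n).2
    have hnat : S.X₁.map (homOfLE (Nat.le_add_right n r)).op ≫ (cokernel.π v).app (op n) = 0 := by
      rw [(cokernel.π v).naturality]
      have h0 : (cokernel v).map (homOfLE (Nat.le_add_right n r)).op = 0 := hr n
      rw [h0, comp_zero]
    have h1 : (EtModW.epsPullMod Λ X).map (S.X₁.map (homOfLE (Nat.le_add_right n r)).op) ≫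
        (EtModW.epsPullMod Λ X).map ((cokernel.π v).app (op n)) = 0 := by
      rw [← Functor.map_comp, hnat]
      exact Groth.Agent.H23.AdicIff.map_zero'
        ((ProEtS.eps X).sheafAdjunctionContinuous (ModuleCat.{u + 1} Λ)
          X.smallEtaleTopology (Scheme.ProEt.topology X))
        (fun a f => Groth.Agent.H23.AdicIff.hR_eps Λ a f)
    have h2 := congrArg (fun t => (t.hom.app (op W)).hom a) h1
    exact h2
  have hzero : ∀ (n : ℕ) (a : (S.X₁ ⋙ EtModW.epsPullMod Λ X ⋙ ev Λ W).obj (op n)),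
      ((Functor.whiskerRight (Functor.whiskerRight S.g (EtModW.epsPullMod Λ X)) (ev Λ W)).app
        (op n)).hom
        (((Functor.whiskerRight (Functor.whiskerRight S.f (EtModW.epsPullMod Λ X)) (ev Λ W)).app
          (op n)).hom a) = 0 := by
    intro n a
    have h0 : S.f.app (op n) ≫ S.g.app (op n) = 0 := by
      rw [← NatTrans.comp_app, S.zero]
      rfl
    have h1 : (EtModW.epsPullMod Λ X).map (S.f.app (op n)) ≫
        (EtModW.epsPullMod Λ X).map (S.g.app (op n)) = 0 := by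
      rw [← Functor.map_comp, h0]
      exact Groth.Agent.H23.AdicIff.map_zero'
        ((ProEtS.eps X).sheafAdjunctionContinuous (ModuleCat.{u + 1} Λ)
          X.smallEtaleTopology (Scheme.ProEt.topology X))
        (fun a f => Groth.Agent.H23.AdicIff.hR_eps Λ a f)
    have h2 := congrArg (fun t => (t.hom.app (op W)).hom a) h1
    exact h2
  obtain ⟨b, hb1, hb2⟩ := exists_compat_lift
    (S.X₁ ⋙ EtModW.epsPullMod Λ X ⋙ ev Λ W) (S.X₂ ⋙ EtModW.epsPullMod Λ X ⋙ ev Λ W)
    (S.X₃ ⋙ EtModW.epsPullMod Λ X ⋙ ev Λ W) (Y ⋙ EtModW.epsPullMod Λ X ⋙ ev Λ W)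
    (Functor.whiskerRight (Functor.whiskerRight S.f (EtModW.epsPullMod Λ X)) (ev Λ W))
    (Functor.whiskerRight (Functor.whiskerRight S.g (EtModW.epsPullMod Λ X)) (ev Λ W))
    (Functor.whiskerRight (Functor.whiskerRight v (EtModW.epsPullMod Λ X)) (ev Λ W))
    (fun n => (hP n).1) (fun n => (hP n).2) hzero hYs r hr'
    (fun n => secΦ Λ (S.X₃ ⋙ EtModW.epsPullMod Λ X) W z n) (fun n => hc n)
  have hbmem : (fun n => b n) ∈ compat (secT Λ (S.X₂ ⋙ EtModW.epsPullMod Λ X) W) := hb1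
  rw [← hrangeB] at hbmem
  obtain ⟨y, hy⟩ := hbmem
  refine ⟨y, ?_⟩
  apply hinjC
  funext n
  have hyn : ((limit.π (S.X₂ ⋙ EtModW.epsPullMod Λ X) (op n)).hom.app (op W)).hom y = b n :=
    congrFun hy n
  have hlim : limMap (Functor.whiskerRight S.g (EtModW.epsPullMod Λ X)) ≫
      limit.π (S.X₃ ⋙ EtModW.epsPullMod Λ X) (op n) =
      limit.π (S.X₂ ⋙ EtModW.epsPullMod Λ X) (op n) ≫
        (EtModW.epsPullMod Λ X).map (S.g.app (op n)) := by
    rw [limMap_π]
    rfl
  have h3 := congrArg (fun t => (t.hom.app (op W)).hom y) hlim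
  show ((limit.π (S.X₃ ⋙ EtModW.epsPullMod Λ X) (op n)).hom.app (op W)).hom
    (((limMap (Functor.whiskerRight S.g (EtModW.epsPullMod Λ X))).hom.app (op W)).hom y) = _
  refine h3.trans ?_
  show (((EtModW.epsPullMod Λ X).map (S.g.app (op n))).hom.app (op W)).hom
    (((limit.π (S.X₂ ⋙ EtModW.epsPullMod Λ X) (op n)).hom.app (op W)).hom y) = _
  rw [hyn]
  exact hb2 n

theorem main (I : Ideal Λ)
    (S : ShortComplex (ARSys.PS (EtModW.Mod Λ X))) (hS : S.ShortExact)
    (hA : ∃ (Y : ARSys.PS (EtModW.Mod Λ X)) (v : Y ⟶ S.X₁), ARSys.IsAdic I Y ∧ ARSys.IsARIso v) :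
    Epi (limMap (Functor.whiskerRight S.g (EtModW.epsPullMod Λ X))) :=
  epi_of_forall_WC_surjective Λ (Groth.Agent.H23.AdicMain.enoughWC X) _
    (fun W hW => surj_limMap_sections Λ I S hS hA W hW)

end Groth.Agent.H23.MLMain
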