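import Mathlib
import Groth.Agent.H87.PowEval

/-!
# A complete discrete valuation ring with a coefficient field is a power series ring (helper23)
-/

set_option autoImplicit false
universe u

namespace Groth.Agent.H23.MultiCrossPS

open IsLocalRing

/-- A complete DVR `O` with a ring map `ψ : k → O` from a field which is onto the residue field
is isomorphic to `k⟦X⟧`, compatibly with `ψ`. -/
theorem ps_equiv (k : Type*) [Field k] (O : Type*) [CommRing O] [IsDomain O]
    [IsDiscreteValuationRing O] [IsAdicComplete (maximalIdeal O) O] (ψ : k →+* O)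
    (hψ : Function.Surjective ((residue O).comp ψ)) :
    ∃ e : PowerSeries k ≃+* O, ∀ c, e (PowerSeries.C c) = ψ c := by
  classical
  obtain ⟨ϖ, hϖ⟩ := IsDiscreteValuationRing.exists_irreducible O
  have hmax : maximalIdeal O = Ideal.span {ϖ} := hϖ.maximalIdeal_eq
  have hϖm : ϖ ∈ maximalIdeal O := by rw [hmax]; exact Ideal.mem_span_singleton_self ϖ
  obtain ⟨e₀, hC, hX⟩ := Groth.Agent.H87.PowEval.exists_eval (maximalIdeal O) ψ ϖ hϖm
  have hmap : (Ideal.span {(PowerSeries.X : PowerSeries k)}).map e₀ = maximalIdeal O := by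
    rw [Ideal.map_span, Set.image_singleton, hX, hmax]
  have hsurj : Function.Surjective e₀ := by
    haveI : IsHausdorff ((Ideal.span {(PowerSeries.X : PowerSeries k)}).map e₀) O := by
      rw [hmap]; infer_instance
    apply surjective_of_mk_map_comp_surjective
      (I := Ideal.span {(PowerSeries.X : PowerSeries k)}) e₀
    intro y
    obtain ⟨x, rfl⟩ := Ideal.Quotient.mk_surjective y
    obtain ⟨c, hc⟩ := hψ (residue O x)
    refine ⟨PowerSeries.C c, ?_⟩
    rw [RingHom.comp_apply, hC, Ideal.Quotient.eq, hmap]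
    have h1 : residue O (ψ c - x) = 0 := by
      rw [map_sub, sub_eq_zero]; exact hc
    exact (IsLocalRing.residue_eq_zero_iff _).mp h1
  have hinj : Function.Injective e₀ := by
    rw [injective_iff_map_eq_zero]
    intro f hf
    by_contra hne
    obtain ⟨m, u, hu⟩ := IsDiscreteValuationRing.eq_unit_mul_pow_irreducible hne
      (PowerSeries.X_irreducible (R := k))
    rw [hu, map_mul, map_pow, hX] at hf
    have h1 : IsUnit (e₀ (u : PowerSeries k)) := u.isUnit.map e₀
    have h2 : ϖ ^ m ≠ 0 := pow_ne_zero _ hϖ.ne_zero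
    rcases mul_eq_zero.mp hf with h | h
    · exact h1.ne_zero h
    · exact h2 h
  exact ⟨RingEquiv.ofBijective e₀ ⟨hinj, hsurj⟩, fun c => hC c⟩

end Groth.Agent.H23.MultiCrossPS
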