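import Mathlib
import Groth.Agent.H23.SemilocalCpl

/-!
# Complete semilocal rings: decomposition with cofinality data
-/

set_option autoImplicit false
universe u

namespace Groth.Agent.H23.SemilocalCpl

open IsLocalRing

/-- A Noetherian ring `R`, complete along `𝔞` with `R ⧸ 𝔞` Artinian, is the finite product of its
localizations at maximal ideals; these are complete local rings and the `𝔞`-adic filtration is
cofinal with the maximal-adic one on each factor. -/
theorem semilocal_complete' (R : Type u) [CommRing R] [IsNoetherianRing R] (𝔞 : Ideal R)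
    [IsAdicComplete 𝔞 R] [IsArtinianRing (R ⧸ 𝔞)] :
    Finite (MaximalSpectrum R) ∧
    Function.Bijective (RingHom.pi (fun M : MaximalSpectrum R =>
      algebraMap R (Localization.AtPrime M.asIdeal))) ∧
    ∀ M : MaximalSpectrum R,
      IsAdicComplete (maximalIdeal (Localization.AtPrime M.asIdeal))
        (Localization.AtPrime M.asIdeal) ∧
      𝔞.map (algebraMap R (Localization.AtPrime M.asIdeal)) ≤
        maximalIdeal (Localization.AtPrime M.asIdeal) ∧
      ∃ N : ℕ, maximalIdeal (Localization.AtPrime M.asIdeal) ^ N ≤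
        𝔞.map (algebraMap R (Localization.AtPrime M.asIdeal)) := by
  classical
  obtain ⟨ι, _, A, _, hloc, ⟨e⟩⟩ := exists_pi_isLocalRing_of_henselian R 𝔞
  haveI := hloc
  have hfin := Groth.Agent.Lead.pi_local_finite A e
  have hbij := Groth.Agent.Lead.pi_local_bijective A e
  obtain ⟨-, hM⟩ := semilocal_complete R 𝔞
  refine ⟨hfin, hbij, fun M => ?_⟩
  obtain ⟨hsurj, hcpl⟩ := hM M
  haveI : IsNoetherianRing (Localization.AtPrime M.asIdeal) :=
    IsLocalization.isNoetherianRing M.asIdeal.primeCompl (Localization.AtPrime M.asIdeal)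
      inferInstance
  have h𝔞M : 𝔞 ≤ M.asIdeal :=
    (IsAdicComplete.le_jacobson_bot 𝔞).trans
      (sInf_le (by exact ⟨bot_le, M.isMaximal⟩ : M.asIdeal ∈ {J : Ideal R | ⊥ ≤ J ∧ J.IsMaximal}))
  have hJK : 𝔞.map (algebraMap R (Localization.AtPrime M.asIdeal)) ≤
      IsLocalRing.maximalIdeal (Localization.AtPrime M.asIdeal) := by
    rw [← Localization.AtPrime.map_eq_maximalIdeal]
    exact Ideal.map_mono h𝔞M
  haveI : IsArtinianRing (Localization.AtPrime M.asIdeal ⧸
      𝔞.map (algebraMap R (Localization.AtPrime M.asIdeal))) := by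
    let φ : R ⧸ 𝔞 →+* Localization.AtPrime M.asIdeal ⧸
        𝔞.map (algebraMap R (Localization.AtPrime M.asIdeal)) :=
      Ideal.quotientMap _ (algebraMap R (Localization.AtPrime M.asIdeal)) Ideal.le_comap_map
    have hφ : Function.Surjective φ := Ideal.quotientMap_surjective hsurj
    exact hφ.isArtinianRing
  obtain ⟨N, hN⟩ := IsLocalRing.exists_maximalIdeal_pow_le_of_isArtinianRing_quotient
    (𝔞.map (algebraMap R (Localization.AtPrime M.asIdeal)))
  exact ⟨hcpl, hJK, N, hN⟩

end Groth.Agent.H23.SemilocalCpl
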