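import Mathlib
import Groth.Prelude.Def_Brnch
import Groth.Prelude.Def_Curv2
import Groth.Agent.H15.BranchDimOne

/-!
# Branch counting over a separably closed residue field and DVR localizations (helper23)
-/

set_option autoImplicit false
set_option linter.style.haveILetI false
universe u

namespace Groth.Agent.H23.WedgeBranch

open IsLocalRing

/-- Two embeddings of an integral residue extension over a separably closed residue field
agree. -/
theorem emb_unique (A : Type u) [CommRing A] [IsLocalRing A]
    [IsSepClosed (ResidueField A)] (L : Type u) [Field L] (t : A →+* L) (htint : t.IsIntegral)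
    (Ω : Type u) [Field Ω] [Algebra (ResidueField A) Ω] (σ₁ σ₂ : L →+* Ω)
    (h₁ : σ₁.comp t = (algebraMap (ResidueField A) Ω).comp (residue A))
    (h₂ : σ₂.comp t = (algebraMap (ResidueField A) Ω).comp (residue A)) : σ₁ = σ₂ := by
  classical
  haveI : (⊥ : Ideal L).IsMaximal := Ideal.bot_isMaximal
  have hmax : ((⊥ : Ideal L).comap t).IsMaximal :=
    Ideal.isMaximal_comap_of_isIntegral_of_isMaximal' t htint ⊥
  have hker : (⊥ : Ideal L).comap t = maximalIdeal A := IsLocalRing.eq_maximalIdeal hmax
  have htm : ∀ a ∈ maximalIdeal A, t a = 0 := by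
    intro a ha
    rw [← hker, Ideal.mem_comap, Ideal.mem_bot] at ha
    exact ha
  let tk : ResidueField A →+* L := Ideal.Quotient.lift (maximalIdeal A) t htm
  have htk : ∀ a, tk (residue A a) = t a := fun a => Ideal.Quotient.lift_mk _ _ _
  letI algL : Algebra (ResidueField A) L := tk.toAlgebra
  haveI : Algebra.IsIntegral (ResidueField A) L := by
    constructor
    intro x
    obtain ⟨p, hp, hpx⟩ := htint x
    refine ⟨p.map (residue A), hp.map _, ?_⟩
    rw [Polynomial.eval₂_map]
    have : (algebraMap (ResidueField A) L).comp (residue A) = t := RingHom.ext htk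
    rw [this]
    exact hpx
  haveI : IsPurelyInseparable (ResidueField A) L := inferInstance
  haveI : ExpChar Ω (ringExpChar (ResidueField A)) :=
    expChar_of_injective_algebraMap (algebraMap (ResidueField A) Ω).injective _
  apply RingHom.ext
  intro x
  obtain ⟨n, y, hy⟩ := IsPurelyInseparable.pow_mem (ResidueField A)
    (ringExpChar (ResidueField A)) x
  obtain ⟨a, rfl⟩ := residue_surjective y
  have h1 : ∀ σ : L →+* Ω, σ.comp t = (algebraMap (ResidueField A) Ω).comp (residue A) →
      σ x ^ (ringExpChar (ResidueField A)) ^ n = algebraMap (ResidueField A) Ω (residue A a) := by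
    intro σ hσ
    rw [← map_pow, ← hy]
    show σ (tk (residue A a)) = _
    rw [htk]
    exact RingHom.congr_fun hσ a
  have h3 : σ₁ x ^ (ringExpChar (ResidueField A)) ^ n =
      σ₂ x ^ (ringExpChar (ResidueField A)) ^ n := (h1 σ₁ h₁).trans (h1 σ₂ h₂).symm
  exact iterateFrobenius_inj Ω (ringExpChar (ResidueField A)) n h3

/-- Over a separably closed residue field every residue field of the normalization has
at most one embedding into the algebraic closure. -/
theorem emb_subsingleton (A : Type u) [CommRing A] [IsLocalRing A]
    [IsSepClosed (ResidueField A)] (m' : MaximalSpectrum (CAlg2.normRed A)) :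
    Subsingleton (Brnch.Emb A m') := by
  classical
  haveI := m'.isMaximal
  letI : Field (CAlg2.normRed A ⧸ m'.asIdeal) := Ideal.Quotient.field m'.asIdeal
  have htint : (Brnch.toResidue A m').IsIntegral := by
    unfold Brnch.toResidue
    refine RingHom.IsIntegral.trans _ _ ?_
      (RingHom.isIntegral_of_surjective _ Ideal.Quotient.mk_surjective)
    refine RingHom.IsIntegral.trans _ _
      (RingHom.isIntegral_of_surjective _ Ideal.Quotient.mk_surjective) ?_
    exact algebraMap_isIntegral_iff.mpr inferInstance
  constructor
  intro σ₁ σ₂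
  apply Subtype.ext
  exact emb_unique A (CAlg2.normRed A ⧸ m'.asIdeal) (Brnch.toResidue A m') htint
    (AlgebraicClosure (ResidueField A)) σ₁.1 σ₂.1 σ₁.2 σ₂.2

/-- A ring isomorphism induces an isomorphism of integral closures in total fraction rings. -/
theorem exists_integralClosure_ringEquiv {A B : Type u} [CommRing A] [CommRing B] (e : A ≃+* B) :
    ∃ ψ : integralClosure A (FractionRing A) ≃+* integralClosure B (FractionRing B),
      ∀ a : A, ψ (algebraMap A _ a) = algebraMap B _ (e a) := by
  let ē : FractionRing A ≃+* FractionRing B := IsFractionRing.ringEquivOfRingEquiv e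
  have hē : ∀ a, ē (algebraMap A (FractionRing A) a) = algebraMap B (FractionRing B) (e a) :=
    IsFractionRing.ringEquivOfRingEquiv_algebraMap e
  have hēs : ∀ b, ē.symm (algebraMap B (FractionRing B) b) =
      algebraMap A (FractionRing A) (e.symm b) := by
    intro b
    apply ē.injective
    rw [ē.apply_symm_apply, hē, e.apply_symm_apply]
  have hint : ∀ x : FractionRing A, IsIntegral A x → IsIntegral B (ē x) := fun x hx =>
    IsIntegral.map_of_comp_eq (e : A →+* B) (ē : FractionRing A →+* FractionRing B)
      (by ext a; exact (hē a).symm) hx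
  have hint' : ∀ y : FractionRing B, IsIntegral B y → IsIntegral A (ē.symm y) := fun y hy =>
    IsIntegral.map_of_comp_eq (e.symm : B →+* A) (ē.symm : FractionRing B →+* FractionRing A)
      (by ext b; exact (hēs b).symm) hy
  let f : integralClosure A (FractionRing A) →+* integralClosure B (FractionRing B) :=
    { toFun := fun x => ⟨ē x.1, hint x.1 x.2⟩
      map_one' := Subtype.ext (map_one ē)
      map_mul' := fun x y => Subtype.ext (map_mul ē x.1 y.1)
      map_zero' := Subtype.ext (map_zero ē)
      map_add' := fun x y => Subtype.ext (map_add ē x.1 y.1) }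
  let g : integralClosure B (FractionRing B) →+* integralClosure A (FractionRing A) :=
    { toFun := fun y => ⟨ē.symm y.1, hint' y.1 y.2⟩
      map_one' := Subtype.ext (map_one ē.symm)
      map_mul' := fun x y => Subtype.ext (map_mul ē.symm x.1 y.1)
      map_zero' := Subtype.ext (map_zero ē.symm)
      map_add' := fun x y => Subtype.ext (map_add ē.symm x.1 y.1) }
  refine ⟨RingEquiv.ofRingHom f g ?_ ?_, fun a => Subtype.ext (hē a)⟩
  · apply RingHom.ext
    intro y
    exact Subtype.ext (ē.apply_symm_apply y.1)
  · apply RingHom.ext
    intro x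
    exact Subtype.ext (ē.symm_apply_apply x.1)

/-- Over a separably closed residue field, the number of geometric branches of a reduced local
ring is at most the number of maximal ideals of its normalization. -/
theorem numGeomBranches_le_card (A : Type u) [CommRing A] [IsLocalRing A] [IsReduced A]
    [IsSepClosed (ResidueField A)] (hfin : (minimalPrimes A).Finite) :
    Brnch.numGeomBranches A ≤
      ENat.card (MaximalSpectrum (integralClosure A (FractionRing A))) := by
  classical
  unfold Brnch.numGeomBranches
  rw [if_pos hfin]
  have h0 : (⊥ : Ideal A) = nilradical A := by rw [nilradical_eq_zero]; rfl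
  let e : A ≃+* CAlg2.red A := (RingEquiv.quotientBot A).symm.trans (Ideal.quotEquivOfEq h0)
  obtain ⟨ψ, -⟩ := exists_integralClosure_ringEquiv e
  refine le_trans (ENat.card_le_card_of_injective
    (f := fun x : (Σ m' : MaximalSpectrum (CAlg2.normRed A), Brnch.Emb A m') => x.1) ?_) ?_
  · rintro ⟨m₁, σ₁⟩ ⟨m₂, σ₂⟩ h
    have hm : m₁ = m₂ := h
    subst hm
    haveI := emb_subsingleton A m₁
    rw [Subsingleton.elim σ₁ σ₂]
  · refine ENat.card_le_card_of_injective
      (f := fun m' : MaximalSpectrum (CAlg2.normRed A) =>
        (⟨m'.asIdeal.comap (ψ : integralClosure A (FractionRing A) →+* CAlg2.normRed A),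
          Ideal.comap_isMaximal_of_surjective _ ψ.surjective (K := m'.asIdeal)
            (H := m'.isMaximal)⟩ :
          MaximalSpectrum (integralClosure A (FractionRing A)))) ?_
    intro m₁ m₂ h
    have h' : m₁.asIdeal.comap (ψ : integralClosure A (FractionRing A) →+* CAlg2.normRed A) =
        m₂.asIdeal.comap (ψ : integralClosure A (FractionRing A) →+* CAlg2.normRed A) :=
      congrArg MaximalSpectrum.asIdeal h
    exact MaximalSpectrum.ext (Ideal.comap_injective_of_surjective _ ψ.surjective h')

section DVR

variable (A : Type u) [CommRing A] [IsLocalRing A] [IsNoetherianRing A] [IsReduced A]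

/-- The localizations of the normalization at maximal ideals are discrete valuation rings
(copied from `H15.BranchDimOne.isRegularLocalRing_localization`, keeping the DVR conclusion). -/
theorem isDVR_localization (hdim : ringKrullDim A = 1)
    (hfin : Module.Finite A (integralClosure A (FractionRing A)))
    (N : Ideal (integralClosure A (FractionRing A))) [N.IsMaximal] :
    ∃ _ : IsDomain (Localization.AtPrime N), IsDiscreteValuationRing (Localization.AtPrime N) := by
  haveI hfin' : @Module.Finite A (integralClosure A (FractionRing A)) _ _ Algebra.toModule := hfin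
  have hminfin : (minimalPrimes A).Finite := minimalPrimes.finite_of_isNoetherianRing A
  haveI hdom : IsDomain (Localization.AtPrime N) :=
    Groth.Agent.H47.NormRedLocal.isDomain_localization (FractionRing A) hminfin N
  haveI hic : IsIntegrallyClosed (Localization.AtPrime N) :=
    Groth.Agent.H47.NormRedLocal.isIntegrallyClosed_localization (FractionRing A) hminfin N
  haveI : IsNoetherianRing (integralClosure A (FractionRing A)) :=
    Groth.Agent.H15.NorCpl.isNoetherianRing_of_finite A (integralClosure A (FractionRing A))
  haveI : IsNoetherianRing (Localization.AtPrime N) :=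
    IsLocalization.isNoetherianRing N.primeCompl _ inferInstance
  haveI : Algebra.IsIntegral A (integralClosure A (FractionRing A)) := inferInstance
  have hd1 : ringKrullDim (Localization.AtPrime N) ≤ 1 := by
    rw [IsLocalization.AtPrime.ringKrullDim_eq_height N (Localization.AtPrime N)]
    calc ((N.height : ℕ∞) : WithBot ℕ∞) ≤ ringKrullDim (integralClosure A (FractionRing A)) :=
          Ideal.height_le_ringKrullDim_of_ne_top (Ideal.IsPrime.ne_top inferInstance)
      _ ≤ ringKrullDim A := Groth.Agent.H54.ringKrullDim_le_of_isIntegral
      _ = 1 := hdim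
  haveI hkd : Ring.KrullDimLE 1 (Localization.AtPrime N) := Ring.krullDimLE_iff.mpr hd1
  obtain ⟨x, hxm, hxnzd⟩ := Groth.Agent.H15.BranchDimOne.exists_nzd A hdim
  have hcomap : N.comap (algebraMap A (integralClosure A (FractionRing A))) = maximalIdeal A :=
    IsLocalRing.eq_maximalIdeal (Ideal.isMaximal_comap_of_isIntegral_of_isMaximal N)
  have hxN : algebraMap A (integralClosure A (FractionRing A)) x ∈ N := by
    rw [← hcomap] at hxm
    exact hxm
  have hx1 : algebraMap (integralClosure A (FractionRing A)) (Localization.AtPrime N)
      (algebraMap A (integralClosure A (FractionRing A)) x) ∈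
      maximalIdeal (Localization.AtPrime N) :=
    (IsLocalization.AtPrime.to_map_mem_maximal_iff (Localization.AtPrime N) N _).mpr hxN
  have hx2 : algebraMap (integralClosure A (FractionRing A)) (Localization.AtPrime N)
      (algebraMap A (integralClosure A (FractionRing A)) x) ≠ 0 := by
    intro h0
    obtain ⟨s, hs⟩ := (IsLocalization.map_eq_zero_iff N.primeCompl _ _).mp h0
    have h1 : x • (s : integralClosure A (FractionRing A)) = 0 := by
      rw [Algebra.smul_def, mul_comm]
      exact hs
    have h2 := Groth.Agent.H15.BranchDimOne.H2 A x hxnzd _ h1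
    exact s.2 (h2 ▸ N.zero_mem)
  have hnf : ¬ IsField (Localization.AtPrime N) := by
    intro hf
    have hbot := IsLocalRing.isField_iff_maximalIdeal_eq.mp hf
    rw [hbot, Ideal.mem_bot] at hx1
    exact hx2 hx1
  have hmne : maximalIdeal (Localization.AtPrime N) ≠ ⊥ := fun h =>
    hnf (IsLocalRing.isField_iff_maximalIdeal_eq.mpr h)
  have hdvr : IsDiscreteValuationRing (Localization.AtPrime N) := by
    have h03 := (IsDiscreteValuationRing.TFAE (Localization.AtPrime N) hnf).out 0 3
    refine h03.mpr ⟨hic, ?_⟩
    refine ⟨maximalIdeal (Localization.AtPrime N), ?_, ?_⟩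
    · show maximalIdeal (Localization.AtPrime N) ≠ ⊥ ∧
        (maximalIdeal (Localization.AtPrime N)).IsPrime
      exact ⟨hmne, inferInstance⟩
    intro P hP
    have hP' : P ≠ ⊥ ∧ P.IsPrime := hP
    obtain ⟨hP0, hPp⟩ := hP'
    have hPmax : P.IsMaximal :=
      Ring.krullDimLE_one_iff_of_noZeroDivisors.mp hkd P hP0 hPp
    exact IsLocalRing.eq_maximalIdeal hPmax
  exact ⟨hdom, hdvr⟩

end DVR

end Groth.Agent.H23.WedgeBranch
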