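import Mathlib

/-!
# The wedge criterion (helper23)

`A` local, `B` an integral `A`-algebra with finitely many maximal ideals.  If
`length_A (B / A) + 1 ≤ #MaxSpec B` then every residue field of `B` is the image of `A` and the
Jacobson radical of `B` lies in the image of `A`.
-/

set_option autoImplicit false
universe u

namespace Groth.Agent.H23.WedgeCore

open IsLocalRing Function

theorem arith1 (δ t k r ℓP : ℕ∞) (c : ℕ) (h : δ + 1 ≤ c) (hE1 : ℓP = r + t)
    (hE2 : δ = k + t) (hr : r ≤ 1) (hc : (c : ℕ∞) ≤ ℓP) : k = 0 := by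
  have hδ : δ ≠ ⊤ := by
    rintro rfl
    simp at h
  have hk : k ≠ ⊤ := by
    rintro rfl
    simp at hE2
    exact hδ hE2
  have ht : t ≠ ⊤ := by
    rintro rfl
    simp at hE2
    exact hδ hE2
  have hr' : r ≠ ⊤ := ne_top_of_le_ne_top ENat.one_ne_top hr
  lift δ to ℕ using hδ
  lift k to ℕ using hk
  lift t to ℕ using ht
  lift r to ℕ using hr'
  subst hE1
  norm_cast at *
  omega

theorem arith2 (δ t k r ℓP x : ℕ∞) (c : ℕ) (h : δ + 1 ≤ c) (hE1 : ℓP = r + t)
    (hE2 : δ = k + t) (hr : r ≤ 1) (hx : x + ((c - 1 : ℕ) : ℕ∞) ≤ ℓP) (hc1 : 1 ≤ c) : x ≤ 1 := by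
  have hδ : δ ≠ ⊤ := by
    rintro rfl
    simp at h
  have hk : k ≠ ⊤ := by
    rintro rfl
    simp at hE2
    exact hδ hE2
  have ht : t ≠ ⊤ := by
    rintro rfl
    simp at hE2
    exact hδ hE2
  have hr' : r ≠ ⊤ := ne_top_of_le_ne_top ENat.one_ne_top hr
  lift δ to ℕ using hδ
  lift k to ℕ using hk
  lift t to ℕ using ht
  lift r to ℕ using hr'
  subst hE1
  have hx' : x ≠ ⊤ := by
    rintro rfl
    simp at hx
  lift x to ℕ using hx'
  norm_cast at *
  omega

theorem main (A B : Type u) [CommRing A] [IsLocalRing A] [CommRing B] [Algebra A B]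
    [Algebra.IsIntegral A B] [Finite (MaximalSpectrum B)]
    (h : Module.length A (B ⧸ LinearMap.range (Algebra.linearMap A B)) + 1 ≤
      ENat.card (MaximalSpectrum B)) :
    (∀ M : MaximalSpectrum B, Function.Surjective
        ((Ideal.Quotient.mk M.asIdeal).comp (algebraMap A B))) ∧
    ∀ b : B, (∀ M : MaximalSpectrum B, b ∈ M.asIdeal) → b ∈ (algebraMap A B).range := by
  classical
  haveI : Fintype (MaximalSpectrum B) := Fintype.ofFinite _
  set R : Submodule A B := LinearMap.range (Algebra.linearMap A B) with hR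
  let π : B →ₗ[A] (∀ M : MaximalSpectrum B, B ⧸ M.asIdeal) :=
    LinearMap.pi (fun M => (Ideal.Quotient.mkₐ A M.asIdeal).toLinearMap)
  have hπ : ∀ b M, π b M = Ideal.Quotient.mk M.asIdeal b := fun b M => rfl
  have hπsurj : Function.Surjective π := by
    intro x
    have hcop : Pairwise (IsCoprime on fun M : MaximalSpectrum B => M.asIdeal) := by
      intro M N hMN
      haveI := M.isMaximal
      haveI := N.isMaximal
      exact Ideal.isCoprime_of_isMaximal (fun h => hMN (MaximalSpectrum.ext h))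
    obtain ⟨r, hr⟩ := Ideal.pi_quotient_surjective hcop x
    exact ⟨r, funext fun M => hr M⟩
  set Rb : Submodule A (∀ M : MaximalSpectrum B, B ⧸ M.asIdeal) := Submodule.map π R with hRb
  have hcomap : ∀ M : MaximalSpectrum B, M.asIdeal.comap (algebraMap A B) = maximalIdeal A := by
    intro M
    haveI := M.isMaximal
    exact IsLocalRing.eq_maximalIdeal (Ideal.isMaximal_comap_of_isIntegral_of_isMaximal M.asIdeal)
  -- length of Rb at most one
  have hRb1 : Module.length A Rb ≤ 1 := by
    let g : A →ₗ[A] Rb :=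
      (π.comp (Algebra.linearMap A B)).codRestrict Rb (fun a => ⟨_, ⟨a, rfl⟩, rfl⟩)
    have hgker : maximalIdeal A ≤ LinearMap.ker g := by
      intro a ha
      rw [LinearMap.mem_ker]
      apply Subtype.ext
      funext M
      show Ideal.Quotient.mk M.asIdeal (algebraMap A B a) = 0
      rw [Ideal.Quotient.eq_zero_iff_mem, ← Ideal.mem_comap, hcomap M]
      exact ha
    let g' : (A ⧸ maximalIdeal A) →ₗ[A] Rb := Submodule.liftQ (maximalIdeal A) g hgker
    have hg' : Function.Surjective g' := by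
      rintro ⟨_, ⟨_, ⟨a, rfl⟩, rfl⟩⟩
      exact ⟨Submodule.Quotient.mk a, Subtype.ext rfl⟩
    haveI : IsSimpleModule A (A ⧸ maximalIdeal A) :=
      isSimpleModule_iff_isCoatom.mpr (Ideal.isMaximal_def.mp inferInstance)
    calc Module.length A Rb ≤ Module.length A (A ⧸ maximalIdeal A) :=
          Module.length_le_of_surjective g' hg'
      _ = 1 := Module.length_eq_one A _
  have hE1 : Module.length A (∀ M : MaximalSpectrum B, B ⧸ M.asIdeal) =
      Module.length A Rb + Module.length A ((∀ M : MaximalSpectrum B, B ⧸ M.asIdeal) ⧸ Rb) :=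
    Module.length_eq_add_of_exact Rb.subtype Rb.mkQ Rb.injective_subtype
      (Submodule.mkQ_surjective _) (LinearMap.exact_subtype_mkQ Rb)
  let q : (B ⧸ R) →ₗ[A] ((∀ M : MaximalSpectrum B, B ⧸ M.asIdeal) ⧸ Rb) :=
    Submodule.mapQ R Rb π (Submodule.le_comap_map π R)
  have hq : ∀ b : B, q (Submodule.Quotient.mk b) = Submodule.Quotient.mk (π b) :=
    fun b => Submodule.mapQ_apply _ _ _ _
  have hqsurj : Function.Surjective q := by
    intro y
    obtain ⟨p, rfl⟩ := Submodule.Quotient.mk_surjective _ y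
    obtain ⟨b, rfl⟩ := hπsurj p
    exact ⟨Submodule.Quotient.mk b, hq b⟩
  have hE2 : Module.length A (B ⧸ R) =
      Module.length A (LinearMap.ker q) +
        Module.length A ((∀ M : MaximalSpectrum B, B ⧸ M.asIdeal) ⧸ Rb) :=
    Module.length_eq_add_of_exact (LinearMap.ker q).subtype q (Submodule.subtype_injective _)
      hqsurj (LinearMap.exact_subtype_ker_map q)
  have hP : Module.length A (∀ M : MaximalSpectrum B, B ⧸ M.asIdeal) =
      ∑ M : MaximalSpectrum B, Module.length A (B ⧸ M.asIdeal) :=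
    Module.length_pi_of_fintype A (fun M : MaximalSpectrum B => B ⧸ M.asIdeal)
  have hcard : ENat.card (MaximalSpectrum B) = (Fintype.card (MaximalSpectrum B) : ℕ∞) :=
    ENat.card_eq_coe_fintype_card
  have hpos : ∀ M : MaximalSpectrum B, 1 ≤ Module.length A (B ⧸ M.asIdeal) := by
    intro M
    haveI : Nontrivial (B ⧸ M.asIdeal) := Ideal.Quotient.nontrivial_iff.mpr M.isMaximal.ne_top
    exact Order.one_le_iff_pos.mpr Module.length_pos
  have hS : ∀ M0 : MaximalSpectrum B,
      Module.length A (B ⧸ M0.asIdeal) + ((Fintype.card (MaximalSpectrum B) - 1 : ℕ) : ℕ∞) ≤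
        Module.length A (∀ M : MaximalSpectrum B, B ⧸ M.asIdeal) := by
    intro M0
    rw [hP, ← Finset.add_sum_erase Finset.univ _ (Finset.mem_univ M0)]
    gcongr
    calc ((Fintype.card (MaximalSpectrum B) - 1 : ℕ) : ℕ∞)
        = ∑ _M ∈ Finset.univ.erase M0, (1 : ℕ∞) := by
          rw [Finset.sum_const, Finset.card_erase_of_mem (Finset.mem_univ M0), Finset.card_univ,
            nsmul_eq_mul, mul_one]
      _ ≤ _ := Finset.sum_le_sum (fun M _ => hpos M)
  rw [hcard] at h
  -- the maximal spectrum is nonempty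
  have hc1 : 1 ≤ Fintype.card (MaximalSpectrum B) := by
    by_contra hcon
    have h0 : Fintype.card (MaximalSpectrum B) = 0 := by omega
    rw [h0] at h
    simp at h
  have hne : Nonempty (MaximalSpectrum B) := Fintype.card_pos_iff.mp hc1
  have hcP : (Fintype.card (MaximalSpectrum B) : ℕ∞) ≤
      Module.length A (∀ M : MaximalSpectrum B, B ⧸ M.asIdeal) := by
    obtain ⟨M0⟩ := hne
    refine le_trans ?_ (hS M0)
    calc (Fintype.card (MaximalSpectrum B) : ℕ∞)
        = 1 + ((Fintype.card (MaximalSpectrum B) - 1 : ℕ) : ℕ∞) := by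
          norm_cast; omega
      _ ≤ _ := by gcongr; exact hpos M0
  have hk0 : Module.length A (LinearMap.ker q) = 0 := arith1 _ _ _ _ _ _ h hE1 hE2 hRb1 hcP
  have hqinj : Function.Injective q := by
    rw [← LinearMap.ker_eq_bot]
    have := Module.length_eq_zero_iff.mp hk0
    exact Submodule.eq_bot_of_subsingleton
  refine ⟨fun M0 => ?_, fun b hb => ?_⟩
  · have h1 : Module.length A (B ⧸ M0.asIdeal) = 1 :=
      le_antisymm (arith2 _ _ _ _ _ _ _ h hE1 hE2 hRb1 (hS M0) hc1) (hpos M0)
    haveI : IsSimpleModule A (B ⧸ M0.asIdeal) := Module.length_eq_one_iff.mp h1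
    let φ : A →ₗ[A] (B ⧸ M0.asIdeal) :=
      (Ideal.Quotient.mkₐ A M0.asIdeal).toLinearMap.comp (Algebra.linearMap A B)
    have hφ : LinearMap.range φ = ⊤ := by
      rcases eq_bot_or_eq_top (LinearMap.range φ) with hbot | htop
      · exfalso
        have h1mem : (1 : B ⧸ M0.asIdeal) ∈ LinearMap.range φ := ⟨1, by simp [φ]⟩
        rw [hbot, Submodule.mem_bot] at h1mem
        haveI : Nontrivial (B ⧸ M0.asIdeal) :=
          Ideal.Quotient.nontrivial_iff.mpr M0.isMaximal.ne_top
        exact one_ne_zero h1mem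
      · exact htop
    intro y
    have hy : y ∈ LinearMap.range φ := by rw [hφ]; trivial
    obtain ⟨a, ha⟩ := hy
    exact ⟨a, ha⟩
  · have hπb : π b = 0 := by
      funext M
      rw [hπ]
      exact Ideal.Quotient.eq_zero_iff_mem.mpr (hb M)
    have hqb : q (Submodule.Quotient.mk b) = 0 := by
      rw [hq, hπb, Submodule.Quotient.mk_zero]
    have hb0 : (Submodule.Quotient.mk b : B ⧸ R) = 0 := hqinj (hqb.trans (map_zero q).symm)
    rw [Submodule.Quotient.mk_eq_zero] at hb0
    obtain ⟨a, ha⟩ := hb0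
    exact ⟨a, ha⟩

end Groth.Agent.H23.WedgeCore
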