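import Mathlib
import Groth.Prelude.Def_Brnch
import Groth.Prelude.Def_Curv2
import Groth.Agent.H23.MultiCrossPS
import Groth.Agent.H23.WedgeCore
import Groth.Agent.H23.WedgeBranch
import Groth.Agent.H23.SemilocalCpl2
import Groth.Agent.Lead.PiLocal

/-!
# Complete one-dimensional reduced local rings with `δ = #branches - 1` are multicross (helper23)
-/

set_option autoImplicit false
set_option linter.style.haveILetI false
universe u

namespace Groth.Agent.H23.MultiCross

open IsLocalRing

/-- If the cokernel of `R → B` has finite length over the Noetherian ring `R`, then `B` is a finite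
`R`-module. -/
theorem finite_of_length_ne_top (R : Type u) [CommRing R] [IsNoetherianRing R] (B : Type u)
    [CommRing B] [Algebra R B]
    (h : Module.length R (B ⧸ LinearMap.range (Algebra.linearMap R B)) ≠ ⊤) :
    Module.Finite R B := by
  haveI : Module.Finite R (LinearMap.range (Algebra.linearMap R B)) := Module.Finite.range _
  haveI : Module.Finite R (B ⧸ LinearMap.range (Algebra.linearMap R B)) := by
    have h1 := Module.length_ne_top_iff.mp h
    obtain ⟨h2, -⟩ := isFiniteLength_iff_isNoetherian_isArtinian.mp h1
    infer_instance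
  exact Module.Finite.of_submodule_quotient (LinearMap.range (Algebra.linearMap R B))

/-- For a reduced local ring with finitely many minimal primes the number of branches is the
number of maximal ideals of the integral closure in the total ring of fractions. -/
theorem numBranches_eq_card (A : Type u) [CommRing A] [IsLocalRing A] [IsReduced A]
    (hfin : (minimalPrimes A).Finite) :
    Brnch.numBranches A =
      ENat.card (MaximalSpectrum (integralClosure A (FractionRing A))) := by
  classical
  unfold Brnch.numBranches
  rw [if_pos hfin]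
  have h0 : (⊥ : Ideal A) = nilradical A := by rw [nilradical_eq_zero]; rfl
  let e : A ≃+* CAlg2.red A := (RingEquiv.quotientBot A).symm.trans (Ideal.quotEquivOfEq h0)
  obtain ⟨ψ, -⟩ := Groth.Agent.H23.WedgeBranch.exists_integralClosure_ringEquiv e
  apply le_antisymm
  · refine ENat.card_le_card_of_injective
      (f := fun m' : MaximalSpectrum (CAlg2.normRed A) =>
        (⟨m'.asIdeal.comap (ψ : integralClosure A (FractionRing A) →+* CAlg2.normRed A),
          Ideal.comap_isMaximal_of_surjective _ ψ.surjective (K := m'.asIdeal)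
            (H := m'.isMaximal)⟩ :
          MaximalSpectrum (integralClosure A (FractionRing A)))) ?_
    intro m₁ m₂ h
    have h' : m₁.asIdeal.comap (ψ : integralClosure A (FractionRing A) →+* CAlg2.normRed A) =
        m₂.asIdeal.comap (ψ : integralClosure A (FractionRing A) →+* CAlg2.normRed A) :=
      congrArg MaximalSpectrum.asIdeal h
    exact MaximalSpectrum.ext (Ideal.comap_injective_of_surjective _ ψ.surjective h')
  · refine ENat.card_le_card_of_injective
      (f := fun m' : MaximalSpectrum (integralClosure A (FractionRing A)) =>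
        (⟨m'.asIdeal.comap (ψ.symm : CAlg2.normRed A →+* integralClosure A (FractionRing A)),
          Ideal.comap_isMaximal_of_surjective _ ψ.symm.surjective (K := m'.asIdeal)
            (H := m'.isMaximal)⟩ :
          MaximalSpectrum (CAlg2.normRed A))) ?_
    intro m₁ m₂ h
    have h' : m₁.asIdeal.comap (ψ.symm : CAlg2.normRed A →+* integralClosure A (FractionRing A)) =
        m₂.asIdeal.comap (ψ.symm : CAlg2.normRed A →+* integralClosure A (FractionRing A)) :=
      congrArg MaximalSpectrum.asIdeal h
    exact MaximalSpectrum.ext (Ideal.comap_injective_of_surjective _ ψ.symm.surjective h')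

/-- **Multicross structure of complete curve singularities with `δ = #branches - 1`.** -/
theorem propC (k : Type u) [Field k] (R : Type u) [CommRing R] [IsLocalRing R]
    [IsNoetherianRing R] [IsReduced R] [IsAdicComplete (maximalIdeal R) R]
    (hdim : ringKrullDim R = 1) (ψ : k →+* R)
    (hψ : Function.Surjective ((residue R).comp ψ)) (n : ℕ)
    (hn : ENat.card (MaximalSpectrum (integralClosure R (FractionRing R))) = n)
    (hδ : Curv2.deltaInv R + 1 = n) :
    ∃ φ : R →+* (Fin n → PowerSeries k), Function.Injective φ ∧
      (∀ c : k, φ (ψ c) = fun _ => PowerSeries.C c) ∧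
      Set.range φ = {f : Fin n → PowerSeries k | ∀ i j : Fin n,
        PowerSeries.constantCoeff (f i) = PowerSeries.constantCoeff (f j)} := by
  classical
  set B := integralClosure R (FractionRing R) with hB
  -- Step 1: finiteness of the normalization
  have hlen : Module.length R (B ⧸ LinearMap.range (Algebra.linearMap R B)) + 1 = n := hδ
  have hne : Module.length R (B ⧸ LinearMap.range (Algebra.linearMap R B)) ≠ ⊤ := by
    intro h
    rw [h] at hlen
    simp at hlen
  have hfin : Module.Finite R B := finite_of_length_ne_top R B hne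
  haveI := hfin
  haveI : Algebra.IsIntegral R B := Algebra.IsIntegral.of_finite R B
  haveI : IsNoetherianRing B := IsNoetherianRing.of_finite R B
  -- Step 2: `B` is complete along `𝔞 = 𝔪 B`
  set 𝔪 := maximalIdeal R with h𝔪
  set 𝔞 : Ideal B := 𝔪.map (algebraMap R B) with h𝔞
  haveI hc1 : IsAdicComplete 𝔪 B := Groth.Agent.Lead.isAdicComplete_of_finite 𝔪 B
  haveI hc2 : IsAdicComplete 𝔞 B :=
    (IsAdicComplete.map_algebraMap_iff (I := 𝔪) (S := B) (M := B)).2 hc1
  haveI hart : IsArtinianRing (B ⧸ 𝔞) := by
    letI := Ideal.Quotient.field (maximalIdeal R)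
    exact IsArtinianRing.of_finite (R ⧸ maximalIdeal R) _
  obtain ⟨hfinM, hbij, hM⟩ := Groth.Agent.H23.SemilocalCpl.semilocal_complete' B 𝔞
  haveI := hfinM
  have h𝔞M : ∀ M : MaximalSpectrum B, 𝔞 ≤ M.asIdeal := fun M =>
    (IsAdicComplete.le_jacobson_bot 𝔞).trans
      (sInf_le (by exact ⟨bot_le, M.isMaximal⟩ : M.asIdeal ∈ {J : Ideal B | ⊥ ≤ J ∧ J.IsMaximal}))
  -- Step 3: the wedge criterion
  have hle : Module.length R (B ⧸ LinearMap.range (Algebra.linearMap R B)) + 1 ≤
      ENat.card (MaximalSpectrum B) := by
    rw [hlen, hn]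
  obtain ⟨hsurj, hJ⟩ := Groth.Agent.H23.WedgeCore.main R B hle
  -- Step 4: the local factors are power series rings
  have key : ∀ M : MaximalSpectrum B, ∃ e : PowerSeries k ≃+* Localization.AtPrime M.asIdeal,
      ∀ c, e (PowerSeries.C c) =
        algebraMap B (Localization.AtPrime M.asIdeal) (algebraMap R B (ψ c)) := by
    intro M
    haveI := M.isMaximal
    obtain ⟨hdom, hdvr⟩ := Groth.Agent.H23.WedgeBranch.isDVR_localization R hdim hfin M.asIdeal
    haveI := hdom
    haveI := hdvr
    haveI := (hM M).1
    refine Groth.Agent.H23.MultiCrossPS.ps_equiv k (Localization.AtPrime M.asIdeal)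
      ((algebraMap B (Localization.AtPrime M.asIdeal)).comp ((algebraMap R B).comp ψ)) ?_
    intro y
    obtain ⟨x, hx⟩ := Ideal.algebraMap_residueField_surjective M.asIdeal y
    obtain ⟨a, ha⟩ := hsurj M (Ideal.Quotient.mk M.asIdeal x)
    obtain ⟨c, hc⟩ := hψ (residue R a)
    refine ⟨c, ?_⟩
    have hmem1 : x - algebraMap R B a ∈ M.asIdeal := by
      rw [← Ideal.Quotient.eq]
      exact ha.symm
    have hmem2 : algebraMap R B (ψ c - a) ∈ M.asIdeal := by
      apply h𝔞M M
      apply Ideal.mem_map_of_mem
      have h1 : residue R (ψ c - a) = 0 := by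
        rw [map_sub, sub_eq_zero]; exact hc
      exact (IsLocalRing.residue_eq_zero_iff _).mp h1
    have h1 : algebraMap B M.asIdeal.ResidueField (x - algebraMap R B a) = 0 :=
      Ideal.algebraMap_residueField_eq_zero.mpr hmem1
    have h2 : algebraMap B M.asIdeal.ResidueField (algebraMap R B (ψ c - a)) = 0 :=
      Ideal.algebraMap_residueField_eq_zero.mpr hmem2
    rw [map_sub, sub_eq_zero] at h1
    rw [map_sub, map_sub, sub_eq_zero] at h2
    rw [← hx, h1, ← h2]
    rfl
  choose e he using key
  -- the component maps
  let g : ∀ M : MaximalSpectrum B, R →+* PowerSeries k := fun M =>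
    ((e M).symm : Localization.AtPrime M.asIdeal →+* PowerSeries k).comp
      ((algebraMap B (Localization.AtPrime M.asIdeal)).comp (algebraMap R B))
  have hg : ∀ M r, g M r = (e M).symm (algebraMap B (Localization.AtPrime M.asIdeal)
      (algebraMap R B r)) := fun M r => rfl
  -- units and constant coefficients
  have hcc : ∀ (M : MaximalSpectrum B) (y : Localization.AtPrime M.asIdeal),
      y ∈ maximalIdeal (Localization.AtPrime M.asIdeal) ↔
        PowerSeries.constantCoeff ((e M).symm y) = 0 := by
    intro M y
    rw [IsLocalRing.mem_maximalIdeal, mem_nonunits_iff]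
    have h1 : IsUnit ((e M).symm y) ↔ IsUnit y := isUnit_map_iff (e M).symm y
    rw [← h1, PowerSeries.isUnit_iff_constantCoeff, isUnit_iff_ne_zero, not_not]
  have hcc' : ∀ (M : MaximalSpectrum B) (b : B),
      b ∈ M.asIdeal ↔ PowerSeries.constantCoeff ((e M).symm
        (algebraMap B (Localization.AtPrime M.asIdeal) b)) = 0 := by
    intro M b
    rw [← hcc M, IsLocalization.AtPrime.to_map_mem_maximal_iff
      (Localization.AtPrime M.asIdeal) M.asIdeal b]
  have hgψ : ∀ M c, g M (ψ c) = PowerSeries.C c := by
    intro M c
    rw [hg, ← he M c, RingEquiv.symm_apply_apply]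
  have hgm : ∀ M, ∀ x ∈ 𝔪, PowerSeries.constantCoeff (g M x) = 0 := by
    intro M x hx
    rw [hg, ← hcc' M]
    exact h𝔞M M (Ideal.mem_map_of_mem _ hx)
  have hgcc : ∀ M r c, r - ψ c ∈ 𝔪 → PowerSeries.constantCoeff (g M r) = c := by
    intro M r c hrc
    have h1 : g M r = g M (r - ψ c) + PowerSeries.C c := by
      rw [← hgψ M c, ← map_add, sub_add_cancel]
    rw [h1, map_add, hgm M _ hrc, zero_add, PowerSeries.constantCoeff_C]
  -- Step 5: indexing by `Fin n`
  have hcard : Nat.card (MaximalSpectrum B) = n := by
    have h1 : ((Nat.card (MaximalSpectrum B) : ℕ) : ℕ∞) = n := by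
      rw [← hn, ENat.card_eq_coe_natCard]
    exact_mod_cast h1
  let σ : MaximalSpectrum B ≃ Fin n := Finite.equivFinOfCardEq hcard
  let φ : R →+* (Fin n → PowerSeries k) := RingHom.pi (fun i => g (σ.symm i))
  have hφ : ∀ r i, φ r i = g (σ.symm i) r := fun r i => rfl
  have hRB : Function.Injective (algebraMap R B) := by
    intro x y hxy
    have h1 : algebraMap R (FractionRing R) x = algebraMap R (FractionRing R) y :=
      congrArg Subtype.val hxy
    exact IsFractionRing.injective R (FractionRing R) h1
  refine ⟨φ, ?_, ?_, ?_⟩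
  · -- injectivity
    rw [injective_iff_map_eq_zero]
    intro r hr
    apply hRB
    rw [map_zero]
    apply hbij.1
    rw [map_zero]
    funext M
    have h1 : g M r = 0 := by
      have h2 := congrFun hr (σ M)
      rw [hφ, σ.symm_apply_apply] at h2
      exact h2
    rw [hg] at h1
    have h3 := (RingEquiv.map_eq_zero_iff (e M).symm).mp h1
    exact h3
  · intro c
    funext i
    rw [hφ, hgψ]
  · ext f
    simp only [Set.mem_range, Set.mem_ofPred_eq]
    constructor
    · rintro ⟨r, rfl⟩ i j
      obtain ⟨c, hc⟩ := hψ (residue R r)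
      have hrc : r - ψ c ∈ 𝔪 := by
        have h1 : residue R (r - ψ c) = 0 := by
          rw [map_sub, sub_eq_zero]; exact hc.symm
        exact (IsLocalRing.residue_eq_zero_iff _).mp h1
      rw [hφ, hφ, hgcc _ r c hrc, hgcc _ r c hrc]
    · intro hf
      set c : k := if h : 0 < n then PowerSeries.constantCoeff (f ⟨0, h⟩) else 0 with hcdef
      have hfc : ∀ i, PowerSeries.constantCoeff (f i) = c := by
        intro i
        have hpos : 0 < n := i.pos
        rw [hcdef, dif_pos hpos]
        exact hf i ⟨0, hpos⟩
      let t : ∀ M : MaximalSpectrum B, Localization.AtPrime M.asIdeal :=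
        fun M => e M (f (σ M) - PowerSeries.C c)
      obtain ⟨b, hb⟩ := hbij.2 t
      have hb' : ∀ M, algebraMap B (Localization.AtPrime M.asIdeal) b = t M :=
        fun M => congrFun hb M
      have hbM : ∀ M : MaximalSpectrum B, b ∈ M.asIdeal := by
        intro M
        rw [hcc' M, hb' M]
        show PowerSeries.constantCoeff ((e M).symm (e M (f (σ M) - PowerSeries.C c))) = 0
        rw [RingEquiv.symm_apply_apply, map_sub, hfc, PowerSeries.constantCoeff_C, sub_self]
      obtain ⟨r0, hr0⟩ := hJ b hbM
      refine ⟨r0 + ψ c, ?_⟩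
      funext i
      rw [hφ, map_add, hgψ, hg, hr0, hb']
      show (e (σ.symm i)).symm (e (σ.symm i) (f (σ (σ.symm i)) - PowerSeries.C c)) +
        PowerSeries.C c = f i
      rw [RingEquiv.symm_apply_apply, σ.apply_symm_apply, sub_add_cancel]

end Groth.Agent.H23.MultiCross
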