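import Groth.Prelude
import Groth.Agent.H23.MultiCross
import Groth.Agent.H15.DeltaCpl
import Groth.Agent.H99.DimOneNorm

set_option autoImplicit false
set_option maxHeartbeats 400000

/-!
# Branches and δ-invariant of the multicross ring

For a local Noetherian ring `R` embedded in `(k[[t]])^n` (`n ≥ 1`) with image the tuples having a
common constant coefficient, we show: `R` is reduced of dimension one, has `n` branches and
δ-invariant `n - 1`.
-/

universe u

namespace Groth.Agent.H23.MultiCrossD

open IsLocalRing

/-- Ring isomorphic rings have the same number of maximal ideals. -/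
theorem card_maximalSpectrum_congr {A B : Type*} [CommRing A] [CommRing B] (ψ : A ≃+* B) :
    ENat.card (MaximalSpectrum A) = ENat.card (MaximalSpectrum B) := by
  apply le_antisymm
  · refine ENat.card_le_card_of_injective
      (f := fun m' : MaximalSpectrum A =>
        (⟨m'.asIdeal.comap (ψ.symm : B →+* A),
          Ideal.comap_isMaximal_of_surjective _ ψ.symm.surjective (K := m'.asIdeal)
            (H := m'.isMaximal)⟩ : MaximalSpectrum B)) ?_
    intro m₁ m₂ h
    have h' : m₁.asIdeal.comap (ψ.symm : B →+* A) = m₂.asIdeal.comap (ψ.symm : B →+* A) :=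
      congrArg MaximalSpectrum.asIdeal h
    exact MaximalSpectrum.ext (Ideal.comap_injective_of_surjective _ ψ.symm.surjective h')
  · refine ENat.card_le_card_of_injective
      (f := fun m' : MaximalSpectrum B =>
        (⟨m'.asIdeal.comap (ψ : A →+* B),
          Ideal.comap_isMaximal_of_surjective _ ψ.surjective (K := m'.asIdeal)
            (H := m'.isMaximal)⟩ : MaximalSpectrum A)) ?_
    intro m₁ m₂ h
    have h' : m₁.asIdeal.comap (ψ : A →+* B) = m₂.asIdeal.comap (ψ : A →+* B) :=
      congrArg MaximalSpectrum.asIdeal h
    exact MaximalSpectrum.ext (Ideal.comap_injective_of_surjective _ ψ.surjective h')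

/-- A finite product of local rings has as many maximal ideals as factors. -/
theorem card_maximalSpectrum_pi {ι : Type*} [Finite ι] (C : ι → Type*) [∀ j, CommRing (C j)]
    [∀ j, IsLocalRing (C j)] :
    ENat.card (MaximalSpectrum (Π j, C j)) = ENat.card ι := by
  classical
  have hMmax : ∀ j, ((IsLocalRing.maximalIdeal (C j)).comap (Pi.evalRingHom C j)).IsMaximal :=
    fun j => Ideal.comap_isMaximal_of_surjective _ (Function.surjective_eval j)
  let nj : ι → MaximalSpectrum (Π j, C j) := fun j => ⟨_, hMmax j⟩
  have hclass : ∀ n : MaximalSpectrum (Π j, C j), ∃ j, nj j = n := by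
    intro n
    obtain ⟨⟨j, p⟩, hp⟩ := (PrimeSpectrum.sigmaToPi_bijective C).2 n.toPrimeSpectrum
    refine ⟨j, ?_⟩
    have h1 : n.asIdeal = p.asIdeal.comap (Pi.evalRingHom C j) := by
      have h0 := congrArg PrimeSpectrum.asIdeal hp
      exact h0.symm
    have h2 : p.asIdeal ≤ IsLocalRing.maximalIdeal (C j) :=
      IsLocalRing.le_maximalIdeal p.isPrime.ne_top
    have h3 : n.asIdeal ≤ (nj j).asIdeal := by
      rw [h1]; exact Ideal.comap_mono h2
    have h4 := n.isMaximal.eq_of_le (hMmax j).ne_top h3
    exact (MaximalSpectrum.ext h4).symm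
  have hinj : Function.Injective nj := by
    intro i j hij
    by_contra hne
    have h1 : (Pi.single i 1 : Π j, C j) ∈ (nj j).asIdeal := by
      show (Pi.single i 1 : Π j, C j) j ∈ IsLocalRing.maximalIdeal (C j)
      rw [Pi.single_eq_of_ne (Ne.symm hne)]
      exact Ideal.zero_mem _
    rw [← hij] at h1
    have h2 : (Pi.single i 1 : Π j, C j) i ∈ IsLocalRing.maximalIdeal (C i) := h1
    rw [Pi.single_eq_same] at h2
    exact (IsLocalRing.maximalIdeal (C i)).ne_top_iff_one.mp
      (Ideal.IsMaximal.ne_top inferInstance) h2
  exact (ENat.card_congr (Equiv.ofBijective nj ⟨hinj, hclass⟩)).symm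

/-- **Normalization criterion.** If `R ⊆ P` is an integral extension with a common
nonzerodivisor conductor element `d` (so `d P ⊆ R`) and `P` is normal (its local rings are
integrally closed domains), then `P` is the integral closure of `R` in its total ring of
fractions. -/
theorem norm_equiv (R P : Type u) [CommRing R] [CommRing P] [Algebra R P]
    [Algebra.IsIntegral R P]
    (hinj : Function.Injective (algebraMap R P))
    (d : R) (hd : algebraMap R P d ∈ nonZeroDivisors P)
    (hdP : ∀ p : P, ∃ r : R, algebraMap R P r = algebraMap R P d * p)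
    (hC : ∀ (Q : Ideal P) [Q.IsMaximal], IsDomain (Localization.AtPrime Q) ∧
      IsIntegrallyClosed (Localization.AtPrime Q)) :
    Nonempty (integralClosure R (FractionRing R) ≃ₐ[R] P) := by
  classical
  let L := FractionRing P
  have hPL : Function.Injective (algebraMap P L) := IsFractionRing.injective P L
  have hRL : ∀ r : R, algebraMap R L r = algebraMap P L (algebraMap R P r) :=
    fun r => IsScalarTower.algebraMap_apply R P L r
  have hnzd : ∀ r ∈ nonZeroDivisors R, algebraMap R P r ∈ nonZeroDivisors P := by
    intro r hr
    rw [mem_nonZeroDivisors_iff_right]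
    intro p hp
    obtain ⟨z, hz⟩ := hdP p
    have h1 : algebraMap R P (z * r) = 0 := by
      rw [map_mul, hz, mul_assoc, hp, mul_zero]
    have h2 : z * r = 0 := hinj (by rw [h1, map_zero])
    have h3 : z = 0 := (mem_nonZeroDivisors_iff_right.mp hr) z h2
    rw [h3, map_zero] at hz
    exact (mem_nonZeroDivisors_iff_right.mp hd) p (by rw [mul_comm]; exact hz.symm)
  have hdR : d ∈ nonZeroDivisors R := by
    rw [mem_nonZeroDivisors_iff_right]
    intro x hx
    apply hinj
    rw [map_zero]
    apply (mem_nonZeroDivisors_iff_right.mp hd)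
    rw [← map_mul, hx, map_zero]
  haveI hloc : IsLocalization (nonZeroDivisors R) L := by
    refine (isLocalization_iff (M := nonZeroDivisors R) (S := L)).mpr ⟨?_, ?_, ?_⟩
    · rintro ⟨r, hr⟩
      exact IsLocalization.map_units L (⟨algebraMap R P r, hnzd r hr⟩ : nonZeroDivisors P)
    · intro z
      obtain ⟨⟨p, q⟩, hpq⟩ := IsLocalization.surj (nonZeroDivisors P) z
      obtain ⟨a, ha⟩ := hdP p
      obtain ⟨s, hs⟩ := hdP q
      have hs' : s ∈ nonZeroDivisors R := by
        rw [mem_nonZeroDivisors_iff_right]
        intro x hx
        have h1 : algebraMap R P x * algebraMap R P d * (q : P) = 0 := by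
          rw [mul_assoc, ← hs, ← map_mul, hx, map_zero]
        have h2 : algebraMap R P x * algebraMap R P d = 0 :=
          (mem_nonZeroDivisors_iff_right.mp q.2) _ h1
        have h3 : algebraMap R P x = 0 := (mem_nonZeroDivisors_iff_right.mp hd) _ h2
        exact hinj (by rw [h3, map_zero])
      refine ⟨(a, ⟨s, hs'⟩), ?_⟩
      show z * algebraMap P L (algebraMap R P s) = algebraMap P L (algebraMap R P a)
      rw [hs, ha, map_mul, map_mul, ← hpq]
      ring
    · intro x y hxy
      refine ⟨1, ?_⟩
      have h1 : algebraMap R P x = algebraMap R P y := hPL hxy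
      rw [hinj h1]
  let Φ : FractionRing R ≃ₐ[R] L :=
    IsLocalization.algEquiv (nonZeroDivisors R) (FractionRing R) L
  have h := integralClosure_map_algEquiv (R := R) Φ
  have hrange : integralClosure R L = (IsScalarTower.toAlgHom R P L).range := by
    apply le_antisymm
    · intro x hx
      have hx0 : IsIntegral R x := hx
      obtain ⟨⟨p, q⟩, hpq⟩ := IsLocalization.surj (nonZeroDivisors P) x
      have hx' : x = IsLocalization.mk' L p q := (IsLocalization.eq_mk'_iff_mul_eq).mpr hpq
      have hxP : IsIntegral P x := IsIntegral.tower_top hx0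
      obtain ⟨g, hg, hgx⟩ := hxP
      have h1 : Polynomial.aeval (IsLocalization.mk' L p q) g = 0 := by
        rw [← hx']; exact hgx
      have h2 := scaleRoots_aeval_eq_zero_of_aeval_mk'_eq_zero h1
      have h3 : (g.scaleRoots (q : P)).eval p = 0 := by
        apply hPL
        rw [map_zero, ← h2, Polynomial.aeval_algebraMap_apply, Polynomial.coe_aeval_eq_eval]
      have hsreg : IsSMulRegular P (q : P) :=
        (isRegular_iff_mem_nonZeroDivisors.mpr q.2).left.isSMulRegular
      have h4 := Groth.Agent.H15.DeltaCpl.mem_span_of_scaleRoots_eval hC hsreg hg h3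
      obtain ⟨c, hc⟩ := Ideal.mem_span_singleton'.mp h4
      refine ⟨c, ?_⟩
      show algebraMap P L c = x
      rw [hx', IsLocalization.eq_mk'_iff_mul_eq, ← map_mul, hc]
    · rintro _ ⟨p, rfl⟩
      exact (Algebra.IsIntegral.isIntegral (R := R) p).map (IsScalarTower.toAlgHom R P L)
  exact ⟨((Φ.subalgebraMap (integralClosure R (FractionRing R))).trans
    (Subalgebra.equivOfEq _ _ (h.trans hrange))).trans
    (AlgEquiv.ofInjective (IsScalarTower.toAlgHom R P L) hPL).symm⟩

section PropD

variable (k : Type u) [Field k] (R : Type u) [CommRing R] [IsLocalRing R] [IsNoetherianRing R]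
  (n : ℕ) (hn : 0 < n) (φ : R →+* (Fin n → PowerSeries k)) (hinj : Function.Injective φ)
  (hrange : Set.range φ = {f : Fin n → PowerSeries k | ∀ i j : Fin n,
    PowerSeries.constantCoeff (f i) = PowerSeries.constantCoeff (f j)})

include hrange in
theorem mem_range_iff (p : Fin n → PowerSeries k) :
    (∃ r, φ r = p) ↔ ∀ i j : Fin n,
      PowerSeries.constantCoeff (p i) = PowerSeries.constantCoeff (p j) := by
  have h : p ∈ Set.range φ ↔ p ∈ {f : Fin n → PowerSeries k | ∀ i j : Fin n,
      PowerSeries.constantCoeff (f i) = PowerSeries.constantCoeff (f j)} := by rw [hrange]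
  exact h

include hrange in
theorem exists_d : ∃ d : R, φ d = fun _ => PowerSeries.X :=
  (mem_range_iff k R n φ hrange _).mpr (fun i j => rfl)

include hrange in
theorem exists_mul (d : R) (hd : φ d = fun _ => PowerSeries.X) (p : Fin n → PowerSeries k) :
    ∃ r : R, φ r = φ d * p := by
  apply (mem_range_iff k R n φ hrange _).mpr
  intro i j
  rw [hd]
  simp

theorem d_mem_nonZeroDivisors (d : R) (hd : φ d = fun _ => PowerSeries.X) :
    φ d ∈ nonZeroDivisors (Fin n → PowerSeries k) := by
  rw [mem_nonZeroDivisors_iff_right]
  intro x hx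
  funext i
  have h1 : x i * PowerSeries.X = 0 := by
    have := congrFun hx i
    rw [hd] at this
    exact this
  rcases mul_eq_zero.mp h1 with h | h
  · exact h
  · exact absurd h PowerSeries.X_ne_zero

include hrange in
/-- Each coordinate projection of `R` is onto. -/
theorem eval_surjective (i : Fin n) :
    Function.Surjective ((Pi.evalRingHom (fun _ : Fin n => PowerSeries k) i).comp φ) := by
  classical
  intro g
  obtain ⟨r, hr⟩ := (mem_range_iff k R n φ hrange
    (fun j => if j = i then g else PowerSeries.C (PowerSeries.constantCoeff g))).mpr (by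
      intro a b
      by_cases ha : a = i <;> by_cases hb : b = i <;> simp [ha, hb])
  refine ⟨r, ?_⟩
  show φ r i = g
  rw [hr]; simp

/-- The residue character of `R`. -/
noncomputable def chi (i₀ : Fin n) : R →+* k :=
  (PowerSeries.constantCoeff (R := k)).comp
    ((Pi.evalRingHom (fun _ : Fin n => PowerSeries k) i₀).comp φ)

theorem chi_apply (i₀ : Fin n) (r : R) :
    chi k R n φ i₀ r = PowerSeries.constantCoeff (φ r i₀) := rfl

include hrange in
theorem chi_eq (i₀ i : Fin n) (r : R) :
    chi k R n φ i₀ r = PowerSeries.constantCoeff (φ r i) :=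
  (mem_range_iff k R n φ hrange _).mp ⟨r, rfl⟩ i₀ i

include hrange in
theorem chi_surjective (i₀ : Fin n) : Function.Surjective (chi k R n φ i₀) := by
  intro c
  obtain ⟨r, hr⟩ := (mem_range_iff k R n φ hrange (fun _ => PowerSeries.C c)).mpr
    (fun i j => rfl)
  refine ⟨r, ?_⟩
  rw [chi_apply, hr]
  simp

include hrange in
theorem ker_chi (i₀ : Fin n) : RingHom.ker (chi k R n φ i₀) = maximalIdeal R := by
  haveI := RingHom.ker_isMaximal_of_surjective (chi k R n φ i₀)
    (chi_surjective k R n φ hrange i₀)
  exact IsLocalRing.eq_maximalIdeal inferInstance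

include hn hinj hrange in
theorem ringKrullDim_eq_one : ringKrullDim R = 1 := by
  classical
  let i₀ : Fin n := ⟨0, hn⟩
  obtain ⟨d, hd⟩ := exists_d k R n φ hrange
  apply le_antisymm
  · rw [ringKrullDim_le_iff_isMaximal_height_le]
    intro I hI
    have hIm : I = maximalIdeal R := IsLocalRing.eq_maximalIdeal hI
    rw [hIm]
    have hmem : maximalIdeal R ∈ (Ideal.span {d}).minimalPrimes := by
      refine ⟨⟨inferInstance, ?_⟩, ?_⟩
      · rw [Ideal.span_singleton_le_iff_mem, ← ker_chi k R n φ hrange i₀, RingHom.mem_ker,
          chi_apply, hd]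
        simp
      · rintro q ⟨hq, hdq⟩ hqm x hx
        have hx0 : ∀ i, PowerSeries.constantCoeff (φ x i) = 0 := by
          intro i
          rw [← chi_eq k R n φ hrange i₀ i, ← RingHom.mem_ker, ker_chi k R n φ hrange i₀]
          exact hx
        have hy : ∀ i, ∃ y, φ x i = PowerSeries.X * y :=
          fun i => PowerSeries.X_dvd_iff.mpr (hx0 i)
        choose y hy using hy
        obtain ⟨z, hz⟩ := (mem_range_iff k R n φ hrange
          (fun i => PowerSeries.X * (y i) ^ 2)).mpr (by intro i j; simp)
        have hxz : x ^ 2 = d * z := by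
          apply hinj
          funext i
          rw [map_pow, map_mul, hd, hz, Pi.pow_apply, Pi.mul_apply, hy i]
          ring
        have hx2 : x ^ 2 ∈ q := by
          rw [hxz]
          exact Ideal.mul_mem_right _ _ (hdq (Ideal.mem_span_singleton_self d))
        exact hq.mem_of_pow_mem 2 hx2
    have h1 := Ideal.height_le_one_of_isPrincipal_of_mem_minimalPrimes_of_isLocalRing
      (Ideal.span {d}) hmem
    exact_mod_cast h1
  · have h1 := ringKrullDim_le_of_surjective _ (eval_surjective k R n φ hrange i₀)
    rw [IsPrincipalIdealRing.ringKrullDim_eq_one _ PowerSeries.not_isField] at h1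
    exact h1

include hn hinj hrange in
/-- **The multicross ring**: reduced of dimension one, `n` branches, `δ = n - 1`. -/
theorem propD :
    ringKrullDim R = 1 ∧ IsReduced R ∧ Brnch.numBranches R = n ∧ Curv2.deltaInv R + 1 = n := by
  classical
  let i₀ : Fin n := ⟨0, hn⟩
  haveI hred : IsReduced R := isReduced_of_injective φ hinj
  obtain ⟨d, hd⟩ := exists_d k R n φ hrange
  letI algRP : Algebra R (Fin n → PowerSeries k) := φ.toAlgebra
  have halg : ∀ r, algebraMap R (Fin n → PowerSeries k) r = φ r := fun r => rfl
  haveI hint : Algebra.IsIntegral R (Fin n → PowerSeries k) := by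
    constructor
    intro p
    have hw : ∀ i, ∃ w : R, φ w i = p i := fun i => eval_surjective k R n φ hrange i (p i)
    choose w hw using hw
    have hp : p = ∑ i, (Pi.single i 1 : Fin n → PowerSeries k) * φ (w i) := by
      funext j
      rw [Finset.sum_apply, Finset.sum_eq_single j]
      · rw [Pi.mul_apply, Pi.single_eq_same, one_mul, hw]
      · intro i _ hij
        rw [Pi.mul_apply, Pi.single_eq_of_ne (Ne.symm hij), zero_mul]
      · intro h; exact absurd (Finset.mem_univ j) h
    rw [hp]
    apply IsIntegral.sum
    intro i _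
    apply IsIntegral.mul
    · refine ⟨Polynomial.X * (Polynomial.X - Polynomial.C 1),
        Polynomial.monic_X.mul (Polynomial.monic_X_sub_C 1), ?_⟩
      rw [Polynomial.eval₂_mul, Polynomial.eval₂_X, Polynomial.eval₂_sub, Polynomial.eval₂_X,
        Polynomial.eval₂_C, map_one]
      funext j
      by_cases hji : j = i
      · subst hji; simp
      · simp [Pi.single_eq_of_ne hji]
    · exact isIntegral_algebraMap
  have hC : ∀ (Q : Ideal (Fin n → PowerSeries k)) [Q.IsMaximal],
      IsDomain (Localization.AtPrime Q) ∧ IsIntegrallyClosed (Localization.AtPrime Q) := by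
    intro Q hQ
    exact Groth.Agent.H99.DimOneNorm.pi_localization_normal
      (⟨Q, hQ.isPrime⟩ : PrimeSpectrum (Fin n → PowerSeries k))
  obtain ⟨Ψ⟩ := norm_equiv R (Fin n → PowerSeries k) hinj d
    (d_mem_nonZeroDivisors k R n φ d hd) (exists_mul k R n φ hrange d hd) hC
  refine ⟨ringKrullDim_eq_one k R n hn φ hinj hrange, hred, ?_, ?_⟩
  · rw [Groth.Agent.H23.MultiCross.numBranches_eq_card R
      (minimalPrimes.finite_of_isNoetherianRing R),
      card_maximalSpectrum_congr Ψ.toRingEquiv,
      card_maximalSpectrum_pi (fun _ : Fin n => PowerSeries k)]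
    simp
  · let E : (R ⧸ RingHom.ker (chi k R n φ i₀)) ≃+* k :=
      RingHom.quotientKerEquivOfSurjective (chi_surjective k R n φ hrange i₀)
    let E' : ResidueField R ≃+* k :=
      ((Ideal.quotEquivOfEq (ker_chi k R n φ hrange i₀).symm).trans E : _)
    have hE' : ∀ r, E' (residue R r) = chi k R n φ i₀ r := fun r => rfl
    let ι : k →+* ResidueField R := E'.symm.toRingHom
    have hι : ∀ r, ι (chi k R n φ i₀ r) = residue R r := by
      intro r
      rw [← hE']
      exact E'.symm_apply_apply _
    have hιinj : Function.Injective ι := E'.symm.injective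
    have hιsurj : Function.Surjective ι := E'.symm.surjective
    let S : Submodule (ResidueField R) (Fin n → ResidueField R) :=
      LinearMap.ker (LinearMap.proj i₀ : (Fin n → ResidueField R) →ₗ[ResidueField R] ResidueField R)
    let f : (Fin n → PowerSeries k) →ₗ[R] S :=
      { toFun := fun p => ⟨fun i => ι (PowerSeries.constantCoeff (p i) -
            PowerSeries.constantCoeff (p i₀)), by
          rw [LinearMap.mem_ker, LinearMap.proj_apply, sub_self, map_zero]⟩
        map_add' := fun p q => by
          apply Subtype.ext; funext i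
          show ι (PowerSeries.constantCoeff ((p + q) i) -
              PowerSeries.constantCoeff ((p + q) i₀)) =
            ι (PowerSeries.constantCoeff (p i) - PowerSeries.constantCoeff (p i₀)) +
            ι (PowerSeries.constantCoeff (q i) - PowerSeries.constantCoeff (q i₀))
          rw [← map_add, Pi.add_apply, Pi.add_apply, map_add, map_add]
          congr 1; ring
        map_smul' := fun r p => by
          apply Subtype.ext; funext i
          show ι (PowerSeries.constantCoeff ((r • p) i) -
              PowerSeries.constantCoeff ((r • p) i₀)) =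
            r • ι (PowerSeries.constantCoeff (p i) - PowerSeries.constantCoeff (p i₀))
          rw [Algebra.smul_def r p, halg, Pi.mul_apply, Pi.mul_apply, map_mul, map_mul,
            ← chi_eq k R n φ hrange i₀ i r, ← chi_apply k R n φ i₀ r, Algebra.smul_def,
            ← mul_sub, map_mul, hι]
          rfl }
    have hf : ∀ p i, ((f p : S) : Fin n → ResidueField R) i =
        ι (PowerSeries.constantCoeff (p i) - PowerSeries.constantCoeff (p i₀)) := fun p i => rfl
    have hsurj : Function.Surjective f := by
      rintro ⟨v, hv⟩
      rw [LinearMap.mem_ker, LinearMap.proj_apply] at hv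
      refine ⟨fun i => PowerSeries.C (E' (v i)), ?_⟩
      apply Subtype.ext; funext i
      rw [hf]
      simp only [PowerSeries.constantCoeff_C]
      rw [hv, map_zero, sub_zero]
      exact E'.symm_apply_apply _
    have hker : LinearMap.ker f =
        LinearMap.range (Algebra.linearMap R (Fin n → PowerSeries k)) := by
      ext p
      rw [LinearMap.mem_ker, LinearMap.mem_range]
      constructor
      · intro hp
        have hp' : ∀ i, PowerSeries.constantCoeff (p i) = PowerSeries.constantCoeff (p i₀) := by
          intro i
          have := congrFun (congrArg Subtype.val hp) i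
          rw [hf] at this
          have h0 : ι (PowerSeries.constantCoeff (p i) - PowerSeries.constantCoeff (p i₀)) =
              ι 0 := by rw [map_zero]; exact this
          exact sub_eq_zero.mp (hιinj h0)
        obtain ⟨r, hr⟩ := (mem_range_iff k R n φ hrange p).mpr
          (fun i j => (hp' i).trans (hp' j).symm)
        exact ⟨r, hr⟩
      · rintro ⟨r, rfl⟩
        apply Subtype.ext; funext i
        rw [hf]
        show ι (PowerSeries.constantCoeff (φ r i) - PowerSeries.constantCoeff (φ r i₀)) = 0
        rw [← chi_eq k R n φ hrange i₀ i r, ← chi_apply k R n φ i₀ r, sub_self, map_zero]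
    have e1 : ((Fin n → PowerSeries k) ⧸
        LinearMap.range (Algebra.linearMap R (Fin n → PowerSeries k))) ≃ₗ[R] S :=
      (Submodule.quotEquivOfEq _ _ hker.symm).trans (f.quotKerEquivOfSurjective hsurj)
    have hfr : Module.finrank (ResidueField R) S = n - 1 := by
      have h1 := LinearMap.finrank_range_add_finrank_ker
        (LinearMap.proj i₀ : (Fin n → ResidueField R) →ₗ[ResidueField R] ResidueField R)
      have h2 : LinearMap.range
          (LinearMap.proj i₀ : (Fin n → ResidueField R) →ₗ[ResidueField R] ResidueField R) = ⊤ :=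
        LinearMap.range_eq_top.mpr (LinearMap.proj_surjective i₀)
      rw [h2, finrank_top, Module.finrank_self, Module.finrank_fin_fun] at h1
      show Module.finrank (ResidueField R) (LinearMap.ker
        (LinearMap.proj i₀ : (Fin n → ResidueField R) →ₗ[ResidueField R] ResidueField R)) = n - 1
      omega
    have hlenP : Module.length R ((Fin n → PowerSeries k) ⧸
        LinearMap.range (Algebra.linearMap R (Fin n → PowerSeries k))) = ((n - 1 : ℕ) : ℕ∞) := by
      rw [e1.length_eq, Module.length_eq_of_surjective (S := R) (R := ResidueField R) (M := S)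
        IsLocalRing.residue_surjective, Module.length_eq_finrank (ResidueField R) S, hfr]
    have e2 : (↥(integralClosure R (FractionRing R)) ⧸
        LinearMap.range (Algebra.linearMap R ↥(integralClosure R (FractionRing R)))) ≃ₗ[R]
        ((Fin n → PowerSeries k) ⧸
          LinearMap.range (Algebra.linearMap R (Fin n → PowerSeries k))) :=
      Submodule.Quotient.equiv _ _ Ψ.toLinearEquiv (by
        ext p
        constructor
        · rintro ⟨_, ⟨r, rfl⟩, rfl⟩
          exact ⟨r, (Ψ.commutes r).symm⟩
        · rintro ⟨r, rfl⟩
          exact ⟨algebraMap R _ r, ⟨r, rfl⟩, Ψ.commutes r⟩)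
    unfold Curv2.deltaInv
    rw [e2.length_eq, hlenP]
    norm_cast
    omega

end PropD

end Groth.Agent.H23.MultiCrossD
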