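import Groth.Prelude
import Groth.Agent.H23.MultiCrossD

set_option autoImplicit false
set_option maxHeartbeats 400000

/-!
# Embedding dimension of the multicross ring
-/

universe u

namespace Groth.Agent.H23.MultiCrossE

open IsLocalRing Groth.Agent.H23.MultiCrossD

theorem coeff_one_mul {k : Type*} [Field k] (a b : PowerSeries k)
    (hb : PowerSeries.constantCoeff b = 0) :
    PowerSeries.coeff 1 (a * b) = PowerSeries.constantCoeff a * PowerSeries.coeff 1 b := by
  obtain ⟨y, rfl⟩ := PowerSeries.X_dvd_iff.mpr hb
  have h1 : a * (PowerSeries.X * y) = PowerSeries.X * (a * y) := by ring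
  rw [h1, show (1 : ℕ) = 0 + 1 from rfl, PowerSeries.coeff_succ_X_mul, PowerSeries.coeff_succ_X_mul,
    PowerSeries.coeff_zero_eq_constantCoeff_apply, PowerSeries.coeff_zero_eq_constantCoeff_apply,
    map_mul]

section

variable (k : Type u) [Field k] (R : Type u) [CommRing R] [IsLocalRing R] [IsNoetherianRing R]
  (n : ℕ) (hn : 0 < n) (φ : R →+* (Fin n → PowerSeries k)) (hinj : Function.Injective φ)
  (hrange : Set.range φ = {f : Fin n → PowerSeries k | ∀ i j : Fin n,
    PowerSeries.constantCoeff (f i) = PowerSeries.constantCoeff (f j)})

include hn hinj hrange in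
/-- The multicross ring with `n` branches has embedding dimension `n`. -/
theorem finrank_cotangentSpace :
    Module.finrank (ResidueField R) (CotangentSpace R) = n := by
  classical
  let i₀ : Fin n := ⟨0, hn⟩
  have hmem : ∀ x : R, x ∈ maximalIdeal R ↔ ∀ i, PowerSeries.constantCoeff (φ x i) = 0 := by
    intro x
    rw [← ker_chi k R n φ hrange i₀, RingHom.mem_ker]
    constructor
    · intro h i
      rw [← chi_eq k R n φ hrange i₀ i]; exact h
    · intro h
      rw [chi_apply]; exact h i₀
  -- generators
  have hu : ∀ i : Fin n, ∃ u : R, φ u = Pi.single i PowerSeries.X := by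
    intro i
    apply (mem_range_iff k R n φ hrange _).mpr
    intro a b
    have h0 : ∀ c : Fin n, PowerSeries.constantCoeff
        ((Pi.single i PowerSeries.X : Fin n → PowerSeries k) c) = 0 := by
      intro c
      by_cases hc : c = i
      · subst hc; rw [Pi.single_eq_same]; simp
      · rw [Pi.single_eq_of_ne hc]; simp
    rw [h0 a, h0 b]
  choose u hu using hu
  have hspan : maximalIdeal R = Ideal.span ((Finset.univ.image u : Finset R) : Set R) := by
    apply le_antisymm
    · intro x hx
      have hx0 := (hmem x).mp hx
      have hy : ∀ i, ∃ y, φ x i = PowerSeries.X * y :=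
        fun i => PowerSeries.X_dvd_iff.mpr (hx0 i)
      choose y hy using hy
      have hw : ∀ i, ∃ w : R, φ w i = y i := fun i => eval_surjective k R n φ hrange i (y i)
      choose w hw using hw
      have hx' : x = ∑ i, u i * w i := by
        apply hinj
        rw [map_sum]
        funext j
        rw [Finset.sum_apply, Finset.sum_eq_single j]
        · rw [map_mul, Pi.mul_apply, hu, Pi.single_eq_same, hw, hy]
        · intro i _ hij
          rw [map_mul, Pi.mul_apply, hu, Pi.single_eq_of_ne (Ne.symm hij), zero_mul]
        · intro h; exact absurd (Finset.mem_univ j) h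
      rw [hx']
      apply Ideal.sum_mem
      intro i _
      apply Ideal.mul_mem_right
      apply Ideal.subset_span
      exact Finset.mem_coe.mpr (Finset.mem_image_of_mem u (Finset.mem_univ i))
    · rw [Ideal.span_le]
      intro x hx
      obtain ⟨i, -, rfl⟩ := Finset.mem_image.mp (Finset.mem_coe.mp hx)
      rw [SetLike.mem_coe, hmem]
      intro c
      rw [hu]
      by_cases hc : c = i
      · subst hc; rw [Pi.single_eq_same]; simp
      · rw [Pi.single_eq_of_ne hc]; simp
  have hle : Module.finrank (ResidueField R) (CotangentSpace R) ≤ n := by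
    rw [← IsLocalRing.spanFinrank_maximalIdeal_eq_finrank_cotangentSpace]
    have h1 := Submodule.spanFinrank_span_le_ncard_of_finite (R := R)
      (Finset.finite_toSet (Finset.univ.image u))
    have h2 : (maximalIdeal R).spanFinrank ≤
        ((Finset.univ.image u : Finset R) : Set R).ncard := by
      conv_lhs => rw [hspan]
      exact h1
    rw [Set.ncard_coe_finset] at h2
    have h3 : (Finset.univ.image u).card ≤ n := by
      have := Finset.card_image_le (s := (Finset.univ : Finset (Fin n))) (f := u)
      rwa [Finset.card_univ, Fintype.card_fin] at this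
    exact h2.trans h3
  -- lower bound
  let E : (R ⧸ RingHom.ker (chi k R n φ i₀)) ≃+* k :=
    RingHom.quotientKerEquivOfSurjective (chi_surjective k R n φ hrange i₀)
  let E' : ResidueField R ≃+* k :=
    ((Ideal.quotEquivOfEq (ker_chi k R n φ hrange i₀).symm).trans E : _)
  have hE' : ∀ r, E' (residue R r) = chi k R n φ i₀ r := fun r => rfl
  let ι : k →+* ResidueField R := E'.symm.toRingHom
  have hι : ∀ r, ι (chi k R n φ i₀ r) = residue R r := by
    intro r
    rw [← hE']
    exact E'.symm_apply_apply _
  let D : maximalIdeal R →ₗ[R] (Fin n → ResidueField R) :=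
    { toFun := fun x i => ι (PowerSeries.coeff 1 (φ (x : R) i))
      map_add' := fun x y => by
        funext i
        show ι (PowerSeries.coeff 1 (φ ((x : R) + (y : R)) i)) =
          ι (PowerSeries.coeff 1 (φ (x : R) i)) + ι (PowerSeries.coeff 1 (φ (y : R) i))
        rw [map_add, Pi.add_apply, map_add, map_add]
      map_smul' := fun r x => by
        funext i
        show ι (PowerSeries.coeff 1 (φ (r * (x : R)) i)) =
          r • ι (PowerSeries.coeff 1 (φ (x : R) i))
        rw [map_mul, Pi.mul_apply, coeff_one_mul _ _ ((hmem x).mp x.2 i),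
          ← chi_eq k R n φ hrange i₀ i r, map_mul, hι, Algebra.smul_def]
        rfl }
  have hD : ∀ (x : maximalIdeal R) i, D x i = ι (PowerSeries.coeff 1 (φ (x : R) i)) :=
    fun x i => rfl
  have hDsurj : Function.Surjective D := by
    intro v
    have hr : ∀ i, ∃ r : R, residue R r = v i := fun i => residue_surjective (v i)
    choose r hr using hr
    have hxm : ∑ i, u i * r i ∈ maximalIdeal R := by
      apply Ideal.sum_mem
      intro i _
      apply Ideal.mul_mem_right
      rw [hspan]
      apply Ideal.subset_span
      exact Finset.mem_coe.mpr (Finset.mem_image_of_mem u (Finset.mem_univ i))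
    refine ⟨⟨∑ i, u i * r i, hxm⟩, ?_⟩
    funext j
    rw [hD]
    show ι (PowerSeries.coeff 1 (φ (∑ i, u i * r i) j)) = v j
    rw [map_sum, Finset.sum_apply, Finset.sum_eq_single j]
    · rw [map_mul, Pi.mul_apply, hu, Pi.single_eq_same, mul_comm,
        coeff_one_mul _ _ (by simp), ← chi_eq k R n φ hrange i₀ j (r j)]
      simp only [PowerSeries.coeff_one_X, mul_one]
      rw [hι, hr]
    · intro i _ hij
      rw [map_mul, Pi.mul_apply, hu, Pi.single_eq_of_ne (Ne.symm hij), zero_mul]
    · intro h; exact absurd (Finset.mem_univ j) h
  have hker : LinearMap.ker (maximalIdeal R).toCotangent ≤ LinearMap.ker D := by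
    intro x hx
    rw [Ideal.mem_toCotangent_ker, pow_two] at hx
    rw [LinearMap.mem_ker]
    have key : ∀ z ∈ maximalIdeal R * maximalIdeal R, ∀ i,
        PowerSeries.coeff 1 (φ z i) = 0 := by
      intro z hz
      refine Submodule.mul_induction_on hz ?_ ?_
      · intro a ha b hb i
        rw [map_mul, Pi.mul_apply, coeff_one_mul _ _ ((hmem b).mp hb i), (hmem a).mp ha i,
          zero_mul]
      · intro a b ha hb i
        rw [map_add, Pi.add_apply, map_add, ha i, hb i, add_zero]
    funext i
    rw [hD, key _ hx i, map_zero]
    rfl
  have hge : (n : ℕ∞) ≤ Module.length R (CotangentSpace R) := by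
    let e1 := LinearMap.quotKerEquivOfSurjective (maximalIdeal R).toCotangent
      (Ideal.toCotangent_surjective _)
    let g : CotangentSpace R →ₗ[R] (Fin n → ResidueField R) :=
      (Submodule.liftQ _ D hker).comp e1.symm.toLinearMap
    have hg : Function.Surjective g := by
      intro v
      obtain ⟨x, hx⟩ := hDsurj v
      refine ⟨e1 (Submodule.Quotient.mk x), ?_⟩
      show Submodule.liftQ _ D hker (e1.symm (e1 (Submodule.Quotient.mk x))) = v
      rw [e1.symm_apply_apply, Submodule.liftQ_apply, hx]
    have h1 := Module.length_le_of_surjective g hg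
    have h2 : Module.length R (Fin n → ResidueField R) = n := by
      rw [Module.length_eq_of_surjective (S := R) (R := ResidueField R)
        (M := Fin n → ResidueField R) IsLocalRing.residue_surjective,
        Module.length_eq_finrank (ResidueField R) (Fin n → ResidueField R),
        Module.finrank_fin_fun]
    rw [h2] at h1
    exact h1
  have hlen : Module.length R (CotangentSpace R) =
      Module.finrank (ResidueField R) (CotangentSpace R) := by
    rw [Module.length_eq_of_surjective (S := R) (R := ResidueField R)
      (M := CotangentSpace R) IsLocalRing.residue_surjective,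
      Module.length_eq_finrank (ResidueField R) (CotangentSpace R)]
  rw [hlen] at hge
  have hge' : n ≤ Module.finrank (ResidueField R) (CotangentSpace R) := by exact_mod_cast hge
  omega

end

end Groth.Agent.H23.MultiCrossE
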