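import Groth.Prelude
import Groth.Agent.H25.CMStalk
import Groth.Agent.H11.NagataEFT
import Groth.Agent.H29.DimOneN2
import Groth.Agent.S0547
import Groth.Agent.Lead.CompleteNoetherian

set_option autoImplicit false
set_option maxHeartbeats 400000

/-!
# Local rings of curves over a field: Nagata, and the excluded case `n = 0`
-/

universe u

open CategoryTheory CategoryTheory.Limits AlgebraicGeometry

namespace Groth.Agent.H23.MultiCrossGeom

/-- A field is a Nagata ring. -/
theorem isNagata_field (k : Type u) [Field k] : CAlg.IsNagata k := by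
  refine ⟨inferInstance, fun P hP => ?_⟩
  have hPbot : P = ⊥ := Ideal.eq_bot_of_prime P
  haveI hPmax : P.IsMaximal := hPbot ▸ Ideal.bot_isMaximal
  exact Groth.Agent.H29.DimOneN2.isN2_of_isField (k ⧸ P)
    ((Ideal.Quotient.maximal_ideal_iff_isField_quotient P).mp hPmax)

/-- Local rings of a reduced scheme locally of finite type over a field are reduced Nagata
(Noetherian) rings. -/
theorem stalk_props (k : Type u) [Field k] (X : Scheme.{u}) [X.Over (Spec (CommRingCat.of k))]
    [LocallyOfFiniteType (X ↘ (Spec (CommRingCat.of k)))] [IsReduced X] (x : X) :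
    CAlg.IsNagata (X.presheaf.stalk x) ∧ IsNoetherianRing (X.presheaf.stalk x) ∧
      _root_.IsReduced (X.presheaf.stalk x) := by
  letI := Curv2.stalkAlgebra k X x
  haveI := Groth.Agent.H25.CMStalk.essFiniteType_stalk k X x
  have hN : CAlg.IsNagata (X.presheaf.stalk x) :=
    Groth.Agent.H11.NagataEFT.isNagata_of_essFiniteType k (isNagata_field k) (X.presheaf.stalk x)
  exact ⟨hN, hN.1, inferInstance⟩

/-- A closed point whose local ring has dimension `≤ 0` is an irreducible component. -/
theorem singleton_mem_irreducibleComponents (X : Scheme.{u}) (x : X)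
    (hx : IsClosed ({x} : Set X)) (hdim : ringKrullDim (X.presheaf.stalk x) ≤ 0) :
    ({x} : Set X) ∈ irreducibleComponents (X : Type u) := by
  haveI : Ring.KrullDimLE 0 (X.presheaf.stalk x) := Ring.krullDimLE_iff.mpr hdim
  refine ⟨isIrreducible_singleton, fun t ht hxt => ?_⟩
  have hx_t : x ∈ t := hxt rfl
  have hirr : IsIrreducible (closure t) := ht.closure
  obtain ⟨η, hη⟩ := QuasiSober.sober hirr isClosed_closure
  have hspec : η ⤳ x := by
    rw [specializes_iff_mem_closure, hη.def]
    exact subset_closure hx_t
  have hmem : η ∈ Set.range (X.fromSpecStalk x) := by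
    rw [Scheme.range_fromSpecStalk]; exact hspec
  obtain ⟨p, hp⟩ := hmem
  haveI : Subsingleton (PrimeSpectrum (X.presheaf.stalk x)) := Unique.instSubsingleton
  have hpc : p = IsLocalRing.closedPoint (X.presheaf.stalk x) :=
    Subsingleton.elim (α := PrimeSpectrum (X.presheaf.stalk x)) p _
  rw [hpc, Scheme.fromSpecStalk_closedPoint] at hp
  intro y hy
  have h1 : y ∈ closure ({η} : Set X) := by rw [hη.def]; exact subset_closure hy
  rw [← hp, hx.closure_eq] at h1
  exact h1

/-- The case `n = 0` cannot occur for a closed point of a scheme all of whose irreducible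
components are one-dimensional. -/
theorem pos_of_equiv (k : Type u) [Field k]
    (X : Scheme.{u}) [X.Over (Spec (CommRingCat.of k))]
    [LocallyOfFiniteType (X ↘ (Spec (CommRingCat.of k)))] [IsReduced X]
    (hequi : ∀ Z ∈ irreducibleComponents (X : Type u), topologicalKrullDim Z = 1)
    (x : X) (hx : IsClosed ({x} : Set X)) (n : ℕ)
    (e : Curv2.cpl (X.presheaf.stalk x) ≃+*
      (MvPowerSeries (Fin n) k ⧸ Ideal.span {f : MvPowerSeries (Fin n) k |
        ∃ i j : Fin n, i ≠ j ∧ f = MvPowerSeries.X i * MvPowerSeries.X j})) :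
    0 < n := by
  obtain ⟨hN, hNoeth, hred⟩ := stalk_props k X x
  haveI := hNoeth
  by_contra h0
  have hn0 : n = 0 := by omega
  subst hn0
  have hsurj : Function.Surjective ((e.symm.toRingHom.comp (Ideal.Quotient.mk _)).comp
      (MvPowerSeries.C (σ := Fin 0) (R := k))) := by
    intro a
    obtain ⟨f, hf⟩ := Ideal.Quotient.mk_surjective (e a)
    refine ⟨MvPowerSeries.constantCoeff f, ?_⟩
    have hfC : MvPowerSeries.C (MvPowerSeries.constantCoeff f) = f := by
      ext m
      have hm : m = 0 := Subsingleton.elim _ _
      subst hm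
      simp
    show e.symm (Ideal.Quotient.mk _ (MvPowerSeries.C (MvPowerSeries.constantCoeff f))) = a
    rw [hfC, hf, e.symm_apply_apply]
  have h1 := ringKrullDim_le_of_surjective _ hsurj
  rw [ringKrullDim_eq_zero_of_field] at h1
  have h2 : ringKrullDim (X.presheaf.stalk x) ≤ 0 := by
    rw [← Groth.Agent.S0547.result (X.presheaf.stalk x)]; exact h1
  have h3 := singleton_mem_irreducibleComponents X x hx h2
  have h4 := hequi _ h3
  have h5 := topologicalKrullDim_zero_of_discreteTopology (↥({x} : Set X))
  rw [h4] at h5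
  exact absurd h5 (by decide)

end Groth.Agent.H23.MultiCrossGeom
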