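import Groth.Prelude
import Groth.Agent.H23.MultiCrossGeom
import Groth.Agent.H38.PrimaryConn
import Groth.Agent.H25.AlgSpDim2
import Groth.Agent.S10831

set_option autoImplicit false
set_option maxHeartbeats 400000

/-!
# Closed points of curves over an algebraically closed field
-/

universe u

open CategoryTheory CategoryTheory.Limits AlgebraicGeometry

namespace Groth.Agent.H23.MultiCrossGeom2

/-- At a closed point of a scheme locally of finite type over an algebraically closed field the
residue field is the base field. -/
theorem resMap_bijective (k : Type u) [Field k] [IsAlgClosed k] (X : Scheme.{u})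
    [X.Over (Spec (CommRingCat.of k))]
    [LocallyOfFiniteType (X ↘ Spec (CommRingCat.of k))] (x : X) (hx : IsClosed ({x} : Set X)) :
    Function.Bijective (Curv2.resMap k X x) := by
  have h1 := Groth.Agent.H38.PrimaryConn.specMap_resMap (X ↘ Spec (CommRingCat.of k)) x
  have h2 := AlgebraicGeometry.SpecMap_residueFieldIsoBase_inv (X ↘ Spec (CommRingCat.of k)) x hx
  have h3 := Spec.map_injective (h1.trans h2.symm)
  have h4 : Function.Bijective
      ((residueFieldIsoBase (X ↘ Spec (CommRingCat.of k)) x hx).inv).hom :=
    ConcreteCategory.bijective_of_isIso _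
  rw [← h3] at h4
  exact h4

/-- The local ring at a closed point of a scheme all of whose irreducible components are
one-dimensional has dimension one. -/
theorem ringKrullDim_stalk_eq_one (X : Scheme.{u})
    (hequi : ∀ Z ∈ irreducibleComponents (X : Type u), topologicalKrullDim Z = 1)
    (x : X) (hx : IsClosed ({x} : Set X)) : ringKrullDim (X.presheaf.stalk x) = 1 := by
  have h1 := Groth.Agent.H25.AlgSpDim2.ringKrullDim_stalk_le_topologicalKrullDim X x
  have h2 : topologicalKrullDim X ≤ 1 := by
    rw [Groth.Agent.S10831.result X]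
    apply iSup₂_le
    intro Z hZ
    rw [hequi Z hZ]
  have hle := h1.trans h2
  have hnot : ¬ ringKrullDim (X.presheaf.stalk x) ≤ 0 := by
    intro h0
    have h3 := Groth.Agent.H23.MultiCrossGeom.singleton_mem_irreducibleComponents X x hx h0
    have h4 := hequi _ h3
    have h5 := topologicalKrullDim_zero_of_discreteTopology (↥({x} : Set X))
    rw [h4] at h5
    exact absurd h5 (by decide)
  generalize ringKrullDim (X.presheaf.stalk x) = a at hle hnot ⊢
  induction a using WithBot.recBotCoe with
  | bot => exact absurd bot_le hnot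
  | coe v =>
    induction v using ENat.recTopCoe with
    | top =>
      exfalso
      have h9 : ((⊤ : ℕ∞) : WithBot ℕ∞) ≤ ((1 : ℕ∞) : WithBot ℕ∞) := hle
      rw [WithBot.coe_le_coe] at h9
      exact absurd h9 (by simp)
    | coe m =>
      have h8 : ((m : ℕ∞) : WithBot ℕ∞) ≤ (((1 : ℕ) : ℕ∞) : WithBot ℕ∞) := hle
      have h9 : ¬ ((m : ℕ∞) : WithBot ℕ∞) ≤ (((0 : ℕ) : ℕ∞) : WithBot ℕ∞) := hnot
      rw [WithBot.coe_le_coe, Nat.cast_le] at h8 h9
      have : m = 1 := by omega
      subst this
      rfl

end Groth.Agent.H23.MultiCrossGeom2
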