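import Mathlib

set_option autoImplicit false

/-!
# The quotient `k[[T_1..T_n]]/(T_i T_j)_{i≠j}` as the multicross ring

We show that for `n ≥ 1` the ring `k[[T_1..T_n]]/(T_i T_j)_{i ≠ j}` embeds into `(k[[t]])^n` with
range the `n`-tuples having a common constant coefficient.
-/

namespace Groth.Agent.H23.MultiCrossQ

open MvPowerSeries

section General

variable {σ : Type*} {R : Type*} [CommRing R]

/-- A power series all of whose monomials involve a variable from `s` lies in the ideal generated
by these variables. -/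
theorem mem_span_X_of_coeff [DecidableEq σ] (s : Finset σ) (f : MvPowerSeries σ R)
    (h : ∀ m : σ →₀ ℕ, (∀ j ∈ s, m j = 0) → coeff m f = 0) :
    f ∈ Ideal.span ((fun j => (X j : MvPowerSeries σ R)) '' (s : Set σ)) := by
  induction s using Finset.induction_on generalizing f with
  | empty =>
    have hf : f = 0 := by
      ext m
      rw [h m (fun j hj => absurd hj (Finset.notMem_empty j))]
      simp
    rw [hf]; exact Ideal.zero_mem _
  | insert a s ha ih =>
    let f₀ : MvPowerSeries σ R := fun m => if m a = 0 then coeff m f else 0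
    have hf₀ : ∀ m, coeff m f₀ = if m a = 0 then coeff m f else 0 := fun m => rfl
    have h1 : f₀ ∈ Ideal.span ((fun j => (X j : MvPowerSeries σ R)) '' (s : Set σ)) := by
      apply ih
      intro m hm
      rw [hf₀]
      split_ifs with hma
      · apply h
        intro j hj
        rcases Finset.mem_insert.mp hj with rfl | hj
        · exact hma
        · exact hm j hj
      · rfl
    have h2 : (X a : MvPowerSeries σ R) ∣ f - f₀ := by
      rw [X_dvd_iff]
      intro m hma
      rw [map_sub, hf₀, if_pos hma, sub_self]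
    obtain ⟨q, hq⟩ := h2
    have h3 : f = f₀ + X a * q := by rw [← hq]; ring
    rw [h3]
    apply Ideal.add_mem
    · exact Ideal.span_mono (Set.image_mono (Finset.coe_subset.mpr (Finset.subset_insert a s))) h1
    · apply Ideal.mul_mem_right
      apply Ideal.subset_span
      exact ⟨a, Finset.mem_coe.mpr (Finset.mem_insert_self a s), rfl⟩

variable (σ R) in
/-- The ideal generated by the products of two distinct variables. -/
noncomputable abbrev crossIdeal : Ideal (MvPowerSeries σ R) :=
  Ideal.span {f | ∃ i j : σ, i ≠ j ∧ f = X i * X j}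

theorem X_mul_mem_crossIdeal [DecidableEq σ] [Fintype σ] (a : σ) (g : MvPowerSeries σ R)
    (hg : g ∈ Ideal.span ((fun j => (X j : MvPowerSeries σ R)) ''
      ((Finset.univ.erase a : Finset σ) : Set σ))) :
    X a * g ∈ crossIdeal σ R := by
  refine Submodule.span_induction (p := fun g _ => X a * g ∈ crossIdeal σ R) ?_ ?_ ?_ ?_ hg
  · rintro _ ⟨j, hj, rfl⟩
    have hja : j ≠ a := (Finset.mem_erase.mp (Finset.mem_coe.mp hj)).1
    exact Ideal.subset_span ⟨a, j, hja.symm, rfl⟩
  · rw [mul_zero]; exact Ideal.zero_mem _
  · intro x y _ _ hx hy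
    rw [mul_add]; exact Ideal.add_mem _ hx hy
  · intro c x _ hx
    rw [smul_eq_mul, mul_left_comm]; exact Ideal.mul_mem_left _ c hx

/-- A power series without pure monomials (and whose monomials involve a variable from `s`)
lies in the cross ideal. -/
theorem mem_crossIdeal_aux [DecidableEq σ] [Fintype σ] (s : Finset σ) (f : MvPowerSeries σ R)
    (hpure : ∀ (i : σ) (r : ℕ), coeff (Finsupp.single i r) f = 0)
    (h : ∀ m : σ →₀ ℕ, (∀ j ∈ s, m j = 0) → coeff m f = 0) :
    f ∈ crossIdeal σ R := by
  induction s using Finset.induction_on generalizing f with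
  | empty =>
    have hf : f = 0 := by
      ext m
      rw [h m (fun j hj => absurd hj (Finset.notMem_empty j))]
      simp
    rw [hf]; exact Ideal.zero_mem _
  | insert a s ha ih =>
    let f₀ : MvPowerSeries σ R := fun m => if m a = 0 then coeff m f else 0
    have hf₀ : ∀ m, coeff m f₀ = if m a = 0 then coeff m f else 0 := fun m => rfl
    have h1 : f₀ ∈ crossIdeal σ R := by
      apply ih
      · intro i r
        rw [hf₀, hpure i r, ite_self]
      · intro m hm
        rw [hf₀]
        split_ifs with hma
        · apply h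
          intro j hj
          rcases Finset.mem_insert.mp hj with rfl | hj
          · exact hma
          · exact hm j hj
        · rfl
    have h2 : (X a : MvPowerSeries σ R) ∣ f - f₀ := by
      rw [X_dvd_iff]
      intro m hma
      rw [map_sub, hf₀, if_pos hma, sub_self]
    obtain ⟨q, hq⟩ := h2
    have h3 : f = f₀ + X a * q := by rw [← hq]; ring
    have hq' : q ∈ Ideal.span ((fun j => (X j : MvPowerSeries σ R)) ''
        ((Finset.univ.erase a : Finset σ) : Set σ)) := by
      apply mem_span_X_of_coeff
      intro m hm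
      have hm' : m = Finsupp.single a (m a) := by
        ext j
        by_cases hja : j = a
        · subst hja; simp
        · rw [Finsupp.single_apply, if_neg (Ne.symm hja)]
          exact hm j (Finset.mem_erase.mpr ⟨hja, Finset.mem_univ j⟩)
      have h4 : coeff (Finsupp.single a 1 + m) (X a * q) = coeff m q := by
        rw [X_def, coeff_add_monomial_mul, one_mul]
      rw [← h4, ← hq, map_sub, hf₀]
      have h5 : Finsupp.single a 1 + m = Finsupp.single a (1 + m a) := by
        rw [hm', Finsupp.single_add]; simp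
      rw [h5, hpure a (1 + m a), ite_self, sub_zero]
    rw [h3]
    exact Ideal.add_mem _ h1 (X_mul_mem_crossIdeal a q hq')

theorem mem_crossIdeal_of_coeff_single [DecidableEq σ] [Fintype σ] [Nonempty σ]
    (f : MvPowerSeries σ R)
    (hpure : ∀ (i : σ) (r : ℕ), coeff (Finsupp.single i r) f = 0) :
    f ∈ crossIdeal σ R := by
  apply mem_crossIdeal_aux Finset.univ f hpure
  intro m hm
  have hm0 : m = 0 := by
    ext j; exact hm j (Finset.mem_univ j)
  obtain ⟨i⟩ := ‹Nonempty σ›
  have := hpure i 0
  rw [Finsupp.single_zero] at this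
  rw [hm0]; exact this

end General

section Rho

variable (σ : Type*) [Fintype σ] [DecidableEq σ] (R : Type*) [CommRing R]

/-- The embedding of the one-point type at `i`. -/
def ε {σ : Type*} (i : σ) : Unit ↪ σ := ⟨fun _ => i, fun _ _ _ => rfl⟩

theorem embDomain_ε {σ : Type*} (i : σ) (x : Unit →₀ ℕ) :
    Finsupp.embDomain (ε i) x = Finsupp.single i (x ()) := by
  have hx : x = Finsupp.single () (x ()) := Finsupp.unique_single x
  conv_lhs => rw [hx]
  rw [Finsupp.embDomain_single]
  rfl

/-- The restriction to the coordinate axes. -/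
noncomputable def rho : MvPowerSeries σ R →+* (σ → PowerSeries R) :=
  RingHom.pi (fun i => (killCompl (ε i) : MvPowerSeries σ R →ₐ[R] MvPowerSeries Unit R).toRingHom)

theorem rho_apply (f : MvPowerSeries σ R) (i : σ) :
    rho σ R f i = killCompl (ε i) f := rfl

theorem coeff_rho (f : MvPowerSeries σ R) (i : σ) (x : Unit →₀ ℕ) :
    coeff x (rho σ R f i) = coeff (Finsupp.single i (x ())) f := by
  rw [rho_apply, coeff_killCompl, embDomain_ε]

theorem crossIdeal_le_ker : crossIdeal σ R ≤ RingHom.ker (rho σ R) := by
  apply Ideal.span_le.mpr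
  rintro _ ⟨a, b, hab, rfl⟩
  rw [SetLike.mem_coe, RingHom.mem_ker]
  funext i
  rw [rho_apply, map_mul]
  by_cases hai : a = i
  · have hb : b ∉ Set.range (ε i) := by
      rintro ⟨u, hu⟩
      exact hab (hai.trans hu)
    rw [killCompl_X_eq_zero hb, mul_zero]; rfl
  · have ha : a ∉ Set.range (ε i) := by
      rintro ⟨u, hu⟩
      exact hai hu.symm
    rw [killCompl_X_eq_zero ha, zero_mul]; rfl

theorem ker_rho [Nonempty σ] : RingHom.ker (rho σ R) = crossIdeal σ R := by
  apply le_antisymm _ (crossIdeal_le_ker σ R)
  intro f hf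
  rw [RingHom.mem_ker] at hf
  apply mem_crossIdeal_of_coeff_single
  intro i r
  have h1 := coeff_rho σ R f i (Finsupp.single () r)
  rw [hf] at h1
  rw [Finsupp.single_eq_same] at h1
  rw [← h1]
  simp

theorem constantCoeff_rho (f : MvPowerSeries σ R) (i : σ) :
    PowerSeries.constantCoeff (rho σ R f i) = MvPowerSeries.constantCoeff f := by
  have h1 := coeff_rho σ R f i 0
  rw [Finsupp.zero_apply, Finsupp.single_zero] at h1
  exact h1

theorem killCompl_rename_of_ne {i j : σ} (hij : i ≠ j) (h : PowerSeries R)
    (h0 : PowerSeries.constantCoeff h = 0) :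
    killCompl (ε j) (rename (ε i) (h : MvPowerSeries Unit R)) = 0 := by
  refine MvPowerSeries.ext fun x => ?_
  have hz0 : coeff x (0 : MvPowerSeries Unit R) = 0 := (coeff x).map_zero
  rw [coeff_killCompl, embDomain_ε, hz0]
  by_cases hx : x () = 0
  · rw [hx, Finsupp.single_zero]
    have := constantCoeff_rename (ε i) (h : MvPowerSeries Unit R)
    exact this.trans h0
  · apply coeff_rename_eq_zero
    rintro ⟨z, hz⟩
    have h1 : (Finsupp.mapDomain (ε i) z) j = (Finsupp.single j (x ())) j := by rw [hz]
    rw [Finsupp.single_eq_same] at h1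
    have hz' : z = Finsupp.single () (z ()) := Finsupp.unique_single z
    rw [hz', Finsupp.mapDomain_single] at h1
    have h2 : (ε i) () = i := rfl
    rw [h2, Finsupp.single_apply, if_neg hij] at h1
    exact hx h1.symm

theorem range_rho [Nonempty σ] :
    Set.range (rho σ R) = {g : σ → PowerSeries R | ∀ i j,
      PowerSeries.constantCoeff (g i) = PowerSeries.constantCoeff (g j)} := by
  ext g
  constructor
  · rintro ⟨f, rfl⟩ i j
    rw [constantCoeff_rho, constantCoeff_rho]
  · intro hg
    obtain ⟨i₀⟩ := ‹Nonempty σ›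
    set c : R := PowerSeries.constantCoeff (g i₀) with hc
    refine ⟨C c + ∑ i, rename (ε i) ((g i - PowerSeries.C c : PowerSeries R) :
      MvPowerSeries Unit R), ?_⟩
    funext j
    rw [rho_apply, map_add, map_sum, killCompl_C]
    rw [Finset.sum_eq_single j]
    · rw [killCompl_rename_app]
      show PowerSeries.C c + (g j - PowerSeries.C c) = g j
      ring
    · intro i _ hij
      apply killCompl_rename_of_ne σ R hij
      rw [map_sub, PowerSeries.constantCoeff_C, hg i i₀, sub_self]
    · intro h; exact absurd (Finset.mem_univ j) h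

end Rho

/-- For `n ≥ 1`, the ring `k[[T_1..T_n]]/(T_i T_j)_{i≠j}` embeds in `(k[[t]])^n` with range the
tuples having a common constant coefficient. -/
theorem exists_quot_hom (k : Type*) [CommRing k] (n : ℕ) (hn : 0 < n) :
    ∃ ρ : (MvPowerSeries (Fin n) k ⧸ Ideal.span {f : MvPowerSeries (Fin n) k |
        ∃ i j : Fin n, i ≠ j ∧ f = MvPowerSeries.X i * MvPowerSeries.X j}) →+*
        (Fin n → PowerSeries k),
      Function.Injective ρ ∧
      Set.range ρ = {g : Fin n → PowerSeries k | ∀ i j : Fin n,
        PowerSeries.constantCoeff (g i) = PowerSeries.constantCoeff (g j)} ∧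
      ∀ c : k, ρ (Ideal.Quotient.mk _ (MvPowerSeries.C c)) = fun _ => PowerSeries.C c := by
  haveI : Nonempty (Fin n) := ⟨⟨0, hn⟩⟩
  have hker := ker_rho (Fin n) k
  have hle : ∀ a ∈ crossIdeal (Fin n) k, rho (Fin n) k a = 0 := fun a ha =>
    (RingHom.mem_ker).mp (hker ▸ ha)
  refine ⟨Ideal.Quotient.lift (crossIdeal (Fin n) k) (rho (Fin n) k) hle, ?_, ?_, ?_⟩
  · apply RingHom.lift_injective_of_ker_le_ideal
    rw [hker]
  · rw [← range_rho (Fin n) k]
    ext g
    constructor
    · rintro ⟨q, rfl⟩
      obtain ⟨f, rfl⟩ := Ideal.Quotient.mk_surjective q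
      exact ⟨f, (Ideal.Quotient.lift_mk _ _ _).symm⟩
    · rintro ⟨f, rfl⟩
      exact ⟨Ideal.Quotient.mk _ f, Ideal.Quotient.lift_mk _ _ _⟩
  · intro c
    rw [Ideal.Quotient.lift_mk]
    funext i
    rw [rho_apply, killCompl_C]
    rfl

end Groth.Agent.H23.MultiCrossQ
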