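import Mathlib

set_option autoImplicit false
universe u

namespace Groth.Agent.H23

open AlgebraicGeometry CategoryTheory CategoryTheory.Limits MorphismProperty

/-- Quasi-compactness descends along surjective quasi-compact morphisms. -/
theorem quasiCompact_of_isPullback {A X Y Z : Scheme.{u}} {fst : A ⟶ X} {snd : A ⟶ Y}
    {f : X ⟶ Z} {g : Y ⟶ Z} (h : IsPullback fst snd f g) (hs : Surjective f)
    (hf : QuasiCompact f) (hfst : QuasiCompact fst) : QuasiCompact g := by
  have hsnd : Surjective snd := MorphismProperty.of_isPullback (P := @Surjective) h hs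
  have hp : Function.Surjective snd.base := snd.surjective
  have hcomm : ∀ z, f.base (fst.base z) = g.base (snd.base z) := by
    intro z
    have h1 : (fst ≫ f).base z = (snd ≫ g).base z := by rw [h.w]
    exact h1
  refine ⟨fun U hUo hUc => ?_⟩
  have h1 : IsCompact (f.base ⁻¹' U) := hf.isCompact_preimage U hUo hUc
  have h2 : IsCompact (fst.base ⁻¹' (f.base ⁻¹' U)) :=
    hfst.isCompact_preimage _ (hUo.preimage f.continuous) h1
  have h3 : g.base ⁻¹' U = snd.base '' (fst.base ⁻¹' (f.base ⁻¹' U)) := by
    ext y
    constructor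
    · intro hy
      obtain ⟨z, rfl⟩ := hp y
      refine ⟨z, ?_, rfl⟩
      change f.base (fst.base z) ∈ U
      rw [hcomm]; exact hy
    · rintro ⟨z, hz, rfl⟩
      change g.base (snd.base z) ∈ U
      rw [← hcomm]; exact hz
  change IsCompact (g.base ⁻¹' U)
  rw [h3]
  exact h2.image snd.continuous

instance quasiCompact_descendsAlong :
    MorphismProperty.DescendsAlong @QuasiCompact (@Surjective ⊓ @QuasiCompact) :=
  ⟨fun h hf hfst => quasiCompact_of_isPullback h hf.1 hf.2 hfst⟩

instance quasiSeparated_descendsAlong :
    MorphismProperty.DescendsAlong @QuasiSeparated (@Surjective ⊓ @QuasiCompact) := by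
  rw [quasiSeparated_eq_diagonal_is_quasiCompact]
  infer_instance

/-- Dominance descends along surjective morphisms. -/
theorem isDominant_of_isPullback {A X Y Z : Scheme.{u}} {fst : A ⟶ X} {snd : A ⟶ Y}
    {f : X ⟶ Z} {g : Y ⟶ Z} (h : IsPullback fst snd f g) (hs : Surjective f)
    (hfst : IsDominant fst) : IsDominant g := by
  have hcomm : f.base ∘ fst.base = g.base ∘ snd.base := by
    funext z
    have h1 : (fst ≫ f).base z = (snd ≫ g).base z := by rw [h.w]
    exact h1
  refine ⟨?_⟩
  have h1 : DenseRange (f.base ∘ fst.base) :=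
    f.surjective.denseRange.comp hfst.denseRange f.continuous
  rw [hcomm] at h1
  exact h1.mono (Set.range_comp_subset_range _ _)

end Groth.Agent.H23
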