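import Groth.Agent.H23.RegularSeq

set_option autoImplicit false
universe u

namespace Groth.Agent.H23

open IsLocalRing

section
variable {R : Type u} [CommRing R] [IsLocalRing R]

theorem toCotangent_mem_span {ι : Type*} (X : ι → maximalIdeal R) (a : maximalIdeal R)
    (ha : (a : R) ∈ Ideal.span (Set.range fun i => (X i : R))) :
    (maximalIdeal R).toCotangent a ∈ Submodule.span (ResidueField R)
      (Set.range fun i => (maximalIdeal R).toCotangent (X i)) := by
  have h3 : Ideal.span (Set.range fun i => (X i : R)) =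
      Submodule.map (maximalIdeal R).subtype (Submodule.span R (Set.range X)) := by
    rw [Submodule.map_span, ← Set.range_comp]; rfl
  rw [h3] at ha
  obtain ⟨n, hn, hna⟩ := ha
  have hna' : n = a := Subtype.ext hna
  subst hna'
  clear hna
  induction hn using Submodule.span_induction with
  | mem v hv => obtain ⟨g, rfl⟩ := hv; exact Submodule.subset_span ⟨g, rfl⟩
  | zero => rw [map_zero]; exact Submodule.zero_mem _
  | add u v _ _ hu hv => rw [map_add]; exact Submodule.add_mem _ hu hv
  | smul r v _ hv => rw [map_smul]; exact Submodule.smul_of_tower_mem _ r hv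

/-- If the image of `K` in the cotangent space lies in `W`, then
`dim 𝔪/𝔪² ≤ μ(𝔪_{R/K}) + dim W`. -/
theorem finrank_cotangentSpace_le [IsNoetherianRing R] (K : Ideal R) [IsLocalRing (R ⧸ K)]
    (W : Submodule (ResidueField R) (CotangentSpace R))
    (hW : ∀ a : maximalIdeal R, (a : R) ∈ K → (maximalIdeal R).toCotangent a ∈ W) :
    Module.finrank (ResidueField R) (CotangentSpace R) ≤
      (maximalIdeal (R ⧸ K)).spanFinrank + Module.finrank (ResidueField R) W := by
  classical
  have hfg : Submodule.FG (maximalIdeal (R ⧸ K)) := IsNoetherian.noetherian _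
  have hGfin : (Submodule.generators (maximalIdeal (R ⧸ K))).Finite :=
    Submodule.FG.finite_generators hfg
  haveI : Fintype (Submodule.generators (maximalIdeal (R ⧸ K))) := hGfin.fintype
  have hGcard : Fintype.card (Submodule.generators (maximalIdeal (R ⧸ K))) =
      (maximalIdeal (R ⧸ K)).spanFinrank := by
    rw [← Submodule.FG.generators_ncard hfg, Set.ncard_eq_toFinset_card', Set.toFinset_card]
  have hzex : ∀ g : Submodule.generators (maximalIdeal (R ⧸ K)),
      ∃ z : R, Ideal.Quotient.mk K z = g := fun g => Ideal.Quotient.mk_surjective _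
  choose z hz using hzex
  have hzm : ∀ g, z g ∈ maximalIdeal R := by
    intro g
    rw [mem_maximalIdeal, mem_nonunits_iff]
    intro hu
    have h1 : Ideal.Quotient.mk K (z g) ∈ maximalIdeal (R ⧸ K) := by
      rw [hz g]; exact Submodule.FG.generators_mem _ g.2
    rw [mem_maximalIdeal, mem_nonunits_iff] at h1
    exact h1 (hu.map _)
  have hzle : Ideal.span (Set.range z) ≤ maximalIdeal R := by
    rw [Ideal.span_le]; rintro _ ⟨g, rfl⟩; exact hzm g
  have h2 : maximalIdeal (R ⧸ K) =
      Ideal.map (Ideal.Quotient.mk K) (Ideal.span (Set.range z)) := by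
    rw [Ideal.map_span, ← Set.range_comp]
    have h3 : Set.range (⇑(Ideal.Quotient.mk K) ∘ z) =
        Submodule.generators (maximalIdeal (R ⧸ K)) := by
      ext v; constructor
      · rintro ⟨g, rfl⟩
        show Ideal.Quotient.mk K (z g) ∈ _
        rw [hz g]; exact g.2
      · intro hv; exact ⟨⟨v, hv⟩, hz ⟨v, hv⟩⟩
    rw [h3]; exact (Submodule.span_generators _).symm
  have htop : (⊤ : Submodule (ResidueField R) (CotangentSpace R)) ≤
      Submodule.span (ResidueField R)
        (Set.range fun g => (maximalIdeal R).toCotangent (⟨z g, hzm g⟩ : maximalIdeal R)) ⊔ W := by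
    intro v _
    obtain ⟨⟨a, ha⟩, rfl⟩ := (maximalIdeal R).toCotangent_surjective v
    have h1 : Ideal.Quotient.mk K a ∈ maximalIdeal (R ⧸ K) := by
      rw [← map_mk_maximalIdeal K]; exact Ideal.mem_map_of_mem _ ha
    rw [h2] at h1
    obtain ⟨w, hw, hwa⟩ := (Ideal.mem_map_iff_of_surjective _ Ideal.Quotient.mk_surjective).mp h1
    have h5 : (⟨a, ha⟩ : maximalIdeal R) =
        (⟨w, hzle hw⟩ : maximalIdeal R) + (⟨a, ha⟩ - ⟨w, hzle hw⟩) := by abel
    rw [h5, map_add]
    refine Submodule.add_mem_sup ?_ (hW _ ?_)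
    · exact toCotangent_mem_span (fun g => (⟨z g, hzm g⟩ : maximalIdeal R)) ⟨w, hzle hw⟩ hw
    · show a - w ∈ K
      rw [← Ideal.Quotient.eq]; exact hwa.symm
  have hA : Module.finrank (ResidueField R) (Submodule.span (ResidueField R)
      (Set.range fun g => (maximalIdeal R).toCotangent (⟨z g, hzm g⟩ : maximalIdeal R))) ≤
      Fintype.card (Submodule.generators (maximalIdeal (R ⧸ K))) :=
    finrank_range_le_card _
  calc Module.finrank (ResidueField R) (CotangentSpace R)
      = Module.finrank (ResidueField R)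
        (⊤ : Submodule (ResidueField R) (CotangentSpace R)) := (finrank_top _ _).symm
    _ ≤ Module.finrank (ResidueField R) (Submodule.span (ResidueField R)
          (Set.range fun g => (maximalIdeal R).toCotangent (⟨z g, hzm g⟩ : maximalIdeal R)) ⊔
        W : Submodule _ _) :=
        Submodule.finrank_mono htop
    _ ≤ _ := (Submodule.finrank_add_le_finrank_add_finrank _ _).trans
        (add_le_add (hA.trans hGcard.le) le_rfl)

end

/-- If `p` is a prime generated by `height p` elements and `A ⧸ p` is regular then `A` is regular. -/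
theorem regular_of_prime (A : Type u) [CommRing A] [IsLocalRing A] [IsNoetherianRing A]
    (p : Ideal A) [p.IsPrime] [IsRegularLocalRing (A ⧸ p)]
    (hgen : (Submodule.spanFinrank p : ℕ∞) = p.height) : IsRegularLocalRing A := by
  classical
  have hfg : Submodule.FG (maximalIdeal (A ⧸ p)) := IsNoetherian.noetherian _
  have hGfin : (Submodule.generators (maximalIdeal (A ⧸ p))).Finite :=
    Submodule.FG.finite_generators hfg
  haveI : Fintype (Submodule.generators (maximalIdeal (A ⧸ p))) := hGfin.fintype
  have hGcard : Fintype.card (Submodule.generators (maximalIdeal (A ⧸ p))) =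
      (maximalIdeal (A ⧸ p)).spanFinrank := by
    rw [← Submodule.FG.generators_ncard hfg, Set.ncard_eq_toFinset_card', Set.toFinset_card]
  have hzex : ∀ g : Submodule.generators (maximalIdeal (A ⧸ p)),
      ∃ z : A, Ideal.Quotient.mk p z = g := fun g => Ideal.Quotient.mk_surjective _
  choose z hz using hzex
  have hzm : ∀ g, z g ∈ maximalIdeal A := by
    intro g
    rw [mem_maximalIdeal, mem_nonunits_iff]
    intro hu
    have h1 : Ideal.Quotient.mk p (z g) ∈ maximalIdeal (A ⧸ p) := by
      rw [hz g]; exact Submodule.FG.generators_mem _ g.2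
    rw [mem_maximalIdeal, mem_nonunits_iff] at h1
    exact h1 (hu.map _)
  have hzle : Ideal.span (Set.range z) ≤ maximalIdeal A := by
    rw [Ideal.span_le]; rintro _ ⟨g, rfl⟩; exact hzm g
  have h2 : maximalIdeal (A ⧸ p) =
      Ideal.map (Ideal.Quotient.mk p) (Ideal.span (Set.range z)) := by
    rw [Ideal.map_span, ← Set.range_comp]
    have h3 : Set.range (⇑(Ideal.Quotient.mk p) ∘ z) =
        Submodule.generators (maximalIdeal (A ⧸ p)) := by
      ext v; constructor
      · rintro ⟨g, rfl⟩
        show Ideal.Quotient.mk p (z g) ∈ _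
        rw [hz g]; exact g.2
      · intro hv; exact ⟨⟨v, hv⟩, hz ⟨v, hv⟩⟩
    rw [h3]; exact (Submodule.span_generators _).symm
  have hsup : maximalIdeal A ≤ p ⊔ Ideal.span (Set.range z) := by
    intro a ha
    have h1 : Ideal.Quotient.mk p a ∈ maximalIdeal (A ⧸ p) := by
      rw [← map_mk_maximalIdeal p]; exact Ideal.mem_map_of_mem _ ha
    rw [h2] at h1
    obtain ⟨w, hw, hwa⟩ := (Ideal.mem_map_iff_of_surjective _ Ideal.Quotient.mk_surjective).mp h1
    have h5 : a = (a - w) + w := by ring
    rw [h5]
    exact Submodule.add_mem_sup (Ideal.Quotient.eq.mp hwa.symm) hw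
  have hple : p ≤ maximalIdeal A := le_maximalIdeal (Ideal.IsPrime.ne_top ‹_›)
  have hsup' : maximalIdeal A = p ⊔ Ideal.span (Set.range z) :=
    le_antisymm hsup (sup_le hple hzle)
  have hb1 : (maximalIdeal A).spanFinrank ≤
      p.spanFinrank + (maximalIdeal (A ⧸ p)).spanFinrank := by
    rw [hsup']
    have hpfg : Submodule.FG p := IsNoetherian.noetherian _
    have hzfg : Submodule.FG (Ideal.span (Set.range z)) := IsNoetherian.noetherian _
    have h3 : (Ideal.span (Set.range z)).spanFinrank ≤
        (maximalIdeal (A ⧸ p)).spanFinrank := by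
      rw [← hGcard]
      refine (Submodule.spanFinrank_span_le_ncard_of_finite (Set.finite_range z)).trans ?_
      rw [← Set.image_univ]
      exact (Set.ncard_image_le Set.finite_univ).trans (by simp)
    have h4 : (p ⊔ Ideal.span (Set.range z)).spanFinrank ≤
        p.spanFinrank + (Ideal.span (Set.range z)).spanFinrank := by
      have hsupfg : Submodule.FG (p ⊔ Ideal.span (Set.range z)) := IsNoetherian.noetherian _
      rw [← Submodule.FG.spanRank_le_iff hsupfg, Nat.cast_add,
        ← hpfg.spanRank_eq_spanFinrank, ← hzfg.spanRank_eq_spanFinrank]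
      exact Submodule.spanRank_sup_le_sum_spanRank
    omega
  have hdim : ((p.spanFinrank + (maximalIdeal (A ⧸ p)).spanFinrank : ℕ) : WithBot ℕ∞) ≤
      ringKrullDim A := by
    have h5 : p.height = Order.height (⟨p, inferInstance⟩ : PrimeSpectrum A) :=
      PrimeSpectrum.height_eq_orderHeight ⟨p, inferInstance⟩
    have h6 : ringKrullDim (A ⧸ p) =
        (Order.coheight (⟨p, inferInstance⟩ : PrimeSpectrum A) : WithBot ℕ∞) := by
      rw [ringKrullDim_quotient]
      have h10 : PrimeSpectrum.zeroLocus (p : Set A) =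
          Set.Ici (⟨p, inferInstance⟩ : PrimeSpectrum A) := by
        ext q; exact Iff.rfl
      rw [h10, ← Order.coheight_eq_krullDim_Ici]
    have h7 : ((Order.height (⟨p, inferInstance⟩ : PrimeSpectrum A) +
        Order.coheight (⟨p, inferInstance⟩ : PrimeSpectrum A) : ℕ∞) : WithBot ℕ∞) ≤
        ringKrullDim A := by
      rw [ringKrullDim, Order.krullDim_eq_iSup_height_add_coheight_of_nonempty]
      exact WithBot.coe_le_coe.mpr
        (le_iSup (fun a : PrimeSpectrum A => Order.height a + Order.coheight a) _)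
    have hregQ : ((maximalIdeal (A ⧸ p)).spanFinrank : WithBot ℕ∞) = ringKrullDim (A ⧸ p) :=
      IsRegularLocalRing.spanFinrank_maximalIdeal
    have h8 : (Order.coheight (⟨p, inferInstance⟩ : PrimeSpectrum A) : WithBot ℕ∞) =
        (((maximalIdeal (A ⧸ p)).spanFinrank : ℕ∞) : WithBot ℕ∞) := by
      rw [← h6, ← hregQ]; norm_cast
    have h9 : Order.coheight (⟨p, inferInstance⟩ : PrimeSpectrum A) =
        ((maximalIdeal (A ⧸ p)).spanFinrank : ℕ∞) := WithBot.coe_injective h8
    rw [← h5, ← hgen, h9] at h7
    exact_mod_cast h7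
  exact IsRegularLocalRing.of_spanFinrank_maximalIdeal_le _
    ((by exact_mod_cast hb1 : ((maximalIdeal A).spanFinrank : WithBot ℕ∞) ≤
      ((p.spanFinrank + (maximalIdeal (A ⧸ p)).spanFinrank : ℕ) : WithBot ℕ∞)).trans hdim)

end Groth.Agent.H23
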