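import Mathlib
set_option autoImplicit false
open CategoryTheory CategoryTheory.Limits Opposite
universe u

namespace Groth.Agent.H23.RestrInjB

/-- A map between colimit points induced by a pointwise-mono natural transformation is mono
when the index category receives a final functor from a discrete category (abelian groups). -/
theorem mono_of_final_discrete {K : Type (u + 1)} [Category.{u} K] {P Q : K ⥤ AddCommGrpCat.{u + 1}}
    (α : P ⟶ Q) (hα : ∀ k, Mono (α.app k)) {cP : Cocone P} {cQ : Cocone Q}
    (hP : IsColimit cP) (hQ : IsColimit cQ) (m : cP.pt ⟶ cQ.pt)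
    (hm : ∀ k, cP.ι.app k ≫ m = α.app k ≫ cQ.ι.app k)
    {Φ : Type u} (ι : Discrete Φ ⥤ K) [ι.Final] : Mono m := by
  have hP' : IsColimit (cP.whisker ι) := (Functor.Final.isColimitWhiskerEquiv ι cP).symm hP
  have hQ' : IsColimit (cQ.whisker ι) := (Functor.Final.isColimitWhiskerEquiv ι cQ).symm hQ
  haveI : AB4OfSize.{u} AddCommGrpCat.{u + 1} := AB4OfSize_shrink.{u, u + 1} _
  haveI : HasExactColimitsOfShape (Discrete Φ) AddCommGrpCat.{u + 1} := AB4OfSize.ofShape Φ
  let β : ι ⋙ P ⟶ ι ⋙ Q := Functor.whiskerLeft ι α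
  haveI : Mono β := by
    apply (config := { allowSynthFailures := true }) NatTrans.mono_of_mono_app
    intro d
    exact hα _
  haveI : Mono (colimMap β) := by
    change Mono ((colim : (Discrete Φ ⥤ AddCommGrpCat.{u + 1}) ⥤ _).map β)
    infer_instance
  let eP := hP'.coconePointUniqueUpToIso (colimit.isColimit (ι ⋙ P))
  let eQ := hQ'.coconePointUniqueUpToIso (colimit.isColimit (ι ⋙ Q))
  have : m = eP.hom ≫ colimMap β ≫ eQ.inv := by
    apply hP'.hom_ext
    intro d
    have h1 : (cP.whisker ι).ι.app d ≫ eP.hom = colimit.ι (ι ⋙ P) d :=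
      hP'.comp_coconePointUniqueUpToIso_hom _ d
    have h2 : colimit.ι (ι ⋙ Q) d ≫ eQ.inv = (cQ.whisker ι).ι.app d :=
      hQ'.comp_coconePointUniqueUpToIso_inv _ d
    rw [reassoc_of% h1, ι_colimMap_assoc, h2]
    exact hm _
  rw [this]
  infer_instance


section OverMap

variable {C : Type (u + 1)} [Category.{u} C] {X Y : C} (f : X ⟶ Y)

/-- lifts of `V ⟶ Y` to `X`. -/
def Phi (V : Over Y) : Type u := {φ : V.left ⟶ X // φ ≫ f = V.hom}

/-- the discrete cofinal family in the costructured arrow category. -/
def iota (V : Over Y) : Discrete (Phi f V) ⥤ CostructuredArrow (Over.map f).op (op V) :=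
  Discrete.functor fun φ => CostructuredArrow.mk (Y := op (Over.mk φ.1))
    ((Over.homMk (𝟙 _) (by simp [φ.2]) : V ⟶ (Over.map f).obj (Over.mk φ.1))).op

theorem left_eq (V : Over Y) (k : CostructuredArrow (Over.map f).op (op V))
    (d : Discrete (Phi f V)) (m : k ⟶ (iota f V).obj d) :
    m.left.unop.left = k.hom.unop.left := by
  have h := CostructuredArrow.w m
  have h2 := congrArg (fun t : (Over.map f).op.obj k.left ⟶ op V => t.unop.left) h
  simpa [iota] using h2

theorem hom_unique (V : Over Y) (k : CostructuredArrow (Over.map f).op (op V))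
    (d : Discrete (Phi f V)) (m m' : k ⟶ (iota f V).obj d) : m = m' := by
  apply CommaMorphism.ext
  · apply Quiver.Hom.unop_inj
    apply Over.OverMorphism.ext
    rw [left_eq f V k d m, left_eq f V k d m']
  · subsingleton

theorem right_eq (V : Over Y) (k : CostructuredArrow (Over.map f).op (op V))
    (d : Discrete (Phi f V)) (m : k ⟶ (iota f V).obj d) :
    d.as.1 = k.hom.unop.left ≫ k.left.unop.hom := by
  have h1 := left_eq f V k d m
  have h2 := Over.w m.left.unop
  rw [← h1]
  simpa [iota] using h2.symm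

instance final_iota (V : Over Y) : (iota f V).Final := by
  constructor
  intro k
  have hk : k.hom.unop.left ≫ k.left.unop.hom ≫ f = V.hom := by
    have := Over.w k.hom.unop
    simpa using this
  let φ₀ : Phi f V := ⟨k.hom.unop.left ≫ k.left.unop.hom, by simpa using hk⟩
  let j₀ : StructuredArrow k (iota f V) := StructuredArrow.mk (Y := ⟨φ₀⟩)
    (CostructuredArrow.homMk (Quiver.Hom.op (Over.homMk k.hom.unop.left (by simp [φ₀]) :
      Over.mk φ₀.1 ⟶ k.left.unop)) (by
        apply Quiver.Hom.unop_inj
        apply Over.OverMorphism.ext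
        simp [iota]))
  haveI : Nonempty (StructuredArrow k (iota f V)) := ⟨j₀⟩
  apply zigzag_isConnected
  intro j₁ j₂
  rcases j₁ with ⟨⟨⟩, d₁, m₁⟩
  rcases j₂ with ⟨⟨⟩, d₂, m₂⟩
  have hd : d₁ = d₂ := by
    apply Discrete.ext
    apply Subtype.ext
    rw [right_eq f V k d₁ m₁, right_eq f V k d₂ m₂]
  subst hd
  have hm : m₁ = m₂ := hom_unique f V k d₁ m₁ m₂
  subst hm
  exact Relation.ReflTransGen.refl

/-- (B) Lan along `Over.map f` preserves monos of abelian presheaves. -/
theorem lan_overMap_preservesMono :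
    ((Over.map f).op.lan : ((Over X)ᵒᵖ ⥤ AddCommGrpCat.{u + 1}) ⥤
      ((Over Y)ᵒᵖ ⥤ AddCommGrpCat.{u + 1})).PreservesMonomorphisms := by
  constructor
  intro P Q α hα
  haveI : ∀ W, Mono (α.app W) := fun W => inferInstance
  apply (config := { allowSynthFailures := true }) NatTrans.mono_of_mono_app
  intro Vop
  induction Vop using Opposite.rec with | op V => ?_
  have hP := (Over.map f).op.isPointwiseLeftKanExtensionLeftKanExtensionUnit P (op V)
  have hQ := (Over.map f).op.isPointwiseLeftKanExtensionLeftKanExtensionUnit Q (op V)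
  refine mono_of_final_discrete
    (Functor.whiskerLeft (CostructuredArrow.proj (Over.map f).op (op V)) α)
    (fun k => by dsimp; infer_instance) hP hQ _ ?_ (iota f V)
  intro k
  have h1 := congrArg (fun t => t.app k.left) ((Over.map f).op.lanUnit.naturality α)
  dsimp at h1
  dsimp [Functor.LeftExtension.coconeAt]
  change (((Over.map f).op.lanUnit.app P).app k.left ≫ ((Over.map f).op.lan.obj P).map k.hom) ≫
      ((Over.map f).op.lan.map α).app (op V) =
    α.app k.left ≫ ((Over.map f).op.lanUnit.app Q).app k.left ≫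
      ((Over.map f).op.lan.obj Q).map k.hom
  have h2 : ((Over.map f).op.lan.obj P).map k.hom ≫ ((Over.map f).op.lan.map α).app (op V) =
      ((Over.map f).op.lan.map α).app ((Over.map f).op.obj k.left) ≫
        ((Over.map f).op.lan.obj Q).map k.hom := ((Over.map f).op.lan.map α).naturality k.hom
  rw [Category.assoc, h2]
  exact ((reassoc_of% h1) _).symm

end OverMap

end Groth.Agent.H23.RestrInjB
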