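import Mathlib
import Groth.Agent.H23.RestrInjB
import Groth.Agent.H33.RestrInj_A
set_option autoImplicit false
open CategoryTheory CategoryTheory.Limits Opposite
universe u

namespace Groth.Agent.H23.RestrInj

/-- general: if Lan along `G.op` preserves monos then restriction of abelian sheaves along the
continuous functor `G` preserves injective objects. -/
theorem injective_restrict {C D : Type (u + 1)} [Category.{u} C] [Category.{u} D]
    (G : C ⥤ D) (J : GrothendieckTopology C) (K : GrothendieckTopology D) [G.IsContinuous J K]
    (h : (G.op.lan : (Cᵒᵖ ⥤ AddCommGrpCat.{u + 1}) ⥤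
      (Dᵒᵖ ⥤ AddCommGrpCat.{u + 1})).PreservesMonomorphisms)
    (I : Sheaf K AddCommGrpCat.{u + 1}) [Injective I] :
    Injective ((G.sheafPushforwardContinuous AddCommGrpCat.{u + 1} J K).obj I) := by
  haveI : (Functor.sheafPullbackConstruction.sheafPullback G AddCommGrpCat.{u + 1} J K).PreservesMonomorphisms := by
    unfold Functor.sheafPullbackConstruction.sheafPullback
    haveI := h
    haveI : (sheafToPresheaf J AddCommGrpCat.{u + 1}).PreservesMonomorphisms := inferInstance
    haveI : (presheafToSheaf K AddCommGrpCat.{u + 1}).PreservesMonomorphisms := inferInstance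
    infer_instance
  exact Injective.injective_of_adjoint
    (Functor.sheafPullbackConstruction.sheafAdjunctionContinuous G AddCommGrpCat.{u + 1} J K) I

/-- restriction along a representably flat continuous functor preserves injectives. -/
theorem injective_restrict_of_flat {C D : Type (u + 1)} [Category.{u} C] [Category.{u} D]
    (G : C ⥤ D) [RepresentablyFlat G] (J : GrothendieckTopology C) (K : GrothendieckTopology D)
    [G.IsContinuous J K] (I : Sheaf K AddCommGrpCat.{u + 1}) [Injective I] :
    Injective ((G.sheafPushforwardContinuous AddCommGrpCat.{u + 1} J K).obj I) :=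
  injective_restrict G J K (Groth.Agent.H33.RestrInj_A.lan_preservesMono_of_flat G) I

/-- restriction to a slice (localization) preserves injectives. -/
theorem injective_restrict_overMap {C : Type (u + 1)} [Category.{u} C] {X Y : C} (f : X ⟶ Y)
    (J : GrothendieckTopology C) (I : Sheaf (J.over Y) AddCommGrpCat.{u + 1}) [Injective I] :
    Injective (((Over.map f).sheafPushforwardContinuous AddCommGrpCat.{u + 1} (J.over X)
      (J.over Y)).obj I) :=
  injective_restrict (Over.map f) _ _ (Groth.Agent.H23.RestrInjB.lan_overMap_preservesMono f) I

end Groth.Agent.H23.RestrInj
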