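import Mathlib
import Groth.Agent.S8384

/-!
# Morphisms out of the spectrum of a finite product of complete local rings

If `B ≅ ∏ D i` (finite product of complete local rings) and `J n` is a decreasing sequence of
ideals of `B` whose images in each `D i` are cofinal with the powers of the maximal ideal, then
`Hom(Spec B, Y) → lim Hom(Spec B/J n, Y)` is bijective for every scheme `Y`.
-/

set_option autoImplicit false
universe u
open CategoryTheory CategoryTheory.Limits AlgebraicGeometry

namespace Groth.Agent.H23.SpecPiLift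

section JE

variable {ι : Type u} [Finite ι] {C : Type u} [CommRing C] {D : ι → Type u} [∀ i, CommRing (D i)]
  (φ : ∀ i, C →+* D i) (hφ : Function.Bijective (RingHom.pi φ))

include hφ in
/-- morphisms out of `Spec C`, `C ≅ ∏ D i`, are determined by their restrictions to `Spec D i`. -/
theorem hom_ext_of_pi {Y : Scheme.{u}} (f g : Spec (CommRingCat.of C) ⟶ Y)
    (h : ∀ i, Spec.map (CommRingCat.ofHom (φ i)) ≫ f = Spec.map (CommRingCat.ofHom (φ i)) ≫ g) :
    f = g := by
  let E : C ≃+* (∀ i, D i) := RingEquiv.ofBijective (RingHom.pi φ) hφ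
  let Ec : CommRingCat.of C ≅ CommRingCat.of (∀ i, D i) := E.toCommRingCatIso
  have h1 : ∀ i, Spec.map (CommRingCat.ofHom (φ i)) =
      Spec.map (CommRingCat.ofHom (Pi.evalRingHom D i)) ≫ Spec.map Ec.hom := by
    intro i
    rw [← Spec.map_comp]
    rfl
  rw [← cancel_epi (Spec.map Ec.hom),
    ← cancel_epi (sigmaSpec (fun i => CommRingCat.of (D i)))]
  apply Sigma.hom_ext
  intro i
  rw [ι_sigmaSpec_assoc, ι_sigmaSpec_assoc]
  have := h i
  rw [h1 i, Category.assoc, Category.assoc] at this
  exact this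

include hφ in
/-- morphisms `Spec D i ⟶ Y` glue to a morphism out of `Spec C`, `C ≅ ∏ D i`. -/
theorem exists_desc_of_pi {Y : Scheme.{u}} (f : ∀ i, Spec (CommRingCat.of (D i)) ⟶ Y) :
    ∃ g : Spec (CommRingCat.of C) ⟶ Y, ∀ i, Spec.map (CommRingCat.ofHom (φ i)) ≫ g = f i := by
  let E : C ≃+* (∀ i, D i) := RingEquiv.ofBijective (RingHom.pi φ) hφ
  let Ec : CommRingCat.of C ≅ CommRingCat.of (∀ i, D i) := E.toCommRingCatIso
  have h1 : ∀ i, Spec.map (CommRingCat.ofHom (φ i)) =
      Spec.map (CommRingCat.ofHom (Pi.evalRingHom D i)) ≫ Spec.map Ec.hom := by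
    intro i
    rw [← Spec.map_comp]
    rfl
  refine ⟨Spec.map Ec.inv ≫ inv (sigmaSpec (fun i => CommRingCat.of (D i))) ≫ Sigma.desc f,
    fun i => ?_⟩
  have h2 : Spec.map Ec.hom ≫ Spec.map Ec.inv = 𝟙 _ := by
    rw [← Spec.map_comp, Iso.inv_hom_id, Spec.map_id]
  rw [h1 i, Category.assoc, reassoc_of% h2,
    ← ι_sigmaSpec (fun i => CommRingCat.of (D i)) i, Category.assoc, IsIso.hom_inv_id_assoc,
    Sigma.ι_desc]

include hφ in
/-- quotients of a finite product decompose as products of quotients. -/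
theorem quot_pi_bijective (J : Ideal C) :
    Function.Bijective (RingHom.pi (fun i =>
      (Ideal.quotientMap (J.map (φ i)) (φ i) Ideal.le_comap_map : C ⧸ J →+* D i ⧸ J.map (φ i)))) := by
  classical
  haveI : Fintype ι := Fintype.ofFinite ι
  have hsurj : ∀ i, Function.Surjective (φ i) := by
    intro i d
    obtain ⟨c, hc⟩ := hφ.2 (Pi.single i d)
    refine ⟨c, ?_⟩
    have := congrFun hc i
    rw [Pi.single_eq_same] at this
    exact this
  constructor
  · rw [injective_iff_map_eq_zero]
    intro x hx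
    obtain ⟨b, rfl⟩ := Ideal.Quotient.mk_surjective x
    have hx' : ∀ i, φ i b ∈ J.map (φ i) := by
      intro i
      have := congrFun hx i
      simp only [RingHom.pi_apply, Ideal.quotientMap_mk, Pi.zero_apply] at this
      exact Ideal.Quotient.eq_zero_iff_mem.mp this
    have hx'' : ∀ i, ∃ j ∈ J, φ i j = φ i b := fun i =>
      (Ideal.mem_map_iff_of_surjective (φ i) (hsurj i)).mp (hx' i)
    choose j hjJ hj using hx''
    choose e he using fun i => hφ.2 (Pi.single i (1 : D i))
    have hek : ∀ i k, φ k (e i) = if k = i then 1 else 0 := by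
      intro i k
      have := congrFun (he i) k
      simp only [RingHom.pi_apply] at this
      rw [this]
      by_cases hki : k = i
      · subst hki
        simp
      · simp [hki]
    have hb : b = ∑ i, e i * j i := by
      apply hφ.1
      funext k
      simp only [RingHom.pi_apply, map_sum, map_mul, hek]
      rw [Finset.sum_eq_single k]
      · simp [hj]
      · intro i _ hik
        simp [Ne.symm hik]
      · intro hk
        exact absurd (Finset.mem_univ k) hk
    rw [Ideal.Quotient.eq_zero_iff_mem, hb]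
    exact J.sum_mem (fun i _ => J.mul_mem_left _ (hjJ i))
  · intro y
    choose r hr using fun i => Ideal.Quotient.mk_surjective (y i)
    obtain ⟨b, hb⟩ := hφ.2 r
    refine ⟨Ideal.Quotient.mk J b, ?_⟩
    funext i
    simp only [RingHom.pi_apply, Ideal.quotientMap_mk]
    have := congrFun hb i
    simp only [RingHom.pi_apply] at this
    rw [this, hr i]

end JE

section Main

open IsLocalRing

variable {ι : Type u} [Finite ι] {B : Type u} [CommRing B] {D : ι → Type u} [∀ i, CommRing (D i)]
  [∀ i, IsLocalRing (D i)] [∀ i, IsAdicComplete (maximalIdeal (D i)) (D i)]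
  (π : ∀ i, B →+* D i) (hπ : Function.Bijective (RingHom.pi π))
  (J : ℕ → Ideal B) (hJ : Antitone J)
  (h1 : ∀ i n, (J n).map (π i) ≤ maximalIdeal (D i) ^ n)
  (h2 : ∀ i n, ∃ k, maximalIdeal (D i) ^ k ≤ (J n).map (π i))

include hπ h1 in
theorem hom_ext_of_forall_quot {Y : Scheme.{u}} (f g : Spec (CommRingCat.of B) ⟶ Y)
    (h : ∀ n, Spec.map (CommRingCat.ofHom (Ideal.Quotient.mk (J n))) ≫ f =
      Spec.map (CommRingCat.ofHom (Ideal.Quotient.mk (J n))) ≫ g) : f = g := by
  apply hom_ext_of_pi π hπ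
  intro i
  apply (Groth.Agent.S8384.result (D i) Y).1
  intro n
  let ψ : B ⧸ J n →+* D i ⧸ maximalIdeal (D i) ^ n :=
    Ideal.quotientMap _ (π i) (Ideal.map_le_iff_le_comap.mp (h1 i n))
  have hψ : (Ideal.Quotient.mk (maximalIdeal (D i) ^ n)).comp (π i) =
      ψ.comp (Ideal.Quotient.mk (J n)) := by
    ext b
    simp [ψ]
  have hS : Spec.map (CommRingCat.ofHom (Ideal.Quotient.mk (maximalIdeal (D i) ^ n))) ≫
      Spec.map (CommRingCat.ofHom (π i)) =
      Spec.map (CommRingCat.ofHom ψ) ≫ Spec.map (CommRingCat.ofHom (Ideal.Quotient.mk (J n))) := by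
    rw [← Spec.map_comp, ← Spec.map_comp, ← CommRingCat.ofHom_comp, ← CommRingCat.ofHom_comp, hψ]
  rw [← Category.assoc, ← Category.assoc, hS, Category.assoc, Category.assoc, h n]

include hπ hJ h1 h2 in
theorem exists_hom_of_forall_quot {Y : Scheme.{u}}
    (u : ∀ n, Spec (CommRingCat.of (B ⧸ J n)) ⟶ Y)
    (hu : ∀ n, Spec.map (CommRingCat.ofHom (Ideal.Quotient.factor (hJ (Nat.le_succ n)))) ≫
      u (n + 1) = u n) :
    ∃ f : Spec (CommRingCat.of B) ⟶ Y,
      ∀ n, Spec.map (CommRingCat.ofHom (Ideal.Quotient.mk (J n))) ≫ f = u n := by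
  -- general compatibility
  have hu' : ∀ n k (hnk : n ≤ k),
      Spec.map (CommRingCat.ofHom (Ideal.Quotient.factor (hJ hnk))) ≫ u k = u n := by
    intro n k hnk
    induction k, hnk using Nat.le_induction with
    | base =>
      have : Ideal.Quotient.factor (hJ (le_refl n)) = RingHom.id _ := by
        ext b
        simp
      rw [this]
      exact (by simp : Spec.map (CommRingCat.ofHom (RingHom.id (B ⧸ J n))) ≫ u n = u n)
    | succ k hnk ih =>
      rw [← ih, ← hu k, ← Category.assoc, ← Spec.map_comp, ← CommRingCat.ofHom_comp,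
        Ideal.Quotient.factor_comp]
  -- the maps to the factors
  let ψ : ∀ i n, B ⧸ J n →+* D i ⧸ maximalIdeal (D i) ^ n := fun i n =>
    Ideal.quotientMap _ (π i) (Ideal.map_le_iff_le_comap.mp (h1 i n))
  have hψmk : ∀ i n, (Ideal.Quotient.mk (maximalIdeal (D i) ^ n)).comp (π i) =
      (ψ i n).comp (Ideal.Quotient.mk (J n)) := by
    intro i n
    ext b
    simp [ψ]
  have hex : ∀ i, ∃ f : Spec (CommRingCat.of (D i)) ⟶ Y, ∀ n,
      Spec.map (CommRingCat.ofHom (Ideal.Quotient.mk (maximalIdeal (D i) ^ n))) ≫ f =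
        Spec.map (CommRingCat.ofHom (ψ i n)) ≫ u n := by
    intro i
    apply (Groth.Agent.S8384.result (D i) Y).2
    intro n
    have hcomp : (Ideal.Quotient.factor
        (Ideal.pow_le_pow_right (I := maximalIdeal (D i)) (Nat.le_succ n))).comp (ψ i (n + 1)) =
        (ψ i n).comp (Ideal.Quotient.factor (hJ (Nat.le_succ n))) := by
      apply Ideal.Quotient.ringHom_ext
      ext b
      simp [ψ]
    rw [← Category.assoc, ← Spec.map_comp, ← CommRingCat.ofHom_comp, hcomp,
      CommRingCat.ofHom_comp, Spec.map_comp, Category.assoc, hu n]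
  choose fi hfi using hex
  obtain ⟨f, hf⟩ := exists_desc_of_pi π hπ fi
  refine ⟨f, fun n => ?_⟩
  apply hom_ext_of_pi _ (quot_pi_bijective π hπ (J n))
  intro i
  obtain ⟨k0, hk0⟩ := h2 i n
  obtain ⟨k, hnk, hk⟩ : ∃ k, n ≤ k ∧ maximalIdeal (D i) ^ k ≤ (J n).map (π i) :=
    ⟨max n k0, le_max_left _ _, (Ideal.pow_le_pow_right (le_max_right _ _)).trans hk0⟩
  -- LHS
  have hL : (Ideal.quotientMap ((J n).map (π i)) (π i) Ideal.le_comap_map).comp
      (Ideal.Quotient.mk (J n)) =
      ((Ideal.Quotient.factor hk).comp (Ideal.Quotient.mk (maximalIdeal (D i) ^ k))).comp (π i) := by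
    ext b
    simp
  have hR : (Ideal.quotientMap ((J n).map (π i)) (π i) Ideal.le_comap_map).comp
      (Ideal.Quotient.factor (hJ hnk)) = (Ideal.Quotient.factor hk).comp (ψ i k) := by
    apply Ideal.Quotient.ringHom_ext
    ext b
    simp [ψ]
  rw [← Category.assoc, ← Spec.map_comp, ← CommRingCat.ofHom_comp, hL, CommRingCat.ofHom_comp,
    CommRingCat.ofHom_comp, Spec.map_comp, Spec.map_comp, Category.assoc, Category.assoc, hf i,
    hfi i k, ← hu' n k hnk, ← Category.assoc, ← Category.assoc, ← Spec.map_comp, ← Spec.map_comp,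
    ← CommRingCat.ofHom_comp, ← CommRingCat.ofHom_comp, hR]

end Main

end Groth.Agent.H23.SpecPiLift
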