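import Mathlib
import Groth.Prelude.Def_PBC
import Groth.Prelude.Def_ProEtS
import Groth.Agent.H23.WCDefs
import Groth.Agent.H23.WCover
import Groth.Agent.H66.WC_F2

/-!
# Exactness of `f_*` on abelian pro-étale sheaves when base change preserves affine weakly
contractible objects (helper23)
-/

set_option autoImplicit false
set_option backward.isDefEq.respectTransparency.types false
universe u
open CategoryTheory CategoryTheory.Limits AlgebraicGeometry Opposite
open Groth.Agent.H23.WCDefs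

namespace Groth.Agent.H23.WCPushExact

theorem epi_pushP_map (H : Groth.Agent.H23.WCover.HasWContrCovers.{u}) {Z X : Scheme.{u}}
    (f : Z ⟶ X) [ProEtS.PCont f]
    (hf : ∀ (W : X.ProEt) [IsAffine W.left], EtPBC.IsWContractible ↥(Γ(W.left, ⊤)) →
      ProEtS.IsWC ((ProEtS.bcP f).obj W))
    {F G : ProEtS.AbP Z} (φ : F ⟶ G) [Epi φ] : Epi ((ProEtS.pushP f).map φ) := by
  rw [← Sheaf.isLocallySurjective_iff_epi']
  refine ⟨fun {V} t => ?_⟩
  obtain ⟨ι, W, g, hcov, hW⟩ := Groth.Agent.H23.WCover.exists_cover H V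
  refine (Scheme.ProEt.topology X).superset_covering ?_ hcov
  rw [Sieve.generate_le_iff]
  rintro _ _ ⟨i⟩
  haveI := (hW i).1
  have hwc := hf (W i) (hW i).2
  obtain ⟨s, hs⟩ := Groth.Agent.H66.WC_F2.surjective_of_epi_of_isWC _ hwc φ
    (((ProEtS.pushP f).obj G).obj.map (g i).op t)
  exact ⟨s, hs⟩

theorem exact_pushP (H : Groth.Agent.H23.WCover.HasWContrCovers.{u}) {Z X : Scheme.{u}} (f : Z ⟶ X)
    [ProEtS.PCont f]
    (hf : ∀ (W : X.ProEt) [IsAffine W.left], EtPBC.IsWContractible ↥(Γ(W.left, ⊤)) →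
      ProEtS.IsWC ((ProEtS.bcP f).obj W)) :
    PreservesFiniteLimits (ProEtS.pushP f) ∧ PreservesFiniteColimits (ProEtS.pushP f) := by
  haveI : PreservesLimitsOfSize.{0, 0} (ProEtS.pushP f) :=
    (ProEtS.pullPushAdjP f).rightAdjoint_preservesLimits
  haveI hlim : PreservesFiniteLimits (ProEtS.pushP f) := inferInstance
  refine ⟨hlim, ?_⟩
  rw [Functor.preservesFiniteColimits_iff_forall_exact_map_and_epi]
  intro S hS
  have h0 : ∀ (S : ShortComplex (ProEtS.AbP Z)), S.ShortExact →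
      (S.map (ProEtS.pushP f)).Exact ∧ Mono ((ProEtS.pushP f).map S.f) :=
    ((Functor.preservesFiniteLimits_tfae (ProEtS.pushP f)).out 3 0).1 hlim
  have h1 := h0 S hS
  haveI := hS.epi_g
  exact ⟨h1.1, epi_pushP_map H f hf S.g⟩

end Groth.Agent.H23.WCPushExact
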