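import Mathlib
import Groth.Prelude.Def_PBC
import Groth.Prelude.Def_ProEtS
import Groth.Prelude.Def_ProEtW
import Groth.Agent.S0755
import Groth.Agent.S0778
import Groth.Agent.S0736
import Groth.Agent.S0679
import Groth.Agent.H23.WCover

/-!
# Quotients of w-contractible rings by ideals with quasi-compact open complement (helper23)
-/

set_option autoImplicit false
set_option linter.style.haveILetI false
universe u
open CategoryTheory

namespace Groth.Agent.H23.WC_N2

/-- (N1) quotients by nil ideals preserve retractions of faithfully flat ind-étale algebras. -/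
theorem hasIndEtaleRetractions_quotient_of_le_nilradical (B : Type u) [CommRing B] (J : Ideal B)
    (hJ : J ≤ nilradical B) (h : ProEtW.HasIndEtaleRetractions B) :
    ProEtW.HasIndEtaleRetractions (B ⧸ J) := by
  intro Cb _ _ hff hIE
  obtain ⟨C, _, _, hCIE, ⟨e⟩⟩ := Groth.Agent.S0755.result B J Cb hIE
  haveI hwe : Algebra.WeaklyEtale B C := Groth.Agent.S0736.result B C hCIE
  haveI : Module.Flat B C := inferInstance
  haveI := hff
  -- the ring map `C → Cb`
  let ρ : C →+* Cb := (e : (C ⧸ J.map (algebraMap B C)) →+* Cb).comp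
    (Ideal.Quotient.mk (J.map (algebraMap B C)))
  have hsq : ρ.comp (algebraMap B C) = (algebraMap (B ⧸ J) Cb).comp (Ideal.Quotient.mk J) := by
    ext b
    show e (Ideal.Quotient.mk _ (algebraMap B C b)) = algebraMap (B ⧸ J) Cb (Ideal.Quotient.mk J b)
    rw [← e.commutes]
    rfl
  -- surjectivity on spectra
  have hs1 : Function.Surjective (PrimeSpectrum.comap (algebraMap (B ⧸ J) Cb)) :=
    PrimeSpectrum.comap_surjective_of_faithfullyFlat
  have hs2 : Function.Surjective (PrimeSpectrum.comap (Ideal.Quotient.mk J)) := by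
    intro p
    have hp : p ∈ Set.range (PrimeSpectrum.comap (Ideal.Quotient.mk J)) := by
      rw [range_comap_of_surjective _ _ Ideal.Quotient.mk_surjective, Ideal.mk_ker]
      intro x hx
      exact (nilradical_le_prime p.asIdeal) (hJ hx)
    exact hp
  have hs3 : Function.Surjective (PrimeSpectrum.comap (algebraMap B C)) := by
    intro p
    obtain ⟨q, rfl⟩ := hs2 p
    obtain ⟨r, rfl⟩ := hs1 q
    refine ⟨PrimeSpectrum.comap ρ r, ?_⟩
    rw [← PrimeSpectrum.comap_comp_apply, ← PrimeSpectrum.comap_comp_apply, hsq]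
  haveI hffC : Module.FaithfullyFlat B C := Module.FaithfullyFlat.of_comap_surjective hs3
  obtain ⟨r⟩ := h C hffC hCIE
  -- the induced retraction
  have hker : J.map (algebraMap B C) ≤ RingHom.ker ((Ideal.Quotient.mk J).comp r.toRingHom) := by
    rw [Ideal.map_le_iff_le_comap]
    intro b hb
    show (Ideal.Quotient.mk J) (r (algebraMap B C b)) = 0
    rw [r.commutes]
    exact Ideal.Quotient.eq_zero_iff_mem.2 hb
  let rb : (C ⧸ J.map (algebraMap B C)) →+* (B ⧸ J) :=
    Ideal.Quotient.lift _ ((Ideal.Quotient.mk J).comp r.toRingHom) (fun c hc => hker hc)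
  refine ⟨{ toRingHom := rb.comp (e.symm : Cb →+* (C ⧸ J.map (algebraMap B C))),
            commutes' := fun x => ?_ }⟩
  obtain ⟨b, rfl⟩ := Ideal.Quotient.mk_surjective x
  show rb (e.symm (algebraMap (B ⧸ J) Cb (Ideal.Quotient.mk J b))) = _
  rw [e.symm.commutes]
  show rb (Ideal.Quotient.mk _ (algebraMap B C b)) = _
  show (Ideal.Quotient.mk J) (r (algebraMap B C b)) = _
  rw [r.commutes]
  rfl

/-- a finitely generated subideal with the same zero locus. -/
theorem exists_fg_le_of_isCompact (A : Type u) [CommRing A] (I : Ideal A)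
    (hI : IsCompact ((PrimeSpectrum.zeroLocus (I : Set A))ᶜ)) :
    ∃ I₀ : Ideal A, I₀.FG ∧ I₀ ≤ I ∧
      PrimeSpectrum.zeroLocus (I₀ : Set A) = PrimeSpectrum.zeroLocus (I : Set A) := by
  obtain ⟨t, ht⟩ := hI.elim_finite_subcover
    (fun f : I => ((PrimeSpectrum.basicOpen (f : A) : TopologicalSpace.Opens _) : Set _))
    (fun f => (PrimeSpectrum.basicOpen (f : A)).2) (by
      intro p hp
      have hp' : ¬ (I : Set A) ⊆ p.asIdeal := hp
      obtain ⟨f, hfI, hfp⟩ := Set.not_subset.1 hp'
      exact Set.mem_iUnion.2 ⟨⟨f, hfI⟩, hfp⟩)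
  refine ⟨Ideal.span ((fun f : I => (f : A)) '' (t : Set I)), ?_, ?_, ?_⟩
  · classical
    exact ⟨(t.image (fun f : I => (f : A))), by rw [Finset.coe_image]⟩
  · rw [Ideal.span_le]
    rintro _ ⟨f, -, rfl⟩
    exact f.2
  · apply Set.Subset.antisymm
    · intro p hp
      by_contra hpI
      obtain ⟨f, hf⟩ := Set.mem_iUnion.1 (ht hpI)
      obtain ⟨hft, hfp⟩ := Set.mem_iUnion.1 hf
      have : (f : A) ∈ p.asIdeal :=
        hp (Ideal.subset_span ⟨f, hft, rfl⟩)
      exact hfp this
    · apply PrimeSpectrum.zeroLocus_anti_mono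
      rw [SetLike.coe_subset_coe, Ideal.span_le]
      rintro _ ⟨f, -, rfl⟩
      exact f.2

/-- (N2) quotients of a w-contractible ring by an ideal whose zero locus has quasi-compact
complement are w-contractible. -/
theorem isWContractible_quotient_of_isCompact (A : Type u) [CommRing A] (I : Ideal A)
    (hI : IsCompact ((PrimeSpectrum.zeroLocus (I : Set A))ᶜ)) (h : EtPBC.IsWContractible A) :
    EtPBC.IsWContractible (A ⧸ I) := by
  obtain ⟨I₀, hfg, hle, hzl⟩ := exists_fg_le_of_isCompact A I hI
  haveI : Algebra.FinitePresentation A (A ⧸ I₀) := Algebra.FinitePresentation.quotient hfg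
  have h1 : EtPBC.IsWContractible (A ⧸ I₀) := Groth.Agent.S0679.result A (A ⧸ I₀) h
  have hrad : I ≤ I₀.radical := by
    rw [← PrimeSpectrum.vanishingIdeal_zeroLocus_eq_radical, hzl]
    exact PrimeSpectrum.subset_vanishingIdeal_zeroLocus _
  have hJ : I.map (Ideal.Quotient.mk I₀) ≤ nilradical (A ⧸ I₀) := by
    rw [Ideal.map_le_iff_le_comap]
    intro x hx
    obtain ⟨n, hn⟩ := hrad hx
    refine ⟨n, ?_⟩
    rw [← map_pow]
    exact Ideal.Quotient.eq_zero_iff_mem.2 hn
  have h2 := hasIndEtaleRetractions_quotient_of_le_nilradical (A ⧸ I₀) _ hJ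
    ((Groth.Agent.S0778.result _).1 h1)
  have h3 := (Groth.Agent.S0778.result _).2 h2
  exact Groth.Agent.H23.WCover.isWContractible_of_ringEquiv
    (DoubleQuot.quotQuotEquivQuotOfLE hle) h3

end Groth.Agent.H23.WC_N2
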