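import Mathlib
import Groth.Prelude.Def_PBC
import Groth.Prelude.Def_ProEtS

/-!
# Closed subschemes of an affine scheme with quasi-compact complement (helper23)
-/

set_option autoImplicit false
set_option linter.style.haveILetI false
set_option backward.isDefEq.respectTransparency.types false
universe u
open CategoryTheory CategoryTheory.Limits AlgebraicGeometry Opposite

namespace Groth.Agent.H23.WC_N3

/-- (N3) closed subschemes of an affine scheme with quasi-compact complement. -/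
theorem exists_ideal_of_closedImmersion {Z' W' : Scheme.{u}} [IsAffine W'] (i' : Z' ⟶ W')
    [IsClosedImmersion i'] (hc : IsCompact (Set.range i'.base)ᶜ) :
    ∃ (I : Ideal ↥(Γ(W', ⊤))), IsCompact ((PrimeSpectrum.zeroLocus (I : Set ↥(Γ(W', ⊤))))ᶜ) ∧
      Nonempty (↥(Γ(Z', ⊤)) ≃+* (↥(Γ(W', ⊤)) ⧸ I)) := by
  obtain ⟨hZ, hsurj⟩ := IsClosedImmersion.isAffine_surjective_of_isAffine i'
  haveI := hZ
  let φ : ↥(Γ(W', ⊤)) →+* ↥(Γ(Z', ⊤)) := i'.appTop.hom
  have hφ : Function.Surjective φ := hsurj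
  refine ⟨RingHom.ker φ, ?_, ⟨(RingHom.quotientKerEquivOfSurjective hφ).symm⟩⟩
  -- the homeomorphism `W' ≃ Spec Γ(W')`
  let e : ↥W' ≃ₜ ↥(Spec Γ(W', ⊤)) := Scheme.homeoOfIso W'.isoSpec
  have he : ∀ x, e x = W'.toSpecΓ x := fun x => rfl
  have hnat : i' ≫ W'.toSpecΓ = Z'.toSpecΓ ≫ Spec.map i'.appTop := Scheme.toSpecΓ_naturality i'
  let T : Set ↥(Spec Γ(W', ⊤)) :=
    (PrimeSpectrum.zeroLocus (RingHom.ker φ : Set ↥(Γ(W', ⊤))) : Set (PrimeSpectrum ↥(Γ(W', ⊤))))
  have hrange : e '' (Set.range i'.base) = T := by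
    show _ = (PrimeSpectrum.zeroLocus (RingHom.ker φ : Set ↥(Γ(W', ⊤))) :
      Set (PrimeSpectrum ↥(Γ(W', ⊤))))
    rw [← range_comap_of_surjective _ φ hφ]
    ext p
    constructor
    · rintro ⟨x, ⟨z, rfl⟩, rfl⟩
      refine ⟨Z'.toSpecΓ z, ?_⟩
      have := congrArg (fun g => g z) hnat
      exact this.symm
    · rintro ⟨q, rfl⟩
      obtain ⟨z, rfl⟩ := (Scheme.homeoOfIso Z'.isoSpec).surjective q
      refine ⟨i' z, ⟨z, rfl⟩, ?_⟩
      have := congrArg (fun g => g z) hnat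
      exact this
  have h2 : Tᶜ = e '' (Set.range i'.base)ᶜ := by
    rw [Set.image_compl_eq e.bijective, hrange]
  show IsCompact Tᶜ
  rw [h2]
  exact hc.image e.continuous

end Groth.Agent.H23.WC_N3
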