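import Mathlib
import Groth.Prelude.Def_PBC
import Groth.Prelude.Def_ProEtS

/-!
# Base change of a closed immersion with retrocompact complement to a quasi-compact scheme
(helper23)
-/

set_option autoImplicit false
set_option linter.style.haveILetI false
set_option backward.isDefEq.respectTransparency.types false
universe u
open CategoryTheory CategoryTheory.Limits AlgebraicGeometry Opposite

namespace Groth.Agent.H23.WC_N4

/-- preimages of retrocompact opens under morphisms of schemes are retrocompact. -/
theorem isRetrocompact_preimage {X Y : Scheme.{u}} (f : X ⟶ Y) {t : Set ↥Y} (ht : IsOpen t)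
    (ht' : IsRetrocompact t) : IsRetrocompact (f ⁻¹' t) :=
  IsRetrocompact_iff_isSpectralMap_subtypeVal.mpr
    (quasiCompact_iff_isSpectralMap.mp
    (MorphismProperty.of_isPullback (P := @QuasiCompact)
    (isPullback_morphismRestrict f ⟨t, ht⟩)
    (quasiCompact_iff_isSpectralMap.mpr (IsRetrocompact_iff_isSpectralMap_subtypeVal.mp ht'))))

/-- (N4) retrocompactness of the complement is stable under base change to a quasi-compact
scheme. -/
theorem isCompact_compl_range_fst {Z X : Scheme.{u}} (i : Z ⟶ X) [IsClosedImmersion i]
    (hr : IsRetrocompact (Set.range i.base)ᶜ) {W' : Scheme.{u}} [CompactSpace ↥W'] (g : W' ⟶ X) :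
    IsCompact (Set.range (pullback.fst g i).base)ᶜ := by
  have h1 : (Set.range (pullback.fst g i).base)ᶜ = g ⁻¹' (Set.range i.base)ᶜ := by
    rw [Set.preimage_compl]
    congr 1
    exact Scheme.Pullback.range_fst g i
  rw [h1]
  have hopen : IsOpen (Set.range i.base)ᶜ := i.isClosedEmbedding.isClosed_range.isOpen_compl
  have h2 := isRetrocompact_preimage g hopen hr
  have h3 := h2 isCompact_univ isOpen_univ
  rwa [Set.inter_univ] at h3

end Groth.Agent.H23.WC_N4
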