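import Mathlib
import Groth.Prelude.Def_PBC
import Groth.Prelude.Def_ProEtS
import Groth.Agent.H23.WCDefs
import Groth.Agent.H23.WCover
import Groth.Agent.H23.WCMain
import Groth.Agent.H23.WCPushExact
import Groth.Agent.H23.WC_N2
import Groth.Agent.H23.WC_N3
import Groth.Agent.H23.WC_N4

set_option autoImplicit false
set_option backward.isDefEq.respectTransparency.types false
universe u
open CategoryTheory CategoryTheory.Limits AlgebraicGeometry Opposite
open Groth.Agent.H23.WCDefs

namespace Groth.Agent.H23.WCClosedPush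

open Groth.Agent.H23.WC_N2 Groth.Agent.H23.WC_N3 Groth.Agent.H23.WC_N4

theorem isWC_bcP_of_closedImmersion {Z X : Scheme.{u}} (i : Z ⟶ X) [IsClosedImmersion i]
    (hr : IsRetrocompact (Set.range i.base)ᶜ) (W : X.ProEt) [IsAffine W.left]
    (hW : EtPBC.IsWContractible ↥(Γ(W.left, ⊤))) :
    ProEtS.IsWC ((ProEtS.bcP i).obj W) := by
  have hc := isCompact_compl_range_fst i hr (W' := W.left) W.hom
  obtain ⟨I, hI, ⟨e⟩⟩ := exists_ideal_of_closedImmersion (W' := W.left) (pullback.fst W.hom i) hc
  have h1 := isWContractible_quotient_of_isCompact _ I hI hW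
  haveI : IsAffine ((ProEtS.bcP i).obj W).left := by
    show IsAffine (pullback W.hom i)
    exact isAffine_of_isAffineHom (Y := W.left) (pullback.fst W.hom i)
  refine (Groth.Agent.H23.WCStmts.S0715 ((ProEtS.bcP i).obj W)).1 ?_
  exact Groth.Agent.H23.WCover.isWContractible_of_ringEquiv e.symm h1

theorem S0722 (H : Groth.Agent.H23.WCover.HasWContrCovers.{u}) {Z X : Scheme.{u}} (i : Z ⟶ X)
    [IsClosedImmersion i] (hr : IsRetrocompact (Set.range i.base)ᶜ) [ProEtS.PCont i] :
    PreservesFiniteLimits (ProEtS.pushP i) ∧ PreservesFiniteColimits (ProEtS.pushP i) :=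
  Groth.Agent.H23.WCPushExact.exact_pushP H i
    (fun W _ hW => isWC_bcP_of_closedImmersion i hr W hW)

end Groth.Agent.H23.WCClosedPush
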