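import Mathlib
import Groth.Prelude.Def_PBC
import Groth.Prelude.Def_ProEtS
import Groth.Agent.H23.WCDefs
import Groth.Agent.H23.WC_L4

/-!
# Refining covering sieves of an affine object whose points specialise into a given set (helper23)
-/

set_option autoImplicit false
set_option linter.style.haveILetI false
set_option backward.isDefEq.respectTransparency.types false
universe u
open CategoryTheory CategoryTheory.Limits AlgebraicGeometry Opposite
open Groth.Agent.H23.WCDefs

namespace Groth.Agent.H23.WC_E3b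

/-- (E3b) refining a covering sieve of an affine object all of whose points specialise into a
set `T`: finitely many affine members meeting `T` already cover. -/
theorem exists_finite_cover_meeting {X : Scheme.{u}} (V : X.ProEt) [IsAffine V.left]
    (T : Set ↥V.left) (hT : ∀ v : ↥V.left, ∃ z ∈ T, v ⤳ z)
    (R : Sieve V) (hR : R ∈ Scheme.ProEt.topology X V) :
    ∃ (ι : Type) (_ : Finite ι) (Z : ι → X.ProEt) (g : ∀ k, Z k ⟶ V),
      (∀ k, R.arrows (g k)) ∧ (∀ k, IsAffine (Z k).left) ∧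
      (∀ v : ↥V.left, ∃ k, v ∈ Set.range (g k).left) ∧
      ∀ k, ∃ y : ↥(Z k).left, (g k).left y ∈ T := by
  obtain ⟨n, Z₀, g₀, V₀, hg₀, hV₀, hcov⟩ :=
    Groth.Agent.H23.WC_L4.exists_finite_affine_of_mem_topology V R hR
  let ι : Type := {k : Fin n // ∃ y : ↥(Z₀ k).left, y ∈ V₀ k ∧ (g₀ k).left y ∈ T}
  refine ⟨ι, inferInstance, fun k => openObj (Z₀ k.1) (V₀ k.1),
    fun k => openIncl (Z₀ k.1) (V₀ k.1) ≫ g₀ k.1, fun k => R.downward_closed (hg₀ k.1) _,
    fun k => hV₀ k.1, ?_, ?_⟩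
  · intro v
    obtain ⟨z, hzT, hvz⟩ := hT v
    have hz : z ∈ ⋃ k, (g₀ k).left '' (V₀ k : Set ↥(Z₀ k).left) := by rw [hcov]; trivial
    obtain ⟨k, y, hy, rfl⟩ := Set.mem_iUnion.1 hz
    refine ⟨⟨k, y, hy, hzT⟩, ?_⟩
    -- the restricted morphism is flat, hence generalizing
    haveI : WeaklyEtale (g₀ k).left := by
      haveI : WeaklyEtale ((g₀ k).left ≫ V.hom) := by
        rw [MorphismProperty.Over.w (g₀ k)]
        exact (Z₀ k).prop
      haveI : WeaklyEtale V.hom := V.prop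
      exact WeaklyEtale.of_comp (g₀ k).left V.hom
    haveI : Flat ((V₀ k).ι ≫ (g₀ k).left) := inferInstance
    have hgen := Flat.generalizingMap ((V₀ k).ι ≫ (g₀ k).left)
    let y' : ↥((V₀ k : (Z₀ k).left.Opens) : Scheme.{u}) := ⟨y, hy⟩
    obtain ⟨x', -, hx'⟩ := hgen (a := y') (b := v) hvz
    exact ⟨x', hx'⟩
  · rintro ⟨k, y, hy, hyT⟩
    exact ⟨(⟨y, hy⟩ : ↥((V₀ k : (Z₀ k).left.Opens) : Scheme.{u})), hyT⟩

end Groth.Agent.H23.WC_E3b
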