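import Mathlib
import Groth.Prelude.Def_PBC
import Groth.Prelude.Def_ProEtS
import Groth.Agent.H23.WCDefs
import Groth.Agent.H23.WC_L4
import Groth.Agent.H66.WC_E1
import Groth.Agent.H66.WC_E2
import Groth.Agent.H23.WC_E3a
import Groth.Agent.H23.WC_E3b

set_option autoImplicit false
set_option backward.isDefEq.respectTransparency.types false
universe u w
open CategoryTheory CategoryTheory.Limits AlgebraicGeometry Opposite
open Groth.Agent.H23.WCDefs

namespace Groth.Agent.H23.WCExtZero

open Groth.Agent.H66.WC_E1 Groth.Agent.H66.WC_E2 Groth.Agent.H23.WC_E3a Groth.Agent.H23.WC_E3b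

theorem S0732 {U X Z : Scheme.{u}} (j : U ⟶ X) [WeaklyEtale j] (i : Z ⟶ X)
    [IsClosedImmersion i] (hUZ : Disjoint (Set.range j.base) (Set.range i.base)) [ProEtS.JPCont j]
    (V : X.ProEt) [IsAffine V.left]
    (hV : ∀ v : ↥V.left, ∃ z : ↥V.left, V.hom.base z ∈ Set.range i.base ∧ v ⤳ z)
    (F : ProEtS.AbP U) :
    Subsingleton (ProEtS.sectP ((ProEtS.extZeroP j).obj F) V) := by
  -- reduce to the construction
  let e := (Functor.sheafPullbackConstruction.sheafPullbackIso (ProEtS.compP j)
      AddCommGrpCat.{u + 1} (Scheme.ProEt.topology U) (Scheme.ProEt.topology X)).app F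
  let e' : ((ProEtS.extZeroP j).obj F).obj.obj (op V) ≅
      (sheafify (Scheme.ProEt.topology X) ((ProEtS.compP j).op.lan.obj F.obj)).obj (op V) :=
    ((sheafToPresheaf _ _).mapIso e).app (op V)
  have key : Subsingleton ((sheafify (Scheme.ProEt.topology X)
      ((ProEtS.compP j).op.lan.obj F.obj)).obj (op V)) := by
    apply subsingleton_sheafify_of_forall_cover
    intro R hR
    obtain ⟨ι, hι, Zk, g, hg1, hg2, hg3, hg4⟩ := exists_finite_cover_meeting V
      {z | V.hom.base z ∈ Set.range i.base} (fun v => by
        obtain ⟨z, hz1, hz2⟩ := hV v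
        exact ⟨z, hz1, hz2⟩) R hR
    refine ⟨ι, Zk, g, hg1, ?_, fun k => ?_⟩
    · refine generate_mem_of_finite V Zk g (fun k => ?_) hg3
      haveI := hg2 k
      haveI : IsAffineHom (g k).left := isAffineHom_of_isAffine _
      infer_instance
    · apply subsingleton_lan_of_isEmpty
      intro V'
      constructor
      intro φ
      obtain ⟨y, hy⟩ := hg4 k
      -- the point `y` of `Z k` maps into `j(U) ∩ i(Z)`
      have h1 : (Zk k).hom.base y ∈ Set.range i.base := by
        have hw : (g k).left ≫ V.hom = (Zk k).hom := MorphismProperty.Over.w (g k)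
        have : (Zk k).hom.base y = V.hom.base ((g k).left.base y) := by
          rw [← hw]; rfl
        rw [this]
        exact hy
      have h2 : (Zk k).hom.base y ∈ Set.range j.base := by
        have hw : φ.left ≫ ((ProEtS.compP j).obj V').hom = (Zk k).hom := MorphismProperty.Over.w φ
        have hw2 : ((ProEtS.compP j).obj V').hom = V'.hom ≫ j := rfl
        refine ⟨V'.hom.base (φ.left.base y), ?_⟩
        rw [← hw, hw2]
        rfl
      exact Set.disjoint_left.1 hUZ h2 h1
  exact (e'.addCommGroupIsoToAddEquiv.toEquiv).subsingleton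

end Groth.Agent.H23.WCExtZero
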