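import Mathlib
import Groth.Prelude.Def_PBC
import Groth.Prelude.Def_ProEtS
import Groth.Agent.H23.WCPushExact
import Groth.Agent.H66.WC_F1

/-!
# `f_*` is exact on abelian pro-étale sheaves for finite finitely presented `f` (helper23)
-/

set_option autoImplicit false
set_option backward.isDefEq.respectTransparency.types false
universe u
open CategoryTheory CategoryTheory.Limits AlgebraicGeometry Opposite

namespace Groth.Agent.H23.WCFinitePush

theorem S0721 (H : Groth.Agent.H23.WCover.HasWContrCovers.{u}) {Z X : Scheme.{u}} (f : Z ⟶ X)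
    [IsFinite f] [LocallyOfFinitePresentation f] [ProEtS.PCont f] :
    PreservesFiniteLimits (ProEtS.pushP f) ∧ PreservesFiniteColimits (ProEtS.pushP f) :=
  Groth.Agent.H23.WCPushExact.exact_pushP H f
    (fun W _ hW => Groth.Agent.H66.WC_F1.isWC_bcP_of_finite f W hW)

end Groth.Agent.H23.WCFinitePush
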