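import Mathlib
import Groth.Prelude.Def_PBC
import Groth.Prelude.Def_ProEtS

/-!
# Covering sieves of the pro-étale site are jointly surjective (helper23)
-/

set_option autoImplicit false
set_option linter.style.haveILetI false
set_option backward.isDefEq.respectTransparency.types false
universe u
open CategoryTheory CategoryTheory.Limits AlgebraicGeometry Opposite

namespace Groth.Agent.H23.WC_G1

/-- (G1) every point of `U` is in the image of a member of a covering sieve. -/
theorem exists_mem_sieve_of_point {X : Scheme.{u}} (U : X.ProEt) (R : Sieve U)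
    (hR : R ∈ Scheme.ProEt.topology X U) (x : ↥U.left) :
    ∃ (V : X.ProEt) (g : V ⟶ U), R.arrows g ∧ x ∈ Set.range g.left := by
  haveI : (Scheme.ProEt.precoverage X).IsStableUnderComposition := by
    unfold Scheme.ProEt.precoverage; infer_instance
  haveI : (Scheme.ProEt.precoverage X).IsStableUnderBaseChange := by
    unfold Scheme.ProEt.precoverage; infer_instance
  haveI : (Scheme.ProEt.precoverage X).HasIsos := by
    unfold Scheme.ProEt.precoverage; infer_instance
  obtain ⟨S, hS, hSR⟩ :=
    (Precoverage.mem_toGrothendieck_iff_of_isStableUnderComposition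
      (J := Scheme.ProEt.precoverage X)).1 hR
  obtain ⟨ι, Y, f, rfl⟩ := S.exists_eq_ofArrows
  have hS' : Presieve.ofArrows (fun i => (Y i).left) (fun i => (f i).left) ∈
      Scheme.proetalePrecoverage U.left := by
    have := hS
    simp only [Scheme.ProEt.precoverage, Precoverage.mem_comap_iff, Presieve.map_ofArrows] at this
    exact this
  have h2 := (Scheme.ofArrows_mem_precoverage_iff (P := @WeaklyEtale)).1 hS'.2
  obtain ⟨i, hi⟩ := h2.1 x
  exact ⟨Y i, f i, hSR _ _ (Presieve.ofArrows.mk i), hi⟩

end Groth.Agent.H23.WC_G1
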