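import Mathlib
import Groth.Prelude.Def_PBC
import Groth.Prelude.Def_ProEtS
import Groth.Agent.S7178
import Groth.Agent.S0427
import Groth.Agent.H8.WeaklyEtaleLoc

/-!
# Weakly étale schemes over a separably closed field have sections (helper23)
-/

set_option autoImplicit false
set_option linter.style.haveILetI false
set_option backward.isDefEq.respectTransparency.types false
universe u
open CategoryTheory CategoryTheory.Limits AlgebraicGeometry Opposite

namespace Groth.Agent.H23.WC_G2

theorem isSepClosed_of_ringEquiv {K K' : Type*} [Field K] [Field K'] (e : K ≃+* K')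
    [IsSepClosed K] : IsSepClosed K' := by
  refine ⟨fun p hp => ?_⟩
  have h1 : (p.map (e.symm : K' →+* K)).Separable := hp.map
  have h2 := IsSepClosed.splits_of_separable _ h1
  have h3 := h2.map (e : K →+* K')
  rw [Polynomial.map_map] at h3
  have : (e : K →+* K').comp (e.symm : K' →+* K) = RingHom.id K' := by
    ext x; simp
  rwa [this, Polynomial.map_id] at h3

/-- (G2) weakly étale schemes over a separably closed field have sections through every point. -/
theorem exists_section_of_weaklyEtale_over_sepClosed {k : Type u} [Field k] [IsSepClosed k]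
    {T : Scheme.{u}} (p : T ⟶ Spec (CommRingCat.of k)) [WeaklyEtale p] (t : ↥T) :
    ∃ σ : Spec (CommRingCat.of k) ⟶ T, σ ≫ p = 𝟙 _ := by
  obtain ⟨A, j, hj, y, -⟩ := Scheme.exists_Spec_apply_eq t
  let φ : CommRingCat.of k ⟶ A := Spec.preimage (j ≫ p)
  have hφ : Spec.map φ = j ≫ p := Spec.map_preimage _
  haveI : WeaklyEtale (Spec.map φ) := by rw [hφ]; infer_instance
  letI algA : Algebra k A := φ.hom.toAlgebra
  haveI hwe : Algebra.WeaklyEtale k A :=
    (Groth.Agent.S7178.weaklyEtale_SpecMap_iff φ).1 inferInstance
  let 𝔭 : Ideal A := (show PrimeSpectrum A from y).asIdeal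
  haveI : 𝔭.IsPrime := (show PrimeSpectrum A from y).isPrime
  let B := Localization.AtPrime 𝔭
  haveI : Algebra.WeaklyEtale A B :=
    Groth.Agent.H8.weaklyEtale_of_isLocalization 𝔭.primeCompl B
  haveI : Algebra.WeaklyEtale k B := Algebra.WeaklyEtale.trans k A B
  haveI : IsSepClosed (IsLocalRing.ResidueField k) := by
    have hbij : Function.Bijective (IsLocalRing.residue k) := by
      refine ⟨?_, IsLocalRing.residue_surjective⟩
      exact RingHom.injective _
    exact isSepClosed_of_ringEquiv (RingEquiv.ofBijective (IsLocalRing.residue k) hbij)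
  haveI : IsLocalHom (algebraMap k B) := by
    refine ⟨fun a ha => ?_⟩
    have : a ≠ 0 := by
      rintro rfl
      rw [map_zero] at ha
      exact not_isUnit_zero ha
    exact isUnit_iff_ne_zero.2 this
  have hbij := Groth.Agent.S0427.result (A := k) (B := B)
  let e : k ≃+* B := RingEquiv.ofBijective (algebraMap k B) hbij
  let r : (A : Type u) →+* k := (e.symm : B →+* k).comp (algebraMap A B)
  have hr : φ ≫ CommRingCat.ofHom r = 𝟙 _ := by
    ext x
    show e.symm (algebraMap A B (algebraMap k A x)) = x
    rw [← IsScalarTower.algebraMap_apply k A B]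
    exact e.symm_apply_apply x
  refine ⟨Spec.map (CommRingCat.ofHom r) ≫ j, ?_⟩
  rw [Category.assoc, ← hφ, ← Spec.map_comp, hr, Spec.map_id]

end Groth.Agent.H23.WC_G2
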