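import Mathlib
import Groth.Prelude.Def_PBC
import Groth.Prelude.Def_ProEtS
import Groth.Agent.H23.WC_G1
import Groth.Agent.H23.WC_G2

set_option autoImplicit false
set_option backward.isDefEq.respectTransparency.types false
universe u
open CategoryTheory CategoryTheory.Limits AlgebraicGeometry Opposite

namespace Groth.Agent.H23.WCGeomPt

open Groth.Agent.H23.WC_G1 Groth.Agent.H23.WC_G2

theorem S0739 {X : Scheme.{u}} (U : X.ProEt) (R : Sieve U)
    (hR : R ∈ Scheme.ProEt.topology X U) {k : Type u} [Field k] [IsSepClosed k]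
    (ξ : Spec (CommRingCat.of k) ⟶ U.left) :
    ∃ (V : X.ProEt) (g : V ⟶ U) (ξ' : Spec (CommRingCat.of k) ⟶ V.left), R g ∧ ξ' ≫ g.left = ξ := by
  let x₀ : ↥(Spec (CommRingCat.of k)) := (⟨⊥, Ideal.bot_prime⟩ : PrimeSpectrum k)
  obtain ⟨V, g, hg, v, hv⟩ := exists_mem_sieve_of_point U R hR (ξ x₀)
  haveI : WeaklyEtale g.left := by
    haveI : WeaklyEtale (g.left ≫ U.hom) := by
      rw [MorphismProperty.Over.w g]
      exact V.prop
    haveI : WeaklyEtale U.hom := U.prop
    exact WeaklyEtale.of_comp g.left U.hom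
  obtain ⟨t, -, -⟩ := Scheme.Pullback.exists_preimage_pullback (f := ξ) (g := g.left) x₀ v hv.symm
  obtain ⟨σ, hσ⟩ := exists_section_of_weaklyEtale_over_sepClosed (pullback.fst ξ g.left) t
  refine ⟨V, g, σ ≫ pullback.snd ξ g.left, hg, ?_⟩
  rw [Category.assoc, ← pullback.condition, ← Category.assoc, hσ, Category.id_comp]

end Groth.Agent.H23.WCGeomPt
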