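import Mathlib
import Groth.Prelude.Def_PBC
import Groth.Prelude.Def_ProEtS

/-!
# The left Kan extension presheaf along base change of pro-étale sites: definitions (helper23)
-/

set_option autoImplicit false
set_option backward.isDefEq.respectTransparency.types false
universe u
open CategoryTheory CategoryTheory.Limits AlgebraicGeometry Opposite

namespace Groth.Agent.H23.WCLanDefs

variable {X Y : Scheme.{u}} (f : X ⟶ Y)

/-- the left Kan extension presheaf. -/
noncomputable abbrev lanP (F : Y.ProEtᵒᵖ ⥤ Type (u + 1)) : X.ProEtᵒᵖ ⥤ Type (u + 1) :=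
  (ProEtS.bcP f).op.lan.obj F

/-- the unit. -/
noncomputable abbrev lanU (F : Y.ProEtᵒᵖ ⥤ Type (u + 1)) (V : Y.ProEt) :
    F.obj (op V) → (lanP f F).obj (op ((ProEtS.bcP f).obj V)) :=
  ((ProEtS.bcP f).op.lanUnit.app F).app (op V)

end Groth.Agent.H23.WCLanDefs
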