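import Mathlib
import Groth.Prelude.Def_PBC
import Groth.Prelude.Def_ProEtS
import Groth.Agent.H23.WCLanDefs
import Groth.Agent.S0730

/-!
# Sections of the left Kan extension presheaf along base change of pro-étale sites (helper23)
-/

set_option autoImplicit false
set_option backward.isDefEq.respectTransparency.types false
universe u
open CategoryTheory CategoryTheory.Limits AlgebraicGeometry Opposite
open Groth.Agent.H23.WCLanDefs

namespace Groth.Agent.H23.WC_Q012

variable {X Y : Scheme.{u}} (f : X ⟶ Y)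

/-- (Q0) naturality of the unit, elementwise. -/
theorem lanU_naturality (F : Y.ProEtᵒᵖ ⥤ Type (u + 1)) {V V' : Y.ProEt} (a : V' ⟶ V)
    (s : F.obj (op V)) :
    (lanP f F).map ((ProEtS.bcP f).map a).op (lanU f F V s) = lanU f F V' (F.map a.op s) := by
  have := NatTrans.naturality_apply ((ProEtS.bcP f).op.lanUnit.app F) a.op s
  exact this.symm

instance : RepresentablyFlat (ProEtS.bcP f) := by
  haveI := Groth.Agent.S0730.preservesFiniteLimits_bcP f
  exact flat_of_preservesFiniteLimits _

instance (W : X.ProEt) : IsFiltered (CostructuredArrow (ProEtS.bcP f).op (op W)) :=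
  IsFiltered.of_equivalence (structuredArrowOpEquivalence (ProEtS.bcP f) W)

/-- the colimit cocone computing the Kan extension at `W`. -/
noncomputable def isColimitAt (F : Y.ProEtᵒᵖ ⥤ Type (u + 1)) (W : X.ProEt) :
    IsColimit ((Functor.LeftExtension.mk _ ((ProEtS.bcP f).op.leftKanExtensionUnit F)).coconeAt
      (op W)) :=
  Functor.isPointwiseLeftKanExtensionLeftKanExtensionUnit (ProEtS.bcP f).op F (op W)

/-- (Q1) every section of the Kan extension comes from some `V`. -/
theorem exists_rep (F : Y.ProEtᵒᵖ ⥤ Type (u + 1)) (W : X.ProEt) (x : (lanP f F).obj (op W)) :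
    ∃ (V : Y.ProEt) (φ : W ⟶ (ProEtS.bcP f).obj V) (s : F.obj (op V)),
      x = (lanP f F).map φ.op (lanU f F V s) := by
  obtain ⟨j, s, hs⟩ := Types.jointly_surjective_of_isColimit (isColimitAt f F W) x
  exact ⟨j.left.unop, j.hom.unop, s, hs.symm⟩

/-- (Q2) equality of sections of the Kan extension. -/
theorem exists_of_rep_eq (F : Y.ProEtᵒᵖ ⥤ Type (u + 1)) (W : X.ProEt) {V V' : Y.ProEt}
    (φ : W ⟶ (ProEtS.bcP f).obj V) (φ' : W ⟶ (ProEtS.bcP f).obj V')
    (s : F.obj (op V)) (s' : F.obj (op V'))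
    (h : (lanP f F).map φ.op (lanU f F V s) = (lanP f F).map φ'.op (lanU f F V' s')) :
    ∃ (V'' : Y.ProEt) (ψ : W ⟶ (ProEtS.bcP f).obj V'') (a : V'' ⟶ V) (a' : V'' ⟶ V'),
      ψ ≫ (ProEtS.bcP f).map a = φ ∧ ψ ≫ (ProEtS.bcP f).map a' = φ' ∧
      F.map a.op s = F.map a'.op s' := by
  let j : CostructuredArrow (ProEtS.bcP f).op (op W) :=
    CostructuredArrow.mk (Y := op V) (φ.op : (ProEtS.bcP f).op.obj (op V) ⟶ op W)
  let j' : CostructuredArrow (ProEtS.bcP f).op (op W) :=
    CostructuredArrow.mk (Y := op V') (φ'.op : (ProEtS.bcP f).op.obj (op V') ⟶ op W)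
  have h' : ((Functor.LeftExtension.mk _ ((ProEtS.bcP f).op.leftKanExtensionUnit F)).coconeAt
      (op W)).ι.app j s = ((Functor.LeftExtension.mk _
        ((ProEtS.bcP f).op.leftKanExtensionUnit F)).coconeAt (op W)).ι.app j' s' := h
  obtain ⟨k, g, g', hk⟩ := (Types.FilteredColimit.isColimit_eq_iff _ (isColimitAt f F W)).1 h'
  refine ⟨k.left.unop, k.hom.unop, g.left.unop, g'.left.unop, ?_, ?_, hk⟩
  · have := CostructuredArrow.w g
    exact congrArg Quiver.Hom.unop this
  · have := CostructuredArrow.w g'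
    exact congrArg Quiver.Hom.unop this

end Groth.Agent.H23.WC_Q012
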