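import Mathlib
import Groth.Prelude.Def_PBC
import Groth.Prelude.Def_ProEtS
import Groth.Agent.H23.WCDefs
import Groth.Agent.H64.WC_L6

/-!
# Finite coproducts in the pro-étale site, on which sheaves are products (helper23)
-/

set_option autoImplicit false
set_option linter.style.haveILetI false
set_option backward.isDefEq.respectTransparency.types false
universe u
open CategoryTheory CategoryTheory.Limits AlgebraicGeometry Opposite
open Groth.Agent.H23.WCDefs

namespace Groth.Agent.H23.WC_Q3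

/-- (Q3) coproducts in `Y_proet`, on which sheaves are products. -/
theorem exists_coprod {Y : Scheme.{u}} (F : Sheaf (Scheme.ProEt.topology Y) (Type (u + 1)))
    {ι₀ : Type u} (V : ι₀ → Y.ProEt) :
    ∃ (V' : Y.ProEt) (ι : ∀ k, V k ⟶ V'),
      Function.Bijective (fun (s : F.obj.obj (op V')) (k : ι₀) => F.obj.map (ι k).op s) ∧
      ∀ (T : Y.ProEt) (a : ∀ k, V k ⟶ T), ∃ a' : V' ⟶ T, ∀ k, ι k ≫ a' = a k := by
  let Ys : ι₀ → Scheme.{u} := fun k => (V k).left
  let q : ∐ Ys ⟶ Y := Sigma.desc (fun k => (V k).hom)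
  haveI hVk : ∀ k, WeaklyEtale (V k).hom := fun k => (V k).prop
  have hq : WeaklyEtale q :=
    IsZariskiLocalAtSource.sigmaDesc (P := @WeaklyEtale) (fun k => hVk k)
  let V' : Y.ProEt := @Scheme.ProEt.mk Y _ q hq
  have hw : ∀ k, Sigma.ι Ys k ≫ q = (V k).hom := fun k => Sigma.ι_desc _ _
  let ι : ∀ k, V k ⟶ V' := fun k =>
    MorphismProperty.Over.homMk (A := V k) (B := V') (Sigma.ι Ys k) (hw k) trivial
  haveI hoi : ∀ k, IsOpenImmersion (Sigma.ι Ys k) := fun k => inferInstance
  refine ⟨V', ι, ?_, ?_⟩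
  · -- bijectivity
    let W : ι₀ → V'.left.Opens := fun k => (Sigma.ι Ys k).opensRange
    have hdisj : Pairwise (fun k l => Disjoint (W k : Set ↥V'.left) (W l)) := by
      intro k l hkl
      rw [Set.disjoint_iff]
      rintro x ⟨hx1, hx2⟩
      exact (AlgebraicGeometry.disjoint_opensRange_sigmaι Ys k l hkl).le_bot ⟨hx1, hx2⟩
    have hcovW : (⋃ k, (W k : Set ↥V'.left)) = Set.univ := by
      rw [Set.eq_univ_iff_forall]
      intro x
      obtain ⟨i, y, hy⟩ := (AlgebraicGeometry.sigmaOpenCover Ys).exists_eq x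
      exact Set.mem_iUnion.2 ⟨i, y, hy⟩
    have hb := Groth.Agent.H64.WC_L6.bijective_restrict_disjoint_cover F V' W hdisj hcovW
    let io : ∀ k, Ys k ≅ (((Sigma.ι Ys k).opensRange : (∐ Ys).Opens) : Scheme.{u}) :=
      fun k => (Sigma.ι Ys k).isoOpensRange
    have hio1 : ∀ k, (io k).hom ≫ (Sigma.ι Ys k).opensRange.ι = Sigma.ι Ys k :=
      fun k => Scheme.Hom.isoOpensRange_hom_ι (Sigma.ι Ys k)
    have hio2 : ∀ k, (io k).inv ≫ Sigma.ι Ys k = (Sigma.ι Ys k).opensRange.ι :=
      fun k => Scheme.Hom.isoOpensRange_inv_comp (Sigma.ι Ys k)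
    -- the isomorphisms `V k ≅ openObj V' (W k)`
    have hw1 : ∀ k, (io k).hom ≫ ((W k).ι ≫ V'.hom) = (V k).hom := fun k => by
      show (io k).hom ≫ ((Sigma.ι Ys k).opensRange.ι ≫ q) = (V k).hom
      rw [← Category.assoc, hio1 k]
      exact hw k
    have hw2 : ∀ k, (io k).inv ≫ (V k).hom = (W k).ι ≫ V'.hom := fun k => by
      show (io k).inv ≫ (V k).hom = (Sigma.ι Ys k).opensRange.ι ≫ q
      rw [← hw k, ← Category.assoc, hio2 k]
    let e : ∀ k, V k ⟶ openObj V' (W k) := fun k =>
      MorphismProperty.Over.homMk (A := V k) (B := openObj V' (W k))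
        (io k).hom (hw1 k) trivial
    let e' : ∀ k, openObj V' (W k) ⟶ V k := fun k =>
      MorphismProperty.Over.homMk (A := openObj V' (W k)) (B := V k)
        (io k).inv (hw2 k) trivial
    have he1 : ∀ k, e k ≫ e' k = 𝟙 _ := fun k => by
      apply MorphismProperty.Over.Hom.ext
      exact (io k).hom_inv_id
    have he2 : ∀ k, e' k ≫ e k = 𝟙 _ := fun k => by
      apply MorphismProperty.Over.Hom.ext
      exact (io k).inv_hom_id
    have hfac : ∀ k, e k ≫ openIncl V' (W k) = ι k := fun k => by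
      apply MorphismProperty.Over.Hom.ext
      exact hio1 k
    have hmap : ∀ (k) (s : F.obj.obj (op V')), F.obj.map (ι k).op s =
        F.obj.map (e k).op (F.obj.map (openIncl V' (W k)).op s) := fun k s => by
      rw [← FunctorToTypes.map_comp_apply, ← op_comp, hfac k]
    have hret : ∀ (k) (y : F.obj.obj (op (openObj V' (W k)))),
        F.obj.map (e' k).op (F.obj.map (e k).op y) = y := fun k y => by
      rw [← FunctorToTypes.map_comp_apply, ← op_comp, he2 k, op_id, FunctorToTypes.map_id_apply]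
    have hret' : ∀ (k) (y : F.obj.obj (op (V k))),
        F.obj.map (e k).op (F.obj.map (e' k).op y) = y := fun k y => by
      rw [← FunctorToTypes.map_comp_apply, ← op_comp, he1 k, op_id, FunctorToTypes.map_id_apply]
    constructor
    · intro s t hst
      apply hb.1
      funext k
      have h1 := congrFun hst k
      simp only at h1
      rw [hmap, hmap] at h1
      have h2 := congrArg (F.obj.map (e' k).op) h1
      rw [hret, hret] at h2
      exact h2
    · intro x
      obtain ⟨s, hs⟩ := hb.2 (fun k => F.obj.map (e' k).op (x k))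
      refine ⟨s, ?_⟩
      funext k
      have h1 := congrFun hs k
      simp only at h1
      show F.obj.map (ι k).op s = x k
      rw [hmap, h1, hret']
  · intro T a
    have hw3 : Sigma.desc (fun k => (a k).left) ≫ T.hom = q := by
      apply Sigma.hom_ext
      intro k
      rw [← Category.assoc, Sigma.ι_desc, hw k]
      exact MorphismProperty.Over.w (a k)
    refine ⟨MorphismProperty.Over.homMk (A := V') (B := T) (Sigma.desc (fun k => (a k).left))
      hw3 trivial, fun k => ?_⟩
    apply MorphismProperty.Over.Hom.ext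
    exact Sigma.ι_desc _ _

/-- (Q3) for families indexed by `Fin n`. -/
theorem exists_coprod_fin {Y : Scheme.{u}} (F : Sheaf (Scheme.ProEt.topology Y) (Type (u + 1)))
    {n : ℕ} (V : Fin n → Y.ProEt) :
    ∃ (V' : Y.ProEt) (ι : ∀ k, V k ⟶ V'),
      Function.Bijective (fun (s : F.obj.obj (op V')) (k : Fin n) => F.obj.map (ι k).op s) ∧
      ∀ (T : Y.ProEt) (a : ∀ k, V k ⟶ T), ∃ a' : V' ⟶ T, ∀ k, ι k ≫ a' = a k := by
  obtain ⟨V', ι, hb, hd⟩ := exists_coprod F (ι₀ := ULift.{u} (Fin n)) (fun k => V k.down)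
  refine ⟨V', fun k => ι ⟨k⟩, ⟨?_, ?_⟩, ?_⟩
  · intro s t hst
    apply hb.1
    funext k
    exact congrFun hst k.down
  · intro x
    obtain ⟨s, hs⟩ := hb.2 (fun k => x k.down)
    exact ⟨s, funext fun k => congrFun hs ⟨k⟩⟩
  · intro T a
    obtain ⟨a', ha'⟩ := hd T (fun k => a k.down)
    exact ⟨a', fun k => ha' ⟨k⟩⟩

end Groth.Agent.H23.WC_Q3
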