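import Mathlib
import Groth.Prelude.Def_PBC
import Groth.Prelude.Def_ProEtS
import Groth.Agent.H23.WCDefs
import Groth.Agent.H23.WCMain
import Groth.Agent.H23.WC_P
import Groth.Agent.H23.WCLanDefs
import Groth.Agent.H23.WCSheafify2
import Groth.Agent.H23.WC_Q012
import Groth.Agent.H23.WC_Q3

set_option autoImplicit false
set_option backward.isDefEq.respectTransparency.types false
universe u w
open CategoryTheory CategoryTheory.Limits AlgebraicGeometry Opposite
open Groth.Agent.H23.WCDefs Groth.Agent.H23.WCLanDefs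

namespace Groth.Agent.H23.WCLan

variable {X Y : Scheme.{u}} (f : X ⟶ Y)

open Groth.Agent.H23.WC_Q012

/-- restriction of a representative. -/
theorem map_rep (F : Y.ProEtᵒᵖ ⥤ Type (u + 1)) {W W' : X.ProEt} (h : W' ⟶ W) {V : Y.ProEt}
    (φ : W ⟶ (ProEtS.bcP f).obj V) (s : F.obj (op V)) :
    (lanP f F).map h.op ((lanP f F).map φ.op (lanU f F V s)) =
      (lanP f F).map (h ≫ φ).op (lanU f F V s) := by
  rw [op_comp, FunctorToTypes.map_comp_apply]

/-- change of representative along `a : V'' ⟶ V`. -/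
theorem rep_comp (F : Y.ProEtᵒᵖ ⥤ Type (u + 1)) {W : X.ProEt} {V V'' : Y.ProEt}
    (ψ : W ⟶ (ProEtS.bcP f).obj V'') (a : V'' ⟶ V) (s : F.obj (op V)) :
    (lanP f F).map (ψ ≫ (ProEtS.bcP f).map a).op (lanU f F V s) =
      (lanP f F).map ψ.op (lanU f F V'' (F.map a.op s)) := by
  rw [op_comp, FunctorToTypes.map_comp_apply, lanU_naturality]

/-- (Q) the Kan extension presheaf turns finite disjoint open covers into products. -/
theorem bijective_restrict_lanP (F : Sheaf (Scheme.ProEt.topology Y) (Type (u + 1)))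
    (W : X.ProEt) {n : ℕ} (Wk : Fin n → W.left.Opens)
    (hdisj : Pairwise (fun k l => Disjoint (Wk k : Set ↥W.left) (Wk l)))
    (hcov : (⋃ k, (Wk k : Set ↥W.left)) = Set.univ) :
    Function.Bijective (fun (x : (lanP f F.obj).obj (op W)) (k : Fin n) =>
      (lanP f F.obj).map (openIncl W (Wk k)).op x) := by
  constructor
  · intro x x' hxx'
    obtain ⟨V, φ, s, rfl⟩ := exists_rep f F.obj W x
    obtain ⟨V', φ', s', rfl⟩ := exists_rep f F.obj W x'
    have hk : ∀ k, ∃ (V'' : Y.ProEt) (ψ : openObj W (Wk k) ⟶ (ProEtS.bcP f).obj V'')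
        (a : V'' ⟶ V) (a' : V'' ⟶ V'),
        ψ ≫ (ProEtS.bcP f).map a = openIncl W (Wk k) ≫ φ ∧
        ψ ≫ (ProEtS.bcP f).map a' = openIncl W (Wk k) ≫ φ' ∧
        F.obj.map a.op s = F.obj.map a'.op s' := by
      intro k
      have h1 := congrFun hxx' k
      simp only at h1
      rw [map_rep, map_rep] at h1
      exact exists_of_rep_eq f F.obj _ _ _ s s' h1
    choose Vk ψk ak ak' h1 h2 h3 using hk
    obtain ⟨V'', ι, hbij, hdesc⟩ := Groth.Agent.H23.WC_Q3.exists_coprod_fin F Vk
    obtain ⟨a, ha⟩ := hdesc V ak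
    obtain ⟨a', ha'⟩ := hdesc V' ak'
    obtain ⟨ψ, hψ⟩ := Groth.Agent.H23.WC_P.exists_desc W Wk hdisj hcov
      (fun k => ψk k ≫ (ProEtS.bcP f).map (ι k))
    have e1 : ψ ≫ (ProEtS.bcP f).map a = φ := by
      apply Groth.Agent.H23.WC_P.hom_ext_of_cover W Wk hcov
      intro k
      rw [← Category.assoc, hψ k, Category.assoc, ← Functor.map_comp, ha k, h1 k]
    have e2 : ψ ≫ (ProEtS.bcP f).map a' = φ' := by
      apply Groth.Agent.H23.WC_P.hom_ext_of_cover W Wk hcov
      intro k
      rw [← Category.assoc, hψ k, Category.assoc, ← Functor.map_comp, ha' k, h2 k]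
    have e3 : F.obj.map a.op s = F.obj.map a'.op s' := by
      apply hbij.1
      funext k
      show F.obj.map (ι k).op (F.obj.map a.op s) = F.obj.map (ι k).op (F.obj.map a'.op s')
      rw [← FunctorToTypes.map_comp_apply, ← FunctorToTypes.map_comp_apply, ← op_comp, ← op_comp,
        ha k, ha' k]
      exact h3 k
    rw [← e1, ← e2, rep_comp, rep_comp, e3]
  · intro x
    have hk : ∀ k, ∃ (V : Y.ProEt) (φ : openObj W (Wk k) ⟶ (ProEtS.bcP f).obj V)
        (s : F.obj.obj (op V)), x k = (lanP f F.obj).map φ.op (lanU f F.obj V s) :=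
      fun k => exists_rep f F.obj _ (x k)
    choose Vk φk sk hx using hk
    obtain ⟨V, ι, hbij, hdesc⟩ := Groth.Agent.H23.WC_Q3.exists_coprod_fin F Vk
    obtain ⟨s, hs⟩ := hbij.2 sk
    obtain ⟨φ, hφ⟩ := Groth.Agent.H23.WC_P.exists_desc W Wk hdisj hcov
      (fun k => φk k ≫ (ProEtS.bcP f).map (ι k))
    refine ⟨(lanP f F.obj).map φ.op (lanU f F.obj V s), ?_⟩
    funext k
    show (lanP f F.obj).map (openIncl W (Wk k)).op _ = x k
    rw [map_rep, hφ k, rep_comp, hx k]
    have := congrFun hs k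
    simp only at this
    rw [this]

theorem S7285 (F : Sheaf (Scheme.ProEt.topology Y) (Type (u + 1))) (W : X.ProEt)
    [IsAffine W.left] (hW : ProEtS.IsWC W) :
    Function.Bijective
      ((toSheafify (Scheme.ProEt.topology X) ((ProEtS.bcP f).op.lan.obj F.obj)).app (op W)) :=
  Groth.Agent.H23.WCSheafify2.sheafify_bijective_of_restrict_bijective _ W hW
    (fun _ V hdisj hcov => bijective_restrict_lanP f F W V hdisj hcov)

end Groth.Agent.H23.WCLan
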