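import Mathlib
import Groth.Prelude.Def_PBC
import Groth.Prelude.Def_ProEtS
import Groth.Agent.H23.WCDefs

/-!
# Points of the pro-étale site attached to clopen neighbourhoods: definitions (helper23)
-/

set_option autoImplicit false
set_option linter.style.haveILetI false
set_option backward.isDefEq.respectTransparency.types false
universe u
open CategoryTheory CategoryTheory.Limits AlgebraicGeometry Opposite
open Groth.Agent.H23.WCDefs

namespace Groth.Agent.H23.WCPtDefs

variable {X : Scheme.{u}}

/-- the inclusion between two opens of `U`, as a morphism of `X_proet`. -/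
noncomputable abbrev openMap (U : X.ProEt) {W W' : U.left.Opens} (h : W ≤ W') :
    openObj U W ⟶ openObj U W' :=
  MorphismProperty.Over.homMk (A := openObj U W) (B := openObj U W') (U.left.homOfLE h)
    (by
      show U.left.homOfLE h ≫ W'.ι ≫ U.hom = W.ι ≫ U.hom
      rw [← Category.assoc, Scheme.homOfLE_ι]) trivial

theorem openMap_openIncl (U : X.ProEt) {W W' : U.left.Opens} (h : W ≤ W') :
    openMap U h ≫ openIncl U W' = openIncl U W := by
  apply MorphismProperty.Over.Hom.ext
  exact Scheme.homOfLE_ι _ h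

theorem mono_openIncl (U : X.ProEt) (W : U.left.Opens) : Mono (openIncl U W) := by
  refine ⟨fun {Z'} a b hab => ?_⟩
  apply MorphismProperty.Over.Hom.ext
  have h2 : a.left ≫ W.ι = b.left ≫ W.ι := congrArg (fun f => f.left) hab
  exact (cancel_mono W.ι).1 h2

theorem openMap_comp (U : X.ProEt) {W W' W'' : U.left.Opens} (h : W ≤ W') (h' : W' ≤ W'') :
    openMap U h ≫ openMap U h' = openMap U (h.trans h') := by
  haveI := mono_openIncl U W''
  rw [← cancel_mono (openIncl U W''), Category.assoc, openMap_openIncl, openMap_openIncl,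
    openMap_openIncl]

theorem openMap_refl (U : X.ProEt) (W : U.left.Opens) : openMap U (le_refl W) = 𝟙 _ := by
  haveI := mono_openIncl U W
  rw [← cancel_mono (openIncl U W), openMap_openIncl, Category.id_comp]

/-- clopen neighbourhoods of a point `c` of `W`. -/
abbrev Nbhd (W : X.ProEt) (c : ↥W.left) : Type u :=
  {T : W.left.Opens // IsClopen (T : Set ↥W.left) ∧ c ∈ T}

instance (W : X.ProEt) (c : ↥W.left) : Nonempty (Nbhd W c) :=
  ⟨⟨⊤, isClopen_univ, trivial⟩⟩

instance (W : X.ProEt) (c : ↥W.left) : IsDirected (Nbhd W c) (· ≥ ·) :=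
  ⟨fun T T' => ⟨⟨T.1 ⊓ T'.1, T.2.1.inter T'.2.1, ⟨T.2.2, T'.2.2⟩⟩,
    (inf_le_left : T.1 ⊓ T'.1 ≤ T.1), (inf_le_right : T.1 ⊓ T'.1 ≤ T'.1)⟩⟩

/-- the pro-object of clopen neighbourhoods. -/
noncomputable def nbhdFunctor (W : X.ProEt) (c : ↥W.left) : Nbhd W c ⥤ X.ProEt where
  obj T := openObj W T.1
  map f := openMap W (leOfHom f)
  map_id T := openMap_refl W T.1
  map_comp f g := (openMap_comp W (leOfHom f) (leOfHom g)).symm

instance : LocallySmall.{u + 1} X.ProEt := ⟨fun _ _ => inferInstance⟩

example (W : X.ProEt) (c : ↥W.left) : IsCofiltered (Nbhd W c) := inferInstance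
instance (W : X.ProEt) (c : ↥W.left) : InitiallySmall.{u + 1} (Nbhd W c) := by
  haveI : Small.{u + 1} (Nbhd W c) := inferInstance
  haveI : LocallySmall.{u + 1} (Nbhd W c) := CategoryTheory.locallySmall_of_thin
  haveI : EssentiallySmall.{u + 1} (Nbhd W c) := essentiallySmall_of_small_of_locallySmall _
  exact initiallySmall_of_essentiallySmall _

end Groth.Agent.H23.WCPtDefs
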