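import Mathlib
import Groth.Prelude.Def_PBC
import Groth.Prelude.Def_ProEtS
import Groth.Agent.H23.WCDefs
import Groth.Agent.H23.WCPtDefs
import Groth.Agent.H64.WC_L6

/-!
# A sieve containing open neighbourhoods of all points covers (helper23)
-/

set_option autoImplicit false
set_option linter.style.haveILetI false
set_option backward.isDefEq.respectTransparency.types false
universe u
open CategoryTheory CategoryTheory.Limits AlgebraicGeometry Opposite
open Groth.Agent.H23.WCDefs Groth.Agent.H23.WCPtDefs

namespace Groth.Agent.H23.WC_C2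

variable {X : Scheme.{u}}

/-- (C2) a sieve containing open neighbourhoods of all points of `W` covers. -/
theorem pullback_mem_of_forall_nbhd (W : X.ProEt) {Y : X.ProEt}
    (f : W ⟶ Y) (S : Sieve Y)
    (h : ∀ c : ↥W.left, ∃ T : W.left.Opens, c ∈ T ∧ S.arrows (openIncl W T ≫ f)) :
    S.pullback f ∈ Scheme.ProEt.topology X W := by
  choose T hT1 hT2 using h
  have hcov : (⋃ c, (T c : Set ↥W.left)) = Set.univ := by
    rw [Set.eq_univ_iff_forall]
    intro c
    exact Set.mem_iUnion.2 ⟨c, hT1 c⟩
  refine (Scheme.ProEt.topology X).superset_covering ?_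
    (Groth.Agent.H64.WC_L6.generate_openIncl_mem W T hcov)
  rw [Sieve.generate_le_iff]
  rintro _ _ ⟨c⟩
  exact hT2 c

end Groth.Agent.H23.WC_C2
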