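import Mathlib
import Groth.Prelude.Def_PBC
import Groth.Prelude.Def_ProEtS
import Groth.Agent.H23.WCDefs
import Groth.Agent.H23.WCPtDefs
import Groth.Agent.H64.WC_L6

/-!
# Covering sieves of clopen pieces of a w-contractible object (helper23)
-/

set_option autoImplicit false
set_option linter.style.haveILetI false
set_option backward.isDefEq.respectTransparency.types false
universe u
open CategoryTheory CategoryTheory.Limits AlgebraicGeometry Opposite
open Groth.Agent.H23.WCDefs Groth.Agent.H23.WCPtDefs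

namespace Groth.Agent.H23.WC_K

variable {X : Scheme.{u}}

/-- (K) covering sieves of a clopen piece of `W` contain a smaller clopen neighbourhood. -/
theorem exists_clopen_nbhd_mem (W : X.ProEt) (hW : ClopenRefines W) (c : ↥W.left)
    (T : W.left.Opens) (hT : IsClopen (T : Set ↥W.left)) (hc : c ∈ T)
    (S : Sieve (openObj W T)) (hS : S ∈ Scheme.ProEt.topology X (openObj W T)) :
    ∃ (T' : W.left.Opens) (h : T' ≤ T), IsClopen (T' : Set ↥W.left) ∧ c ∈ T' ∧
      S.arrows (openMap W h) := by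
  let Tc : W.left.Opens := ⟨(T : Set ↥W.left)ᶜ, hT.compl.isOpen⟩
  let R' : Sieve W :=
    { arrows := fun Z h => (∃ v : Z ⟶ openObj W T, S.arrows v ∧ h = v ≫ openIncl W T) ∨
        (∃ a : Z ⟶ openObj W Tc, h = a ≫ openIncl W Tc)
      downward_closed := by
        rintro Z Z' h (⟨v, hv, rfl⟩ | ⟨a, rfl⟩) k
        · exact Or.inl ⟨k ≫ v, S.downward_closed hv k, (Category.assoc _ _ _).symm⟩
        · exact Or.inr ⟨k ≫ a, (Category.assoc _ _ _).symm⟩ }
  have hcov : (⋃ b : Bool, ((cond b T Tc : W.left.Opens) : Set ↥W.left)) = Set.univ := by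
    rw [Set.eq_univ_iff_forall]
    intro x
    by_cases hx : x ∈ (T : Set ↥W.left)
    · exact Set.mem_iUnion.2 ⟨true, hx⟩
    · exact Set.mem_iUnion.2 ⟨false, hx⟩
  have hC := Groth.Agent.H64.WC_L6.generate_openIncl_mem W (fun b : Bool => cond b T Tc) hcov
  have hR' : R' ∈ Scheme.ProEt.topology X W := by
    refine (Scheme.ProEt.topology X).transitive hC R' (fun Z h hh => ?_)
    obtain ⟨Z', a, _, ⟨b⟩, rfl⟩ := hh
    cases b with
    | true =>
      rw [Sieve.pullback_comp]
      apply (Scheme.ProEt.topology X).pullback_stable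
      refine (Scheme.ProEt.topology X).superset_covering ?_ hS
      intro Z'' v hv
      exact Or.inl ⟨v, hv, rfl⟩
    | false =>
      have : R'.arrows (a ≫ openIncl W Tc) := Or.inr ⟨a, rfl⟩
      have h2 : Sieve.pullback (a ≫ openIncl W Tc) R' = ⊤ := Sieve.pullback_eq_top_of_mem _ this
      show Sieve.pullback (a ≫ openIncl W Tc) R' ∈ _
      rw [h2]
      exact (Scheme.ProEt.topology X).top_mem _
  obtain ⟨n, Wk, hWk1, hWk2, hWk3, hWk4⟩ := hW R' hR'
  have hc' : c ∈ ⋃ k, (Wk k : Set ↥W.left) := by rw [hWk3]; trivial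
  obtain ⟨k₀, hk₀⟩ := Set.mem_iUnion.1 hc'
  refine ⟨T ⊓ Wk k₀, inf_le_left, hT.inter (hWk1 k₀), ⟨hc, hk₀⟩, ?_⟩
  have hmem : R'.arrows (openIncl W (Wk k₀)) := hWk4 k₀
  rcases hmem with ⟨v, hv, hv2⟩ | ⟨a, ha⟩
  · have : openMap W (inf_le_left : T ⊓ Wk k₀ ≤ T) =
        openMap W (inf_le_right : T ⊓ Wk k₀ ≤ Wk k₀) ≫ v := by
      haveI := mono_openIncl W T
      rw [← cancel_mono (openIncl W T), Category.assoc, ← hv2, openMap_openIncl, openMap_openIncl]
    rw [this]
    exact S.downward_closed hv _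
  · exfalso
    let c' : ↥((Wk k₀ : W.left.Opens) : Scheme.{u}) := ⟨c, hk₀⟩
    have h1 : (Wk k₀).ι c' = Tc.ι (a.left c') := by
      have := congrArg (fun f => f.left c') ha
      exact this
    have h2 : (Wk k₀).ι c' = c := rfl
    have h3 : Tc.ι (a.left c') ∈ (Tc : Set ↥W.left) := (a.left c').2
    rw [← h1, h2] at h3
    exact h3 hc

end Groth.Agent.H23.WC_K
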