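import Mathlib
import Groth.Prelude.Def_PBC
import Groth.Prelude.Def_ProEtS
import Groth.Agent.H23.WCDefs
import Groth.Agent.H23.WCPtDefs
import Groth.Agent.H23.WCover
import Groth.Agent.H23.WCMain
import Groth.Agent.H23.WC_K
import Groth.Agent.H23.WC_C2

set_option autoImplicit false
set_option linter.style.haveILetI false
set_option backward.isDefEq.respectTransparency.types false
universe u
open CategoryTheory CategoryTheory.Limits AlgebraicGeometry Opposite
open Groth.Agent.H23.WCDefs Groth.Agent.H23.WCPtDefs Groth.Agent.H23.WC_K Groth.Agent.H23.WC_C2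

namespace Groth.Agent.H23.WCPts

variable {X : Scheme.{u}}

/-- the point of the pro-étale site attached to `(W, c)`. -/
noncomputable def pt (W : X.ProEt) (hW : ClopenRefines W) (c : ↥W.left) :
    GrothendieckTopology.Point.{u + 1} (Scheme.ProEt.topology X) :=
  GrothendieckTopology.Point.ofIsCofiltered (nbhdFunctor W c) (by
    intro Y R hR T f
    obtain ⟨T', h, hT'1, hT'2, hT'3⟩ := exists_clopen_nbhd_mem W hW c T.1 T.2.1 T.2.2
      (R.pullback f) ((Scheme.ProEt.topology X).pullback_stable f hR)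
    exact ⟨_, openMap W h ≫ f, hT'3, ⟨T', hT'1, hT'2⟩, homOfLE h, 𝟙 _, by simp [nbhdFunctor]⟩)

end Groth.Agent.H23.WCPts

namespace Groth.Agent.H23.WCPts

variable {X : Scheme.{u}}

open GrothendieckTopology.Point in
/-- (C1) elementary form of the fibre hypothesis of `mk'`. -/
theorem exists_nbhd_of_fiber (W : X.ProEt) (hW : ClopenRefines W) (c : ↥W.left) {Y : X.ProEt}
    (f : W ⟶ Y) (S : Sieve Y)
    (h : ∀ x : (pt W hW c).fiber.obj Y, ∃ (Y' : X.ProEt) (g : Y' ⟶ Y) (_ : S g)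
      (y : (pt W hW c).fiber.obj Y'), (pt W hW c).fiber.map g y = x) :
    ∃ T : W.left.Opens, c ∈ T ∧ S.arrows (openIncl W T ≫ f) := by
  let T₀ : Nbhd W c := ⟨⊤, isClopen_univ, trivial⟩
  let f' : (nbhdFunctor W c).obj T₀ ⟶ Y := openIncl W ⊤ ≫ f
  obtain ⟨Y', g, hg, y, hy⟩ := h (ofIsCofiltered.fiberMk f')
  obtain ⟨T₁, a, rfl⟩ := ofIsCofiltered.fiberMk_jointly_surjective y
  have hy' : ofIsCofiltered.fiberMk.{u + 1} (a ≫ g) = ofIsCofiltered.fiberMk.{u + 1} f' := by
    rw [← ofIsCofiltered.fiber_map_fiberMk]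
    exact hy
  have hle : T₁ ≤ T₀ := (le_top : T₁.1 ≤ ⊤)
  have h1 : ofIsCofiltered.fiberMk.{u + 1} ((nbhdFunctor W c).map (homOfLE hle) ≫ f') =
      ofIsCofiltered.fiberMk.{u + 1} f' := ofIsCofiltered.fiberMk_map_comp _ _ _
  rw [← h1] at hy'
  obtain ⟨T₂, q, hq⟩ := ofIsCofiltered.exists_of_fiberMk_eq_fiberMk hy'
  refine ⟨T₂.1, T₂.2.2, ?_⟩
  have h2 : openIncl W T₂.1 ≫ f = (nbhdFunctor W c).map q ≫ a ≫ g := by
    rw [hq]
    show _ = openMap W _ ≫ openMap W _ ≫ openIncl W ⊤ ≫ f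
    rw [← Category.assoc, openMap_comp, ← Category.assoc, openMap_openIncl]
  rw [h2]
  exact S.downward_closed (S.downward_closed hg a) _

theorem hasEnoughPoints (H : Groth.Agent.H23.WCover.HasWContrCovers.{u}) (X : Scheme.{u}) :
    GrothendieckTopology.HasEnoughPoints.{u + 1} (Scheme.ProEt.topology X) := by
  let Idx : Type (u + 1) := Σ (W : {W : X.ProEt // ClopenRefines W}), ↥W.1.left
  let P : ObjectProperty (GrothendieckTopology.Point.{u + 1} (Scheme.ProEt.topology X)) :=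
    ObjectProperty.ofObj (fun i : Idx => pt i.1.1 i.1.2 i.2)
  refine ⟨⟨P, inferInstance, ObjectProperty.IsConservativeFamilyOfPoints.mk' (fun Y S hS => ?_)⟩⟩
  obtain ⟨ι, V, g, hcov, hV⟩ := Groth.Agent.H23.WCover.exists_cover H Y
  refine (Scheme.ProEt.topology X).transitive hcov S (fun Z h hh => ?_)
  obtain ⟨Z', a, b, ⟨i⟩, rfl⟩ := hh
  rw [Sieve.pullback_comp]
  apply (Scheme.ProEt.topology X).pullback_stable
  haveI := (hV i).1
  have hCR : ClopenRefines (V i) :=
    Groth.Agent.H23.WCStmts.clopenRefines_of_isWContractible (V i) (hV i).2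
  apply pullback_mem_of_forall_nbhd (V i) (g i) S
  intro c
  exact exists_nbhd_of_fiber (V i) hCR c (g i) S
    (fun x => hS ⟨pt (V i) hCR c, ObjectProperty.ofObj.mk (⟨⟨V i, hCR⟩, c⟩ : Idx)⟩ x)

end Groth.Agent.H23.WCPts
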