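import Mathlib
import Groth.Prelude.Def_PBC
import Groth.Prelude.Def_ProEtS
import Groth.Agent.H23.WCMain
import Groth.Agent.H23.WC_P

set_option autoImplicit false
set_option backward.isDefEq.respectTransparency.types false
universe u
open CategoryTheory CategoryTheory.Limits AlgebraicGeometry Opposite
open Groth.Agent.H23.WCDefs

namespace Groth.Agent.H23.WCSheafify

open Groth.Agent.H23.WC_P

theorem S0725 {X : Scheme.{u}} (F : X.ProEtᵒᵖ ⥤ Type (u + 1))
    [PreservesFiniteProducts F] (W : X.ProEt) [IsAffine W.left] (hW : ProEtS.IsWC W) :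
    Function.Bijective ((toSheafify (Scheme.ProEt.topology X) F).app (op W)) := by
  have hWC := (Groth.Agent.H23.WCStmts.S0715 W).2 hW
  have hcl := Groth.Agent.H23.WCStmts.clopenRefines_of_isWContractible W hWC
  set η := toSheafify (Scheme.ProEt.topology X) F with hη
  let G : Sheaf (Scheme.ProEt.topology X) (Type (u + 1)) :=
    (presheafToSheaf (Scheme.ProEt.topology X) (Type (u + 1))).obj F
  constructor
  · intro s t hst
    have h1 := Presheaf.equalizerSieve_mem (Scheme.ProEt.topology X) η (X := op W) s t hst
    obtain ⟨n, V, hV1, hV2, hV3, hVR⟩ := hcl _ h1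
    apply (bijective_restrict_of_preservesFiniteProducts F W V hV2 hV3).1
    funext k
    exact hVR k
  · intro t
    have h1 := Presheaf.imageSieve_mem (Scheme.ProEt.topology X) η (U := op W) t
    obtain ⟨n, V, hV1, hV2, hV3, hVR⟩ := hcl _ h1
    choose s hs using hVR
    obtain ⟨s₀, hs₀⟩ := (bijective_restrict_of_preservesFiniteProducts F W V hV2 hV3).2 s
    refine ⟨s₀, ?_⟩
    apply (Groth.Agent.H23.WCStmts.bijective_restrict_disjoint_cover G W V hV2 hV3).1
    funext k
    have h2 := congrFun hs₀ k
    simp only at h2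
    have h3 := FunctorToTypes.naturality η (openIncl W (V k)).op s₀
    show (sheafify (Scheme.ProEt.topology X) F).map _ (η.app (op W) s₀) = _
    rw [← h3, h2]
    exact hs k

end Groth.Agent.H23.WCSheafify
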